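import Mathlib
import Groth.Agent.S9407

/-!
# Reducedness of local rings along smooth / flat morphisms of schemes (no Noetherian hypotheses)

The ring-level ascent statement `reduced_at_prime` follows helper20's `NormalSmooth4.reduced_at_prime`
(copied here to avoid its heavy import tree); it rests on S9407 (smooth over reduced is reduced).
-/

set_option autoImplicit false
universe u
open CategoryTheory CategoryTheory.Limits AlgebraicGeometry Opposite Topology TensorProduct

namespace Groth.Agent.Lib.H15

/-- Pointwise ascent of reducedness along a smooth ring map (after helper20). -/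
theorem reduced_at_prime (A B : Type u) [CommRing A] [CommRing B] [Algebra A B]
    [Algebra.Smooth A B] (q : Ideal B) [q.IsPrime]
    (h : IsReduced (Localization.AtPrime (q.comap (algebraMap A B)))) :
    IsReduced (Localization.AtPrime q) := by
  let p := q.comap (algebraMap A B)
  let R := Localization.AtPrime p
  let C := R ⊗[A] B
  haveI : IsReduced C := Groth.Agent.S9407.result R C
  letI : Algebra B C := Algebra.TensorProduct.rightAlgebra
  haveI : IsLocalization (Algebra.algebraMapSubmonoid B p.primeCompl) C :=
    IsLocalization.tensorRight R p.primeCompl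
  let E := Localization.AtPrime q
  have hle : Algebra.algebraMapSubmonoid B p.primeCompl ≤ q.primeCompl := by
    rintro _ ⟨a, ha, rfl⟩
    exact ha
  letI : Algebra C E := (IsLocalization.lift (M := Algebra.algebraMapSubmonoid B p.primeCompl)
    (g := algebraMap B E) (fun y => IsLocalization.map_units E ⟨y.1, hle y.2⟩)).toAlgebra
  haveI : IsScalarTower B C E := IsScalarTower.of_algebraMap_eq' (IsLocalization.lift_comp _).symm
  haveI := IsLocalization.isLocalization_of_submonoid_le C E
    (Algebra.algebraMapSubmonoid B p.primeCompl) q.primeCompl hle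
  exact isReduced_localizationPreserves (q.primeCompl.map (algebraMap B C)) E inferInstance

theorem reduced_at_prime' (A B : Type u) [CommRing A] [CommRing B] [Algebra A B]
    [Algebra.Smooth A B] (q : Ideal B) [q.IsPrime] (p : Ideal A) [p.IsPrime]
    (hpq : p = q.comap (algebraMap A B)) (h : IsReduced (Localization.AtPrime p)) :
    IsReduced (Localization.AtPrime q) := by
  subst hpq
  exact reduced_at_prime A B q h

theorem isReduced_of_ringEquiv {R S : Type u} [CommRing R] [CommRing S] (e : R ≃+* S)
    (h : IsReduced R) : IsReduced S :=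
  isReduced_of_injective e.symm e.symm.injective

/-- The stalk maps of a flat morphism of schemes are injective. -/
theorem stalkMap_injective_of_flat {X Y : Scheme.{u}} (f : X ⟶ Y) [Flat f] (x : X) :
    Function.Injective (f.stalkMap x).hom := by
  have hflat : (f.stalkMap x).hom.Flat := Flat.stalkMap f x
  algebraize [(f.stalkMap x).hom]
  have : IsLocalHom (algebraMap (Y.presheaf.stalk (f x)) (X.presheaf.stalk x)) :=
    inferInstanceAs (IsLocalHom (f.stalkMap x).hom)
  have : Module.FaithfullyFlat (Y.presheaf.stalk (f x)) (X.presheaf.stalk x) :=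
    Module.FaithfullyFlat.of_flat_of_isLocalHom
  exact FaithfulSMul.algebraMap_injective (Y.presheaf.stalk (f x)) (X.presheaf.stalk x)

/-- Reducedness of local rings descends along flat morphisms. -/
theorem isReduced_stalk_of_flat {X Y : Scheme.{u}} (f : X ⟶ Y) [Flat f] (x : X)
    (h : _root_.IsReduced ↥(X.presheaf.stalk x)) : _root_.IsReduced ↥(Y.presheaf.stalk (f x)) :=
  isReduced_of_injective _ (stalkMap_injective_of_flat f x)

/-- Reducedness of local rings ascends along smooth morphisms. -/
theorem isReduced_stalk_of_smooth {X Y : Scheme.{u}} (f : X ⟶ Y) [Smooth f] (x : X)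
    (h : _root_.IsReduced ↥(Y.presheaf.stalk (f x))) : _root_.IsReduced ↥(X.presheaf.stalk x) := by
  have hx : x ∈ f.smoothLocus := by rw [f.smoothLocus_eq_top]; trivial
  obtain ⟨U, hU, V, hV, hVU, hxV, H⟩ := exists_smooth_of_formallySmooth_stalk f x hx
  algebraize [(f.appLE U V hVU).hom]
  let p := (hU.primeIdealOf ⟨f x, hVU hxV⟩).asIdeal
  let q := (hV.primeIdealOf ⟨x, hxV⟩).asIdeal
  have hpq : p = q.comap (algebraMap Γ(Y, U) Γ(X, V)) :=
    congr($(IsAffineOpen.comap_primeIdealOf_appLE U hU V hV hVU hxV).1).symm
  letI := Y.presheaf.algebra_section_stalk ⟨f x, hVU hxV⟩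
  haveI := hU.isLocalization_stalk ⟨f x, hVU hxV⟩
  letI := X.presheaf.algebra_section_stalk ⟨x, hxV⟩
  haveI := hV.isLocalization_stalk ⟨x, hxV⟩
  let eY : Y.presheaf.stalk (f x) ≃+* Localization.AtPrime p :=
    (IsLocalization.algEquiv p.primeCompl (Y.presheaf.stalk (f x))
      (Localization.AtPrime p)).toRingEquiv
  let eX : X.presheaf.stalk x ≃+* Localization.AtPrime q :=
    (IsLocalization.algEquiv q.primeCompl (X.presheaf.stalk x)
      (Localization.AtPrime q)).toRingEquiv
  have h1 : _root_.IsReduced (Localization.AtPrime p) := isReduced_of_ringEquiv eY h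
  exact isReduced_of_ringEquiv eX.symm (reduced_at_prime' Γ(Y, U) Γ(X, V) q p hpq h1)

/-- For an etale morphism the local ring at a point is reduced iff the local ring at its image is. -/
theorem isReduced_stalk_iff_of_etale {X Y : Scheme.{u}} (f : X ⟶ Y) [Etale f] (x : X) :
    _root_.IsReduced ↥(X.presheaf.stalk x) ↔ _root_.IsReduced ↥(Y.presheaf.stalk (f x)) :=
  ⟨isReduced_stalk_of_flat f x, isReduced_stalk_of_smooth f x⟩

/-- A scheme etale over a reduced scheme is reduced. -/
theorem isReduced_of_etale {X Y : Scheme.{u}} (f : X ⟶ Y) [Etale f] [IsReduced Y] : IsReduced X := by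
  apply +allowSynthFailures isReduced_of_isReduced_stalk
  intro x
  exact (isReduced_stalk_iff_of_etale f x).2 inferInstance

/-- Reducedness descends along surjective flat morphisms. -/
theorem isReduced_of_flat_of_surjective {X Y : Scheme.{u}} (f : X ⟶ Y) [Flat f] [Surjective f]
    [IsReduced X] : IsReduced Y := by
  apply +allowSynthFailures isReduced_of_isReduced_stalk
  intro y
  obtain ⟨x, rfl⟩ := f.surjective y
  exact isReduced_stalk_of_flat f x inferInstance

end Groth.Agent.Lib.H15
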