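import Mathlib.AlgebraicGeometry.Morphisms.ClosedImmersion
import Mathlib.AlgebraicGeometry.Morphisms.Affine
import Mathlib.AlgebraicGeometry.Limits

set_option autoImplicit false
universe u
open CategoryTheory CategoryTheory.Limits AlgebraicGeometry TopologicalSpace

namespace Groth.Agent.Lib.H15

variable {X : Scheme.{u}}

/-- An open subscheme of an affine open which is relatively closed in it is affine. -/
lemma isAffineOpen_of_le_of_isClosed {U V : X.Opens} (hU : IsAffineOpen U) (hVU : V ≤ U)
    (hcl : ∃ Z : Set X, IsClosed Z ∧ (V : Set X) = (U : Set X) ∩ Z) : IsAffineOpen V := by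
  obtain ⟨Z, hZ, hVZ⟩ := hcl
  have hrange : Set.range (X.homOfLE hVU) = (Subtype.val : ↥(U : Set X) → X) ⁻¹' Z := by
    ext ⟨y, hyU⟩
    constructor
    · rintro ⟨⟨x, hxV⟩, hx⟩
      have : x = y := by
        have := congrArg Subtype.val hx
        rwa [Scheme.homOfLE_apply] at this
      subst this
      have : x ∈ (U : Set X) ∩ Z := hVZ ▸ hxV
      exact this.2
    · intro hyZ
      have hyV : y ∈ V := by
        change y ∈ (V : Set X)
        rw [hVZ]; exact ⟨hyU, hyZ⟩
      exact ⟨⟨y, hyV⟩, X.homOfLE_apply' hVU y hyV⟩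
  have hclosed : IsClosed (Set.range (X.homOfLE hVU)) := by
    rw [hrange]; exact hZ.preimage continuous_subtype_val
  have : IsClosedImmersion (X.homOfLE hVU) := IsClosedImmersion.of_isPreimmersion _ hclosed
  have : IsAffine (U : Scheme.{u}) := hU
  exact isAffine_of_isAffineHom (X.homOfLE hVU)

end Groth.Agent.Lib.H15
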