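import Mathlib
import Groth.Prelude.Def_AlgSp
import Groth.Prelude.Def_AlgSp3

set_option autoImplicit false
universe u
open CategoryTheory CategoryTheory.Limits AlgebraicGeometry Opposite

namespace Groth.Agent.Lib.H15.AS

variable {S : Scheme.{u}}

/-- A morphism of schemes over `S` whose underlying morphism of schemes is a monomorphism is a monomorphism. -/
theorem mono_of_mono_left {U V : Over S} (g : U ⟶ V) [Mono g.left] : Mono g :=
  (Over.forget S).mono_of_mono_map (f := g) ‹_›

/-- A morphism of sheaves which is representable by monomorphisms of schemes is a monomorphism. -/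
theorem mono_of_repWith {P : MorphismProperty Scheme.{u}}
    (hP : P ≤ MorphismProperty.monomorphisms Scheme.{u}) {F G : AlgSp.Sp S} (f : F ⟶ G)
    (hf : AlgSp.RepWith P f) : Mono f := by
  refine ⟨fun {Z} a b hab => ?_⟩
  refine GrothendieckTopology.hom_ext_uliftYoneda.{u+1} (AlgSp.J S) fun T p => ?_
  -- reduce to Z = h_T
  have hab' : (p ≫ a) ≫ f = (p ≫ b) ≫ f := by simp only [Category.assoc, hab]
  generalize p ≫ a = x at hab'
  generalize p ≫ b = y at hab'
  have hrep : AlgSp.Representable f := hf.rep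
  let z := x ≫ f
  have hmono : Mono (hrep.snd z).left := hP _ (hf.property_snd z)
  have : Mono (hrep.snd z) := mono_of_mono_left _
  let sx : T ⟶ hrep.pullback z := hrep.lift x (𝟙 T) (by simp [z])
  let sy : T ⟶ hrep.pullback z := hrep.lift y (𝟙 T) (by simp [z, hab'])
  have hsx : sx ≫ hrep.snd z = 𝟙 T := hrep.lift_snd _ _ _
  have hsy : sy ≫ hrep.snd z = 𝟙 T := hrep.lift_snd _ _ _
  have hs : sx = sy := by
    rw [← cancel_mono (hrep.snd z), hsx, hsy]
  have h1 : (AlgSp.yon S).map sx ≫ hrep.fst z = x := hrep.lift_fst _ _ _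
  have h2 : (AlgSp.yon S).map sy ≫ hrep.fst z = y := hrep.lift_fst _ _ _
  rw [← h1, ← h2, hs]

end Groth.Agent.Lib.H15.AS
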