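import Mathlib
import Groth.Prelude.Def_AlgSp
import Groth.Prelude.Def_AlgSp3
import Groth.Agent.Lib.helper15.AlgSpBasic

set_option autoImplicit false
universe u
open CategoryTheory CategoryTheory.Limits AlgebraicGeometry Opposite

namespace Groth.Agent.Lib.H15.AS

variable {S : Scheme.{u}}

/-- Compatibility of represented base changes: if `g : V ⟶ U` represents the base change of `f` along `q`,
`w : W ⟶ T` represents the base change of `f` along `a`, and `c : T' ⟶ T`, `d : T' ⟶ U` satisfy `h_c ≫ a = h_d ≫ q`,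
then the base change of `w` along `c` (in schemes) is a base change of `g` along `d`. -/
theorem prop_pullback_snd_of_charts (P : MorphismProperty Scheme.{u}) [P.IsStableUnderBaseChange]
    {X Y : AlgSp.Sp S} (f : Y ⟶ X) {U V T W T' : Over S}
    {q : (AlgSp.yon S).obj U ⟶ X} {fst : (AlgSp.yon S).obj V ⟶ Y} {g : V ⟶ U}
    (sq : IsPullback fst ((AlgSp.yon S).map g) f q)
    {a : (AlgSp.yon S).obj T ⟶ X} {fstW : (AlgSp.yon S).obj W ⟶ Y} {w : W ⟶ T}
    (sqa : IsPullback fstW ((AlgSp.yon S).map w) f a)
    (c : T' ⟶ T) (d : T' ⟶ U) (hcd : (AlgSp.yon S).map c ≫ a = (AlgSp.yon S).map d ≫ q)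
    (hP : P g.left) : P (pullback.snd w.left c.left) := by
  -- the scheme-level pullback as an object over `S`
  let Z' : Over S := Over.mk (pullback.snd w.left c.left ≫ T'.hom)
  have hz1 : pullback.fst w.left c.left ≫ W.hom = pullback.snd w.left c.left ≫ T'.hom := by
    rw [← Over.w w, ← Over.w c, ← Category.assoc, ← Category.assoc, pullback.condition]
  let z1 : Z' ⟶ W := Over.homMk (pullback.fst w.left c.left) hz1
  let z2 : Z' ⟶ T' := Over.homMk (pullback.snd w.left c.left) rfl
  have hz : z1 ≫ w = z2 ≫ c := by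
    ext
    exact pullback.condition
  have sqZ : IsPullback z1 z2 w c :=
    IsPullback.of_map (Over.forget S) hz (IsPullback.of_hasPullback w.left c.left)
  have sqZ' := sqZ.map (AlgSp.yon S)
  have big := sqZ'.paste_horiz sqa
  rw [hcd] at big
  let l := sq.lift ((AlgSp.yon S).map z1 ≫ fstW) ((AlgSp.yon S).map z2 ≫ (AlgSp.yon S).map d) (by
    rw [Category.assoc, Category.assoc, ← hcd, sqa.w, ← Category.assoc, ← Category.assoc,
      ← Functor.map_comp, ← Functor.map_comp, hz])
  have hl1 : l ≫ fst = (AlgSp.yon S).map z1 ≫ fstW := sq.lift_fst _ _ _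
  have hl2 : l ≫ (AlgSp.yon S).map g = (AlgSp.yon S).map z2 ≫ (AlgSp.yon S).map d := sq.lift_snd _ _ _
  rw [← hl1] at big
  have left := IsPullback.of_right big hl2 sq
  rw [← (AlgSp.yon S).map_preimage l] at left
  have hcomm : (AlgSp.yon S).preimage l ≫ g = z2 ≫ d := by
    apply (AlgSp.yon S).map_injective
    rw [Functor.map_comp, Functor.map_comp, Functor.map_preimage, hl2]
  have left' : IsPullback ((AlgSp.yon S).preimage l) z2 g d := IsPullback.of_map (AlgSp.yon S) hcomm left
  exact MorphismProperty.of_isPullback (P := P) (left'.map (Over.forget S)) hP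

end Groth.Agent.Lib.H15.AS
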