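import Mathlib
import Groth.Prelude.Def_AlgSp
import Groth.Prelude.Def_AlgSp3
import Groth.Agent.Lib.helper15.AlgSpBasic

set_option autoImplicit false
universe u
open CategoryTheory CategoryTheory.Limits AlgebraicGeometry Opposite

namespace Groth.Agent.Lib.H15.AS

variable {S : Scheme.{u}}

section General

variable {C : Type*} [Category C]

/-- If `j` is a monomorphism, `g` is the base change of `g ≫ j` along `j`. -/
theorem isPullback_of_mono {A B D : C} (g : A ⟶ B) (j : B ⟶ D) [Mono j] :
    IsPullback (𝟙 A) g (g ≫ j) j := by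
  refine ⟨⟨by rw [Category.id_comp]⟩, ⟨PullbackCone.IsLimit.mk _ (fun s => s.fst) ?_ ?_ ?_⟩⟩
  · intro s
    simp
  · intro s
    rw [← cancel_mono j, Category.assoc, s.condition]
  · intro s m hm _
    simpa using hm

/-- The symmetric version of `IsPullback.of_prod_fst_with_id`. -/
theorem isPullback_prod_snd_with_id {A B : C} (f : A ⟶ B) (X : C) [HasBinaryProduct X A]
    [HasBinaryProduct X B] :
    IsPullback prod.snd (prod.map (𝟙 X) f) f prod.snd := by
  refine ⟨⟨by rw [prod.map_snd]⟩, ⟨PullbackCone.IsLimit.mk _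
    (fun s => prod.lift (s.snd ≫ prod.fst) s.fst) ?_ ?_ ?_⟩⟩
  · intro s
    exact prod.lift_snd _ _
  · intro s
    apply Limits.prod.hom_ext
    · rw [Category.assoc, prod.map_fst, Category.comp_id, prod.lift_fst]
    · rw [Category.assoc, prod.map_snd, ← Category.assoc, prod.lift_snd]
      exact s.condition
  · intro s m h₁ h₂
    apply Limits.prod.hom_ext
    · rw [prod.lift_fst, ← h₂, Category.assoc, prod.map_fst, Category.comp_id]
    · rw [prod.lift_snd]
      exact h₁

/-- For a pullback square, the map to the product is a monomorphism. -/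
theorem mono_prod_lift_of_isPullback {P X Y H : C} {fst : P ⟶ X} {snd : P ⟶ Y} {f : X ⟶ H}
    {g : Y ⟶ H} (h : IsPullback fst snd f g) [HasBinaryProduct X Y] :
    Mono (prod.lift fst snd) := by
  refine ⟨fun {Z} a b hab => ?_⟩
  apply h.hom_ext
  · have := congrArg (· ≫ prod.fst) hab
    simpa only [Category.assoc, prod.lift_fst] using this
  · have := congrArg (· ≫ prod.snd) hab
    simpa only [Category.assoc, prod.lift_snd] using this

end General

/-- If `x ≫ j` is representable and `j` is a monomorphism, then `x` is representable. -/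
theorem representable_of_comp_mono {A B D : AlgSp.Sp S} (x : A ⟶ B) (j : B ⟶ D) [Mono j]
    (h : AlgSp.Representable (x ≫ j)) : AlgSp.Representable x :=
  MorphismProperty.of_isPullback (isPullback_of_mono x j) h

/-- Products of representable morphisms are representable. -/
theorem representable_prod_map {A B X Y : AlgSp.Sp S} (u : A ⟶ X) (v : B ⟶ Y)
    (hu : AlgSp.Representable u) (hv : AlgSp.Representable v) :
    AlgSp.Representable (prod.map u v) := by
  have h1 : AlgSp.Representable (prod.map u (𝟙 B)) :=
    MorphismProperty.of_isPullback (IsPullback.of_prod_fst_with_id u B) hu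
  have h2 : AlgSp.Representable (prod.map (𝟙 X) v) :=
    MorphismProperty.of_isPullback (isPullback_prod_snd_with_id v X) hv
  have : prod.map u v = prod.map u (𝟙 B) ≫ prod.map (𝟙 X) v := by
    rw [prod.map_map, Category.comp_id, Category.id_comp]
  rw [this]
  exact MorphismProperty.comp_mem _ _ _ h1 h2

/-- If `X` and `Y` have representable diagonals, every map from a scheme to `X ⨯ Y` is representable. -/
theorem representable_to_prod {X Y : AlgSp.Sp S} (hX : AlgSp.Representable (Limits.diag X))
    (hY : AlgSp.Representable (Limits.diag Y)) {T : Over S} (w : (AlgSp.yon S).obj T ⟶ X ⨯ Y) :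
    AlgSp.Representable w := by
  have hu : AlgSp.Representable (w ≫ prod.fst) := Functor.relativelyRepresentable.of_diag hX _
  have hv : AlgSp.Representable (w ≫ prod.snd) := Functor.relativelyRepresentable.of_diag hY _
  have hd : AlgSp.Representable (Limits.diag ((AlgSp.yon S).obj T)) := (AlgSp.IsAlgSpace.yon_obj T).diag
  have : w = Limits.diag ((AlgSp.yon S).obj T) ≫ prod.map (w ≫ prod.fst) (w ≫ prod.snd) := by
    apply Limits.prod.hom_ext
    · rw [Category.assoc, prod.map_fst, ← Category.assoc]
      dsimp only [Limits.diag]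
      rw [prod.lift_fst, Category.id_comp]
    · rw [Category.assoc, prod.map_snd, ← Category.assoc]
      dsimp only [Limits.diag]
      rw [prod.lift_snd, Category.id_comp]
  rw [this]
  exact MorphismProperty.comp_mem _ _ _ hd (representable_prod_map _ _ hu hv)

/-- The diagonal of a fibre product `X ×_H Y` of sheaves with representable diagonals is representable. -/
theorem representable_diag_of_isPullback {X Y H P : AlgSp.Sp S}
    (hX : AlgSp.Representable (Limits.diag X)) (hY : AlgSp.Representable (Limits.diag Y))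
    {f : X ⟶ H} {g : Y ⟶ H} {fst : P ⟶ X} {snd : P ⟶ Y} (h : IsPullback fst snd f g) :
    AlgSp.Representable (Limits.diag P) := by
  refine Functor.relativelyRepresentable.diag_of_map_from_obj fun T x => ?_
  have : Mono (prod.lift fst snd) := mono_prod_lift_of_isPullback h
  exact representable_of_comp_mono x (prod.lift fst snd) (representable_to_prod hX hY _)

/-- A chart of a fibre product `X ×_H Y` built from charts of `X` and `Y`, when `H` has representable diagonal. -/
theorem exists_chart_of_isPullback {X Y H P : AlgSp.Sp S}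
    (hH : AlgSp.Representable (Limits.diag H))
    {f : X ⟶ H} {g : Y ⟶ H} {fst : P ⟶ X} {snd : P ⟶ Y} (h : IsPullback fst snd f g)
    {U V : Over S} (pX : (AlgSp.yon S).obj U ⟶ X) (pY : (AlgSp.yon S).obj V ⟶ Y) :
    ∃ (W : Over S) (p : (AlgSp.yon S).obj W ⟶ P) (w1 : W ⟶ U) (w2 : W ⟶ V),
      p ≫ fst = (AlgSp.yon S).map w1 ≫ pX ∧ p ≫ snd = (AlgSp.yon S).map w2 ≫ pY ∧
      ∀ (Q : MorphismProperty Scheme.{u}) [Q.IsStableUnderBaseChange] [Q.IsMultiplicative],
        AlgSp.RepWith Q pX → AlgSp.RepWith Q pY → AlgSp.RepWith Q p := by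
  have sq1 : IsPullback (pullback.fst snd pY) (pullback.snd snd pY) snd pY :=
    IsPullback.of_hasPullback _ _
  have sq2 : IsPullback (pullback.fst (pullback.fst snd pY ≫ fst) pX)
      (pullback.snd (pullback.fst snd pY ≫ fst) pX) (pullback.fst snd pY ≫ fst) pX :=
    IsPullback.of_hasPullback _ _
  have big := sq2.flip.paste_vert (sq1.paste_horiz h)
  have ha : AlgSp.Representable (pX ≫ f) := Functor.relativelyRepresentable.of_diag hH _
  let e := (ha.isPullback (pY ≫ g)).isoIsPullback _ _ big
  have he1 : e.hom ≫ pullback.snd (pullback.fst snd pY ≫ fst) pX = ha.fst (pY ≫ g) :=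
    IsPullback.isoIsPullback_hom_fst _ _ _ _
  have he2 : e.hom ≫ pullback.fst (pullback.fst snd pY ≫ fst) pX ≫ pullback.snd snd pY =
      (AlgSp.yon S).map (ha.snd (pY ≫ g)) :=
    IsPullback.isoIsPullback_hom_snd _ _ _ _
  refine ⟨ha.pullback (pY ≫ g),
    e.hom ≫ pullback.fst (pullback.fst snd pY ≫ fst) pX ≫ pullback.fst snd pY,
    ha.fst' (pY ≫ g), ha.snd (pY ≫ g), ?_, ?_, ?_⟩
  · rw [Category.assoc, Category.assoc, sq2.w, ← Category.assoc, he1, ha.map_fst']
  · rw [Category.assoc, Category.assoc, sq1.w, ← Category.assoc, ← Category.assoc,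
      Category.assoc e.hom, he2]
  · intro Q _ _ hQX hQY
    have h1 : AlgSp.RepWith Q (pullback.fst (pullback.fst snd pY ≫ fst) pX) :=
      MorphismProperty.of_isPullback sq2.flip hQX
    have h2 : AlgSp.RepWith Q (pullback.fst snd pY) :=
      MorphismProperty.of_isPullback sq1.flip hQY
    have h3 := MorphismProperty.comp_mem _ _ _ h1 h2
    exact (MorphismProperty.cancel_left_of_respectsIso (AlgSp.RepWith Q) e.hom _).2 h3

/-- A fibre product of algebraic spaces over a sheaf with representable diagonal is an algebraic space. -/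
theorem isAlgSpace_of_isPullback {X Y H P : AlgSp.Sp S}
    (hH : AlgSp.Representable (Limits.diag H)) (hX : AlgSp.IsAlgSpace X) (hY : AlgSp.IsAlgSpace Y)
    {f : X ⟶ H} {g : Y ⟶ H} {fst : P ⟶ X} {snd : P ⟶ Y} (h : IsPullback fst snd f g) :
    AlgSp.IsAlgSpace P := by
  refine ⟨representable_diag_of_isPullback hX.diag hY.diag h, ?_⟩
  obtain ⟨U, pX, hXe, hXs⟩ := hX.atlas
  obtain ⟨V, pY, hYe, hYs⟩ := hY.atlas
  obtain ⟨W, p, _, _, _, _, hp⟩ := exists_chart_of_isPullback hH h pX pY
  exact ⟨W, p, hp @Etale hXe hYe, hp @Surjective hXs hYs⟩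

end Groth.Agent.Lib.H15.AS
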