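import Mathlib
import Groth.Prelude.Def_AlgSp
import Groth.Prelude.Def_AlgSpRep

set_option autoImplicit false
universe u
open CategoryTheory CategoryTheory.Limits AlgebraicGeometry Opposite

namespace Groth.Agent.Lib.H15.AS

variable {S : Scheme.{u}}

/-- A sieve on `T` (in schemes over `S`) containing a morphism whose underlying morphism of schemes is flat, locally of
finite presentation and surjective is a covering sieve for the fppf topology. -/
theorem mem_J_of_mem {T V : Over S} (q : V ⟶ T) [Flat q.left] [Surjective q.left]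
    [LocallyOfFinitePresentation q.left] (R : Sieve T) (hq : R q) : R ∈ (AlgSp.J S) T := by
  rw [AlgSp.J_eq, GrothendieckTopology.mem_over_iff]
  refine GrothendieckTopology.superset_covering _ ?_
    (Precoverage.generate_mem_toGrothendieck q.left.singleton_mem_fppfPrecoverage)
  rw [Sieve.generate_le_iff]
  rintro Z g ⟨⟩
  exact ⟨V, q, 𝟙 _, hq, by simp⟩

end Groth.Agent.Lib.H15.AS

namespace Groth.Agent.Lib.H15.AS

variable {S : Scheme.{u}}

theorem fppfPrecoverage_hasIsos : (Scheme.fppfPrecoverage.{u}).HasIsos := by
  have h1 : (@Flat ⊓ @LocallyOfFinitePresentation : MorphismProperty Scheme.{u}).ContainsIdentities :=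
    ⟨fun X => ⟨inferInstance, inferInstance⟩⟩
  have h2 : (@Flat ⊓ @LocallyOfFinitePresentation : MorphismProperty Scheme.{u}).RespectsIso :=
    inferInstance
  unfold Scheme.fppfPrecoverage; infer_instance

/-- A covering sieve of the fppf topology on schemes over `S` contains (after forgetting to schemes) a covering family
of the fppf precoverage. -/
theorem exists_precoverage_le_of_mem_J {T : Over S} (R : Sieve T) (hR : R ∈ (AlgSp.J S) T) :
    ∃ R' ∈ Scheme.fppfPrecoverage T.left, ∀ ⦃Z : Scheme.{u}⦄ (g : Z ⟶ T.left), R' g →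
      R (Over.homMk g : Over.mk (g ≫ T.hom) ⟶ T) := by
  rw [AlgSp.J_eq, GrothendieckTopology.mem_over_iff] at hR
  have := fppfPrecoverage_hasIsos.{u}
  obtain ⟨R', hR', hle⟩ := Precoverage.mem_toGrothendieck_iff_of_isStableUnderComposition.1 hR
  exact ⟨R', hR', fun Z g hg => (Sieve.overEquiv_iff _ _).1 (hle _ g hg)⟩

end Groth.Agent.Lib.H15.AS
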