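import Mathlib
import Groth.Prelude.Def_AlgSp
import Groth.Prelude.Def_AlgSpRep

set_option autoImplicit false
universe u
open CategoryTheory CategoryTheory.Limits AlgebraicGeometry Opposite

namespace Groth.Agent.Lib.H15.AS

variable {S : Scheme.{u}}

/-- Elementwise existence in a pullback square of presheaves of types. -/
theorem exists_of_isPullback_app {F G H F' : AlgSp.PSp S} {a : F ⟶ G} {z : H ⟶ G}
    {fst : F' ⟶ F} {snd : F' ⟶ H} (sq : IsPullback fst snd a z) (W : (Over S)ᵒᵖ)
    (x : F.obj W) (h : H.obj W) (e : a.app W x = z.app W h) :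
    ∃ v : F'.obj W, fst.app W v = x ∧ snd.app W v = h :=
  Limits.Types.exists_of_isPullback (sq.app W) x h e

/-- Elementwise uniqueness in a pullback square of presheaves of types. -/
theorem ext_of_isPullback_app {F G H F' : AlgSp.PSp S} {a : F ⟶ G} {z : H ⟶ G}
    {fst : F' ⟶ F} {snd : F' ⟶ H} (sq : IsPullback fst snd a z) (W : (Over S)ᵒᵖ)
    (v v' : F'.obj W) (h1 : fst.app W v = fst.app W v') (h2 : snd.app W v = snd.app W v') :
    v = v' :=
  Limits.Types.ext_of_isPullback (sq.app W) h1 h2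

/-- If `G` is a sheaf and every base change of `a : F ⟶ G` to a representable presheaf is a sheaf, then `F`
is a sheaf. -/
theorem isSheaf_of_pullbacks {F G : AlgSp.PSp S} (a : F ⟶ G)
    (hG : Presheaf.IsSheaf (AlgSp.J S) G)
    (h : ∀ (T : Over S) (z : (AlgSp.pyon S).obj T ⟶ G), ∃ (F' : AlgSp.PSp S) (fst : F' ⟶ F)
      (snd : F' ⟶ (AlgSp.pyon S).obj T), IsPullback fst snd a z ∧
        Presheaf.IsSheaf (AlgSp.J S) F') :
    Presheaf.IsSheaf (AlgSp.J S) F := by
  rw [isSheaf_iff_isSheaf_of_type] at hG ⊢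
  intro T R hR x hx
  obtain ⟨tG, htG, -⟩ := hG R hR (Presieve.FamilyOfElements.map x a) (hx.map a)
  obtain ⟨F', fst, snd, sq, hF'0⟩ := h T (CategoryTheory.uliftYonedaEquiv.symm tG)
  have hF' : Presieve.IsSheaf (AlgSp.J S) F' := (isSheaf_iff_isSheaf_of_type _ _).1 hF'0
  set z := (CategoryTheory.uliftYonedaEquiv.symm tG : (AlgSp.pyon S).obj T ⟶ G) with hz
  have hzapp : ∀ ⦃W : Over S⦄ (f : W ⟶ T), z.app (op W) ⟨f⟩ = G.map f.op tG := by
    intro W f
    rfl
  -- elements of F' over the members of the sieve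
  have hv : ∀ ⦃W : Over S⦄ (f : W ⟶ T) (hf : R.arrows f),
      ∃ v : F'.obj (op W), fst.app _ v = x f hf ∧ snd.app _ v = ⟨f⟩ := by
    intro W f hf
    refine exists_of_isPullback_app sq (op W) (x f hf) ⟨f⟩ ?_
    rw [hzapp]
    exact (htG f hf).symm
  choose v hv1 hv2 using hv
  let vf : Presieve.FamilyOfElements F' R.arrows := fun W f hf => v f hf
  have hvc : vf.Compatible := by
    rw [Presieve.compatible_iff_sieveCompatible]
    intro W W' f g hf
    apply ext_of_isPullback_app sq
    · rw [hv1, NatTrans.naturality_apply, hv1]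
      exact (Presieve.compatible_iff_sieveCompatible x).1 hx f g hf
    · rw [hv2, NatTrans.naturality_apply, hv2]
      rfl
  obtain ⟨s, hs, -⟩ := hF' R hR vf hvc
  refine ⟨fst.app _ s, ?_, ?_⟩
  · intro W f hf
    rw [← NatTrans.naturality_apply, hs f hf, hv1]
  · intro t' ht'
    -- a(t') = tG
    have hat' : a.app _ t' = tG := by
      refine (hG R hR).isSeparatedFor (Presieve.FamilyOfElements.map x a) _ _ ?_ htG
      intro W f hf
      rw [← NatTrans.naturality_apply, ht' f hf]
      rfl
    obtain ⟨s', hs'1, hs'2⟩ := exists_of_isPullback_app sq (op T) t' ⟨𝟙 T⟩ (by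
      rw [hzapp, hat']; simp)
    have hss' : s' = s := by
      refine (hF' R hR).isSeparatedFor vf _ _ ?_ hs
      intro W f hf
      apply ext_of_isPullback_app sq
      · rw [NatTrans.naturality_apply, hs'1, ht' f hf, hv1]
      · rw [NatTrans.naturality_apply, hs'2, hv2]
        change ULift.up (f ≫ 𝟙 T) = _
        rw [Category.comp_id]
    rw [← hs'1, hss']

end Groth.Agent.Lib.H15.AS
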