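import Mathlib
import Groth.Prelude.Def_AlgSp
import Groth.Prelude.Def_AlgSp2
import Groth.Prelude.Def_AlgSp3
import Groth.Prelude.Def_AlgSp4
import Groth.Agent.Lib.helper15.AlgSpSheaf
import Groth.Agent.Lib.helper15.AlgSpCover
import Groth.Prelude.Def_AlgSpRep

set_option autoImplicit false
universe u
open CategoryTheory CategoryTheory.Limits AlgebraicGeometry Opposite

namespace Groth.Agent.Lib.H15.AS

variable {S : Scheme.{u}}

/-- Elementwise existence in a pullback square of sheaves. -/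
theorem exists_of_isPullback_sp {X Y Z P : AlgSp.Sp S} {f : X ⟶ Z} {g : Y ⟶ Z} {fst : P ⟶ X}
    {snd : P ⟶ Y} (sq : IsPullback fst snd f g) (W : (Over S)ᵒᵖ) (x : X.obj.obj W) (y : Y.obj.obj W)
    (e : f.hom.app W x = g.hom.app W y) :
    ∃ p : P.obj.obj W, fst.hom.app W p = x ∧ snd.hom.app W p = y :=
  exists_of_isPullback_app (sq.map (sheafToPresheaf (AlgSp.J S) (Type (u + 1)))) W x y e

/-- Elementwise uniqueness in a pullback square of sheaves. -/
theorem ext_of_isPullback_sp {X Y Z P : AlgSp.Sp S} {f : X ⟶ Z} {g : Y ⟶ Z} {fst : P ⟶ X}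
    {snd : P ⟶ Y} (sq : IsPullback fst snd f g) (W : (Over S)ᵒᵖ) (p p' : P.obj.obj W)
    (h1 : fst.hom.app W p = fst.hom.app W p') (h2 : snd.hom.app W p = snd.hom.app W p') : p = p' :=
  ext_of_isPullback_app (sq.map (sheafToPresheaf (AlgSp.J S) (Type (u + 1)))) W p p' h1 h2

/-- A field valued point restricted along a morphism of fields defines the same point. -/
theorem points_mk_restrict {F : AlgSp.Sp S} (p : AlgSp.FieldPt F) {Ω : Type u} [Field Ω]
    (w : Spec (CommRingCat.of Ω) ⟶ S) (a : Over.mk w ⟶ p.pt) :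
    AlgSp.Points.mk (⟨Ω, w, F.obj.map a.op p.val⟩ : AlgSp.FieldPt F) = AlgSp.Points.mk p := by
  apply AlgSp.Points.sound
  refine ⟨Ω, inferInstance, w, 𝟙 _, a, ?_⟩
  change F.obj.map (𝟙 _) _ = _
  simp

/-- Points of a fibre product surject onto the fibre product of points. -/
theorem points_exists_of_isPullback {X Y Z P : AlgSp.Sp S} {f : X ⟶ Z} {g : Y ⟶ Z} {fst : P ⟶ X}
    {snd : P ⟶ Y} (sq : IsPullback fst snd f g) (x : AlgSp.Points X) (y : AlgSp.Points Y)
    (e : AlgSp.Points.map f x = AlgSp.Points.map g y) :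
    ∃ p : AlgSp.Points P, AlgSp.Points.map fst p = x ∧ AlgSp.Points.map snd p = y := by
  induction x using AlgSp.Points.ind with
  | h px =>
  induction y using AlgSp.Points.ind with
  | h py =>
  rw [AlgSp.Points.map_mk, AlgSp.Points.map_mk, AlgSp.Points.mk_eq_mk_iff] at e
  obtain ⟨Ω, _, w, a, b, h⟩ := e
  change Z.obj.map a.op (f.hom.app _ px.val) = Z.obj.map b.op (g.hom.app _ py.val) at h
  rw [← NatTrans.naturality_apply, ← NatTrans.naturality_apply] at h
  obtain ⟨p, hp1, hp2⟩ := exists_of_isPullback_sp sq (op (Over.mk w)) _ _ h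
  refine ⟨AlgSp.Points.mk ⟨Ω, w, p⟩, ?_, ?_⟩
  · rw [AlgSp.Points.map_mk]
    change AlgSp.Points.mk ⟨Ω, w, fst.hom.app _ p⟩ = _
    rw [hp1]
    exact points_mk_restrict px w a
  · rw [AlgSp.Points.map_mk]
    change AlgSp.Points.mk ⟨Ω, w, snd.hom.app _ p⟩ = _
    rw [hp2]
    exact points_mk_restrict py w b

/-- The base change of a morphism surjective on points is surjective on points. -/
theorem isSurjectiveMor_of_isPullback {X Y Z P : AlgSp.Sp S} {f : X ⟶ Z} {g : Y ⟶ Z} {fst : P ⟶ X}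
    {snd : P ⟶ Y} (sq : IsPullback fst snd f g) (hf : AlgSp.IsSurjectiveMor f) :
    AlgSp.IsSurjectiveMor snd := by
  intro y
  obtain ⟨x, hx⟩ := hf (AlgSp.Points.map g y)
  obtain ⟨p, -, hp⟩ := points_exists_of_isPullback sq x y hx
  exact ⟨p, hp⟩

/-- The morphism `h_{Spec K} ⟶ F` defined by a field valued point. -/
noncomputable def fieldPtHom {F : AlgSp.Sp S} (p : AlgSp.FieldPt F) : (AlgSp.yon S).obj p.pt ⟶ F :=
  (AlgSp.J S).uliftYonedaEquiv.symm p.val

/-- The tautological field valued point of `h_{Spec K}`. -/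
noncomputable def fieldPtSelf {F : AlgSp.Sp S} (p : AlgSp.FieldPt F) : AlgSp.FieldPt ((AlgSp.yon S).obj p.pt) :=
  ⟨p.K, p.str, ⟨𝟙 _⟩⟩

theorem map_fieldPtHom_self {F : AlgSp.Sp S} (p : AlgSp.FieldPt F) :
    AlgSp.Points.map (fieldPtHom p) (AlgSp.Points.mk (fieldPtSelf p)) = AlgSp.Points.mk p := by
  rw [AlgSp.Points.map_mk]
  congr 1
  change (⟨p.K, p.str, (fieldPtHom p).hom.app _ ⟨𝟙 _⟩⟩ : AlgSp.FieldPt F) = p
  have : (fieldPtHom p).hom.app (op p.pt) ⟨𝟙 _⟩ = p.val := by
    rw [← GrothendieckTopology.uliftYonedaEquiv_apply]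
    exact Equiv.apply_symm_apply _ _
  rw [this]
  cases p
  rfl

/-- All points of `h_{Spec K}` are equal. -/
theorem points_spec_field_subsingleton {K : Type u} [Field K] (str : Spec (CommRingCat.of K) ⟶ S) :
    Subsingleton (AlgSp.Points ((AlgSp.yon S).obj (Over.mk str))) := by
  have : Subsingleton ↥(Over.mk str).left := by
    change Subsingleton ↥(Spec (CommRingCat.of K))
    infer_instance
  exact (AlgSp.Points.schemeEquiv (Over.mk str)).symm.subsingleton

/-- Every point of `F` is the image of a point of a scheme under a morphism `h_T ⟶ F`. -/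
theorem points_eq_ofPt {F : AlgSp.Sp S} (p : AlgSp.FieldPt F) (t : ↥p.pt.left) :
    AlgSp.Points.ofPt (fieldPtHom p) t = AlgSp.Points.mk p := by
  rw [AlgSp.Points.ofPt_eq_map_ofScheme, ← map_fieldPtHom_self]
  congr 1
  have := points_spec_field_subsingleton (S := S) p.str
  exact Subsingleton.elim _ _

/-- A representable surjective morphism is surjective on points. -/
theorem isSurjectiveMor_of_repWith {F G : AlgSp.Sp S} {f : F ⟶ G} (hf : AlgSp.RepWith @Surjective f) :
    AlgSp.IsSurjectiveMor f := by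
  intro y
  induction y using AlgSp.Points.ind with
  | h p =>
  have hrep : AlgSp.Representable f := hf.rep
  have hs : Surjective (hrep.snd (fieldPtHom p)).left := hf.property_snd (fieldPtHom p)
  obtain ⟨w, hw⟩ := hs.surj (IsLocalRing.closedPoint p.K)
  refine ⟨AlgSp.Points.ofPt (hrep.fst (fieldPtHom p)) w, ?_⟩
  rw [AlgSp.Points.map_ofPt, hrep.w (fieldPtHom p), ← AlgSp.Points.map_ofPt,
    ← map_fieldPtHom_self p]
  congr 1
  have := points_spec_field_subsingleton (S := S) p.str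
  exact Subsingleton.elim _ _


/-- `h_φ` is surjective on points iff `φ` is surjective. -/
theorem isSurjectiveMor_yon_map_iff {T T' : Over S} (φ : T ⟶ T') :
    AlgSp.IsSurjectiveMor ((AlgSp.yon S).map φ) ↔ Surjective φ.left := by
  constructor
  · intro h
    refine ⟨fun t' => ?_⟩
    obtain ⟨x, hx⟩ := h (AlgSp.Points.schemeHomeo T' t')
    obtain ⟨t, rfl⟩ := (AlgSp.Points.schemeHomeo T).surjective x
    rw [AlgSp.Points.map_yon_map_apply] at hx
    exact ⟨t, (AlgSp.Points.schemeHomeo T').injective hx⟩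
  · intro h y
    obtain ⟨t', rfl⟩ := (AlgSp.Points.schemeHomeo T').surjective y
    obtain ⟨t, rfl⟩ := h.surj t'
    exact ⟨AlgSp.Points.schemeHomeo T t, AlgSp.Points.map_yon_map_apply φ t⟩

/-- Composition of morphisms surjective on points. -/
theorem isSurjectiveMor_comp {F G H : AlgSp.Sp S} {f : F ⟶ G} {g : G ⟶ H}
    (hf : AlgSp.IsSurjectiveMor f) (hg : AlgSp.IsSurjectiveMor g) : AlgSp.IsSurjectiveMor (f ≫ g) := by
  intro z
  obtain ⟨y, rfl⟩ := hg z
  obtain ⟨x, rfl⟩ := hf y
  exact ⟨x, AlgSp.Points.map_comp f g x⟩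

/-- If `f ≫ g` is surjective on points then so is `g`. -/
theorem isSurjectiveMor_of_comp {F G H : AlgSp.Sp S} {f : F ⟶ G} {g : G ⟶ H}
    (h : AlgSp.IsSurjectiveMor (f ≫ g)) : AlgSp.IsSurjectiveMor g := by
  intro z
  obtain ⟨x, rfl⟩ := h z
  exact ⟨AlgSp.Points.map f x, (AlgSp.Points.map_comp f g x).symm⟩

/-- A representable morphism which is surjective on points is representable surjective. -/
theorem repWith_surjective_of_isSurjectiveMor {F G : AlgSp.Sp S} {f : F ⟶ G}
    (hrep : AlgSp.Representable f) (hf : AlgSp.IsSurjectiveMor f) : AlgSp.RepWith @Surjective f := by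
  rw [AlgSp.repWith_iff]
  refine ⟨hrep, fun U V g fst snd sq => ?_⟩
  exact (isSurjectiveMor_yon_map_iff snd).1 (isSurjectiveMor_of_isPullback sq hf)

/-- A flat, lfp, surjective morphism representable by algebraic spaces is an epimorphism of sheaves. -/
theorem isLocallySurjective_of_repBySpWith {F G : AlgSp.Sp S} (a : F ⟶ G)
    (ha : AlgSp.RepBySpWith (AlgSp.IsSurjectiveMor ⊓ AlgSp.LocP @Flat ⊓
      AlgSp.LocP @LocallyOfFinitePresentation) a.hom) : Sheaf.IsLocallySurjective a := by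
  rw [AlgSp.repBySpWith_hom_iff] at ha
  refine ⟨fun {T} s => ?_⟩
  let z : (AlgSp.yon S).obj T ⟶ G := (AlgSp.J S).uliftYonedaEquiv.symm s
  obtain ⟨hP, ⟨⟨hsurj, hflat⟩, hlfp⟩⟩ :=
    ha z (pullback.fst a z) (pullback.snd a z) (IsPullback.of_hasPullback a z)
  obtain ⟨V, r, hre, hrs⟩ := hP.atlas
  obtain ⟨h, hh⟩ := (AlgSp.yon S).map_surjective (r ≫ pullback.snd a z)
  have hcomm : r ≫ pullback.snd a z = (AlgSp.yon S).map h ≫ 𝟙 _ := by rw [hh, Category.comp_id]
  have hfl : Flat h.left := hflat r (𝟙 _) h hre (AlgSp.repWith_id _ T) hcomm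
  have hfp : LocallyOfFinitePresentation h.left := hlfp r (𝟙 _) h hre (AlgSp.repWith_id _ T) hcomm
  have hsu : Surjective h.left := by
    rw [← isSurjectiveMor_yon_map_iff, hh]
    exact isSurjectiveMor_comp (isSurjectiveMor_of_repWith hrs) hsurj
  refine mem_J_of_mem h _ ?_
  refine ⟨(AlgSp.J S).uliftYonedaEquiv (r ≫ pullback.fst a z), ?_⟩
  rw [← GrothendieckTopology.uliftYonedaEquiv_comp, Category.assoc, pullback.condition,
    ← Category.assoc, ← hh, ← GrothendieckTopology.uliftYonedaEquiv_naturality, Equiv.apply_symm_apply]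

end Groth.Agent.Lib.H15.AS
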