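import Mathlib
import Groth.Prelude.Def_AlgSp
import Groth.Prelude.Def_AlgSp2
import Groth.Prelude.Def_AlgSp3
import Groth.Prelude.Def_AlgSp4
import Groth.Agent.Lib.helper15.AlgSpPoints

set_option autoImplicit false
universe u
open CategoryTheory CategoryTheory.Limits AlgebraicGeometry Opposite Topology

namespace Groth.Agent.Lib.H15.AS

variable {S : Scheme.{u}}

/-- `RepWith` is monotone in the property. -/
theorem repWith_mono {P Q : MorphismProperty Scheme.{u}} (hPQ : P ≤ Q) {F G : AlgSp.Sp S} {f : F ⟶ G}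
    (h : AlgSp.RepWith P f) : AlgSp.RepWith Q f := by
  rw [AlgSp.repWith_iff] at h ⊢
  exact ⟨h.1, fun U V g fst snd sq => hPQ _ (h.2 g fst snd sq)⟩

theorem ofPt_yon_map_comp {F : AlgSp.Sp S} {T T' : Over S} (φ : T ⟶ T')
    (g : (AlgSp.yon S).obj T' ⟶ F) (t : ↥T.left) :
    AlgSp.Points.ofPt ((AlgSp.yon S).map φ ≫ g) t = AlgSp.Points.ofPt g (φ.left t) := by
  rw [← AlgSp.Points.map_ofPt, AlgSp.Points.ofPt_eq_map_ofScheme ((AlgSp.yon S).map φ),
    AlgSp.Points.ofPt_eq_map_ofScheme g]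
  congr 1
  exact AlgSp.Points.map_yon_map_apply φ t

/-- The preimage in a scheme `T` of the image of a set of points under a representable morphism. -/
theorem preimage_ofPt_image_map {F G : AlgSp.Sp S} {p : F ⟶ G} {T V : Over S}
    {g : (AlgSp.yon S).obj T ⟶ G} {fst : (AlgSp.yon S).obj V ⟶ F} {snd : V ⟶ T}
    (sq : IsPullback fst ((AlgSp.yon S).map snd) p g) (W : Set (AlgSp.Points F)) :
    AlgSp.Points.ofPt g ⁻¹' (AlgSp.Points.map p '' W) = snd.left '' (AlgSp.Points.ofPt fst ⁻¹' W) := by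
  ext t
  constructor
  · rintro ⟨x, hxW, hx⟩
    rw [AlgSp.Points.ofPt_eq_map_ofScheme] at hx
    obtain ⟨q, hq1, hq2⟩ := points_exists_of_isPullback sq x _ hx
    obtain ⟨v, rfl⟩ := (AlgSp.Points.schemeHomeo V).surjective q
    rw [AlgSp.Points.map_yon_map_apply] at hq2
    refine ⟨v, ?_, (AlgSp.Points.schemeHomeo T).injective hq2⟩
    change AlgSp.Points.ofPt fst v ∈ W
    rw [AlgSp.Points.ofPt_eq_map_ofScheme]
    exact hq1 ▸ hxW
  · rintro ⟨v, hv, rfl⟩
    refine ⟨AlgSp.Points.ofPt fst v, hv, ?_⟩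
    rw [AlgSp.Points.map_ofPt, sq.w, ofPt_yon_map_comp]

/-- A representable universally open morphism is open on points. -/
theorem isOpenMap_points_map_of_repWith {F G : AlgSp.Sp S} {p : F ⟶ G}
    (hp : AlgSp.RepWith @UniversallyOpen p) : IsOpenMap (AlgSp.Points.map p) := by
  intro W hW
  rw [AlgSp.Points.isOpen_iff]
  intro T g
  have hrep : AlgSp.Representable p := hp.rep
  have : UniversallyOpen (hrep.snd g).left := hp.property_snd g
  rw [preimage_ofPt_image_map (hrep.isPullback g) W]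
  exact (hrep.snd g).left.isOpenMap _ ((AlgSp.Points.continuous_ofPt _).isOpen_preimage W hW)

theorem repWith_universallyOpen_of_etale {F G : AlgSp.Sp S} {p : F ⟶ G}
    (hp : AlgSp.RepWith @Etale p) : AlgSp.RepWith @UniversallyOpen p :=
  repWith_mono (fun _ _ f (hf : Etale f) => (inferInstance : UniversallyOpen f)) hp

theorem ofPt_eq_comp {F : AlgSp.Sp S} {U : Over S} (a : (AlgSp.yon S).obj U ⟶ F) :
    AlgSp.Points.ofPt a = AlgSp.Points.map a ∘ AlgSp.Points.schemeHomeo U := by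
  funext u
  exact AlgSp.Points.ofPt_eq_map_ofScheme a u

/-- An etale chart is open on points. -/
theorem isOpenMap_ofPt {F : AlgSp.Sp S} {U : Over S} (a : (AlgSp.yon S).obj U ⟶ F)
    (ha : AlgSp.RepWith @UniversallyOpen a) : IsOpenMap (AlgSp.Points.ofPt a) := by
  rw [ofPt_eq_comp]
  exact (isOpenMap_points_map_of_repWith ha).comp (AlgSp.Points.schemeHomeo U).isOpenMap

theorem surjective_ofPt {F : AlgSp.Sp S} {U : Over S} (a : (AlgSp.yon S).obj U ⟶ F)
    (ha : AlgSp.RepWith @Surjective a) : Function.Surjective (AlgSp.Points.ofPt a) := by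
  rw [ofPt_eq_comp]
  exact (isSurjectiveMor_of_repWith ha).comp (AlgSp.Points.schemeHomeo U).surjective

theorem isQuotientMap_ofPt {F : AlgSp.Sp S} {U : Over S} (p : (AlgSp.yon S).obj U ⟶ F)
    (hp : AlgSp.RepWith @UniversallyOpen p) (hs : AlgSp.RepWith @Surjective p) :
    IsQuotientMap (AlgSp.Points.ofPt p) :=
  (isOpenMap_ofPt p hp).isQuotientMap (AlgSp.Points.continuous_ofPt p) (surjective_ofPt p hs)

end Groth.Agent.Lib.H15.AS
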