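import Mathlib
import Groth.Prelude.Def_AlgSp
import Groth.Prelude.Def_AlgSp2
import Groth.Prelude.Def_AlgSp3
import Groth.Prelude.Def_AlgSp4
import Groth.Agent.Lib.helper15.AlgSpPoints2

set_option autoImplicit false
universe u
open CategoryTheory CategoryTheory.Limits AlgebraicGeometry Opposite Topology

namespace Groth.Agent.Lib.H15.AS

variable {S : Scheme.{u}}

/-- Precomposing a chart with property `P` with a morphism of schemes with property `P`. -/
theorem repWith_yon_map_comp (P : MorphismProperty Scheme.{u}) [P.IsStableUnderBaseChange]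
    [P.IsMultiplicative] {F : AlgSp.Sp S} {U V : Over S} (φ : U ⟶ V) (a : (AlgSp.yon S).obj V ⟶ F)
    (hφ : P φ.left) (ha : AlgSp.RepWith P a) : AlgSp.RepWith P ((AlgSp.yon S).map φ ≫ a) :=
  MorphismProperty.comp_mem _ _ _ ((AlgSp.repWith_yon_map_iff P φ).2 hφ) ha

/-- If `ofPt a` is surjective then `a` is surjective on points. -/
theorem isSurjectiveMor_of_surjective_ofPt {F : AlgSp.Sp S} {U : Over S} (a : (AlgSp.yon S).obj U ⟶ F)
    (h : Function.Surjective (AlgSp.Points.ofPt a)) : AlgSp.IsSurjectiveMor a := by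
  intro x
  obtain ⟨u, rfl⟩ := h x
  exact ⟨_, (AlgSp.Points.ofPt_eq_map_ofScheme a u).symm⟩

/-- The open subscheme of a scheme over `S`, as a scheme over `S`. -/
noncomputable abbrev overOpen (V : Over S) (W : V.left.Opens) : Over S := Over.mk (W.ι ≫ V.hom)

/-- The inclusion of an open subscheme over `S`. -/
noncomputable abbrev overOpenι (V : Over S) (W : V.left.Opens) : overOpen V W ⟶ V := Over.homMk W.ι rfl

theorem range_ofPt_overOpen {F : AlgSp.Sp S} {V : Over S} (p : (AlgSp.yon S).obj V ⟶ F)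
    (W : V.left.Opens) :
    Set.range (AlgSp.Points.ofPt ((AlgSp.yon S).map (overOpenι V W) ≫ p)) =
      AlgSp.Points.ofPt p '' (W : Set V.left) := by
  ext x
  constructor
  · rintro ⟨w, rfl⟩
    rw [ofPt_yon_map_comp]
    exact ⟨_, w.2, rfl⟩
  · rintro ⟨v, hv, rfl⟩
    refine ⟨⟨v, hv⟩, ?_⟩
    rw [ofPt_yon_map_comp]
    rfl

/-- A sheaf with an atlas whose space of points is quasi-compact is quasi-compact. -/
theorem isQuasiCompactSp_of_compactSpace {F : AlgSp.Sp S}
    (hatlas : ∃ (U : Over S) (p : (AlgSp.yon S).obj U ⟶ F), AlgSp.RepWith @Etale p ∧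
      AlgSp.RepWith @Surjective p) [CompactSpace (AlgSp.Points F)] : AlgSp.IsQuasiCompactSp F := by
  obtain ⟨V, p, hpe, hps⟩ := hatlas
  have hopen := isOpenMap_ofPt p (repWith_universallyOpen_of_etale hpe)
  have hcov : (Set.univ : Set (AlgSp.Points F)) ⊆
      ⋃ W : V.left.affineOpens, AlgSp.Points.ofPt p '' ((W : V.left.Opens) : Set V.left) := by
    intro x _
    obtain ⟨v, rfl⟩ := surjective_ofPt p hps x
    obtain ⟨W, hW, hvW, -⟩ :=
      TopologicalSpace.Opens.isBasis_iff_nbhd.1 (V.left.isBasis_affineOpens)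
        (show v ∈ (⊤ : V.left.Opens) from trivial)
    exact Set.mem_iUnion.2 ⟨⟨W, hW⟩, v, hvW, rfl⟩
  obtain ⟨t, ht⟩ := isCompact_univ.elim_finite_subcover
    (fun W : V.left.affineOpens => AlgSp.Points.ofPt p '' ((W : V.left.Opens) : Set V.left))
    (fun W => hopen _ W.1.2) hcov
  let W : V.left.Opens := ⨆ i ∈ t, (i : V.left.Opens)
  have hWc : IsCompact (W : Set V.left) := by
    have : (W : Set V.left) = ⋃ i ∈ t, ((i : V.left.Opens) : Set V.left) := by
      simp [W]
    rw [this]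
    exact t.isCompact_biUnion (fun i _ => i.2.isCompact)
  have hsurj : Function.Surjective
      (AlgSp.Points.ofPt ((AlgSp.yon S).map (overOpenι V W) ≫ p)) := by
    rw [← Set.range_eq_univ, range_ofPt_overOpen, Set.eq_univ_iff_forall]
    intro x
    obtain ⟨i, hi⟩ := Set.mem_iUnion.1 (ht (Set.mem_univ x))
    obtain ⟨hit, v, hv, rfl⟩ := Set.mem_iUnion.1 hi
    refine ⟨v, ?_, rfl⟩
    exact (le_iSup₂ (f := fun i (_ : i ∈ t) => (i : V.left.Opens)) i hit) hv
  have he : AlgSp.RepWith @Etale ((AlgSp.yon S).map (overOpenι V W) ≫ p) :=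
    repWith_yon_map_comp @Etale _ _ (by change Etale W.ι; infer_instance) hpe
  refine ⟨overOpen V W, (AlgSp.yon S).map (overOpenι V W) ≫ p, he, ?_, ?_⟩
  · exact repWith_surjective_of_isSurjectiveMor he.rep (isSurjectiveMor_of_surjective_ofPt _ hsurj)
  · exact isCompact_iff_compactSpace.1 hWc

/-- A quasi-compact sheaf has quasi-compact space of points. -/
theorem compactSpace_of_isQuasiCompactSp {F : AlgSp.Sp S} (h : AlgSp.IsQuasiCompactSp F) :
    CompactSpace (AlgSp.Points F) := by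
  obtain ⟨U, p, _, hps, hU⟩ := h
  exact (surjective_ofPt p hps).compactSpace (AlgSp.Points.continuous_ofPt p)

/-- A quasi-compact sheaf has an affine chart. -/
theorem exists_affine_chart_of_isQuasiCompactSp {F : AlgSp.Sp S} (h : AlgSp.IsQuasiCompactSp F) :
    ∃ (U : Over S) (p : (AlgSp.yon S).obj U ⟶ F),
      IsAffine U.left ∧ AlgSp.RepWith @Etale p ∧ AlgSp.RepWith @Surjective p := by
  obtain ⟨U, p, hpe, hps, hU⟩ := h
  obtain ⟨Y, π, hsurj, het, haff⟩ :=
    Scheme.exists_hom_isAffine_of_isZariskiLocalAtSource @Etale U.left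
  let U' : Over S := Over.mk (π ≫ U.hom)
  let φ : U' ⟶ U := Over.homMk π rfl
  exact ⟨U', (AlgSp.yon S).map φ ≫ p, haff, repWith_yon_map_comp @Etale φ p het hpe,
    repWith_yon_map_comp @Surjective φ p hsurj hps⟩


/-- The space of points of a sheaf with an atlas is locally quasi-compact. -/
theorem exists_isOpen_isCompact_nhd {F : AlgSp.Sp S}
    (hatlas : ∃ (U : Over S) (p : (AlgSp.yon S).obj U ⟶ F), AlgSp.RepWith @Etale p ∧
      AlgSp.RepWith @Surjective p) (x : AlgSp.Points F) (W : Set (AlgSp.Points F)) (hW : IsOpen W)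
    (hx : x ∈ W) : ∃ V : Set (AlgSp.Points F), IsOpen V ∧ IsCompact V ∧ x ∈ V ∧ V ⊆ W := by
  obtain ⟨U, p, hpe, hps⟩ := hatlas
  have hopen := isOpenMap_ofPt p (repWith_universallyOpen_of_etale hpe)
  obtain ⟨u, rfl⟩ := surjective_ofPt p hps x
  have hW' : IsOpen (AlgSp.Points.ofPt p ⁻¹' W) := (AlgSp.Points.continuous_ofPt p).isOpen_preimage W hW
  obtain ⟨A, hA, huA, hAW⟩ := TopologicalSpace.Opens.isBasis_iff_nbhd.1 (U.left.isBasis_affineOpens)
    (U := ⟨_, hW'⟩) hx
  refine ⟨AlgSp.Points.ofPt p '' (A : Set U.left), hopen _ A.2,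
    (IsAffineOpen.isCompact hA).image (AlgSp.Points.continuous_ofPt p), ⟨u, huA, rfl⟩, ?_⟩
  rintro _ ⟨a, ha, rfl⟩
  exact hAW ha

/-- Two points of a chart have the same image iff they come from the fibre product. -/
theorem ofPt_eq_ofPt_iff {F : AlgSp.Sp S} {R U : Over S} (s t : R ⟶ U) (p : (AlgSp.yon S).obj U ⟶ F)
    (sq : IsPullback ((AlgSp.yon S).map t) ((AlgSp.yon S).map s) p p) (u u' : ↥U.left) :
    AlgSp.Points.ofPt p u = AlgSp.Points.ofPt p u' ↔ ∃ r : ↥R.left, t.left r = u ∧ s.left r = u' := by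
  constructor
  · intro h
    rw [AlgSp.Points.ofPt_eq_map_ofScheme, AlgSp.Points.ofPt_eq_map_ofScheme] at h
    obtain ⟨q, hq1, hq2⟩ := points_exists_of_isPullback sq _ _ h
    obtain ⟨r, rfl⟩ := (AlgSp.Points.schemeHomeo R).surjective q
    rw [AlgSp.Points.map_yon_map_apply] at hq1 hq2
    exact ⟨r, (AlgSp.Points.schemeHomeo U).injective hq1, (AlgSp.Points.schemeHomeo U).injective hq2⟩
  · rintro ⟨r, rfl, rfl⟩
    rw [← ofPt_yon_map_comp, ← ofPt_yon_map_comp, sq.w]

end Groth.Agent.Lib.H15.AS
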