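import Mathlib
import Groth.Prelude.Def_AlgSp
import Groth.Prelude.Def_AlgSp2
import Groth.Prelude.Def_AlgSp3
import Groth.Prelude.Def_AlgSp4
import Groth.Agent.Lib.helper15.AlgSpPoints3

set_option autoImplicit false
universe u
open CategoryTheory CategoryTheory.Limits AlgebraicGeometry Opposite Topology

namespace Groth.Agent.Lib.H15.AS

variable {S : Scheme.{u}}

/-- A section of an etale morphism of schemes is etale. -/
theorem etale_of_section {U Q : Scheme.{u}} (s : U ⟶ Q) (p : Q ⟶ U) [Etale p] (h : s ≫ p = 𝟙 U) :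
    Etale s := by
  have : Etale (s ≫ p) := by rw [h]; infer_instance
  exact Etale.of_comp s p

/-- If `p` and `h_e ≫ p` are representable etale then `e` is etale. -/
theorem etale_of_comp_repWith {U Z : Over S} {F : AlgSp.Sp S} (e : U ⟶ Z)
    (p : (AlgSp.yon S).obj Z ⟶ F) (hp : AlgSp.RepWith @Etale p)
    (ha : AlgSp.RepWith @Etale ((AlgSp.yon S).map e ≫ p)) : Etale e.left := by
  have hrep : AlgSp.Representable p := hp.rep
  obtain ⟨a, hae⟩ : ∃ a, a = (AlgSp.yon S).map e ≫ p := ⟨_, rfl⟩
  rw [← hae] at ha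
  have hw : (AlgSp.yon S).map e ≫ p = (AlgSp.yon S).map (𝟙 U) ≫ a := by rw [hae]; simp
  have sq := hrep.isPullback' a
  have h2 : Etale (hrep.snd a).left := hp.property_snd a
  have h1 : Etale (hrep.fst' a).left :=
    ((AlgSp.repWith_iff _ _).1 ha).2 p ((AlgSp.yon S).map (hrep.snd a)) (hrep.fst' a) sq.flip
  have hs1 : hrep.lift' e (𝟙 U) hw ≫ hrep.fst' a = e := hrep.lift'_fst _ _ _
  have hs2 : hrep.lift' e (𝟙 U) hw ≫ hrep.snd a = 𝟙 U := hrep.lift'_snd _ _ _
  have hs2' : (hrep.lift' e (𝟙 U) hw).left ≫ (hrep.snd a).left = 𝟙 U.left := by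
    rw [← Over.comp_left, hs2]; rfl
  have h3 : Etale (hrep.lift' e (𝟙 U) hw).left := etale_of_section _ _ hs2'
  have : e.left = (hrep.lift' e (𝟙 U) hw).left ≫ (hrep.fst' a).left := by
    rw [← Over.comp_left, hs1]
  rw [this]
  infer_instance

/-- A morphism representable with a property `P` that is stable under base change and under
precomposition with etale morphisms has `P` etale locally on source and target. -/
theorem locP_of_repWith (P : MorphismProperty Scheme.{u})
    (hcomp : ∀ ⦃A B C : Scheme.{u}⦄ (e : A ⟶ B) (p : B ⟶ C), Etale e → P p → P (e ≫ p))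
    {F G : AlgSp.Sp S} {f : F ⟶ G} (hf : AlgSp.RepWith P f) : AlgSp.LocP P f := by
  intro U V a b h ha hb w
  have hrep : AlgSp.Representable f := hf.rep
  have sq := hrep.isPullback b
  have hfst : AlgSp.RepWith @Etale (hrep.fst b) :=
    (AlgSp.RepWith @Etale).of_isPullback sq.flip hb
  have hP : P (hrep.snd b).left := hf.property_snd b
  have e1 : (AlgSp.yon S).map (hrep.lift a h w) ≫ hrep.fst b = a := hrep.lift_fst _ _ _
  have e2 : hrep.lift a h w ≫ hrep.snd b = h := hrep.lift_snd _ _ _
  have he : Etale (hrep.lift a h w).left := etale_of_comp_repWith _ (hrep.fst b) hfst (by rw [e1]; exact ha)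
  have : h.left = (hrep.lift a h w).left ≫ (hrep.snd b).left := by
    rw [← Over.comp_left, e2]
  rw [this]
  exact hcomp _ _ he hP

end Groth.Agent.Lib.H15.AS
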