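import Mathlib
import Groth.Prelude.Def_AlgSp
import Groth.Prelude.Def_AlgSp2
import Groth.Prelude.Def_AlgSp3
import Groth.Prelude.Def_AlgSp4
import Groth.Agent.Lib.helper15.AlgSpLocP
import Groth.Agent.Lib.helper15.AlgSpChart

set_option autoImplicit false
universe u
open CategoryTheory CategoryTheory.Limits AlgebraicGeometry Opposite Topology

namespace Groth.Agent.Lib.H15.AS

variable {S : Scheme.{u}}

/-- If `f : F ⟶ G` has `P` etale locally on source and target, `G` is an algebraic space and `P` satisfies fppf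
descent on the target, then `a ≫ f` is representable with `P` for every etale chart `a : h_U ⟶ F`. -/
theorem repWith_comp_of_locP (P : MorphismProperty Scheme.{u}) [P.IsStableUnderBaseChange]
    [P.DescendsAlong (@Surjective ⊓ @Flat ⊓ @LocallyOfFinitePresentation)]
    {F G : AlgSp.Sp S} (hG : AlgSp.IsAlgSpace G) {f : F ⟶ G} (hf : AlgSp.LocP P f) {U : Over S}
    (a : (AlgSp.yon S).obj U ⟶ F) (ha : AlgSp.RepWith @Etale a) : AlgSp.RepWith P (a ≫ f) := by
  have : P.RespectsIso := MorphismProperty.IsStableUnderBaseChange.respectsIso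
  have hk : AlgSp.Representable (a ≫ f) := hG.representable_from_yon _
  obtain ⟨W, c, hce, hcs⟩ := hG.atlas
  have hc : AlgSp.Representable c := hce.rep
  -- the chart diagram
  have sqUW := hk.isPullback' c
  have hu1 : Etale (hk.fst' c).left :=
    ((AlgSp.repWith_iff _ _).1 hce).2 (a ≫ f) ((AlgSp.yon S).map (hk.snd c)) (hk.fst' c) sqUW.flip
  have hchart : AlgSp.RepWith @Etale ((AlgSp.yon S).map (hk.fst' c) ≫ a) :=
    repWith_yon_map_comp @Etale _ a hu1 ha
  have hPu2 : P (hk.snd c).left := hf ((AlgSp.yon S).map (hk.fst' c) ≫ a) c (hk.snd c) hchart hce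
    (by rw [Category.assoc]; exact sqUW.w)
  refine MorphismProperty.relative.of_exists (fun T t => ?_)
  refine ⟨hk.pullback t, (AlgSp.yon S).map (hk.fst' t), hk.snd t, hk.isPullback' t, ?_⟩
  -- descend along `W ×_G T ⟶ T`
  have sqWT := hc.isPullback' t
  have hw2e : Etale (hc.snd t).left := hce.property_snd t
  have hw2s : Surjective (hc.snd t).left := hcs.property_snd t
  have hbc : P (pullback.snd (hk.snd t).left (hc.snd t).left) :=
    prop_pullback_snd_of_charts P (a ≫ f) sqUW (hk.isPullback' t) (hc.snd t) (hc.fst' t)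
      sqWT.w.symm hPu2
  exact MorphismProperty.of_isPullback_of_descendsAlong
    (Q := @Surjective ⊓ @Flat ⊓ @LocallyOfFinitePresentation)
    (IsPullback.of_hasPullback (hk.snd t).left (hc.snd t).left).flip
    ⟨⟨hw2s, (inferInstance : Flat (hc.snd t).left)⟩,
      (inferInstance : LocallyOfFinitePresentation (hc.snd t).left)⟩ hbc

/-- If `h_h ≫ r` is representable with `P`, where `P` contains the immersions and is stable under
composition, then `h` has `P`. -/
theorem prop_of_repWith_yon_map_comp (P : MorphismProperty Scheme.{u}) [P.IsStableUnderComposition]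
    (hI : ∀ ⦃A B : Scheme.{u}⦄ (i : A ⟶ B), IsImmersion i → P i)
    {U V : Over S} {Z : AlgSp.Sp S} (h : U ⟶ V) (r : (AlgSp.yon S).obj V ⟶ Z)
    (hk : AlgSp.RepWith P ((AlgSp.yon S).map h ≫ r)) : P h.left := by
  have hrep : AlgSp.Representable ((AlgSp.yon S).map h ≫ r) := hk.rep
  have hP : P (hrep.snd r).left := hk.property_snd r
  have hw : (AlgSp.yon S).map (𝟙 U) ≫ (AlgSp.yon S).map h ≫ r = (AlgSp.yon S).map h ≫ r := by simp
  have hs1 : hrep.lift' (𝟙 U) h hw ≫ hrep.fst' r = 𝟙 U := hrep.lift'_fst _ _ _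
  have hs2 : hrep.lift' (𝟙 U) h hw ≫ hrep.snd r = h := hrep.lift'_snd _ _ _
  have hs1' : (hrep.lift' (𝟙 U) h hw).left ≫ (hrep.fst' r).left = 𝟙 U.left := by
    rw [← Over.comp_left, hs1]; rfl
  have : IsImmersion ((hrep.lift' (𝟙 U) h hw).left ≫ (hrep.fst' r).left) := by
    rw [hs1']; infer_instance
  have h3 : IsImmersion (hrep.lift' (𝟙 U) h hw).left := IsImmersion.of_comp _ (hrep.fst' r).left
  have : h.left = (hrep.lift' (𝟙 U) h hw).left ≫ (hrep.snd r).left := by
    rw [← Over.comp_left, hs2]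
  rw [this]
  exact P.comp_mem _ _ (hI _ h3) hP

end Groth.Agent.Lib.H15.AS
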