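import Mathlib

set_option autoImplicit false
universe u
open CategoryTheory CategoryTheory.Limits AlgebraicGeometry Opposite TopologicalSpace MorphismProperty

namespace Groth.Agent.Lib.H15

/-- For a finite type algebra, the multiplication map `S ⊗[R] S → S` is of finite presentation. -/
theorem finitePresentation_lmul' {R S : Type u} [CommRing R] [CommRing S] [Algebra R S]
    [Algebra.FiniteType R S] :
    (Algebra.TensorProduct.lmul' R (S := S)).toRingHom.FinitePresentation := by
  refine RingHom.FinitePresentation.of_surjective _ (fun x => ⟨1 ⊗ₜ x, by simp⟩) ?_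
  exact KaehlerDifferential.ideal_fg R S

instance locallyOfFinitePresentation_SpecMap_lmul {R S : Type u} [CommRing R]
    [CommRing S] [Algebra R S] [Algebra.FiniteType R S] :
    LocallyOfFinitePresentation
      (Spec.map (CommRingCat.ofHom (Algebra.TensorProduct.lmul' R (S := S)).toRingHom)) := by
  rw [HasRingHomProperty.Spec_iff (P := @LocallyOfFinitePresentation)]
  exact finitePresentation_lmul'

set_option backward.isDefEq.respectTransparency.types false in
/-- The diagonal of a morphism locally of finite type is locally of finite presentation. -/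
theorem locallyOfFinitePresentation_diagonal {X Y : Scheme.{u}} (f : X ⟶ Y) [LocallyOfFiniteType f] :
    LocallyOfFinitePresentation (pullback.diagonal f) := by
  have hR : RespectsRight @LocallyOfFinitePresentation @IsOpenImmersion :=
    ⟨fun {X Y Z} i hi f hf => by
      have : IsOpenImmersion i := hi
      have : LocallyOfFinitePresentation f := hf
      exact (inferInstance : LocallyOfFinitePresentation (f ≫ i))⟩
  wlog hX : (∃ S, X = Spec S) ∧ ∃ R, Y = Spec R
  · let 𝒰Y := Y.affineCover
    let 𝒰X (j : (Y.affineCover.pullback₁ f).I₀) :
        ((Y.affineCover.pullback₁ f).X j).OpenCover := Scheme.affineCover _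
    apply IsZariskiLocalAtTarget.of_range_subset_iSup _
      (Scheme.Pullback.range_diagonal_subset_diagonalCoverDiagonalRange f 𝒰Y 𝒰X)
    intro ⟨i, j⟩
    rw [arrow_mk_iso_iff (P := @LocallyOfFinitePresentation)
      (Scheme.Pullback.diagonalRestrictIsoDiagonal f 𝒰Y 𝒰X i j)]
    have hfin : LocallyOfFiniteType ((𝒰X i).f j ≫ pullback.snd f (𝒰Y.f i)) :=
      comp_mem _ _ _ inferInstance (pullback_snd _ _ inferInstance)
    exact this _ hR ⟨⟨_, rfl⟩, ⟨_, rfl⟩⟩
  obtain ⟨⟨S, rfl⟩, R, rfl⟩ := hX
  obtain ⟨f, rfl⟩ := Spec.map_surjective f
  rw [HasRingHomProperty.Spec_iff (P := @LocallyOfFiniteType)] at *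
  algebraize [f.hom]
  rw [show f = CommRingCat.ofHom (algebraMap R S) from rfl, diagonal_SpecMap R S,
    cancel_right_of_respectsIso (P := @LocallyOfFinitePresentation)]
  infer_instance

/-- If `f ≫ g` is locally of finite presentation and `g` is locally of finite type, then `f` is locally of
finite presentation. -/
theorem locallyOfFinitePresentation_of_comp {X Y Z : Scheme.{u}} (f : X ⟶ Y) (g : Y ⟶ Z)
    [LocallyOfFinitePresentation (f ≫ g)] [LocallyOfFiniteType g] : LocallyOfFinitePresentation f := by
  have : IsMultiplicative @LocallyOfFinitePresentation :=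
    { id_mem := fun X => (inferInstance : LocallyOfFinitePresentation (𝟙 X))
      comp_mem := fun f g hf hg => by
        have : LocallyOfFinitePresentation f := hf
        have : LocallyOfFinitePresentation g := hg
        exact (inferInstance : LocallyOfFinitePresentation (f ≫ g)) }
  have : HasOfPostcompProperty @LocallyOfFinitePresentation @LocallyOfFiniteType := by
    rw [MorphismProperty.hasOfPostcompProperty_iff_le_diagonal]
    intro X Y f (hf : LocallyOfFiniteType f)
    exact locallyOfFinitePresentation_diagonal f
  exact of_postcomp _ (W' := @LocallyOfFiniteType) f g ‹_› ‹_›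

end Groth.Agent.Lib.H15
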