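import Mathlib
import Groth.Prelude.Def_AlgSp
import Groth.Prelude.Def_AlgSp2
import Groth.Prelude.Def_AlgSp3
import Groth.Prelude.Def_AlgSp4
import Groth.Agent.Lib.helper15.AlgSpLocP2
import Groth.Agent.Lib.helper15.DiagLfp

set_option autoImplicit false
universe u
open CategoryTheory CategoryTheory.Limits AlgebraicGeometry Opposite Topology

namespace Groth.Agent.Lib.H15.AS

variable {S : Scheme.{u}}

/-- If `r` is representable locally of finite type and `h_h ≫ r` is representable locally of finite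
presentation, then `h` is locally of finite presentation. -/
theorem lfp_of_repWith_yon_map_comp {U V : Over S} {Z : AlgSp.Sp S} (h : U ⟶ V)
    (r : (AlgSp.yon S).obj V ⟶ Z) (hr : AlgSp.RepWith @LocallyOfFiniteType r)
    (hk : AlgSp.RepWith @LocallyOfFinitePresentation ((AlgSp.yon S).map h ≫ r)) :
    LocallyOfFinitePresentation h.left := by
  have hrep : AlgSp.Representable ((AlgSp.yon S).map h ≫ r) := hk.rep
  have hP : LocallyOfFinitePresentation (hrep.snd r).left := hk.property_snd r
  have hq1 : LocallyOfFiniteType (hrep.fst' r).left :=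
    ((AlgSp.repWith_iff _ _).1 hr).2 ((AlgSp.yon S).map h ≫ r) ((AlgSp.yon S).map (hrep.snd r))
      (hrep.fst' r) (hrep.isPullback' r).flip
  have hw : (AlgSp.yon S).map (𝟙 U) ≫ (AlgSp.yon S).map h ≫ r = (AlgSp.yon S).map h ≫ r := by simp
  have hs1 : hrep.lift' (𝟙 U) h hw ≫ hrep.fst' r = 𝟙 U := hrep.lift'_fst _ _ _
  have hs2 : hrep.lift' (𝟙 U) h hw ≫ hrep.snd r = h := hrep.lift'_snd _ _ _
  have hs1' : (hrep.lift' (𝟙 U) h hw).left ≫ (hrep.fst' r).left = 𝟙 U.left := by
    rw [← Over.comp_left, hs1]; rfl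
  have : LocallyOfFinitePresentation ((hrep.lift' (𝟙 U) h hw).left ≫ (hrep.fst' r).left) := by
    rw [hs1']; infer_instance
  have h3 : LocallyOfFinitePresentation (hrep.lift' (𝟙 U) h hw).left :=
    Groth.Agent.Lib.H15.locallyOfFinitePresentation_of_comp _ (hrep.fst' r).left
  have : h.left = (hrep.lift' (𝟙 U) h hw).left ≫ (hrep.snd r).left := by
    rw [← Over.comp_left, hs2]
  rw [this]
  infer_instance

end Groth.Agent.Lib.H15.AS
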