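import Mathlib

set_option autoImplicit false
universe u
open CategoryTheory CategoryTheory.Limits AlgebraicGeometry Opposite TopologicalSpace MorphismProperty

namespace Groth.Agent.Lib.H15

/-- Geometric step: if the base change of `i : X ⟶ X₁` along an etale `et : X'₁ ⟶ X₁` surjects onto `X` and is
locally of finite type, then `i` is locally of finite type. -/
theorem lft_of_pullback_etale {X X₁ X'₁ : Scheme.{u}} (i : X ⟶ X₁) (et : X'₁ ⟶ X₁) [Etale et]
    (hsurj : Function.Surjective (pullback.fst i et))
    (hlft : LocallyOfFiniteType (pullback.snd i et)) : LocallyOfFiniteType i := by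
  let D : X₁.Opens := ⟨Set.range et, et.isOpenMap.isOpen_range⟩
  have hi : Set.range i ⊆ Set.range D.ι := by
    rintro _ ⟨x, rfl⟩
    obtain ⟨z, rfl⟩ := hsurj x
    rw [Scheme.Opens.range_ι]
    refine ⟨pullback.snd i et z, ?_⟩
    rw [← Scheme.Hom.comp_apply, ← pullback.condition, Scheme.Hom.comp_apply]
  have het : Set.range et ⊆ Set.range D.ι := by
    rw [Scheme.Opens.range_ι]; rfl
  let i' : X ⟶ D.toScheme := IsOpenImmersion.lift D.ι i hi
  let et' : X'₁ ⟶ D.toScheme := IsOpenImmersion.lift D.ι et het
  have hi' : i' ≫ D.ι = i := IsOpenImmersion.lift_fac _ _ _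
  have het' : et' ≫ D.ι = et := IsOpenImmersion.lift_fac _ _ _
  have hEt : Etale et' := by
    have : Etale (et' ≫ D.ι) := by rw [het']; infer_instance
    exact Etale.of_comp et' D.ι
  have hS : Surjective et' := by
    refine ⟨fun d => ?_⟩
    obtain ⟨y, hy⟩ : (D.ι d) ∈ Set.range et := by
      have := d.2
      exact this
    refine ⟨y, ?_⟩
    apply D.ι.injective
    rw [← Scheme.Hom.comp_apply, het', hy]
  have sq : IsPullback (pullback.fst i et) (pullback.snd i et) i' et' := by
    have h0 := IsPullback.of_hasPullback i et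
    refine ⟨⟨?_⟩, ⟨PullbackCone.IsLimit.mk _ (fun s => h0.lift s.fst s.snd (by
      rw [← hi', ← het', ← Category.assoc, s.condition, Category.assoc])) ?_ ?_ ?_⟩⟩
    · rw [← cancel_mono D.ι, Category.assoc, Category.assoc, hi', het', pullback.condition]
    · intro s; exact h0.lift_fst _ _ _
    · intro s; exact h0.lift_snd _ _ _
    · intro s m h1 h2
      apply h0.hom_ext
      · rw [h1, h0.lift_fst]
      · rw [h2, h0.lift_snd]
  have h1 : LocallyOfFiniteType i' :=
    MorphismProperty.of_isPullback_of_descendsAlong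
      (Q := @Surjective ⊓ @Flat ⊓ @LocallyOfFinitePresentation) (P := @LocallyOfFiniteType)
      sq.flip ⟨⟨hS, (inferInstance : Flat et')⟩, (inferInstance : LocallyOfFinitePresentation et')⟩ hlft
  rw [← hi']
  infer_instance

end Groth.Agent.Lib.H15

namespace Groth.Agent.Lib.H15

open TensorProduct

/-- Algebraic core: if `B → C` is etale and surjective on spectra and `C` is of finite type over `A`, then `B`
is of finite type over `A`. -/
theorem finiteType_of_etale_of_surjective {A B C : Type u} [CommRing A] [CommRing B] [CommRing C]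
    [Algebra A B] [Algebra B C] [Algebra A C] [IsScalarTower A B C] [Algebra.Etale B C]
    (hs : Function.Surjective (Spec.map (CommRingCat.ofHom (algebraMap B C))))
    [Algebra.FiniteType A C] : Algebra.FiniteType A B := by
  obtain ⟨B₀, C₀, _, _, hfg, hEt, ⟨e⟩⟩ := Algebra.Etale.exists_subalgebra_fg A B C
  have hB₀ : Algebra.FiniteType A B₀ := (Subalgebra.fg_iff_finiteType B₀).1 hfg
  suffices h : (algebraMap B₀ B).FiniteType by
    have : Algebra.FiniteType B₀ B := h
    exact Algebra.FiniteType.trans (R := A) (S := B₀) (A := B) hB₀ this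
  suffices h : LocallyOfFiniteType (Spec.map (CommRingCat.ofHom (algebraMap B₀ B))) from
    (HasRingHomProperty.Spec_iff (P := @LocallyOfFiniteType)).1 h
  have hEt' : Etale (Spec.map (CommRingCat.ofHom (algebraMap B₀ C₀))) := by
    rw [HasRingHomProperty.Spec_iff (P := @Etale)]
    exact RingHom.etale_algebraMap.2 hEt
  -- the ring map `B → B ⊗[B₀] C₀` and the iso
  have hcomp : algebraMap B C = (e.symm : B ⊗[B₀] C₀ →+* C).comp (algebraMap B (B ⊗[B₀] C₀)) := by
    ext b
    simp
  refine lft_of_pullback_etale (Spec.map (CommRingCat.ofHom (algebraMap B₀ B)))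
    (Spec.map (CommRingCat.ofHom (algebraMap B₀ C₀))) ?_ ?_
  · rw [← pullbackSpecIso_hom_fst' B₀ B C₀]
    have h2 : Function.Surjective (Spec.map (CommRingCat.ofHom (algebraMap B (B ⊗[B₀] C₀)))) := by
      have h3 : Spec.map (CommRingCat.ofHom (algebraMap B C)) =
          Spec.map (CommRingCat.ofHom (e.symm : B ⊗[B₀] C₀ →+* C)) ≫
            Spec.map (CommRingCat.ofHom (algebraMap B (B ⊗[B₀] C₀))) := by
        rw [← Spec.map_comp, ← CommRingCat.ofHom_comp, ← hcomp]
      rw [h3] at hs
      intro x
      obtain ⟨y, hy⟩ := hs x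
      exact ⟨_, hy⟩
    intro x
    obtain ⟨y, rfl⟩ := h2 x
    refine ⟨(pullbackSpecIso B₀ B C₀).inv y, ?_⟩
    rw [← Scheme.Hom.comp_apply, Iso.inv_hom_id_assoc]
  · rw [← pullbackSpecIso_hom_snd B₀ B C₀]
    suffices h : LocallyOfFiniteType (Spec.map (CommRingCat.ofHom
        (Algebra.TensorProduct.includeRight (R := B₀) (A := B) (B := C₀)).toRingHom)) from
      MorphismProperty.comp_mem @LocallyOfFiniteType _ _ inferInstance h
    rw [HasRingHomProperty.Spec_iff (P := @LocallyOfFiniteType)]
    -- `A → C₀ → B ⊗ C₀` equals `A → B → B ⊗ C₀`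
    have hAT : ((Algebra.TensorProduct.includeRight (R := B₀) (A := B) (B := C₀)).toRingHom).comp
        ((algebraMap B₀ C₀).comp (algebraMap A B₀)) =
        (algebraMap B (B ⊗[B₀] C₀)).comp (algebraMap A B) := by
      ext a
      simp only [RingHom.coe_comp, Function.comp_apply, AlgHom.toRingHom_eq_coe, RingHom.coe_coe,
        Algebra.TensorProduct.includeRight_apply, Algebra.TensorProduct.algebraMap_apply]
      rw [Algebra.algebraMap_eq_smul_one (algebraMap A B₀ a), TensorProduct.tmul_smul,
        TensorProduct.smul_tmul']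
      congr 1
      rw [Algebra.smul_def, mul_one]
      rfl
    have hft : ((algebraMap B (B ⊗[B₀] C₀)).comp (algebraMap A B)).FiniteType := by
      have h4 : (algebraMap B (B ⊗[B₀] C₀)).comp (algebraMap A B) =
          (e : C →+* B ⊗[B₀] C₀).comp (algebraMap A C) := by
        ext a
        simp [IsScalarTower.algebraMap_apply A B C]
      rw [h4]
      refine RingHom.FiniteType.comp (RingHom.FiniteType.of_surjective _ e.surjective) ?_
      exact RingHom.finiteType_algebraMap.2 (inferInstance : Algebra.FiniteType A C)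
    rw [← hAT] at hft
    exact RingHom.FiniteType.of_comp_finiteType hft

end Groth.Agent.Lib.H15

namespace Groth.Agent.Lib.H15

set_option backward.isDefEq.respectTransparency.types false in
/-- Being locally of finite type is etale local on the source (single covering morphism). -/
theorem lft_of_etale_cover {X' X Y : Scheme.{u}} (g : X' ⟶ X) (f : X ⟶ Y) [Etale g] [Surjective g]
    [LocallyOfFiniteType (g ≫ f)] : LocallyOfFiniteType f := by
  wlog hY : ∃ R, Y = Spec R generalizing X' X Y
  · rw [IsZariskiLocalAtTarget.iff_of_openCover (P := @LocallyOfFiniteType) Y.affineCover]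
    intro i
    have sq1 := (IsPullback.of_hasPullback g (pullback.fst f (Y.affineCover.f i))).flip
    have sq2 := (IsPullback.of_hasPullback f (Y.affineCover.f i)).flip
    have big := sq1.paste_horiz sq2
    have hlft : LocallyOfFiniteType (pullback.snd g (pullback.fst f (Y.affineCover.f i)) ≫
        pullback.snd f (Y.affineCover.f i)) :=
      MorphismProperty.of_isPullback (P := @LocallyOfFiniteType) big.flip ‹_›
    exact this (pullback.snd g (pullback.fst f (Y.affineCover.f i)))
      (pullback.snd f (Y.affineCover.f i)) ⟨_, rfl⟩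
  obtain ⟨R, rfl⟩ := hY
  wlog hX : ∃ Q, X = Spec Q generalizing X' X
  · rw [IsZariskiLocalAtSource.iff_of_openCover (P := @LocallyOfFiniteType) X.affineCover]
    intro i
    have hlft : LocallyOfFiniteType (pullback.snd g (X.affineCover.f i) ≫ X.affineCover.f i ≫ f) := by
      rw [← Category.assoc, ← pullback.condition, Category.assoc]
      have : IsOpenImmersion (pullback.fst g (X.affineCover.f i)) := inferInstance
      exact MorphismProperty.comp_mem @LocallyOfFiniteType _ _ inferInstance ‹_›
    exact this (pullback.snd g (X.affineCover.f i)) (X.affineCover.f i ≫ f) ⟨_, rfl⟩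
  obtain ⟨Q, rfl⟩ := hX
  obtain ⟨φ, rfl⟩ := Spec.map_surjective f
  obtain ⟨V : X'.Opens, hV, e⟩ := g.isOpenMap.exists_opens_image_eq_of_prespectralSpace
    g.continuous (by simp) isOpen_univ isCompact_univ
  have : CompactSpace V := isCompact_iff_compactSpace.mp hV
  obtain ⟨W, p, hps, hpe, hW⟩ :=
    Scheme.exists_hom_isAffine_of_isZariskiLocalAtSource @Etale V.toScheme
  have : Etale p := hpe
  have hsurj : Function.Surjective (W.isoSpec.inv ≫ p ≫ V.ι ≫ g) := by
    intro x
    obtain ⟨y, hyV, hy⟩ := e.ge (Set.mem_univ x)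
    obtain ⟨w, hw⟩ := hps.surj ⟨y, hyV⟩
    refine ⟨W.isoSpec.hom w, ?_⟩
    rw [← Scheme.Hom.comp_apply, Iso.hom_inv_id_assoc, Scheme.Hom.comp_apply, Scheme.Hom.comp_apply, hw]
    exact hy
  obtain ⟨ψ, hψ⟩ := Spec.map_surjective (W.isoSpec.inv ≫ p ≫ V.ι ≫ g)
  have hψe : Etale (Spec.map ψ) := by rw [hψ]; infer_instance
  have hψl : LocallyOfFiniteType (Spec.map (φ ≫ ψ)) := by
    rw [Spec.map_comp, hψ]
    simp only [Category.assoc]
    infer_instance
  rw [HasRingHomProperty.Spec_iff (P := @Etale)] at hψe
  rw [HasRingHomProperty.Spec_iff (P := @LocallyOfFiniteType)] at hψl ⊢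
  rw [← hψ] at hsurj
  rw [CommRingCat.hom_comp] at hψl
  algebraize [φ.hom, ψ.hom, ψ.hom.comp φ.hom]
  have : Algebra.Etale Q Γ(W, ⊤) := hψe
  have : Algebra.FiniteType R Γ(W, ⊤) := hψl
  have := finiteType_of_etale_of_surjective (A := R) (B := Q) (C := Γ(W, ⊤)) hsurj
  exact this

end Groth.Agent.Lib.H15
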