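import Mathlib
import Groth.Prelude.Def_AlgSp
import Groth.Prelude.Def_AlgSp2
import Groth.Prelude.Def_AlgSp3
import Groth.Prelude.Def_AlgSp4
import Groth.Agent.Lib.helper15.AlgSpLocP3
import Groth.Agent.Lib.helper15.LftSrc

set_option autoImplicit false
universe u
open CategoryTheory CategoryTheory.Limits AlgebraicGeometry Opposite Topology

namespace Groth.Agent.Lib.H15.AS

variable {S : Scheme.{u}}

/-- Source locality of "locally of finite type" for morphisms of schemes over `S`. -/
theorem lft_of_etale_surjective_comp {W U V : Over S} (w : W ⟶ U) (h : U ⟶ V) (hwe : Etale w.left)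
    (hws : Surjective w.left) (hl : LocallyOfFiniteType (w ≫ h).left) : LocallyOfFiniteType h.left := by
  have : LocallyOfFiniteType (w.left ≫ h.left) := by rw [← Over.comp_left]; exact hl
  exact Groth.Agent.Lib.H15.lft_of_etale_cover w.left h.left

/-- One chart diagram with surjective etale source chart and top arrow locally of finite type suffices. -/
theorem locP_lft_of_chart {F G : AlgSp.Sp S} {f : F ⟶ G} {U V : Over S}
    (a : (AlgSp.yon S).obj U ⟶ F) (b : (AlgSp.yon S).obj V ⟶ G) (h : U ⟶ V)
    (ha : AlgSp.RepWith @Etale a) (has : AlgSp.RepWith @Surjective a) (hb : AlgSp.RepWith @Etale b)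
    (w : a ≫ f = (AlgSp.yon S).map h ≫ b) (hh : LocallyOfFiniteType h.left) :
    AlgSp.LocP @LocallyOfFiniteType f := by
  intro U' V' a' b' h' ha' hb' w'
  have hk : AlgSp.RepWith @LocallyOfFiniteType (a ≫ f) := by
    rw [w]
    exact MorphismProperty.comp_mem _ _ _ ((AlgSp.repWith_yon_map_iff _ h).2 hh)
      (repWith_mono (fun _ _ g (hg : Etale g) => (inferInstance : LocallyOfFiniteType g)) hb)
  have hrep : AlgSp.Representable a := ha.rep
  have sq := hrep.isPullback' a'
  have he1e : Etale (hrep.snd a').left := ha.property_snd a'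
  have he1s : Surjective (hrep.snd a').left := has.property_snd a'
  have he2 : Etale (hrep.fst' a').left :=
    ((AlgSp.repWith_iff _ _).1 ha').2 a ((AlgSp.yon S).map (hrep.snd a')) (hrep.fst' a') sq.flip
  have hk2 : AlgSp.RepWith @LocallyOfFiniteType ((AlgSp.yon S).map (hrep.fst' a') ≫ a ≫ f) :=
    MorphismProperty.comp_mem _ _ _
      ((AlgSp.repWith_yon_map_iff _ _).2 (inferInstance : LocallyOfFiniteType (hrep.fst' a').left)) hk
  have e : (AlgSp.yon S).map (hrep.fst' a') ≫ a ≫ f =
      (AlgSp.yon S).map (hrep.snd a' ≫ h') ≫ b' := by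
    rw [← Category.assoc, sq.w, Category.assoc, w', Functor.map_comp, Category.assoc]
  rw [e] at hk2
  have h3 : LocallyOfFiniteType (hrep.snd a' ≫ h').left :=
    prop_of_repWith_yon_map_comp @LocallyOfFiniteType
      (fun A B i (hi : IsImmersion i) => (inferInstance : LocallyOfFiniteType i)) _ b' hk2
  exact lft_of_etale_surjective_comp (hrep.snd a') h' he1e he1s h3

end Groth.Agent.Lib.H15.AS
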