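import Mathlib
import Groth.Prelude.Def_AlgSp
import Groth.Prelude.Def_AlgSp2
import Groth.Prelude.Def_AlgSp3
import Groth.Prelude.Def_AlgSp4
import Groth.Agent.Lib.helper15.AlgSpLocP4
import Groth.Agent.Lib.helper15.AlgSpFibre

set_option autoImplicit false
universe u
open CategoryTheory CategoryTheory.Limits AlgebraicGeometry Opposite Topology

namespace Groth.Agent.Lib.H15.AS

variable {S : Scheme.{u}}

/-- Variant of `exists_chart_of_isPullback` which also records that the second projection of the chart is a base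
change of `pX ≫ f`. -/
theorem exists_chart_of_isPullback' {X Y H P : AlgSp.Sp S}
    (hH : AlgSp.Representable (Limits.diag H))
    {f : X ⟶ H} {g : Y ⟶ H} {fst : P ⟶ X} {snd : P ⟶ Y} (h : IsPullback fst snd f g)
    {U V : Over S} (pX : (AlgSp.yon S).obj U ⟶ X) (pY : (AlgSp.yon S).obj V ⟶ Y) :
    ∃ (W : Over S) (p : (AlgSp.yon S).obj W ⟶ P) (w1 : W ⟶ U) (w2 : W ⟶ V),
      p ≫ fst = (AlgSp.yon S).map w1 ≫ pX ∧ p ≫ snd = (AlgSp.yon S).map w2 ≫ pY ∧
      (∀ (Q : MorphismProperty Scheme.{u}) [Q.IsStableUnderBaseChange] [Q.IsMultiplicative],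
        AlgSp.RepWith Q pX → AlgSp.RepWith Q pY → AlgSp.RepWith Q p) ∧
      (∀ (Q : MorphismProperty Scheme.{u}), AlgSp.RepWith Q (pX ≫ f) → Q w2.left) := by
  have sq1 : IsPullback (pullback.fst snd pY) (pullback.snd snd pY) snd pY :=
    IsPullback.of_hasPullback _ _
  have sq2 : IsPullback (pullback.fst (pullback.fst snd pY ≫ fst) pX)
      (pullback.snd (pullback.fst snd pY ≫ fst) pX) (pullback.fst snd pY ≫ fst) pX :=
    IsPullback.of_hasPullback _ _
  have big := sq2.flip.paste_vert (sq1.paste_horiz h)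
  have ha : AlgSp.Representable (pX ≫ f) := Functor.relativelyRepresentable.of_diag hH _
  let e := (ha.isPullback (pY ≫ g)).isoIsPullback _ _ big
  have he1 : e.hom ≫ pullback.snd (pullback.fst snd pY ≫ fst) pX = ha.fst (pY ≫ g) :=
    IsPullback.isoIsPullback_hom_fst _ _ _ _
  have he2 : e.hom ≫ pullback.fst (pullback.fst snd pY ≫ fst) pX ≫ pullback.snd snd pY =
      (AlgSp.yon S).map (ha.snd (pY ≫ g)) :=
    IsPullback.isoIsPullback_hom_snd _ _ _ _
  refine ⟨ha.pullback (pY ≫ g),
    e.hom ≫ pullback.fst (pullback.fst snd pY ≫ fst) pX ≫ pullback.fst snd pY,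
    ha.fst' (pY ≫ g), ha.snd (pY ≫ g), ?_, ?_, ?_, ?_⟩
  · rw [Category.assoc, Category.assoc, sq2.w, ← Category.assoc, he1, ha.map_fst']
  · rw [Category.assoc, Category.assoc, sq1.w, ← Category.assoc, ← Category.assoc,
      Category.assoc e.hom, he2]
  · intro Q _ _ hQX hQY
    have h1 : AlgSp.RepWith Q (pullback.fst (pullback.fst snd pY ≫ fst) pX) :=
      MorphismProperty.of_isPullback sq2.flip hQX
    have h2 : AlgSp.RepWith Q (pullback.fst snd pY) :=
      MorphismProperty.of_isPullback sq1.flip hQY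
    have h3 := MorphismProperty.comp_mem _ _ _ h1 h2
    exact (MorphismProperty.cancel_left_of_respectsIso (AlgSp.RepWith Q) e.hom _).2 h3
  · intro Q hQ
    exact hQ.property_snd (pY ≫ g)

/-- Being locally of finite type (etale locally on source and target) is stable under base change. -/
theorem locP_lft_of_isPullback {X Y Y' X' : AlgSp.Sp S} (hX : AlgSp.IsAlgSpace X)
    (hY : AlgSp.IsAlgSpace Y) (hY' : AlgSp.IsAlgSpace Y') {f : X ⟶ Y} {g : Y' ⟶ Y} {fst : X' ⟶ X}
    {f' : X' ⟶ Y'} (sq : IsPullback fst f' f g) (hf : AlgSp.LocP @LocallyOfFiniteType f) :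
    AlgSp.LocP @LocallyOfFiniteType f' := by
  obtain ⟨U, a, hae, has⟩ := hX.atlas
  obtain ⟨V', b', hbe, hbs⟩ := hY'.atlas
  obtain ⟨W, p, w1, w2, hp1, hp2, hpQ, hw2⟩ := exists_chart_of_isPullback' hY.diag sq a b'
  have hk : AlgSp.RepWith @LocallyOfFiniteType (a ≫ f) :=
    repWith_comp_of_locP @LocallyOfFiniteType hY hf a hae
  exact locP_lft_of_chart p b' w2 (hpQ @Etale hae hbe) (hpQ @Surjective has hbs) hbe hp2
    (hw2 _ hk)

/-- Being locally of finite type (etale locally on source and target) is stable under composition. -/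
theorem locP_lft_comp {X Y Z : AlgSp.Sp S} (hX : AlgSp.IsAlgSpace X)
    (hY : AlgSp.IsAlgSpace Y) (hZ : AlgSp.IsAlgSpace Z) {f : X ⟶ Y} {g : Y ⟶ Z}
    (hf : AlgSp.LocP @LocallyOfFiniteType f) (hg : AlgSp.LocP @LocallyOfFiniteType g) :
    AlgSp.LocP @LocallyOfFiniteType (f ≫ g) := by
  obtain ⟨U, a, hae, has⟩ := hX.atlas
  have hk : AlgSp.RepWith @LocallyOfFiniteType (a ≫ f) :=
    repWith_comp_of_locP @LocallyOfFiniteType hY hf a hae
  have hk2 : AlgSp.RepWith @LocallyOfFiniteType ((a ≫ f) ≫ g) := by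
    -- `a ≫ f ≫ g` is representable locally of finite type: check on an atlas of `Y`
    obtain ⟨V, b, hbe, hbs⟩ := hY.atlas
    have hr : AlgSp.RepWith @LocallyOfFiniteType (b ≫ g) :=
      repWith_comp_of_locP @LocallyOfFiniteType hZ hg b hbe
    have hrep : AlgSp.Representable (a ≫ f) := hk.rep
    have sqk := hrep.isPullback' b
    have h1e : Etale (hrep.fst' b).left :=
      ((AlgSp.repWith_iff _ _).1 hbe).2 (a ≫ f) ((AlgSp.yon S).map (hrep.snd b)) (hrep.fst' b) sqk.flip
    have h1s : Surjective (hrep.fst' b).left :=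
      ((AlgSp.repWith_iff _ _).1 hbs).2 (a ≫ f) ((AlgSp.yon S).map (hrep.snd b)) (hrep.fst' b) sqk.flip
    have h2 : LocallyOfFiniteType (hrep.snd b).left := hk.property_snd b
    -- `h_Q ⟶ h_U ⟶ Z` is representable lft, as `h_Q ⟶ h_V ⟶ Z`
    have h3 : AlgSp.RepWith @LocallyOfFiniteType ((AlgSp.yon S).map (hrep.fst' b) ≫ (a ≫ f) ≫ g) := by
      rw [← Category.assoc, sqk.w, Category.assoc]
      exact MorphismProperty.comp_mem _ _ _ ((AlgSp.repWith_yon_map_iff _ _).2 h2) hr
    have hrepZ : AlgSp.Representable ((a ≫ f) ≫ g) := hZ.representable_from_yon _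
    refine MorphismProperty.relative.of_exists (fun T t => ?_)
    refine ⟨hrepZ.pullback t, (AlgSp.yon S).map (hrepZ.fst' t), hrepZ.snd t, hrepZ.isPullback' t, ?_⟩
    -- base change of `Q ⟶ U` to `U ×_Z T`
    have sqT := hrepZ.isPullback' t
    let Q' : Over S := pullback (hrep.fst' b) (hrepZ.fst' t)
    have sqQ : IsPullback (pullback.fst (hrep.fst' b) (hrepZ.fst' t))
        (pullback.snd (hrep.fst' b) (hrepZ.fst' t)) (hrep.fst' b) (hrepZ.fst' t) :=
      IsPullback.of_hasPullback _ _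
    have hq2e : Etale (pullback.snd (hrep.fst' b) (hrepZ.fst' t)).left :=
      MorphismProperty.of_isPullback (P := @Etale) (sqQ.map (Over.forget S)) h1e
    have hq2s : Surjective (pullback.snd (hrep.fst' b) (hrepZ.fst' t)).left :=
      MorphismProperty.of_isPullback (P := @Surjective) (sqQ.map (Over.forget S)) h1s
    have big := (sqQ.map (AlgSp.yon S)).paste_vert sqT
    have h4 : LocallyOfFiniteType
        (pullback.snd (hrep.fst' b) (hrepZ.fst' t) ≫ hrepZ.snd t).left := by
      rw [← Functor.map_comp] at big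
      exact ((AlgSp.repWith_iff _ _).1 h3).2 t _ _ big
    exact lft_of_etale_surjective_comp _ _ hq2e hq2s h4
  intro U' W' a' c' h' ha' hc' w'
  -- chart of `f ≫ g` through the atlas
  have hrep : AlgSp.Representable a := hae.rep
  have sq := hrep.isPullback' a'
  have he1e : Etale (hrep.snd a').left := hae.property_snd a'
  have he1s : Surjective (hrep.snd a').left := has.property_snd a'
  have he2 : Etale (hrep.fst' a').left :=
    ((AlgSp.repWith_iff _ _).1 ha').2 a ((AlgSp.yon S).map (hrep.snd a')) (hrep.fst' a') sq.flip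
  have hk3 : AlgSp.RepWith @LocallyOfFiniteType
      ((AlgSp.yon S).map (hrep.fst' a') ≫ (a ≫ f) ≫ g) :=
    MorphismProperty.comp_mem _ _ _
      ((AlgSp.repWith_yon_map_iff _ _).2 (inferInstance : LocallyOfFiniteType (hrep.fst' a').left)) hk2
  have e : (AlgSp.yon S).map (hrep.fst' a') ≫ (a ≫ f) ≫ g =
      (AlgSp.yon S).map (hrep.snd a' ≫ h') ≫ c' := by
    rw [Category.assoc, ← Category.assoc, sq.w, Category.assoc, w', Functor.map_comp, Category.assoc]
  rw [e] at hk3
  have h3 : LocallyOfFiniteType (hrep.snd a' ≫ h').left :=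
    prop_of_repWith_yon_map_comp @LocallyOfFiniteType
      (fun A B i (hi : IsImmersion i) => (inferInstance : LocallyOfFiniteType i)) _ c' hk3
  exact lft_of_etale_surjective_comp (hrep.snd a') h' he1e he1s h3

/-- Universal properties `UnivSp Q` are stable under base change. -/
theorem univSp_of_isPullback (Q : MorphismProperty (AlgSp.Sp S)) {X Y X' Y' : AlgSp.Sp S} {f : X ⟶ Y}
    {k : Y' ⟶ Y} {k' : X' ⟶ X} {f' : X' ⟶ Y'} (sq : IsPullback k' f' f k) (hf : AlgSp.UnivSp Q f) :
    AlgSp.UnivSp Q f' := by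
  intro T P hT g p1 p2 sqP
  exact hf hT (g ≫ k) (p1 ≫ k') p2 (sqP.paste_horiz sq)

end Groth.Agent.Lib.H15.AS
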