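import Mathlib
import Groth.Prelude.Def_AlgSp
import Groth.Prelude.Def_AlgSp2
import Groth.Prelude.Def_AlgSp3
import Groth.Prelude.Def_AlgSp4
import Groth.Agent.Lib.helper15.AlgSpLocP5
import Groth.Agent.Lib.helper15.AlgSpChart

set_option autoImplicit false
universe u
open CategoryTheory CategoryTheory.Limits AlgebraicGeometry Opposite Topology

namespace Groth.Agent.Lib.H15.AS

variable {S : Scheme.{u}}

/-- For `P` Zariski local on the target, `RepWith P` can be checked on affine schemes. -/
theorem repWith_of_affine (P : MorphismProperty Scheme.{u}) [P.IsStableUnderBaseChange]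
    [IsZariskiLocalAtTarget P] {F G : AlgSp.Sp S} {k : F ⟶ G} (hk : AlgSp.Representable k)
    (H : ∀ (T : Over S), IsAffine T.left → ∀ t : (AlgSp.yon S).obj T ⟶ G, P (hk.snd t).left) :
    AlgSp.RepWith P k := by
  have : P.RespectsIso := MorphismProperty.IsStableUnderBaseChange.respectsIso
  refine MorphismProperty.relative.of_exists (fun T t => ?_)
  refine ⟨hk.pullback t, hk.fst t, hk.snd t, hk.isPullback t, ?_⟩
  change P (hk.snd t).left
  rw [IsZariskiLocalAtTarget.iff_of_openCover (P := P) T.left.affineCover]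
  intro i
  let Ti : Over S := Over.mk (T.left.affineCover.f i ≫ T.hom)
  let ιi : Ti ⟶ T := Over.homMk (T.left.affineCover.f i) rfl
  have hP : P (hk.snd ((AlgSp.yon S).map ιi ≫ t)).left :=
    H Ti (inferInstanceAs (IsAffine (T.left.affineCover.X i))) _
  exact prop_pullback_snd_of_charts P k (hk.isPullback ((AlgSp.yon S).map ιi ≫ t)) (hk.isPullback t)
    ιi (𝟙 Ti) (by simp) hP

/-- Converse of `repWith_comp_of_locP`: if `a ≫ f` is representable locally of finite type for every etale
chart `a`, then `f` is locally of finite type etale locally on source and target. -/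
theorem locP_lft_of_repWith_comp {F G : AlgSp.Sp S} {f : F ⟶ G}
    (H : ∀ ⦃U : Over S⦄ (a : (AlgSp.yon S).obj U ⟶ F), AlgSp.RepWith @Etale a →
      AlgSp.RepWith @LocallyOfFiniteType (a ≫ f)) : AlgSp.LocP @LocallyOfFiniteType f := by
  intro U V a b h ha hb w
  have hk := H a ha
  rw [w] at hk
  exact prop_of_repWith_yon_map_comp @LocallyOfFiniteType
    (fun A B i (hi : IsImmersion i) => (inferInstance : LocallyOfFiniteType i)) h b hk

/-- `LocP lft` can be checked after base change to affine schemes over the target. -/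
theorem locP_lft_of_affine {X Y : AlgSp.Sp S} (hY : AlgSp.IsAlgSpace Y) {f : X ⟶ Y}
    (H : ∀ (Z : Over S), IsAffine Z.left → ∀ (g : (AlgSp.yon S).obj Z ⟶ Y) (P : AlgSp.Sp S)
      (fst : P ⟶ X) (snd : P ⟶ (AlgSp.yon S).obj Z), IsPullback fst snd f g →
      AlgSp.LocP @LocallyOfFiniteType snd) : AlgSp.LocP @LocallyOfFiniteType f := by
  refine locP_lft_of_repWith_comp fun U a ha => ?_
  have hk : AlgSp.Representable (a ≫ f) := hY.representable_from_yon _
  refine repWith_of_affine @LocallyOfFiniteType hk fun T hT t => ?_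
  have sqP := IsPullback.of_hasPullback f t
  have hloc := H T hT t _ _ _ sqP
  have sqk := hk.isPullback' t
  let aP := sqP.lift ((AlgSp.yon S).map (hk.fst' t) ≫ a) ((AlgSp.yon S).map (hk.snd t))
    (by rw [Category.assoc]; exact sqk.w)
  have haP1 : aP ≫ pullback.fst f t = (AlgSp.yon S).map (hk.fst' t) ≫ a := sqP.lift_fst _ _ _
  have haP2 : aP ≫ pullback.snd f t = (AlgSp.yon S).map (hk.snd t) := sqP.lift_snd _ _ _
  have big : IsPullback ((AlgSp.yon S).map (hk.fst' t)) (aP ≫ pullback.snd f t) (a ≫ f) t := by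
    rw [haP2]; exact sqk
  have left : IsPullback ((AlgSp.yon S).map (hk.fst' t)) aP a (pullback.fst f t) :=
    IsPullback.of_bot big haP1.symm sqP
  have haPe : AlgSp.RepWith @Etale aP := (AlgSp.RepWith @Etale).of_isPullback left ha
  have h1 : AlgSp.RepWith @LocallyOfFiniteType (aP ≫ pullback.snd f t) :=
    repWith_comp_of_locP @LocallyOfFiniteType (AlgSp.IsAlgSpace.yon_obj T) hloc aP haPe
  rw [haP2] at h1
  exact (AlgSp.repWith_yon_map_iff _ _).1 h1

end Groth.Agent.Lib.H15.AS
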