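import Mathlib
import Groth.Prelude.Def_AlgSp
import Groth.Prelude.Def_AlgSp2
import Groth.Prelude.Def_AlgSp3
import Groth.Prelude.Def_AlgSp4

set_option autoImplicit false
universe u
open CategoryTheory CategoryTheory.Limits AlgebraicGeometry Opposite Topology

namespace Groth.Agent.Lib.H15.AS

variable {S : Scheme.{u}}

/-- Affine morphisms are stable under base change. -/
theorem isAffineMor_of_isPullback {X Y X' Y' : AlgSp.Sp S} {f : X ⟶ Y} {k : Y' ⟶ Y}
    {k' : X' ⟶ X} {f' : X' ⟶ Y'} (sq : IsPullback k' f' f k) (hf : AlgSp.IsAffineMor f) :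
    AlgSp.IsAffineMor f' := by
  intro Z hZ g
  obtain ⟨W, i, fstW, sqW, hW⟩ := hf hZ (g ≫ k)
  let l := sq.lift fstW ((AlgSp.yon S).map i ≫ g) (by rw [sqW.w, Category.assoc])
  have hl1 : l ≫ k' = fstW := sq.lift_fst _ _ _
  have hl2 : l ≫ f' = (AlgSp.yon S).map i ≫ g := sq.lift_snd _ _ _
  have big : IsPullback (l ≫ k') ((AlgSp.yon S).map i) f (g ≫ k) := by rw [hl1]; exact sqW
  exact ⟨W, i, l, IsPullback.of_right big hl2 sq, hW⟩

/-- Affine morphisms are stable under composition. -/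
theorem isAffineMor_comp {X Y Z : AlgSp.Sp S} {f : X ⟶ Y} {g : Y ⟶ Z} (hf : AlgSp.IsAffineMor f)
    (hg : AlgSp.IsAffineMor g) : AlgSp.IsAffineMor (f ≫ g) := by
  intro T hT z
  obtain ⟨W1, i1, fst1, sq1, hW1⟩ := hg hT z
  obtain ⟨W2, i2, fst2, sq2, hW2⟩ := hf hW1 fst1
  refine ⟨W2, i2 ≫ i1, fst2, ?_, hW2⟩
  rw [Functor.map_comp]
  exact sq2.paste_vert sq1

/-- A morphism representable by affine morphisms (e.g. closed immersions) is affine. -/
theorem isAffineMor_of_repWith_isAffineHom {X Y : AlgSp.Sp S} {f : X ⟶ Y}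
    (hf : AlgSp.RepWith @IsAffineHom f) : AlgSp.IsAffineMor f := by
  intro Z hZ g
  have hrep := hf.rep
  have : IsAffineHom (hrep.snd g).left := hf.property_snd g
  have : IsAffine Z.left := hZ
  exact ⟨hrep.pullback g, hrep.snd g, hrep.fst g, hrep.isPullback g,
    isAffine_of_isAffineHom (hrep.snd g).left⟩

/-- Affineness is invariant under isomorphism of the source. -/
theorem isAffineMor_iso_comp {X X' Y : AlgSp.Sp S} (e : X' ≅ X) {f : X ⟶ Y}
    (hf : AlgSp.IsAffineMor f) : AlgSp.IsAffineMor (e.hom ≫ f) := by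
  intro Z hZ g
  obtain ⟨W, i, fstW, sqW, hW⟩ := hf hZ g
  refine ⟨W, i, fstW ≫ e.inv, ?_, hW⟩
  have s1 : IsPullback (fstW ≫ e.inv) (𝟙 _) e.hom fstW :=
    IsPullback.of_vert_isIso ⟨by simp⟩
  have := s1.paste_vert sqW
  rwa [Category.id_comp] at this

end Groth.Agent.Lib.H15.AS
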