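import Mathlib

set_option autoImplicit false
universe u
open CategoryTheory CategoryTheory.Limits AlgebraicGeometry TensorProduct

namespace Groth.Agent.Lib.H15

/-- If `A → B → C` with `C` flat over `A` and faithfully flat over `B`, then `B` is flat over `A`. -/
theorem flat_of_flat_of_faithfullyFlat (A B C : Type u) [CommRing A] [CommRing B] [CommRing C]
    [Algebra A B] [Algebra B C] [Algebra A C] [IsScalarTower A B C] [Module.Flat A C]
    [Module.FaithfullyFlat B C] : Module.Flat A B := by
  rw [Module.Flat.iff_lTensor_preserves_injective_linearMap]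
  intro N N' _ _ _ _ L hL
  have h1 : Function.Injective (L.lTensor C) :=
    Module.Flat.lTensor_preserves_injective_linearMap L hL
  let LB : B ⊗[A] N →ₗ[B] B ⊗[A] N' := TensorProduct.AlgebraTensorModule.lTensor B B L
  have key : ∀ x : C ⊗[B] (B ⊗[A] N),
      TensorProduct.AlgebraTensorModule.cancelBaseChange A B C C N' (LB.lTensor C x) =
        L.lTensor C (TensorProduct.AlgebraTensorModule.cancelBaseChange A B C C N x) := by
    intro x
    have := congrArg (fun φ => φ x)
      (TensorProduct.AlgebraTensorModule.lTensor_comp_cancelBaseChange (R := A) (A := B) (B := C)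
        (M := C) L)
    exact this.symm
  have h2 : Function.Injective (LB.lTensor C) := by
    intro x y hxy
    have := congrArg (TensorProduct.AlgebraTensorModule.cancelBaseChange A B C C N') hxy
    rw [key, key] at this
    exact (TensorProduct.AlgebraTensorModule.cancelBaseChange A B C C N).injective (h1 this)
  have h3 : Function.Injective LB :=
    (Module.FaithfullyFlat.lTensor_injective_iff_injective B C LB).1 h2
  exact h3

end Groth.Agent.Lib.H15

namespace Groth.Agent.Lib.H15

/-- Flatness is local on the source for flat surjective covers: if `g` is flat and surjective and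
`g ≫ h` is flat then `h` is flat. -/
theorem flat_of_flat_surjective_comp {U' U V : Scheme.{u}} (g : U' ⟶ U) (h : U ⟶ V) [Flat g]
    [Surjective g] [Flat (g ≫ h)] : Flat h := by
  rw [Flat.iff_flat_stalkMap]
  intro u
  obtain ⟨u', rfl⟩ := g.surjective u
  have hc : (g ≫ h).stalkMap u' = h.stalkMap (g u') ≫ g.stalkMap u' :=
    Scheme.Hom.stalkMap_comp g h u'
  have h1 : ((g ≫ h).stalkMap u').hom.Flat := Flat.stalkMap _ u'
  have h2 : (g.stalkMap u').hom.Flat := Flat.stalkMap g u'
  rw [hc] at h1
  let φ := (h.stalkMap (g u')).hom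
  let ψ := (g.stalkMap u').hom
  have h1' : (ψ.comp φ).Flat := h1
  letI := φ.toAlgebra
  letI := ψ.toAlgebra
  letI := (ψ.comp φ).toAlgebra
  haveI : IsScalarTower (V.presheaf.stalk (h (g u'))) (U.presheaf.stalk (g u'))
      (U'.presheaf.stalk u') := IsScalarTower.of_algebraMap_eq' rfl
  haveI : Module.Flat (V.presheaf.stalk (h (g u'))) (U'.presheaf.stalk u') := h1'
  haveI : Module.Flat (U.presheaf.stalk (g u')) (U'.presheaf.stalk u') := h2
  haveI : IsLocalHom (algebraMap (U.presheaf.stalk (g u')) (U'.presheaf.stalk u')) :=
    (inferInstance : IsLocalHom (g.stalkMap u').hom)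
  haveI : Module.FaithfullyFlat (U.presheaf.stalk (g u')) (U'.presheaf.stalk u') :=
    Module.FaithfullyFlat.of_flat_of_isLocalHom
  exact flat_of_flat_of_faithfullyFlat (V.presheaf.stalk (h (g u'))) (U.presheaf.stalk (g u'))
    (U'.presheaf.stalk u')

end Groth.Agent.Lib.H15

namespace Groth.Agent.Lib.H15

/-- Flatness of ring maps codescends along faithfully flat ring maps. -/
theorem flat_codescendsAlong_faithfullyFlat :
    RingHom.CodescendsAlong RingHom.Flat RingHom.FaithfullyFlat := by
  intro R S R' S' _ _ _ _ _ _ _ _ _ _ _ hpo hQ hP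
  have hpo' : Algebra.IsPushout R R' S S' := hpo.symm
  have h1 : (algebraMap S S').FaithfullyFlat :=
    RingHom.FaithfullyFlat.isStableUnderBaseChange R R' S S' hQ
  have : Module.Flat R R' := RingHom.flat_algebraMap_iff.1 hQ.flat
  have : Module.Flat R' S' := RingHom.flat_algebraMap_iff.1 hP
  have : Module.Flat R S' := Module.Flat.trans R R' S'
  have : Module.FaithfullyFlat S S' := RingHom.faithfullyFlat_algebraMap_iff.1 h1
  rw [RingHom.flat_algebraMap_iff]
  exact flat_of_flat_of_faithfullyFlat R S S'

instance flat_descendsAlong_fpqc : MorphismProperty.DescendsAlong (@Flat : MorphismProperty Scheme.{u})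
    (@Surjective ⊓ @Flat ⊓ @QuasiCompact) :=
  HasRingHomProperty.descendsAlong_flat flat_codescendsAlong_faithfullyFlat

instance flat_descendsAlong_fppf : MorphismProperty.DescendsAlong (@Flat : MorphismProperty Scheme.{u})
    (@Surjective ⊓ @Flat ⊓ @LocallyOfFinitePresentation) := inferInstance

end Groth.Agent.Lib.H15
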