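import Mathlib
import Groth.Prelude.Def_AlgSp
import Groth.Prelude.Def_AlgSp2
import Groth.Prelude.Def_AlgSp3
import Groth.Prelude.Def_AlgSp4
import Groth.Agent.Lib.helper15.AlgSpLocP5
import Groth.Agent.Lib.helper15.AlgSpLocP
import Groth.Agent.Lib.helper15.FlatSrc

set_option autoImplicit false
universe u
open CategoryTheory CategoryTheory.Limits AlgebraicGeometry Opposite Topology

namespace Groth.Agent.Lib.H15.AS

variable {S : Scheme.{u}}

/-- Hypotheses on a property `P` of morphisms of schemes making `LocP P` well behaved: stable under base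
change and composition, contains etale morphisms, etale local on the source, and descends along fppf
covers of the target. -/
structure GoodP (P : MorphismProperty Scheme.{u}) : Prop where
  bc : P.IsStableUnderBaseChange
  mul : P.IsMultiplicative
  etale_le : ∀ ⦃A B : Scheme.{u}⦄ (f : A ⟶ B), Etale f → P f
  src : ∀ ⦃W U V : Scheme.{u}⦄ (w : W ⟶ U) (h : U ⟶ V), Etale w → Surjective w → P (w ≫ h) → P h
  desc : P.DescendsAlong (@Surjective ⊓ @Flat ⊓ @LocallyOfFinitePresentation)

theorem goodP_flat : GoodP (@Flat : MorphismProperty Scheme.{u}) where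
  bc := inferInstance
  mul := inferInstance
  etale_le _ _ f hf := by
    have : Etale f := hf
    infer_instance
  src W U V w h hwe hws hP := by
    have : Etale w := hwe
    have : Surjective w := hws
    have : Flat (w ≫ h) := hP
    exact Groth.Agent.Lib.H15.flat_of_flat_surjective_comp w h
  desc := inferInstance

/-- Cancellation: if `b` is representable etale and `h_h ≫ b` is representable with `P` then `h` has `P`. -/
theorem prop_of_repWith_yon_map_comp_etale {P : MorphismProperty Scheme.{u}} (hP : GoodP P)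
    {U V : Over S} {Z : AlgSp.Sp S} (h : U ⟶ V) (b : (AlgSp.yon S).obj V ⟶ Z)
    (hb : AlgSp.RepWith @Etale b) (hk : AlgSp.RepWith P ((AlgSp.yon S).map h ≫ b)) : P h.left := by
  have := hP.mul
  have hrep : AlgSp.Representable ((AlgSp.yon S).map h ≫ b) := hk.rep
  have hPs : P (hrep.snd b).left := hk.property_snd b
  have sq := hrep.isPullback' b
  have h1 : Etale (hrep.fst' b).left :=
    ((AlgSp.repWith_iff _ _).1 hb).2 _ ((AlgSp.yon S).map (hrep.snd b)) (hrep.fst' b) sq.flip
  have hw : (AlgSp.yon S).map (𝟙 U) ≫ (AlgSp.yon S).map h ≫ b = (AlgSp.yon S).map h ≫ b := by simp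
  have hs1 : hrep.lift' (𝟙 U) h hw ≫ hrep.fst' b = 𝟙 U := hrep.lift'_fst _ _ _
  have hs2 : hrep.lift' (𝟙 U) h hw ≫ hrep.snd b = h := hrep.lift'_snd _ _ _
  have hs1' : (hrep.lift' (𝟙 U) h hw).left ≫ (hrep.fst' b).left = 𝟙 U.left := by
    rw [← Over.comp_left, hs1]; rfl
  have h3 : Etale (hrep.lift' (𝟙 U) h hw).left := etale_of_section _ _ hs1'
  have : h.left = (hrep.lift' (𝟙 U) h hw).left ≫ (hrep.snd b).left := by
    rw [← Over.comp_left, hs2]
  rw [this]
  exact P.comp_mem _ _ (hP.etale_le _ h3) hPs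

/-- One chart diagram with surjective etale source chart and top arrow in `P` suffices. -/
theorem locP_of_chart_gen {P : MorphismProperty Scheme.{u}} (hP : GoodP P)
    {F G : AlgSp.Sp S} {f : F ⟶ G} {U V : Over S}
    (a : (AlgSp.yon S).obj U ⟶ F) (b : (AlgSp.yon S).obj V ⟶ G) (h : U ⟶ V)
    (ha : AlgSp.RepWith @Etale a) (has : AlgSp.RepWith @Surjective a) (hb : AlgSp.RepWith @Etale b)
    (w : a ≫ f = (AlgSp.yon S).map h ≫ b) (hh : P h.left) :
    AlgSp.LocP P f := by
  have := hP.mul
  have := hP.bc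
  intro U' V' a' b' h' ha' hb' w'
  have hk : AlgSp.RepWith P (a ≫ f) := by
    rw [w]
    exact MorphismProperty.comp_mem _ _ _ ((AlgSp.repWith_yon_map_iff _ h).2 hh)
      (repWith_mono (fun _ _ g (hg : Etale g) => hP.etale_le g hg) hb)
  have hrep : AlgSp.Representable a := ha.rep
  have sq := hrep.isPullback' a'
  have he1e : Etale (hrep.snd a').left := ha.property_snd a'
  have he1s : Surjective (hrep.snd a').left := has.property_snd a'
  have he2 : Etale (hrep.fst' a').left :=
    ((AlgSp.repWith_iff _ _).1 ha').2 a ((AlgSp.yon S).map (hrep.snd a')) (hrep.fst' a') sq.flip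
  have hk2 : AlgSp.RepWith P ((AlgSp.yon S).map (hrep.fst' a') ≫ a ≫ f) :=
    MorphismProperty.comp_mem _ _ _
      ((AlgSp.repWith_yon_map_iff _ _).2 (hP.etale_le _ he2)) hk
  have e : (AlgSp.yon S).map (hrep.fst' a') ≫ a ≫ f =
      (AlgSp.yon S).map (hrep.snd a' ≫ h') ≫ b' := by
    rw [← Category.assoc, sq.w, Category.assoc, w', Functor.map_comp, Category.assoc]
  rw [e] at hk2
  have h3 : P (hrep.snd a' ≫ h').left := prop_of_repWith_yon_map_comp_etale hP _ b' hb' hk2
  exact hP.src (hrep.snd a').left h'.left he1e he1s (by rw [← Over.comp_left]; exact h3)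

/-- `LocP P` is stable under base change, for good `P`. -/
theorem locP_of_isPullback_gen {P : MorphismProperty Scheme.{u}} (hP : GoodP P)
    {X Y Y' X' : AlgSp.Sp S} (hX : AlgSp.IsAlgSpace X)
    (hY : AlgSp.IsAlgSpace Y) (hY' : AlgSp.IsAlgSpace Y') {f : X ⟶ Y} {g : Y' ⟶ Y} {fst : X' ⟶ X}
    {f' : X' ⟶ Y'} (sq : IsPullback fst f' f g) (hf : AlgSp.LocP P f) :
    AlgSp.LocP P f' := by
  have := hP.mul
  have := hP.bc
  have := hP.desc
  obtain ⟨U, a, hae, has⟩ := hX.atlas
  obtain ⟨V', b', hbe, hbs⟩ := hY'.atlas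
  obtain ⟨W, p, w1, w2, hp1, hp2, hpQ, hw2⟩ := exists_chart_of_isPullback' hY.diag sq a b'
  have hk : AlgSp.RepWith P (a ≫ f) := repWith_comp_of_locP P hY hf a hae
  exact locP_of_chart_gen hP p b' w2 (hpQ @Etale hae hbe) (hpQ @Surjective has hbs) hbe hp2
    (hw2 _ hk)

end Groth.Agent.Lib.H15.AS
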