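import Mathlib

set_option autoImplicit false
universe u
open CategoryTheory CategoryTheory.Limits AlgebraicGeometry Opposite TopologicalSpace MorphismProperty

namespace Groth.Agent.Lib.H15

/-- A morphism locally of finite type and formally unramified is locally quasi-finite. -/
theorem locallyQuasiFinite_of_formallyUnramified {X Y : Scheme.{u}} (f : X ⟶ Y)
    [LocallyOfFiniteType f] [FormallyUnramified f] : LocallyQuasiFinite f := by
  refine ⟨fun {U} hU {V} hV e => ?_⟩
  have h1 : (f.appLE U V e).hom.FiniteType := f.finiteType_appLE hU hV e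
  have h2 : (f.appLE U V e).hom.FormallyUnramified := f.formallyUnramified_appLE hU hV e
  algebraize [(f.appLE U V e).hom]
  have : Algebra.FiniteType Γ(Y, U) Γ(X, V) := h1
  have : Algebra.FormallyUnramified Γ(Y, U) Γ(X, V) := h2
  exact (inferInstance : Algebra.QuasiFinite Γ(Y, U) Γ(X, V))

end Groth.Agent.Lib.H15
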