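import Mathlib
import Groth.Prelude.Def_AlgSp
import Groth.Prelude.Def_AlgSp2
import Groth.Prelude.Def_AlgSp3
import Groth.Prelude.Def_AlgSp4
import Groth.Agent.Lib.helper15.AlgSpLocPGen
import Groth.Agent.Lib.helper15.UnramLqf

set_option autoImplicit false
universe u
open CategoryTheory CategoryTheory.Limits AlgebraicGeometry Opposite Topology

namespace Groth.Agent.Lib.H15

/-- A flat, formally unramified morphism locally of finite presentation is etale. -/
theorem etale_of_flat_unramified_lfp {X Y : Scheme.{u}} (f : X ⟶ Y) [Flat f] [FormallyUnramified f]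
    [LocallyOfFinitePresentation f] : Etale f :=
  ⟨fun hU _ hV e => RingHom.Etale.iff_flat_and_formallyUnramified.2
    ⟨f.flat_appLE hU hV e, f.formallyUnramified_appLE hU hV e, f.finitePresentation_appLE hU hV e⟩⟩

end Groth.Agent.Lib.H15

namespace Groth.Agent.Lib.H15.AS

variable {S : Scheme.{u}}

/-- An etale morphism (in the sense of the reference) has etale chart maps. -/
theorem locP_etale_of_isEtaleMor {F G : AlgSp.Sp S} {f : F ⟶ G} (hf : AlgSp.IsEtaleMor f) :
    AlgSp.LocP @Etale f := by
  intro U V a b h ha hb comm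
  have h1 : AlgSp.RepWith @Etale ((AlgSp.yon S).map h ≫ b) := by rw [← comm]; exact hf a ha
  exact etale_of_comp_repWith h b hb h1

/-- `LocP` is monotone in the property. -/
theorem locP_mono {P Q : MorphismProperty Scheme.{u}} (hPQ : P ≤ Q) {F G : AlgSp.Sp S} {f : F ⟶ G}
    (h : AlgSp.LocP P f) : AlgSp.LocP Q f :=
  fun _ _ a b k ha hb comm => hPQ _ (h a b k ha hb comm)

/-- A morphism of algebraic spaces that is locally of finite presentation, flat and unramified is
etale. -/
theorem isEtaleMor_of_lfp_flat_unramified {X Y : AlgSp.Sp S} (hY : AlgSp.IsAlgSpace Y) {f : X ⟶ Y}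
    (h1 : AlgSp.LocP @LocallyOfFinitePresentation f) (h2 : AlgSp.LocP @Flat f)
    (h3 : AlgSp.LocP (@LocallyOfFiniteType ⊓ @FormallyUnramified) f) : AlgSp.IsEtaleMor f := by
  intro U a ha
  have h3' : AlgSp.LocP @FormallyUnramified f := locP_mono (fun _ _ _ h => h.2) h3
  have k1 : AlgSp.RepWith @LocallyOfFinitePresentation (a ≫ f) :=
    repWith_comp_of_locP @LocallyOfFinitePresentation hY h1 a ha
  have k2 : AlgSp.RepWith @Flat (a ≫ f) := repWith_comp_of_locP @Flat hY h2 a ha
  have k3 : AlgSp.RepWith @FormallyUnramified (a ≫ f) :=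
    repWith_comp_of_locP @FormallyUnramified hY h3' a ha
  rw [AlgSp.repWith_iff] at k1 k2 k3 ⊢
  refine ⟨k1.1, fun T W g fst snd sq => ?_⟩
  have : LocallyOfFinitePresentation snd.left := k1.2 g fst snd sq
  have : Flat snd.left := k2.2 g fst snd sq
  have : FormallyUnramified snd.left := k3.2 g fst snd sq
  exact Groth.Agent.Lib.H15.etale_of_flat_unramified_lfp snd.left

end Groth.Agent.Lib.H15.AS
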