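import Groth.Agent.Lib.helper15.LftSrc
import Groth.Agent.Lib.helper15.FlatSrc

set_option autoImplicit false
universe u
open CategoryTheory CategoryTheory.Limits AlgebraicGeometry TensorProduct Opposite TopologicalSpace MorphismProperty

namespace Groth.Agent.Lib.H15

/-- Key flatness step: if `x • 1` lies in the ideal of the flat algebra `Ct` generated by the images of
`gens i`, then the colon ideal `(gens : x)` generates the unit ideal of `Ct`: there are elements `r l`
of `P` with `x * r l ∈ span (range gens)` and `∑ r l • y l = 1`. -/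
theorem exists_colon_of_flat {P Ct : Type u} [CommRing P] [CommRing Ct] [Algebra P Ct]
    [Module.Flat P Ct] {ι : Type*} [Fintype ι] (gens : ι → P) (x : P)
    (hx : algebraMap P Ct x ∈ Ideal.span (Set.range fun i => algebraMap P Ct (gens i))) :
    ∃ (k : ℕ) (r : Fin k → P) (y : Fin k → Ct),
      (∀ l, x * r l ∈ Ideal.span (Set.range gens)) ∧ ∑ l, r l • y l = 1 := by
  obtain ⟨c, hc⟩ := (Submodule.mem_span_range_iff_exists_fun Ct).1 hx
  -- the relation `x • 1 - ∑ gens i • c i = 0`
  let f : Option ι → P := fun o => o.elim x (fun i => - gens i)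
  let m : Option ι → Ct := fun o => o.elim 1 c
  have hrel : ∑ o, f o • m o = 0 := by
    rw [Fintype.sum_option]
    simp only [f, m, Option.elim_none, Option.elim_some]
    have h0 : ∑ i, (- gens i) • c i = - algebraMap P Ct x := by
      rw [← hc, ← Finset.sum_neg_distrib]
      refine Finset.sum_congr rfl fun i _ => ?_
      rw [neg_smul, Algebra.smul_def, smul_eq_mul, mul_comm]
    rw [h0, Algebra.smul_def, mul_one, add_neg_cancel]
  obtain ⟨k, a, y, h1, h2⟩ :=
    Module.Flat.isTrivialRelation_of_sum_smul_eq_zero (R := P) (M := Ct) (f := f) (x := m) hrel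
  refine ⟨k, fun l => a none l, y, fun l => ?_, ?_⟩
  · have := h2 l
    rw [Fintype.sum_option] at this
    simp only [f, Option.elim_none, Option.elim_some] at this
    have e : x * a none l = ∑ i, gens i * a (some i) l := by
      rw [← sub_eq_zero, ← this]
      simp only [neg_mul, Finset.sum_neg_distrib]
      ring
    rw [e]
    refine Ideal.sum_mem _ fun i _ => ?_
    exact Ideal.mul_mem_right _ _ (Ideal.subset_span ⟨i, rfl⟩)
  · have := h1 none
    simp only [m, Option.elim_none] at this
    exact this.symm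

/-- If `Ct` is a flat, finitely presented `P`-algebra whose image in `Spec P` contains `V(I)` and such
that `I Ct` is finitely generated, then `I` is finitely generated. -/
theorem ideal_fg_of_flat_cover {P Ct : Type u} [CommRing P] [CommRing Ct] [Algebra P Ct]
    [Module.Flat P Ct] [Algebra.FinitePresentation P Ct] (I : Ideal P)
    (hK : (I.map (algebraMap P Ct)).FG)
    (hD : PrimeSpectrum.zeroLocus (I : Set P) ⊆
      Set.range (PrimeSpectrum.comap (algebraMap P Ct))) : I.FG := by
  classical
  have hK' : (Submodule.span Ct (algebraMap P Ct '' (I : Set P))).FG := hK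
  obtain ⟨t, htI, hspan⟩ := (Submodule.fg_span_iff_fg_span_finset_subset _).1 hK'
  have hex : ∀ c : ↥t, ∃ p : P, p ∈ I ∧ algebraMap P Ct p = c.1 := fun c => htI c.2
  choose gens hgensI hgens using hex
  let I₀ : Ideal P := Ideal.span (Set.range gens)
  have hI₀ : I₀ ≤ I := Ideal.span_le.2 (by rintro _ ⟨c, rfl⟩; exact hgensI c)
  have hmapI₀ : ∀ x ∈ I, algebraMap P Ct x ∈
      Ideal.span (Set.range fun i => algebraMap P Ct (gens i)) := by
    intro x hx
    have h1 : algebraMap P Ct x ∈ I.map (algebraMap P Ct) := Ideal.mem_map_of_mem _ hx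
    have h2 : (Set.range fun i : ↥t => algebraMap P Ct (gens i)) = ↑t := by
      ext c
      constructor
      · rintro ⟨i, rfl⟩
        change algebraMap P Ct (gens i) ∈ (↑t : Set Ct)
        rw [hgens]
        exact i.2
      · intro hc
        exact ⟨⟨c, hc⟩, hgens _⟩
    rw [h2]
    change _ ∈ Submodule.span Ct (↑t : Set Ct)
    rw [← hspan]
    exact h1
  have hopen : IsOpen (Set.range (PrimeSpectrum.comap (algebraMap P Ct))) := by
    rw [← Set.image_univ]
    exact PrimeSpectrum.isOpenMap_comap_of_hasGoingDown_of_finitePresentation _ isOpen_univ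
  let J := PrimeSpectrum.vanishingIdeal (Set.range (PrimeSpectrum.comap (algebraMap P Ct)))ᶜ
  have hJ : PrimeSpectrum.zeroLocus (J : Set P) =
      (Set.range (PrimeSpectrum.comap (algebraMap P Ct)))ᶜ := by
    rw [PrimeSpectrum.zeroLocus_vanishingIdeal_eq_closure]
    exact hopen.isClosed_compl.closure_eq
  have hIJ : I ⊔ J = ⊤ := by
    rw [← PrimeSpectrum.zeroLocus_empty_iff_eq_top, PrimeSpectrum.zeroLocus_sup, hJ]
    ext p
    simp only [Set.mem_inter_iff, Set.mem_compl_iff, Set.mem_empty_iff_false, iff_false, not_and,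
      not_not]
    exact fun hp => hD hp
  obtain ⟨a, ha, b, hb, hab⟩ := Submodule.mem_sup.1 ((Ideal.eq_top_iff_one _).1 hIJ)
  have hpow : ∀ x ∈ I, ∃ k : ℕ, b ^ k * x ∈ I₀ := by
    intro x hx
    obtain ⟨k, r, y, hr, hsum⟩ := exists_colon_of_flat gens x (hmapI₀ x hx)
    have h1 : PrimeSpectrum.zeroLocus ((Ideal.span (Set.range r) : Ideal P) : Set P) ⊆
        PrimeSpectrum.zeroLocus (J : Set P) := by
      rw [hJ]
      rintro p hp ⟨q, rfl⟩
      apply q.isPrime.ne_top
      rw [Ideal.eq_top_iff_one, ← hsum]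
      refine Ideal.sum_mem _ fun l _ => ?_
      rw [Algebra.smul_def]
      apply Ideal.mul_mem_right
      exact hp (Ideal.subset_span ⟨l, rfl⟩)
    have h2 : J ≤ (Ideal.span (Set.range r)).radical :=
      (PrimeSpectrum.zeroLocus_subset_zeroLocus_iff _ _).1 h1
    obtain ⟨n, hn⟩ := h2 hb
    refine ⟨n, ?_⟩
    have h3 : ∀ z ∈ Ideal.span (Set.range r), z * x ∈ I₀ := by
      intro z hz
      induction hz using Submodule.span_induction with
      | mem z hz =>
        obtain ⟨l, rfl⟩ := hz
        rw [mul_comm]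
        exact hr l
      | zero => rw [zero_mul]; exact I₀.zero_mem
      | add u v _ _ hu hv => rw [add_mul]; exact I₀.add_mem hu hv
      | smul c u _ hu => rw [smul_eq_mul, mul_assoc]; exact I₀.mul_mem_left c hu
    exact h3 _ hn
  have hfin : I = I₀ ⊔ Ideal.span {a} := by
    apply le_antisymm
    · intro x hx
      obtain ⟨k, hk⟩ := hpow x hx
      obtain ⟨c, hc⟩ : a ∣ 1 - b ^ k := by
        have h := sub_dvd_pow_sub_pow (1 : P) b k
        rw [one_pow] at h
        have hab' : 1 - b = a := by rw [← hab]; ring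
        rwa [hab'] at h
      have hx' : x = b ^ k * x + a * (c * x) := by
        have h4 : (1 - b ^ k) * x = a * c * x := by rw [hc]
        linear_combination h4
      rw [hx']
      exact Submodule.add_mem_sup hk (Ideal.mem_span_singleton'.2 ⟨c * x, by ring⟩)
    · exact sup_le hI₀ ((Ideal.span_singleton_le_iff_mem _).2 ha)
  rw [hfin]
  refine Submodule.FG.sup ⟨Finset.univ.image gens, ?_⟩ (Submodule.fg_span_singleton a)
  simp [I₀, Ideal.span]

end Groth.Agent.Lib.H15

namespace Groth.Agent.Lib.H15

open Polynomial in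
/-- A standard etale algebra over a quotient `B` of `P` lifts to a standard etale algebra over `P`. -/
theorem exists_lift_standardEtale {P B C : Type u} [CommRing P] [CommRing B] [CommRing C]
    [Algebra P B] [Algebra B C] [Algebra P C] [IsScalarTower P B C]
    (hπ : Function.Surjective (algebraMap P B)) [Algebra.IsStandardEtale B C] :
    ∃ (Pp : StandardEtalePair P) (ρ : Pp.Ring →ₐ[P] C), Function.Surjective ρ ∧
      RingHom.ker ρ.toRingHom = (RingHom.ker (algebraMap P B)).map (algebraMap P Pp.Ring) := by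
  classical
  obtain ⟨Ss⟩ := Algebra.IsStandardEtale.nonempty_standardEtalePresentation (R := B) (S := C)
  obtain ⟨p₁, p₂, m, hcond⟩ := Ss.cond
  obtain ⟨ft, hft, -, hftm⟩ := lifts_and_natDegree_eq_and_monic
    (mem_lifts_of_surjective hπ Ss.f) Ss.monic_f
  obtain ⟨g₀, hg₀⟩ := map_surjective (algebraMap P B) hπ Ss.g
  obtain ⟨q₁, hq₁⟩ := map_surjective (algebraMap P B) hπ p₁
  obtain ⟨q₂, hq₂⟩ := map_surjective (algebraMap P B) hπ p₂
  have hG : ((derivative ft * q₁ + ft * q₂) * g₀).map (algebraMap P B) = Ss.g ^ (m + 1) := by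
    rw [Polynomial.map_mul, Polynomial.map_add, Polynomial.map_mul, Polynomial.map_mul,
      ← derivative_map, hft, hq₁, hq₂, hg₀, hcond, pow_succ]
  let Pp : StandardEtalePair P :=
    ⟨ft, hftm, (derivative ft * q₁ + ft * q₂) * g₀, ⟨q₁ * g₀, q₂ * g₀, 1, by ring⟩⟩
  have hmap : Pp.HasMap Ss.x := by
    constructor
    · have h1 := Ss.hasMap.1
      rw [← hft, aeval_map_algebraMap] at h1
      exact h1
    · have h2 := Ss.hasMap.2
      have h3 : aeval Ss.x Pp.g = (aeval Ss.x Ss.g) ^ (m + 1) := by
        rw [← aeval_map_algebraMap B, hG, map_pow]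
      rw [h3]
      exact h2.pow _
  let ρ : Pp.Ring →ₐ[P] C := Pp.lift Ss.x hmap
  -- the quotient
  let K : Ideal Pp.Ring := (RingHom.ker (algebraMap P B)).map (algebraMap P Pp.Ring)
  let βQ : B →+* Pp.Ring ⧸ K := RingHom.liftOfSurjective (algebraMap P B) hπ
    ⟨(Ideal.Quotient.mk K).comp (algebraMap P Pp.Ring), fun p hp => by
      rw [RingHom.mem_ker, RingHom.comp_apply, Ideal.Quotient.eq_zero_iff_mem]
      exact Ideal.mem_map_of_mem _ hp⟩
  have hβQ : ∀ p : P, βQ (algebraMap P B p) = Ideal.Quotient.mk K (algebraMap P Pp.Ring p) :=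
    fun p => RingHom.liftOfSurjective_comp_apply _ hπ _ p
  letI : Algebra B (Pp.Ring ⧸ K) := βQ.toAlgebra
  haveI : IsScalarTower P B (Pp.Ring ⧸ K) := IsScalarTower.of_algebraMap_eq fun p => (hβQ p).symm
  have hmapQ : Ss.HasMap (Ideal.Quotient.mk K Pp.X) := by
    have hX : Pp.HasMap (Ideal.Quotient.mk K Pp.X) :=
      Pp.hasMap_X.map (Ideal.Quotient.mkₐ P K)
    constructor
    · have h1 := hX.1
      change aeval _ ft = 0 at h1
      rw [← hft, aeval_map_algebraMap]
      exact h1
    · have h2 := hX.2
      have h3 : aeval (Ideal.Quotient.mk K Pp.X) Pp.g =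
          (aeval (Ideal.Quotient.mk K Pp.X) Ss.g) ^ (m + 1) := by
        rw [← aeval_map_algebraMap B, hG, map_pow]
      rw [h3] at h2
      exact (isUnit_pow_iff (Nat.succ_ne_zero m)).1 h2
  let σ₀ : Ss.Ring →ₐ[B] Pp.Ring ⧸ K := Ss.P.lift _ hmapQ
  let σ : C →ₐ[B] Pp.Ring ⧸ K := σ₀.comp Ss.equivRing.toAlgHom
  have hσx : σ Ss.x = Ideal.Quotient.mk K Pp.X := by
    change σ₀ (Ss.equivRing Ss.x) = _
    rw [Ss.equivRing_x]
    exact Ss.P.lift_X _ hmapQ
  -- σ ∘ ρ = mk
  have hσρ : (σ.restrictScalars P).comp ρ = Ideal.Quotient.mkₐ P K := by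
    apply Pp.hom_ext
    change σ (ρ Pp.X) = Ideal.Quotient.mk K Pp.X
    rw [show ρ Pp.X = Ss.x from Pp.lift_X _ hmap, hσx]
  have hK : K ≤ RingHom.ker ρ.toRingHom := by
    rw [Ideal.map_le_iff_le_comap]
    intro p hp
    rw [Ideal.mem_comap, RingHom.mem_ker]
    change ρ (algebraMap P Pp.Ring p) = 0
    rw [ρ.commutes, IsScalarTower.algebraMap_apply P B C, (RingHom.mem_ker).1 hp, map_zero]
  refine ⟨Pp, ρ, ?_, le_antisymm ?_ hK⟩
  · -- surjectivity
    let ρbar : Pp.Ring ⧸ K →ₐ[P] C := Ideal.Quotient.liftₐ K ρ (fun a ha => hK ha)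
    let ρbarB : Pp.Ring ⧸ K →ₐ[B] C := AlgHom.extendScalarsOfSurjective hπ ρbar
    have hid : ρbarB.comp σ = AlgHom.id B C := by
      apply Ss.hom_ext
      change ρbar (σ Ss.x) = Ss.x
      rw [hσx]
      change ρ Pp.X = Ss.x
      exact Pp.lift_X _ hmap
    intro c
    obtain ⟨ct, hct⟩ := Ideal.Quotient.mk_surjective (σ c)
    refine ⟨ct, ?_⟩
    have : ρbarB (σ c) = c := congrArg (fun φ => φ c) hid
    rw [← hct] at this
    exact this
  · intro c hc
    have h1 : Ideal.Quotient.mk K c = σ (ρ c) := (congrArg (fun φ => φ c) hσρ).symm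
    have hc' : ρ c = 0 := hc
    rw [hc', map_zero, Ideal.Quotient.eq_zero_iff_mem] at h1
    exact h1

end Groth.Agent.Lib.H15

namespace Groth.Agent.Lib.H15

/-- Descent of finite presentation along a faithfully flat standard etale algebra:
if `B` is of finite type over `A`, `C` is standard etale and faithfully flat over `B`, and `C` is of finite
presentation over `A`, then so is `B`. -/
theorem finitePresentation_of_isStandardEtale_faithfullyFlat (A B C : Type u) [CommRing A] [CommRing B]
    [CommRing C] [Algebra A B] [Algebra B C] [Algebra A C] [IsScalarTower A B C]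
    [Algebra.FiniteType A B] [Algebra.IsStandardEtale B C] [Module.FaithfullyFlat B C]
    [Algebra.FinitePresentation A C] : Algebra.FinitePresentation A B := by
  classical
  obtain ⟨n, π, hπ⟩ := (Algebra.FiniteType.iff_quotient_mvPolynomial'' (R := A) (S := B)).1 inferInstance
  refine Algebra.FinitePresentation.of_surjective hπ ?_
  let P := MvPolynomial (Fin n) A
  letI : Algebra P B := π.toRingHom.toAlgebra
  haveI : IsScalarTower A P B := IsScalarTower.of_algebraMap_eq' (by
    ext a
    change algebraMap A B a = π (algebraMap A P a)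
    rw [π.commutes])
  letI : Algebra P C := ((algebraMap B C).comp π.toRingHom).toAlgebra
  haveI : IsScalarTower P B C := IsScalarTower.of_algebraMap_eq' rfl
  haveI : IsScalarTower A P C := IsScalarTower.of_algebraMap_eq' (by
    ext a
    change algebraMap A C a = algebraMap B C (π (algebraMap A P a))
    rw [π.commutes, ← IsScalarTower.algebraMap_apply])
  have hπ' : Function.Surjective (algebraMap P B) := hπ
  obtain ⟨Pp, ρ, hρs, hker⟩ := exists_lift_standardEtale (P := P) (B := B) (C := C) hπ'
  letI : Algebra A Pp.Ring := ((algebraMap P Pp.Ring).comp (algebraMap A P)).toAlgebra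
  haveI : IsScalarTower A P Pp.Ring := IsScalarTower.of_algebraMap_eq' rfl
  haveI : Algebra.FinitePresentation A Pp.Ring := Algebra.FinitePresentation.trans A P Pp.Ring
  have hfg : (RingHom.ker (ρ.restrictScalars A).toRingHom).FG :=
    Algebra.FinitePresentation.ker_fG_of_surjective (ρ.restrictScalars A) hρs
  have hfg' : ((RingHom.ker (algebraMap P B)).map (algebraMap P Pp.Ring)).FG := by
    rw [← hker]
    exact hfg
  have := ideal_fg_of_flat_cover (P := P) (Ct := Pp.Ring) (RingHom.ker (algebraMap P B)) hfg' ?_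
  · exact this
  · intro 𝔭 h𝔭
    have hle : RingHom.ker (algebraMap P B) ≤ 𝔭.asIdeal := h𝔭
    haveI : (𝔭.asIdeal.map (algebraMap P B)).IsPrime :=
      Ideal.map_isPrime_of_surjective hπ' hle
    let 𝔭B : PrimeSpectrum B := ⟨𝔭.asIdeal.map (algebraMap P B), inferInstance⟩
    obtain ⟨𝔮C, h𝔮C⟩ := PrimeSpectrum.comap_surjective_of_faithfullyFlat (A := B) (B := C) 𝔭B
    refine ⟨PrimeSpectrum.comap ρ.toRingHom 𝔮C, ?_⟩
    ext x
    change ρ (algebraMap P Pp.Ring x) ∈ 𝔮C.asIdeal ↔ x ∈ 𝔭.asIdeal
    rw [ρ.commutes, IsScalarTower.algebraMap_apply P B C]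
    have h1 : algebraMap B C (algebraMap P B x) ∈ 𝔮C.asIdeal ↔ algebraMap P B x ∈ 𝔭B.asIdeal := by
      rw [← h𝔮C]
      rfl
    rw [h1]
    change algebraMap P B x ∈ 𝔭.asIdeal.map (algebraMap P B) ↔ _
    rw [← Ideal.mem_comap, Ideal.comap_map_of_surjective' _ hπ', sup_eq_left.2 hle]

end Groth.Agent.Lib.H15

namespace Groth.Agent.Lib.H15

/-- Local version of descent of finite presentation along a standard etale algebra. -/
theorem exists_finitePresentation_away (A B C : Type u) [CommRing A] [CommRing B] [CommRing C]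
    [Algebra A B] [Algebra B C] [Algebra A C] [IsScalarTower A B C]
    [Algebra.FiniteType A B] [Algebra.IsStandardEtale B C] [Algebra.FinitePresentation A C]
    (𝔮 : PrimeSpectrum B) (h𝔮 : 𝔮 ∈ Set.range (PrimeSpectrum.comap (algebraMap B C))) :
    ∃ b : B, b ∉ 𝔮.asIdeal ∧ Algebra.FinitePresentation A (Localization.Away b) := by
  classical
  have hopen : IsOpen (Set.range (PrimeSpectrum.comap (algebraMap B C))) := by
    rw [← Set.image_univ]
    exact PrimeSpectrum.isOpenMap_comap_of_hasGoingDown_of_finitePresentation _ isOpen_univ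
  obtain ⟨_, ⟨b, rfl⟩, hmem, hsub⟩ :=
    PrimeSpectrum.isTopologicalBasis_basic_opens.exists_subset_of_mem_open h𝔮 hopen
  refine ⟨b, hmem, ?_⟩
  let M : Submonoid B := Submonoid.powers b
  let Bb := Localization M
  let Ccb := Localization (Algebra.algebraMapSubmonoid C M)
  haveI : Algebra.IsStandardEtale Bb Ccb :=
    Algebra.IsStandardEtale.of_equiv (Localization.tensorRightAlgEquiv M C)
  haveI : IsScalarTower A Bb Ccb := IsScalarTower.of_algebraMap_eq fun a => by
    rw [IsScalarTower.algebraMap_apply A C Ccb, IsScalarTower.algebraMap_apply A B C,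
      ← IsScalarTower.algebraMap_apply B C Ccb, IsScalarTower.algebraMap_apply B Bb Ccb,
      ← IsScalarTower.algebraMap_apply A B Bb]
  haveI : IsLocalization.Away (algebraMap B C b) Ccb := by
    change IsLocalization (Submonoid.powers (algebraMap B C b)) Ccb
    rw [← Algebra.algebraMapSubmonoid_powers]
    infer_instance
  haveI : Algebra.FinitePresentation C Ccb :=
    IsLocalization.Away.finitePresentation (algebraMap B C b)
  haveI : Algebra.FinitePresentation A Ccb := Algebra.FinitePresentation.trans A C Ccb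
  haveI : Algebra.FinitePresentation B Bb := IsLocalization.Away.finitePresentation b
  haveI : Algebra.FiniteType A Bb := Algebra.FiniteType.trans (S := B) inferInstance inferInstance
  haveI : Module.FaithfullyFlat Bb Ccb := by
    apply Module.FaithfullyFlat.of_comap_surjective
    intro 𝔭'
    let 𝔭 := PrimeSpectrum.comap (algebraMap B Bb) 𝔭'
    have hb : 𝔭 ∈ (PrimeSpectrum.basicOpen b : Set (PrimeSpectrum B)) := by
      rw [← PrimeSpectrum.localization_away_comap_range Bb b]
      exact ⟨𝔭', rfl⟩
    obtain ⟨𝔰, h𝔰⟩ := hsub hb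
    have hs : 𝔰 ∈ (PrimeSpectrum.basicOpen (algebraMap B C b) : Set (PrimeSpectrum C)) := by
      change algebraMap B C b ∉ 𝔰.asIdeal
      intro hcon
      apply hb
      rw [← h𝔰]
      exact hcon
    rw [← PrimeSpectrum.localization_away_comap_range Ccb (algebraMap B C b)] at hs
    obtain ⟨𝔱, h𝔱⟩ := hs
    refine ⟨𝔱, ?_⟩
    apply PrimeSpectrum.localization_comap_injective Bb M
    rw [← PrimeSpectrum.comap_comp_apply, ← IsScalarTower.algebraMap_eq,
      IsScalarTower.algebraMap_eq B C Ccb, PrimeSpectrum.comap_comp_apply, h𝔱, h𝔰]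
  exact finitePresentation_of_isStandardEtale_faithfullyFlat A Bb Ccb

/-- Descent of finite presentation along an etale algebra which is surjective on spectra. -/
theorem finitePresentation_of_etale_of_surjective (A B C : Type u) [CommRing A] [CommRing B]
    [CommRing C] [Algebra A B] [Algebra B C] [Algebra A C] [IsScalarTower A B C]
    [Algebra.FiniteType A B] [Algebra.Etale B C] [Algebra.FinitePresentation A C]
    (hs : Function.Surjective (PrimeSpectrum.comap (algebraMap B C))) :
    Algebra.FinitePresentation A B := by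
  classical
  let s : Set B := {b | Algebra.FinitePresentation A (Localization.Away b)}
  have hspan : Ideal.span s = ⊤ := by
    by_contra hne
    obtain ⟨𝔪, h𝔪, hle⟩ := Ideal.exists_le_maximal _ hne
    let 𝔮 : PrimeSpectrum B := ⟨𝔪, h𝔪.isPrime⟩
    obtain ⟨𝔯, h𝔯⟩ := hs 𝔮
    obtain ⟨c, hc, hst⟩ := Algebra.IsEtaleAt.exists_isStandardEtale (R := B) (S := C) 𝔯.asIdeal
    let Cc := Localization.Away c
    haveI : Algebra.FinitePresentation C Cc := IsLocalization.Away.finitePresentation c
    haveI : Algebra.FinitePresentation A Cc := Algebra.FinitePresentation.trans A C Cc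
    have hmem : 𝔮 ∈ Set.range (PrimeSpectrum.comap (algebraMap B Cc)) := by
      have h1 : 𝔯 ∈ (PrimeSpectrum.basicOpen c : Set (PrimeSpectrum C)) := hc
      rw [← PrimeSpectrum.localization_away_comap_range Cc c] at h1
      obtain ⟨𝔯', h𝔯'⟩ := h1
      refine ⟨𝔯', ?_⟩
      rw [IsScalarTower.algebraMap_eq B C Cc, PrimeSpectrum.comap_comp_apply, h𝔯', h𝔯]
    obtain ⟨b, hb, hfp⟩ := exists_finitePresentation_away A B Cc 𝔮 hmem
    exact hb (hle (Ideal.subset_span hfp))
  have := RingHom.finitePresentation_ofLocalizationSpanTarget (algebraMap A B) s hspan ?_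
  · exact RingHom.finitePresentation_algebraMap.1 this
  · rintro ⟨r, hr⟩
    have hr' : Algebra.FinitePresentation A (Localization.Away r) := hr
    rw [← IsScalarTower.algebraMap_eq A B (Localization.Away r)]
    exact RingHom.finitePresentation_algebraMap.2 hr'

end Groth.Agent.Lib.H15

namespace Groth.Agent.Lib.H15

set_option backward.isDefEq.respectTransparency.types false in
/-- Being locally of finite presentation is etale local on the source (single covering morphism). -/
theorem lfp_of_etale_cover {X' X Y : Scheme.{u}} (g : X' ⟶ X) (f : X ⟶ Y) [Etale g] [Surjective g]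
    [LocallyOfFinitePresentation (g ≫ f)] : LocallyOfFinitePresentation f := by
  wlog hY : ∃ R, Y = Spec R generalizing X' X Y
  · rw [IsZariskiLocalAtTarget.iff_of_openCover (P := @LocallyOfFinitePresentation) Y.affineCover]
    intro i
    have sq1 := (IsPullback.of_hasPullback g (pullback.fst f (Y.affineCover.f i))).flip
    have sq2 := (IsPullback.of_hasPullback f (Y.affineCover.f i)).flip
    have big := sq1.paste_horiz sq2
    have hlft : LocallyOfFinitePresentation (pullback.snd g (pullback.fst f (Y.affineCover.f i)) ≫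
        pullback.snd f (Y.affineCover.f i)) :=
      MorphismProperty.of_isPullback (P := @LocallyOfFinitePresentation) big.flip ‹_›
    exact this (pullback.snd g (pullback.fst f (Y.affineCover.f i)))
      (pullback.snd f (Y.affineCover.f i)) ⟨_, rfl⟩
  obtain ⟨R, rfl⟩ := hY
  wlog hX : ∃ Q, X = Spec Q generalizing X' X
  · rw [IsZariskiLocalAtSource.iff_of_openCover (P := @LocallyOfFinitePresentation) X.affineCover]
    intro i
    have hlft : LocallyOfFinitePresentation
        (pullback.snd g (X.affineCover.f i) ≫ X.affineCover.f i ≫ f) := by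
      rw [← Category.assoc, ← pullback.condition, Category.assoc]
      have : IsOpenImmersion (pullback.fst g (X.affineCover.f i)) := inferInstance
      exact MorphismProperty.comp_mem @LocallyOfFinitePresentation _ _ inferInstance ‹_›
    exact this (pullback.snd g (X.affineCover.f i)) (X.affineCover.f i ≫ f) ⟨_, rfl⟩
  obtain ⟨Q, rfl⟩ := hX
  have hlft0 : LocallyOfFiniteType f := by
    haveI : LocallyOfFiniteType (g ≫ f) := inferInstance
    exact lft_of_etale_cover g f
  obtain ⟨φ, rfl⟩ := Spec.map_surjective f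
  obtain ⟨V : X'.Opens, hV, e⟩ := g.isOpenMap.exists_opens_image_eq_of_prespectralSpace
    g.continuous (by simp) isOpen_univ isCompact_univ
  have : CompactSpace V := isCompact_iff_compactSpace.mp hV
  obtain ⟨W, p, hps, hpe, hW⟩ :=
    Scheme.exists_hom_isAffine_of_isZariskiLocalAtSource @Etale V.toScheme
  have : Etale p := hpe
  have hsurj : Function.Surjective (W.isoSpec.inv ≫ p ≫ V.ι ≫ g) := by
    intro x
    obtain ⟨y, hyV, hy⟩ := e.ge (Set.mem_univ x)
    obtain ⟨w, hw⟩ := hps.surj ⟨y, hyV⟩
    refine ⟨W.isoSpec.hom w, ?_⟩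
    rw [← Scheme.Hom.comp_apply, Iso.hom_inv_id_assoc, Scheme.Hom.comp_apply, Scheme.Hom.comp_apply, hw]
    exact hy
  obtain ⟨ψ, hψ⟩ := Spec.map_surjective (W.isoSpec.inv ≫ p ≫ V.ι ≫ g)
  have hψe : Etale (Spec.map ψ) := by rw [hψ]; infer_instance
  have hψl : LocallyOfFinitePresentation (Spec.map (φ ≫ ψ)) := by
    rw [Spec.map_comp, hψ]
    simp only [Category.assoc]
    infer_instance
  rw [HasRingHomProperty.Spec_iff (P := @Etale)] at hψe
  rw [HasRingHomProperty.Spec_iff (P := @LocallyOfFiniteType)] at hlft0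
  rw [HasRingHomProperty.Spec_iff (P := @LocallyOfFinitePresentation)] at hψl ⊢
  rw [← hψ] at hsurj
  rw [CommRingCat.hom_comp] at hψl
  algebraize [φ.hom, ψ.hom, ψ.hom.comp φ.hom]
  have : Algebra.Etale Q Γ(W, ⊤) := hψe
  have : Algebra.FinitePresentation R Γ(W, ⊤) := hψl
  have : Algebra.FiniteType R Q := hlft0
  have hs' : Function.Surjective (PrimeSpectrum.comap (algebraMap Q Γ(W, ⊤))) := fun x => hsurj x
  have := finitePresentation_of_etale_of_surjective R Q Γ(W, ⊤) hs'
  exact this

end Groth.Agent.Lib.H15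

namespace Groth.Agent.Lib.H15

/-- Descent of formal unramifiedness along a faithfully flat formally etale algebra. -/
theorem formallyUnramified_of_formallyEtale_faithfullyFlat (A B C : Type u) [CommRing A] [CommRing B]
    [CommRing C] [Algebra A B] [Algebra B C] [Algebra A C] [IsScalarTower A B C]
    [Algebra.FormallyEtale B C] [Module.FaithfullyFlat B C] [Algebra.FormallyUnramified A C] :
    Algebra.FormallyUnramified A B := by
  constructor
  have : Subsingleton (C ⊗[B] Ω[B⁄A]) :=
    (KaehlerDifferential.tensorKaehlerEquivOfFormallyEtale A B C).injective.subsingleton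
  exact Module.FaithfullyFlat.lTensor_reflects_triviality B C _

set_option backward.isDefEq.respectTransparency.types false in
/-- Being formally unramified is etale local on the source (single covering morphism). -/
theorem formallyUnramified_of_etale_cover {X' X Y : Scheme.{u}} (g : X' ⟶ X) (f : X ⟶ Y) [Etale g]
    [Surjective g] [FormallyUnramified (g ≫ f)] : FormallyUnramified f := by
  wlog hY : ∃ R, Y = Spec R generalizing X' X Y
  · rw [IsZariskiLocalAtTarget.iff_of_openCover (P := @FormallyUnramified) Y.affineCover]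
    intro i
    have sq1 := (IsPullback.of_hasPullback g (pullback.fst f (Y.affineCover.f i))).flip
    have sq2 := (IsPullback.of_hasPullback f (Y.affineCover.f i)).flip
    have big := sq1.paste_horiz sq2
    have hlft : FormallyUnramified (pullback.snd g (pullback.fst f (Y.affineCover.f i)) ≫
        pullback.snd f (Y.affineCover.f i)) :=
      MorphismProperty.of_isPullback (P := @FormallyUnramified) big.flip ‹_›
    exact this (pullback.snd g (pullback.fst f (Y.affineCover.f i)))
      (pullback.snd f (Y.affineCover.f i)) ⟨_, rfl⟩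
  obtain ⟨R, rfl⟩ := hY
  wlog hX : ∃ Q, X = Spec Q generalizing X' X
  · rw [IsZariskiLocalAtSource.iff_of_openCover (P := @FormallyUnramified) X.affineCover]
    intro i
    have hlft : FormallyUnramified
        (pullback.snd g (X.affineCover.f i) ≫ X.affineCover.f i ≫ f) := by
      rw [← Category.assoc, ← pullback.condition, Category.assoc]
      have : IsOpenImmersion (pullback.fst g (X.affineCover.f i)) := inferInstance
      exact MorphismProperty.comp_mem @FormallyUnramified _ _ inferInstance ‹_›
    exact this (pullback.snd g (X.affineCover.f i)) (X.affineCover.f i ≫ f) ⟨_, rfl⟩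
  obtain ⟨Q, rfl⟩ := hX
  obtain ⟨φ, rfl⟩ := Spec.map_surjective f
  obtain ⟨V : X'.Opens, hV, e⟩ := g.isOpenMap.exists_opens_image_eq_of_prespectralSpace
    g.continuous (by simp) isOpen_univ isCompact_univ
  have : CompactSpace V := isCompact_iff_compactSpace.mp hV
  obtain ⟨W, p, hps, hpe, hW⟩ :=
    Scheme.exists_hom_isAffine_of_isZariskiLocalAtSource @Etale V.toScheme
  have : Etale p := hpe
  have hsurj : Function.Surjective (W.isoSpec.inv ≫ p ≫ V.ι ≫ g) := by
    intro x
    obtain ⟨y, hyV, hy⟩ := e.ge (Set.mem_univ x)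
    obtain ⟨w, hw⟩ := hps.surj ⟨y, hyV⟩
    refine ⟨W.isoSpec.hom w, ?_⟩
    rw [← Scheme.Hom.comp_apply, Iso.hom_inv_id_assoc, Scheme.Hom.comp_apply, Scheme.Hom.comp_apply, hw]
    exact hy
  obtain ⟨ψ, hψ⟩ := Spec.map_surjective (W.isoSpec.inv ≫ p ≫ V.ι ≫ g)
  have hψe : Etale (Spec.map ψ) := by rw [hψ]; infer_instance
  have hψl : FormallyUnramified (Spec.map (φ ≫ ψ)) := by
    rw [Spec.map_comp, hψ]
    have h1 : FormallyUnramified (W.isoSpec.inv ≫ p ≫ V.ι) := by
      haveI : Etale (W.isoSpec.inv ≫ p ≫ V.ι) := inferInstance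
      infer_instance
    have h2 := MorphismProperty.comp_mem @FormallyUnramified _ _ h1
      (inferInstance : FormallyUnramified (g ≫ Spec.map φ))
    simpa only [Category.assoc] using h2
  rw [HasRingHomProperty.Spec_iff (P := @Etale)] at hψe
  rw [HasRingHomProperty.Spec_iff (P := @FormallyUnramified)] at hψl ⊢
  rw [← hψ] at hsurj
  rw [CommRingCat.hom_comp] at hψl
  algebraize [φ.hom, ψ.hom, ψ.hom.comp φ.hom]
  have : Algebra.Etale Q Γ(W, ⊤) := hψe
  have : Algebra.FormallyUnramified R Γ(W, ⊤) := hψl
  have hs' : Function.Surjective (PrimeSpectrum.comap (algebraMap Q Γ(W, ⊤))) := fun x => hsurj x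
  haveI : Module.FaithfullyFlat Q Γ(W, ⊤) := Module.FaithfullyFlat.of_comap_surjective hs'
  have := formallyUnramified_of_formallyEtale_faithfullyFlat R Q Γ(W, ⊤)
  exact this

/-- A flat, formally unramified morphism locally of finite presentation is etale. -/
theorem etale_of_flat_unramified_lfp' {X Y : Scheme.{u}} (f : X ⟶ Y) [Flat f] [FormallyUnramified f]
    [LocallyOfFinitePresentation f] : Etale f :=
  ⟨fun hU _ hV e => RingHom.Etale.iff_flat_and_formallyUnramified.2
    ⟨f.flat_appLE hU hV e, f.formallyUnramified_appLE hU hV e, f.finitePresentation_appLE hU hV e⟩⟩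

/-- Being etale is etale local on the source (single covering morphism). -/
theorem etale_of_etale_cover {X' X Y : Scheme.{u}} (g : X' ⟶ X) (f : X ⟶ Y) [Etale g]
    [Surjective g] [Etale (g ≫ f)] : Etale f := by
  haveI : Flat f := flat_of_flat_surjective_comp g f
  haveI : LocallyOfFinitePresentation f := lfp_of_etale_cover g f
  haveI : FormallyUnramified f := formallyUnramified_of_etale_cover g f
  exact etale_of_flat_unramified_lfp' f

end Groth.Agent.Lib.H15
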