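import Mathlib
import Groth.Prelude.Def_AlgSp
import Groth.Prelude.Def_AlgSp2
import Groth.Prelude.Def_AlgSp3
import Groth.Prelude.Def_AlgSp4
import Groth.Agent.Lib.helper15.AlgSpLocPGen
import Groth.Agent.Lib.helper15.AlgSpEtale
import Groth.Agent.Lib.helper15.FPSrc

set_option autoImplicit false
universe u
open CategoryTheory CategoryTheory.Limits AlgebraicGeometry Opposite Topology

namespace Groth.Agent.Lib.H15.AS

variable {S : Scheme.{u}}

theorem goodP_etale : GoodP (@Etale : MorphismProperty Scheme.{u}) where
  bc := inferInstance
  mul := inferInstance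
  etale_le _ _ _ hf := hf
  src W U V w h hwe hws hP := by
    have : Etale w := hwe
    have : Surjective w := hws
    have : Etale (w ≫ h) := hP
    exact Groth.Agent.Lib.H15.etale_of_etale_cover w h
  desc := inferInstance

theorem goodP_lfp : GoodP (@LocallyOfFinitePresentation : MorphismProperty Scheme.{u}) where
  bc := inferInstance
  mul := { id_mem := fun _ => inferInstance }
  etale_le _ _ f hf := by
    have : Etale f := hf
    infer_instance
  src W U V w h hwe hws hP := by
    have : Etale w := hwe
    have : Surjective w := hws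
    have : LocallyOfFinitePresentation (w ≫ h) := hP
    exact Groth.Agent.Lib.H15.lfp_of_etale_cover w h
  desc := inferInstance

theorem goodP_lft : GoodP (@LocallyOfFiniteType : MorphismProperty Scheme.{u}) where
  bc := inferInstance
  mul := inferInstance
  etale_le _ _ f hf := by
    have : Etale f := hf
    infer_instance
  src W U V w h hwe hws hP := by
    have : Etale w := hwe
    have : Surjective w := hws
    have : LocallyOfFiniteType (w ≫ h) := hP
    exact Groth.Agent.Lib.H15.lft_of_etale_cover w h
  desc := inferInstance

theorem goodP_formallyUnramified : GoodP (@FormallyUnramified : MorphismProperty Scheme.{u}) where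
  bc := inferInstance
  mul := inferInstance
  etale_le _ _ f hf := by
    have : Etale f := hf
    infer_instance
  src W U V w h hwe hws hP := by
    have : Etale w := hwe
    have : Surjective w := hws
    have : FormallyUnramified (w ≫ h) := hP
    exact Groth.Agent.Lib.H15.formallyUnramified_of_etale_cover w h
  desc := inferInstance

/-- For good `P`: if `χ` is etale surjective, `φ'` is representable and `h_χ ≫ φ'` is representable with `P`,
then so is `φ'`. -/
theorem repWith_of_yon_map_comp_cover {P : MorphismProperty Scheme.{u}} (hP : GoodP P)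
    {F : AlgSp.Sp S} {U U' : Over S} (χ : U ⟶ U') (hχe : Etale χ.left) (hχs : Surjective χ.left)
    (φ' : (AlgSp.yon S).obj U' ⟶ F) (hrep : AlgSp.Representable φ')
    (h : AlgSp.RepWith P ((AlgSp.yon S).map χ ≫ φ')) : AlgSp.RepWith P φ' := by
  rw [AlgSp.repWith_iff]
  refine ⟨hrep, fun T W g fst snd sq => ?_⟩
  have hχE : AlgSp.RepWith @Etale ((AlgSp.yon S).map χ) := (AlgSp.repWith_yon_map_iff _ χ).2 hχe
  have hχS : AlgSp.RepWith @Surjective ((AlgSp.yon S).map χ) :=
    (AlgSp.repWith_yon_map_iff _ χ).2 hχs
  have hχ : AlgSp.Representable ((AlgSp.yon S).map χ) := hχE.rep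
  have sq1 := hχ.isPullback' fst
  have he : Etale (hχ.snd fst).left := hχE.property_snd fst
  have hs : Surjective (hχ.snd fst).left := hχS.property_snd fst
  have sq2 := sq1.paste_vert sq
  rw [← Functor.map_comp] at sq2
  have h3 : P (hχ.snd fst ≫ snd).left := ((AlgSp.repWith_iff _ _).1 h).2 g _ _ sq2
  exact hP.src (hχ.snd fst).left snd.left he hs (by rw [← Over.comp_left]; exact h3)

/-- A morphism to an algebraic space is etale iff all its chart maps are etale. -/
theorem isEtaleMor_of_locP_etale {X Y : AlgSp.Sp S} (hY : AlgSp.IsAlgSpace Y) {f : X ⟶ Y}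
    (hf : AlgSp.LocP @Etale f) : AlgSp.IsEtaleMor f :=
  fun _ a ha => repWith_comp_of_locP @Etale hY hf a ha

end Groth.Agent.Lib.H15.AS
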