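import Mathlib
import Groth.Prelude.Def_AlgSp
import Groth.Prelude.Def_AlgSp2
import Groth.Prelude.Def_AlgSp3
import Groth.Prelude.Def_AlgSp4
import Groth.Agent.Lib.helper15.AlgSpLocPGen
import Groth.Agent.Lib.helper15.AlgSpEtale2

set_option autoImplicit false
universe u
open CategoryTheory CategoryTheory.Limits AlgebraicGeometry Opposite Topology

namespace Groth.Agent.Lib.H15.AS

variable {S : Scheme.{u}}

/-- Given a representable etale surjective `b : h_V ⟶ G`, any `a : h_U ⟶ F` and `f : F ⟶ G`, there are an etale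
surjective `p : U' ⟶ U` and `h : U' ⟶ V` completing a chart diagram. -/
theorem exists_chart_cover {F G : AlgSp.Sp S} (f : F ⟶ G) {U V : Over S}
    (a : (AlgSp.yon S).obj U ⟶ F) (b : (AlgSp.yon S).obj V ⟶ G) (hbe : AlgSp.RepWith @Etale b)
    (hbs : AlgSp.RepWith @Surjective b) :
    ∃ (U' : Over S) (p : U' ⟶ U) (h : U' ⟶ V), Etale p.left ∧ Surjective p.left ∧
      ((AlgSp.yon S).map p ≫ a) ≫ f = (AlgSp.yon S).map h ≫ b := by
  have hrep : AlgSp.Representable b := hbe.rep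
  have sq := hrep.isPullback' (a ≫ f)
  refine ⟨_, hrep.snd (a ≫ f), hrep.fst' (a ≫ f), hbe.property_snd (a ≫ f),
    hbs.property_snd (a ≫ f), ?_⟩
  rw [Category.assoc]
  exact sq.w.symm

/-- `LocP P` is stable under composition, for good `P`. -/
theorem locP_comp_gen {P : MorphismProperty Scheme.{u}} (hP : GoodP P)
    {X Y Z : AlgSp.Sp S} (hX : AlgSp.IsAlgSpace X) (hY : AlgSp.IsAlgSpace Y)
    (hZ : AlgSp.IsAlgSpace Z) {f : X ⟶ Y} {g : Y ⟶ Z}
    (hf : AlgSp.LocP P f) (hg : AlgSp.LocP P g) : AlgSp.LocP P (f ≫ g) := by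
  have := hP.mul
  have := hP.bc
  obtain ⟨U, a, hae, has⟩ := hX.atlas
  obtain ⟨V, b, hbe, hbs⟩ := hY.atlas
  obtain ⟨W, c, hce, hcs⟩ := hZ.atlas
  -- chart of `g`
  obtain ⟨V', q, k, hqe, hqs, wk⟩ := exists_chart_cover g b c hce hcs
  have hb'e : AlgSp.RepWith @Etale ((AlgSp.yon S).map q ≫ b) :=
    repWith_yon_map_comp @Etale q b hqe hbe
  have hb's : AlgSp.RepWith @Surjective ((AlgSp.yon S).map q ≫ b) :=
    repWith_yon_map_comp @Surjective q b hqs hbs
  have hk : P k.left := hg _ c k hb'e hce wk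
  -- chart of `f`
  obtain ⟨U', p, h, hpe, hps, wh⟩ := exists_chart_cover f a ((AlgSp.yon S).map q ≫ b) hb'e hb's
  have ha'e : AlgSp.RepWith @Etale ((AlgSp.yon S).map p ≫ a) :=
    repWith_yon_map_comp @Etale p a hpe hae
  have ha's : AlgSp.RepWith @Surjective ((AlgSp.yon S).map p ≫ a) :=
    repWith_yon_map_comp @Surjective p a hps has
  have hh : P h.left := hf _ _ h ha'e hb'e wh
  refine locP_of_chart_gen hP ((AlgSp.yon S).map p ≫ a) c (h ≫ k) ha'e ha's hce ?_ ?_
  · rw [← Category.assoc, wh, Category.assoc, wk, Functor.map_comp, Category.assoc]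
  · rw [Over.comp_left]
    exact P.comp_mem _ _ hh hk

end Groth.Agent.Lib.H15.AS
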