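import Groth.Agent.Lib.helper15.LftSrc

set_option autoImplicit false
universe u
open CategoryTheory CategoryTheory.Limits AlgebraicGeometry Opposite TopologicalSpace MorphismProperty

namespace Groth.Agent.Lib.H15

/-- Topological lemma: if `g` is open and surjective and `g ⁻¹' Z` is discrete, then `Z` is discrete. -/
theorem isDiscrete_of_preimage_of_isOpenMap {A B : Type*} [TopologicalSpace A] [TopologicalSpace B]
    {g : A → B} (hg : IsOpenMap g) (hs : Function.Surjective g) {Z : Set B}
    (h : IsDiscrete (g ⁻¹' Z)) : IsDiscrete Z := by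
  rw [isDiscrete_iff_forall_mem_exists_isOpen] at h ⊢
  intro z hz
  obtain ⟨x', rfl⟩ := hs z
  obtain ⟨W', hW', hWe⟩ := h x' hz
  refine ⟨g '' W', hg _ hW', ?_⟩
  ext b
  constructor
  · rintro ⟨⟨w, hw, rfl⟩, hb⟩
    have : w ∈ W' ∩ g ⁻¹' Z := ⟨hw, hb⟩
    rw [hWe] at this
    rw [Set.mem_singleton_iff] at this ⊢
    rw [this]
  · intro hb
    rw [Set.mem_singleton_iff] at hb
    subst hb
    have : x' ∈ W' ∩ g ⁻¹' Z := by rw [hWe]; rfl
    exact ⟨⟨x', this.1, rfl⟩, hz⟩

/-- Being locally quasi-finite and locally of finite type is etale local on the source. -/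
theorem lqf_of_etale_cover {X' X Y : Scheme.{u}} (g : X' ⟶ X) (f : X ⟶ Y) [Etale g] [Surjective g]
    [LocallyQuasiFinite (g ≫ f)] [LocallyOfFiniteType (g ≫ f)] :
    LocallyQuasiFinite f ∧ LocallyOfFiniteType f := by
  have hlft : LocallyOfFiniteType f := lft_of_etale_cover g f
  refine ⟨?_, hlft⟩
  rw [locallyQuasiFinite_iff_isDiscrete_preimage_singleton]
  intro y
  have h1 : _root_.IsDiscrete ((g ≫ f) ⁻¹' {y}) := (g ≫ f).isDiscrete_preimage_singleton y
  have h2 : ((g ≫ f) ⁻¹' {y} : Set X') = g ⁻¹' (f ⁻¹' {y}) := by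
    ext x
    simp
  rw [h2] at h1
  exact isDiscrete_of_preimage_of_isOpenMap g.isOpenMap g.surjective h1

end Groth.Agent.Lib.H15

namespace Groth.Agent.Lib.H15

/-- An open surjective map from a discrete space has discrete target. -/
theorem discreteTopology_of_isOpenMap_surjective {A B : Type*} [TopologicalSpace A]
    [TopologicalSpace B] [DiscreteTopology A] {φ : A → B} (ho : IsOpenMap φ)
    (hs : Function.Surjective φ) : DiscreteTopology B := by
  rw [discreteTopology_iff_isOpen_singleton]
  intro b
  obtain ⟨a, rfl⟩ := hs b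
  rw [← Set.image_singleton]
  exact ho _ (isOpen_discrete _)

/-- Local quasi-finiteness descends along surjective base changes (given local finite type). -/
theorem lqf_of_isPullback_surjective {A X Y Z : Scheme.{u}} {fst : A ⟶ X} {snd : A ⟶ Y} {f : X ⟶ Z}
    {g : Y ⟶ Z} (sq : IsPullback fst snd f g) [Surjective f] [LocallyQuasiFinite fst]
    [LocallyOfFiniteType g] : LocallyQuasiFinite g := by
  rw [locallyQuasiFinite_iff_isDiscrete_preimage_singleton]
  intro z
  obtain ⟨x, rfl⟩ := f.surjective z
  have sq' := isPullback_fiberToSpecResidueField_of_isPullback sq.flip x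
  obtain ⟨φ, sq'⟩ : ∃ φ : fst.fiber x ⟶ g.fiber (f x), IsPullback φ (fst.fiberToSpecResidueField x)
      (g.fiberToSpecResidueField (f x)) (Spec.map (f.residueFieldMap x)) := ⟨_, sq'⟩
  have hsurj0 : Surjective (Spec.map (f.residueFieldMap x)) := by
    refine ⟨fun y => ?_⟩
    obtain ⟨w⟩ : Nonempty (Spec (X.residueField x)) := inferInstance
    exact ⟨w, Subsingleton.elim _ _⟩
  have hopen0 : UniversallyOpen (Spec.map (f.residueFieldMap x)) := inferInstance
  have hsurj : Surjective φ := MorphismProperty.of_isPullback (P := @Surjective) sq'.flip hsurj0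
  have hopen : UniversallyOpen φ := MorphismProperty.of_isPullback (P := @UniversallyOpen) sq'.flip hopen0
  have hd1 : _root_.IsDiscrete (fst ⁻¹' {x}) := fst.isDiscrete_preimage_singleton x
  rw [isDiscrete_iff_discreteTopology] at hd1 ⊢
  haveI : DiscreteTopology (fst.fiber x) := (fst.fiberHomeo x).symm.discreteTopology
  haveI : DiscreteTopology (g.fiber (f x)) :=
    discreteTopology_of_isOpenMap_surjective (φ := φ) φ.isOpenMap φ.surjective
  exact (g.fiberHomeo (f x)).discreteTopology


instance lqf_lft_descendsAlong_fppf :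
    MorphismProperty.DescendsAlong
      ((@LocallyQuasiFinite : MorphismProperty Scheme.{u}) ⊓ @LocallyOfFiniteType)
      (@Surjective ⊓ @Flat ⊓ @LocallyOfFinitePresentation) where
  of_isPullback {A X Y Z fst snd f g} sq hf hfst := by
    have : Surjective f := hf.1.1
    have : LocallyQuasiFinite fst := hfst.1
    have hg : LocallyOfFiniteType g :=
      MorphismProperty.of_isPullback_of_descendsAlong
        (Q := @Surjective ⊓ @Flat ⊓ @LocallyOfFinitePresentation) (P := @LocallyOfFiniteType)
        sq hf hfst.2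
    exact ⟨lqf_of_isPullback_surjective sq, hg⟩

end Groth.Agent.Lib.H15
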