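import Groth.Agent.Lib.helper15.FPSrc

set_option autoImplicit false
universe u
open CategoryTheory CategoryTheory.Limits AlgebraicGeometry TensorProduct Algebra Opposite TopologicalSpace MorphismProperty

namespace Groth.Agent.Lib.H15

set_option backward.isDefEq.respectTransparency false in
/-- For a standard etale `B`-algebra `C`, `C ⊗ H¹(L_{B/A}) ≃ H¹(L_{C/A})`. -/
theorem nonempty_tensorH1Cotangent_of_isStandardEtale (A B C : Type u) [CommRing A] [CommRing B]
    [CommRing C] [Algebra A B] [Algebra B C] [Algebra A C] [IsScalarTower A B C]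
    [Algebra.IsStandardEtale B C] :
    Nonempty (C ⊗[B] H1Cotangent A B ≃ₗ[C] H1Cotangent A C) := by
  classical
  letI P : Extension A B := (Generators.self A B).toExtension
  letI : Algebra P.Ring C := ((algebraMap B C).comp (algebraMap P.Ring B)).toAlgebra
  haveI : IsScalarTower P.Ring B C := IsScalarTower.of_algebraMap_eq' rfl
  haveI : IsScalarTower A P.Ring C := IsScalarTower.of_algebraMap_eq fun a => by
    rw [IsScalarTower.algebraMap_apply P.Ring B C, ← IsScalarTower.algebraMap_apply A P.Ring B,
      ← IsScalarTower.algebraMap_apply A B C]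
  obtain ⟨Pp, ρ, hρs, hker⟩ :=
    exists_lift_standardEtale (P := P.Ring) (B := B) (C := C) P.algebraMap_surjective
  letI : Algebra A Pp.Ring := ((algebraMap P.Ring Pp.Ring).comp (algebraMap A P.Ring)).toAlgebra
  haveI : IsScalarTower A P.Ring Pp.Ring := IsScalarTower.of_algebraMap_eq' rfl
  letI Q : Extension A C := Extension.ofSurjective (ρ.restrictScalars A) hρs
  letI f : P.Hom Q :=
  { toRingHom := algebraMap P.Ring Pp.Ring
    toRingHom_algebraMap x := (IsScalarTower.algebraMap_apply A P.Ring Pp.Ring _).symm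
    algebraMap_toRingHom x := by
      change ρ (algebraMap P.Ring Pp.Ring x) = algebraMap B C (algebraMap P.Ring B x)
      rw [ρ.commutes]
      rfl }
  haveI : FormallySmooth A P.Ring := inferInstanceAs (FormallySmooth A (MvPolynomial _ _))
  haveI : FormallySmooth P.Ring Pp.Ring := inferInstance
  haveI : FormallySmooth A Q.Ring := FormallySmooth.comp A P.Ring Pp.Ring
  haveI : Module.Flat B C := inferInstance
  letI : Algebra P.Ring Q.Ring := (inferInstance : Algebra P.Ring Pp.Ring)
  have H₁ : f.toRingHom.FormallyEtale :=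
    RingHom.formallyEtale_algebraMap.mpr (inferInstance : FormallyEtale P.Ring Pp.Ring)
  have H₂ : Function.Bijective ((f.mapKer rfl).liftBaseChange Q.Ring) := by
    let L := (f.mapKer rfl).liftBaseChange Q.Ring
    let g : Q.Ring ⊗[P.Ring] P.ker →ₗ[P.Ring] Q.Ring :=
      (TensorProduct.rid P.Ring Q.Ring).toLinearMap ∘ₗ
        (LinearMap.lTensor Q.Ring (Submodule.subtype P.ker))
    haveI hfl0 : Module.Flat P.Ring Pp.Ring := inferInstance
    haveI : Module.Flat P.Ring Q.Ring := hfl0
    have hg : Function.Injective g :=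
      (TensorProduct.rid P.Ring Q.Ring).injective.comp
        (Module.Flat.lTensor_preserves_injective_linearMap (M := Q.Ring) _
          (Submodule.subtype_injective P.ker))
    have hLg : ∀ t, ((L t : Q.ker) : Q.Ring) = g t := by
      intro t
      induction t with
      | zero => simp
      | tmul q x =>
        simp only [L, g, LinearMap.liftBaseChange_tmul, LinearMap.coe_comp, LinearEquiv.coe_coe,
          Function.comp_apply, LinearMap.lTensor_tmul, Submodule.subtype_apply,
          TensorProduct.rid_tmul]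
        rw [Algebra.smul_def, mul_comm]
        rfl
      | add a b ha hb => rw [map_add, map_add, ← ha, ← hb]; rfl
    constructor
    · intro a b hab
      apply hg
      rw [← hLg, ← hLg, hab]
    · have key : ∀ j : Q.Ring, j ∈ (RingHom.ker (algebraMap P.Ring B)).map
          (algebraMap P.Ring Pp.Ring) → ∃ t, ((L t : Q.ker) : Q.Ring) = j := by
        intro j hj
        induction hj using Submodule.span_induction with
        | mem j hj =>
          obtain ⟨x, hx, rfl⟩ := hj
          refine ⟨1 ⊗ₜ ⟨x, hx⟩, ?_⟩
          simp only [L, LinearMap.liftBaseChange_tmul, one_smul]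
          rfl
        | zero => exact ⟨0, by simp⟩
        | add a b _ _ ha hb =>
          obtain ⟨ta, hta⟩ := ha
          obtain ⟨tb, htb⟩ := hb
          exact ⟨ta + tb, by rw [map_add, ← hta, ← htb]; rfl⟩
        | smul q a _ ha =>
          obtain ⟨ta, hta⟩ := ha
          refine ⟨(show Q.Ring from q) • ta, ?_⟩
          rw [map_smul, ← hta]
          rfl
      rintro ⟨j, hj⟩
      have hj' : j ∈ (RingHom.ker (algebraMap P.Ring B)).map (algebraMap P.Ring Pp.Ring) := by
        rw [← hker]
        exact hj
      obtain ⟨t, ht⟩ := key j hj'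
      exact ⟨t, Subtype.ext ht⟩
  exact ⟨Extension.tensorH1CotangentOfFormallyEtale f rfl H₁ H₂ ≪≫ₗ
      Extension.equivH1CotangentOfFormallySmooth _⟩

/-- Descent of formal smoothness along a faithfully flat standard etale algebra. -/
theorem formallySmooth_of_isStandardEtale_faithfullyFlat (A B C : Type u) [CommRing A] [CommRing B]
    [CommRing C] [Algebra A B] [Algebra B C] [Algebra A C] [IsScalarTower A B C]
    [Algebra.FinitePresentation A B] [Algebra.IsStandardEtale B C] [Module.FaithfullyFlat B C]
    [Algebra.FormallySmooth A C] : Algebra.FormallySmooth A B := by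
  constructor
  · let e' := KaehlerDifferential.tensorKaehlerEquivOfFormallyEtale A B C
    haveI : Module.Flat C Ω[C⁄A] := inferInstance
    haveI : Module.Flat C (C ⊗[B] Ω[B⁄A]) := Module.Flat.of_linearEquiv e'
    haveI : Module.Flat B Ω[B⁄A] := Module.Flat.of_flat_tensorProduct B _ C
    exact Module.Flat.projective_of_finitePresentation
  · obtain ⟨e⟩ := nonempty_tensorH1Cotangent_of_isStandardEtale A B C
    haveI : Subsingleton (C ⊗[B] H1Cotangent A B) := e.injective.subsingleton
    exact Module.FaithfullyFlat.lTensor_reflects_triviality B C _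

/-- Localizing the base of a standard etale algebra around a point of the image makes it faithfully flat. -/
theorem exists_faithfullyFlat_away (B C : Type u) [CommRing B] [CommRing C] [Algebra B C]
    [Algebra.IsStandardEtale B C] (𝔮 : PrimeSpectrum B)
    (h𝔮 : 𝔮 ∈ Set.range (PrimeSpectrum.comap (algebraMap B C))) :
    ∃ b : B, b ∉ 𝔮.asIdeal ∧
      Module.FaithfullyFlat (Localization (Submonoid.powers b))
        (Localization (Algebra.algebraMapSubmonoid C (Submonoid.powers b))) := by
  classical
  have hopen : IsOpen (Set.range (PrimeSpectrum.comap (algebraMap B C))) := by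
    rw [← Set.image_univ]
    exact PrimeSpectrum.isOpenMap_comap_of_hasGoingDown_of_finitePresentation _ isOpen_univ
  obtain ⟨_, ⟨b, rfl⟩, hmem, hsub⟩ :=
    PrimeSpectrum.isTopologicalBasis_basic_opens.exists_subset_of_mem_open h𝔮 hopen
  refine ⟨b, hmem, ?_⟩
  let M : Submonoid B := Submonoid.powers b
  let Bb := Localization M
  let Ccb := Localization (Algebra.algebraMapSubmonoid C M)
  haveI : Algebra.IsStandardEtale Bb Ccb :=
    Algebra.IsStandardEtale.of_equiv (Localization.tensorRightAlgEquiv M C)
  haveI : IsLocalization.Away (algebraMap B C b) Ccb := by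
    change IsLocalization (Submonoid.powers (algebraMap B C b)) Ccb
    rw [← Algebra.algebraMapSubmonoid_powers]
    infer_instance
  apply Module.FaithfullyFlat.of_comap_surjective
  intro 𝔭'
  let 𝔭 := PrimeSpectrum.comap (algebraMap B Bb) 𝔭'
  have hb : 𝔭 ∈ (PrimeSpectrum.basicOpen b : Set (PrimeSpectrum B)) := by
    rw [← PrimeSpectrum.localization_away_comap_range Bb b]
    exact ⟨𝔭', rfl⟩
  obtain ⟨𝔰, h𝔰⟩ := hsub hb
  have hs : 𝔰 ∈ (PrimeSpectrum.basicOpen (algebraMap B C b) : Set (PrimeSpectrum C)) := by
    change algebraMap B C b ∉ 𝔰.asIdeal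
    intro hcon
    apply hb
    rw [← h𝔰]
    exact hcon
  rw [← PrimeSpectrum.localization_away_comap_range Ccb (algebraMap B C b)] at hs
  obtain ⟨𝔱, h𝔱⟩ := hs
  refine ⟨𝔱, ?_⟩
  apply PrimeSpectrum.localization_comap_injective Bb M
  rw [← PrimeSpectrum.comap_comp_apply, ← IsScalarTower.algebraMap_eq,
    IsScalarTower.algebraMap_eq B C Ccb, PrimeSpectrum.comap_comp_apply, h𝔱, h𝔰]

/-- Descent of smoothness along an etale algebra which is surjective on spectra. -/
theorem smooth_of_etale_of_surjective (A B C : Type u) [CommRing A] [CommRing B]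
    [CommRing C] [Algebra A B] [Algebra B C] [Algebra A C] [IsScalarTower A B C]
    [Algebra.FinitePresentation A B] [Algebra.Etale B C] [Algebra.Smooth A C]
    (hs : Function.Surjective (PrimeSpectrum.comap (algebraMap B C))) :
    Algebra.Smooth A B := by
  classical
  refine ⟨?_, inferInstance⟩
  rw [← Algebra.smoothLocus_eq_univ_iff, Set.eq_univ_iff_forall]
  intro 𝔮
  obtain ⟨𝔯, h𝔯⟩ := hs 𝔮
  obtain ⟨c, hc, hst⟩ := Algebra.IsEtaleAt.exists_isStandardEtale (R := B) (S := C) 𝔯.asIdeal
  let Cc := Localization.Away c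
  have hmem : 𝔮 ∈ Set.range (PrimeSpectrum.comap (algebraMap B Cc)) := by
    have h1 : 𝔯 ∈ (PrimeSpectrum.basicOpen c : Set (PrimeSpectrum C)) := hc
    rw [← PrimeSpectrum.localization_away_comap_range Cc c] at h1
    obtain ⟨𝔯', h𝔯'⟩ := h1
    refine ⟨𝔯', ?_⟩
    rw [IsScalarTower.algebraMap_eq B C Cc, PrimeSpectrum.comap_comp_apply, h𝔯', h𝔯]
  obtain ⟨b, hb, hff⟩ := exists_faithfullyFlat_away B Cc 𝔮 hmem
  let M : Submonoid B := Submonoid.powers b
  let Bb := Localization M
  let Ccb := Localization (Algebra.algebraMapSubmonoid Cc M)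
  haveI : Algebra.IsStandardEtale Bb Ccb :=
    Algebra.IsStandardEtale.of_equiv (Localization.tensorRightAlgEquiv M Cc)
  haveI : IsScalarTower A Bb Ccb := IsScalarTower.of_algebraMap_eq fun a => by
    rw [IsScalarTower.algebraMap_apply A Cc Ccb, IsScalarTower.algebraMap_apply A B Cc,
      ← IsScalarTower.algebraMap_apply B Cc Ccb, IsScalarTower.algebraMap_apply B Bb Ccb,
      ← IsScalarTower.algebraMap_apply A B Bb]
  haveI : Algebra.FormallySmooth A C := inferInstance
  haveI : Algebra.FormallySmooth C Cc := Algebra.FormallySmooth.of_isLocalization (Submonoid.powers c)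
  haveI : Algebra.FormallySmooth A Cc := Algebra.FormallySmooth.comp A C Cc
  haveI : Algebra.FormallySmooth Cc Ccb :=
    Algebra.FormallySmooth.of_isLocalization (Algebra.algebraMapSubmonoid Cc M)
  haveI : Algebra.FormallySmooth A Ccb := Algebra.FormallySmooth.comp A Cc Ccb
  haveI : Algebra.FinitePresentation B Bb := IsLocalization.Away.finitePresentation b
  haveI : Algebra.FinitePresentation A Bb := Algebra.FinitePresentation.trans A B Bb
  haveI : Module.FaithfullyFlat Bb Ccb := hff
  haveI : Algebra.FormallySmooth A Bb := formallySmooth_of_isStandardEtale_faithfullyFlat A Bb Ccb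
  have hsm : Algebra.Smooth A (Localization.Away b) := ⟨‹_›, ‹_›⟩
  exact (Algebra.basicOpen_subset_smoothLocus_iff_smooth.2 hsm) hb

set_option backward.isDefEq.respectTransparency.types false in
/-- Being smooth is etale local on the source (single covering morphism). -/
theorem smooth_of_etale_cover {X' X Y : Scheme.{u}} (g : X' ⟶ X) (f : X ⟶ Y) [Etale g] [Surjective g]
    [Smooth (g ≫ f)] : Smooth f := by
  wlog hY : ∃ R, Y = Spec R generalizing X' X Y
  · rw [IsZariskiLocalAtTarget.iff_of_openCover (P := @Smooth) Y.affineCover]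
    intro i
    have sq1 := (IsPullback.of_hasPullback g (pullback.fst f (Y.affineCover.f i))).flip
    have sq2 := (IsPullback.of_hasPullback f (Y.affineCover.f i)).flip
    have big := sq1.paste_horiz sq2
    have hlft : Smooth (pullback.snd g (pullback.fst f (Y.affineCover.f i)) ≫
        pullback.snd f (Y.affineCover.f i)) :=
      MorphismProperty.of_isPullback (P := @Smooth) big.flip ‹_›
    exact this (pullback.snd g (pullback.fst f (Y.affineCover.f i)))
      (pullback.snd f (Y.affineCover.f i)) ⟨_, rfl⟩
  obtain ⟨R, rfl⟩ := hY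
  wlog hX : ∃ Q, X = Spec Q generalizing X' X
  · rw [IsZariskiLocalAtSource.iff_of_openCover (P := @Smooth) X.affineCover]
    intro i
    have hlft : Smooth
        (pullback.snd g (X.affineCover.f i) ≫ X.affineCover.f i ≫ f) := by
      rw [← Category.assoc, ← pullback.condition, Category.assoc]
      have : IsOpenImmersion (pullback.fst g (X.affineCover.f i)) := inferInstance
      exact MorphismProperty.comp_mem @Smooth _ _ inferInstance ‹_›
    exact this (pullback.snd g (X.affineCover.f i)) (X.affineCover.f i ≫ f) ⟨_, rfl⟩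
  obtain ⟨Q, rfl⟩ := hX
  have hlft0 : LocallyOfFinitePresentation f := by
    haveI : LocallyOfFinitePresentation (g ≫ f) := inferInstance
    exact lfp_of_etale_cover g f
  obtain ⟨φ, rfl⟩ := Spec.map_surjective f
  obtain ⟨V : X'.Opens, hV, e⟩ := g.isOpenMap.exists_opens_image_eq_of_prespectralSpace
    g.continuous (by simp) isOpen_univ isCompact_univ
  have : CompactSpace V := isCompact_iff_compactSpace.mp hV
  obtain ⟨W, p, hps, hpe, hW⟩ :=
    Scheme.exists_hom_isAffine_of_isZariskiLocalAtSource @Etale V.toScheme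
  have : Etale p := hpe
  have hsurj : Function.Surjective (W.isoSpec.inv ≫ p ≫ V.ι ≫ g) := by
    intro x
    obtain ⟨y, hyV, hy⟩ := e.ge (Set.mem_univ x)
    obtain ⟨w, hw⟩ := hps.surj ⟨y, hyV⟩
    refine ⟨W.isoSpec.hom w, ?_⟩
    rw [← Scheme.Hom.comp_apply, Iso.hom_inv_id_assoc, Scheme.Hom.comp_apply, Scheme.Hom.comp_apply, hw]
    exact hy
  obtain ⟨ψ, hψ⟩ := Spec.map_surjective (W.isoSpec.inv ≫ p ≫ V.ι ≫ g)
  have hψe : Etale (Spec.map ψ) := by rw [hψ]; infer_instance
  have hψl : Smooth (Spec.map (φ ≫ ψ)) := by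
    rw [Spec.map_comp, hψ]
    simp only [Category.assoc]
    infer_instance
  rw [HasRingHomProperty.Spec_iff (P := @Etale)] at hψe
  rw [HasRingHomProperty.Spec_iff (P := @LocallyOfFinitePresentation)] at hlft0
  rw [HasRingHomProperty.Spec_iff (P := @Smooth)] at hψl ⊢
  rw [← hψ] at hsurj
  rw [CommRingCat.hom_comp] at hψl
  algebraize [φ.hom, ψ.hom, ψ.hom.comp φ.hom]
  have : Algebra.Etale Q Γ(W, ⊤) := hψe
  have : Algebra.Smooth R Γ(W, ⊤) := hψl
  have : Algebra.FinitePresentation R Q := hlft0
  have hs' : Function.Surjective (PrimeSpectrum.comap (algebraMap Q Γ(W, ⊤))) := fun x => hsurj x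
  have := smooth_of_etale_of_surjective R Q Γ(W, ⊤) hs'
  exact this

end Groth.Agent.Lib.H15
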