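import Mathlib
import Groth.Prelude.Def_AlgSp
import Groth.Prelude.Def_AlgSp2
import Groth.Prelude.Def_AlgSp3
import Groth.Prelude.Def_AlgSp4
import Groth.Agent.Lib.helper15.AlgSpLocPGen2
import Groth.Agent.Lib.helper15.SmoothSrc
import Groth.Agent.Lib.helper15.LqfSrc
import Groth.Agent.Lib.helper15.UnramLqf

set_option autoImplicit false
universe u
open CategoryTheory CategoryTheory.Limits AlgebraicGeometry Opposite Topology

namespace Groth.Agent.Lib.H15.AS

variable {S : Scheme.{u}}

theorem GoodP.inf {P Q : MorphismProperty Scheme.{u}} (hP : GoodP P) (hQ : GoodP Q) :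
    GoodP (P ⊓ Q) where
  bc := by
    have := hP.bc
    have := hQ.bc
    infer_instance
  mul := by
    have := hP.mul
    have := hQ.mul
    infer_instance
  etale_le _ _ f hf := ⟨hP.etale_le f hf, hQ.etale_le f hf⟩
  src W U V w h hwe hws hh := ⟨hP.src w h hwe hws hh.1, hQ.src w h hwe hws hh.2⟩
  desc := by
    have := hP.desc
    have := hQ.desc
    infer_instance

theorem goodP_smooth : GoodP (@Smooth : MorphismProperty Scheme.{u}) where
  bc := inferInstance
  mul := { id_mem := fun _ => inferInstance }
  etale_le _ _ f hf := by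
    have : Etale f := hf
    infer_instance
  src W U V w h hwe hws hP := by
    have : Etale w := hwe
    have : Surjective w := hws
    have : Smooth (w ≫ h) := hP
    exact Groth.Agent.Lib.H15.smooth_of_etale_cover w h
  desc := inferInstance

theorem goodP_lqf_lft :
    GoodP ((@LocallyQuasiFinite : MorphismProperty Scheme.{u}) ⊓ @LocallyOfFiniteType) where
  bc := inferInstance
  mul := inferInstance
  etale_le _ _ f hf := by
    have : Etale f := hf
    have : LocallyOfFiniteType f := inferInstance
    have : FormallyUnramified f := inferInstance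
    exact ⟨Groth.Agent.Lib.H15.locallyQuasiFinite_of_formallyUnramified f, inferInstance⟩
  src W U V w h hwe hws hP := by
    have : Etale w := hwe
    have : Surjective w := hws
    have : LocallyQuasiFinite (w ≫ h) := hP.1
    have : LocallyOfFiniteType (w ≫ h) := hP.2
    exact Groth.Agent.Lib.H15.lqf_of_etale_cover w h
  desc := inferInstance

theorem goodP_lft_unram :
    GoodP ((@LocallyOfFiniteType : MorphismProperty Scheme.{u}) ⊓ @FormallyUnramified) :=
  goodP_lft.inf goodP_formallyUnramified

/-- The seven classes of the reference are all good. -/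
theorem goodP_of_seven (P : MorphismProperty Scheme.{u})
    (hP : P = @LocallyOfFiniteType ∨ P = @LocallyOfFinitePresentation ∨ P = @Flat ∨ P = @Smooth ∨
      P = @Etale ∨
      (∀ ⦃A B : Scheme.{u}⦄ (g : A ⟶ B), P g ↔ (LocallyQuasiFinite g ∧ LocallyOfFiniteType g)) ∨
      (∀ ⦃A B : Scheme.{u}⦄ (g : A ⟶ B), P g ↔ (LocallyOfFiniteType g ∧ FormallyUnramified g))) :
    GoodP P := by
  have key : ∀ Q : MorphismProperty Scheme.{u}, GoodP Q →
      (∀ ⦃A B : Scheme.{u}⦄ (g : A ⟶ B), P g ↔ Q g) → GoodP P := by
    intro Q hQ hh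
    have : P = Q := by
      ext A B g
      exact hh g
    rw [this]
    exact hQ
  rcases hP with rfl | rfl | rfl | rfl | rfl | h | h
  · exact goodP_lft
  · exact goodP_lfp
  · exact goodP_flat
  · exact goodP_smooth
  · exact goodP_etale
  · exact key _ goodP_lqf_lft (fun A B g => (h g).trans Iff.rfl)
  · exact key _ goodP_lft_unram (fun A B g => (h g).trans Iff.rfl)

end Groth.Agent.Lib.H15.AS

namespace Groth.Agent.Lib.H15.AS

variable {S : Scheme.{u}}

/-- For good `P`: if `a : h_U ⟶ F` is representable etale surjective, `f` is representable and `a ≫ f` is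
representable with `P`, then so is `f`. -/
theorem repWith_of_comp_cover {P : MorphismProperty Scheme.{u}} (hP : GoodP P)
    {F G : AlgSp.Sp S} (f : F ⟶ G) (hrep : AlgSp.Representable f) {U : Over S}
    (a : (AlgSp.yon S).obj U ⟶ F) (hae : AlgSp.RepWith @Etale a)
    (has : AlgSp.RepWith @Surjective a) (h : AlgSp.RepWith P (a ≫ f)) : AlgSp.RepWith P f := by
  rw [AlgSp.repWith_iff]
  refine ⟨hrep, fun T W g fst snd sq => ?_⟩
  have ha : AlgSp.Representable a := hae.rep
  have sq1 := ha.isPullback' fst
  have he : Etale (ha.snd fst).left := hae.property_snd fst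
  have hs : Surjective (ha.snd fst).left := has.property_snd fst
  have sq2 := sq1.paste_vert sq
  rw [← Functor.map_comp] at sq2
  have h3 : P (ha.snd fst ≫ snd).left := ((AlgSp.repWith_iff _ _).1 h).2 g _ _ sq2
  exact hP.src (ha.snd fst).left snd.left he hs (by rw [← Over.comp_left]; exact h3)

/-- For good `P` and representable `f` between algebraic spaces, `LocP P f ↔ RepWith P f`. -/
theorem locP_iff_repWith_of_representable {P : MorphismProperty Scheme.{u}} (hP : GoodP P)
    {X Y : AlgSp.Sp S} (hX : AlgSp.IsAlgSpace X) (hY : AlgSp.IsAlgSpace Y) {f : X ⟶ Y}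
    (hf : AlgSp.Representable f) : AlgSp.LocP P f ↔ AlgSp.RepWith P f := by
  have := hP.bc
  have := hP.mul
  have := hP.desc
  constructor
  · intro hloc
    obtain ⟨U, a, hae, has⟩ := hX.atlas
    exact repWith_of_comp_cover hP f hf a hae has (repWith_comp_of_locP P hY hloc a hae)
  · intro h
    exact locP_of_repWith P (fun A B C e p he hp => P.comp_mem _ _ (hP.etale_le e he) hp) h

end Groth.Agent.Lib.H15.AS
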