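import Mathlib
import Groth.Prelude.Def_AlgSp
import Groth.Prelude.Def_AlgSp2
import Groth.Prelude.Def_AlgSp3
import Groth.Prelude.Def_AlgSp4
import Groth.Prelude.Def_AlgSpDec
import Groth.Agent.Lib.helper15.AlgSpSeven
import Groth.Agent.Lib.helper15.AlgSpPoints3

set_option autoImplicit false
universe u
open CategoryTheory CategoryTheory.Limits AlgebraicGeometry Opposite Topology

namespace Groth.Agent.Lib.H15.AS

variable {S : Scheme.{u}}

/-- Source-locality for families: if every point of `U` has an etale neighbourhood `t : T ⟶ U` with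
`P (t ≫ h)`, then `P h`. -/
theorem GoodP.of_forall_exists_etale {P : MorphismProperty Scheme.{u}} (hP : GoodP P)
    [IsZariskiLocalAtSource P] {U V : Scheme.{u}} (h : U ⟶ V)
    (H : ∀ u : U, ∃ (T : Scheme.{u}) (t : T ⟶ U), Etale t ∧ u ∈ Set.range t ∧ P (t ≫ h)) :
    P h := by
  choose T t hte htu htP using H
  haveI : Etale (Sigma.desc t) := IsZariskiLocalAtSource.sigmaDesc (P := @Etale) hte
  haveI : Surjective (Sigma.desc t) := by
    apply Surjective.sigmaDesc_of_union_range_eq_univ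
    rw [Set.eq_univ_iff_forall]
    intro x
    exact Set.mem_iUnion.2 ⟨x, htu x⟩
  have h2 : Sigma.desc t ≫ h = Sigma.desc (fun i => t i ≫ h) := by
    apply Sigma.hom_ext
    intro i
    simp
  have h3 : P (Sigma.desc t ≫ h) := by
    rw [h2]
    exact IsZariskiLocalAtSource.sigmaDesc (P := P) htP
  exact hP.src (Sigma.desc t) h inferInstance inferInstance h3

/-- A point of the fibre product of two charts lying over two given points with the same image. -/
theorem exists_point_of_ofPt_eq {F : AlgSp.Sp S} {U U' T : Over S} {a : (AlgSp.yon S).obj U ⟶ F}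
    {b : (AlgSp.yon S).obj U' ⟶ F} {p₁ : T ⟶ U} {p₂ : T ⟶ U'}
    (sq : IsPullback ((AlgSp.yon S).map p₁) ((AlgSp.yon S).map p₂) a b) (u : ↥U.left) (u' : ↥U'.left)
    (e : AlgSp.Points.ofPt a u = AlgSp.Points.ofPt b u') :
    ∃ t : ↥T.left, p₁.left t = u ∧ p₂.left t = u' := by
  rw [AlgSp.Points.ofPt_eq_map_ofScheme a, AlgSp.Points.ofPt_eq_map_ofScheme b] at e
  obtain ⟨p, hp1, hp2⟩ := points_exists_of_isPullback sq _ _ e
  obtain ⟨t, rfl⟩ := (AlgSp.Points.schemeHomeo T).surjective p
  rw [AlgSp.Points.map_yon_map_apply] at hp1 hp2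
  exact ⟨t, (AlgSp.Points.schemeHomeo U).injective hp1, (AlgSp.Points.schemeHomeo U').injective hp2⟩

end Groth.Agent.Lib.H15.AS

namespace Groth.Agent.Lib.H15.AS

variable {S : Scheme.{u}}

/-- If `f` has `P` at every point in the neighbourhood sense, then `f` has `P` etale locally. -/
theorem locP_of_forall_hasAtMor {P : MorphismProperty Scheme.{u}} (hP : GoodP P)
    [IsZariskiLocalAtSource P] {X Y : AlgSp.Sp S} {f : X ⟶ Y}
    (H : ∀ x : AlgSp.Points X,
      AlgSp.HasAtMor (fun U _ h u => ∃ W : U.Opens, u ∈ W ∧ P (W.ι ≫ h)) f x) :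
    AlgSp.LocP P f := by
  have := hP.mul
  have := hP.bc
  intro U' V' a' b' h' ha' hb' w'
  apply hP.of_forall_exists_etale h'.left
  intro u'
  obtain ⟨U, V, a, b, h, u, hae, hbe, w, hu, W, huW, hPW⟩ := H (AlgSp.Points.ofPt a' u')
  have ha : AlgSp.Representable a := hae.rep
  have sq := ha.isPullback' a'
  have he2 : Etale (ha.snd a').left := hae.property_snd a'
  have he1 : Etale (ha.fst' a').left :=
    ((AlgSp.repWith_iff _ _).1 ha').2 a ((AlgSp.yon S).map (ha.snd a')) (ha.fst' a') sq.flip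
  obtain ⟨t, ht1, ht2⟩ := exists_point_of_ofPt_eq sq u u' hu
  let TW : (ha.pullback a').left.Opens := (ha.fst' a').left ⁻¹ᵁ W
  have htW : t ∈ TW := by
    change (ha.fst' a').left t ∈ W
    rw [ht1]
    exact huW
  refine ⟨TW.toScheme, TW.ι ≫ (ha.snd a').left, inferInstance, ⟨⟨t, htW⟩, ht2⟩, ?_⟩
  let ι := overOpenι (ha.pullback a') TW
  have hk : AlgSp.RepWith P ((AlgSp.yon S).map (ι ≫ ha.snd a' ≫ h') ≫ b') := by
    have e : (AlgSp.yon S).map (ι ≫ ha.snd a' ≫ h') ≫ b' =
        (AlgSp.yon S).map (ι ≫ ha.fst' a' ≫ h) ≫ b := by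
      simp only [Functor.map_comp, Category.assoc]
      rw [← w', ← w, ← Category.assoc ((AlgSp.yon S).map (ha.snd a')), ← sq.w, Category.assoc]
    rw [e]
    refine MorphismProperty.comp_mem _ _ _ ((AlgSp.repWith_yon_map_iff _ _).2 ?_)
      (repWith_mono (fun _ _ g (hg : Etale g) => hP.etale_le g hg) hbe)
    change P (TW.ι ≫ (ha.fst' a').left ≫ h.left)
    have e2 : TW.ι ≫ (ha.fst' a').left = ((ha.fst' a').left ∣_ W) ≫ W.ι :=
      (morphismRestrict_ι _ _).symm
    rw [← Category.assoc, e2, Category.assoc]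
    exact P.comp_mem _ _ (hP.etale_le _ (inferInstance : Etale ((ha.fst' a').left ∣_ W))) hPW
  have h5 := prop_of_repWith_yon_map_comp_etale hP (ι ≫ ha.snd a' ≫ h') b' hb' hk
  rw [Category.assoc]
  exact h5

/-- If `f` has `P` etale locally then it has `P` at every point in the neighbourhood sense. -/
theorem hasAtMor_of_locP {P : MorphismProperty Scheme.{u}} (hP : GoodP P)
    {X Y : AlgSp.Sp S} (hX : AlgSp.IsAlgSpace X) (hY : AlgSp.IsAlgSpace Y) {f : X ⟶ Y}
    (hf : AlgSp.LocP P f) (x : AlgSp.Points X) :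
    AlgSp.HasAtMor (fun U _ h u => ∃ W : U.Opens, u ∈ W ∧ P (W.ι ≫ h)) f x := by
  have := hP.mul
  obtain ⟨U, a, hae, has⟩ := hX.atlas
  obtain ⟨V, b, hbe, hbs⟩ := hY.atlas
  obtain ⟨U', p, h, hpe, hps, wh⟩ := exists_chart_cover f a b hbe hbs
  have ha'e : AlgSp.RepWith @Etale ((AlgSp.yon S).map p ≫ a) :=
    repWith_yon_map_comp @Etale p a hpe hae
  have ha's : AlgSp.RepWith @Surjective ((AlgSp.yon S).map p ≫ a) :=
    repWith_yon_map_comp @Surjective p a hps has
  obtain ⟨u, rfl⟩ := surjective_ofPt _ ha's x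
  refine ⟨U', V, (AlgSp.yon S).map p ≫ a, b, h, u, ha'e, hbe, wh, rfl, ⊤, trivial, ?_⟩
  exact P.comp_mem _ _ (hP.etale_le _ (inferInstance : Etale (⊤ : U'.left.Opens).ι))
    (hf _ b h ha'e hbe wh)

end Groth.Agent.Lib.H15.AS

namespace Groth.Agent.Lib.H15.AS

/-- The seven classes of the reference are all Zariski local on the source. -/
theorem isZariskiLocalAtSource_of_seven (P : MorphismProperty Scheme.{u})
    (hP : P = @LocallyOfFiniteType ∨ P = @LocallyOfFinitePresentation ∨ P = @Flat ∨ P = @Smooth ∨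
      P = @Etale ∨
      (∀ ⦃A B : Scheme.{u}⦄ (g : A ⟶ B), P g ↔ (LocallyQuasiFinite g ∧ LocallyOfFiniteType g)) ∨
      (∀ ⦃A B : Scheme.{u}⦄ (g : A ⟶ B), P g ↔ (LocallyOfFiniteType g ∧ FormallyUnramified g))) :
    IsZariskiLocalAtSource P := by
  have key : ∀ Q : MorphismProperty Scheme.{u}, IsZariskiLocalAtSource Q →
      (∀ ⦃A B : Scheme.{u}⦄ (g : A ⟶ B), P g ↔ Q g) → IsZariskiLocalAtSource P := by
    intro Q hQ hh
    have : P = Q := by
      ext A B g
      exact hh g
    rw [this]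
    exact hQ
  rcases hP with rfl | rfl | rfl | rfl | rfl | h | h
  · infer_instance
  · infer_instance
  · infer_instance
  · infer_instance
  · infer_instance
  · exact key (@LocallyQuasiFinite ⊓ @LocallyOfFiniteType) inferInstance
      (fun A B g => (h g).trans Iff.rfl)
  · exact key (@LocallyOfFiniteType ⊓ @FormallyUnramified) inferInstance
      (fun A B g => (h g).trans Iff.rfl)

end Groth.Agent.Lib.H15.AS

namespace Groth.Agent.Lib.H15.AS

variable {S : Scheme.{u}}

/-- For good `P` with left cancellation: if `f ≫ g` has `P` etale locally, so does `f`. -/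
theorem locP_of_comp_gen {P : MorphismProperty Scheme.{u}} (hP : GoodP P)
    (hcancel : ∀ ⦃A B C : Scheme.{u}⦄ (f : A ⟶ B) (g : B ⟶ C), P (f ≫ g) → P f)
    {X Y Z : AlgSp.Sp S} (hZ : AlgSp.IsAlgSpace Z) {f : X ⟶ Y} {g : Y ⟶ Z}
    (hfg : AlgSp.LocP P (f ≫ g)) : AlgSp.LocP P f := by
  have := hP.mul
  have := hP.bc
  have := hP.desc
  intro U V a b h ha hb w
  obtain ⟨W, c, hce, hcs⟩ := hZ.atlas
  obtain ⟨V', q, k, hqe, hqs, wk⟩ := exists_chart_cover g b c hce hcs
  have sq : IsPullback (pullback.fst h q) (pullback.snd h q) h q := IsPullback.of_hasPullback h q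
  have sq' := sq.map (Over.forget S)
  have hpe : Etale (pullback.fst h q).left := MorphismProperty.of_isPullback (P := @Etale) sq'.flip hqe
  have ha' : AlgSp.RepWith @Etale ((AlgSp.yon S).map (pullback.fst h q) ≫ a) :=
    repWith_yon_map_comp @Etale _ a hpe ha
  have e : ((AlgSp.yon S).map (pullback.fst h q) ≫ a) ≫ f ≫ g =
      (AlgSp.yon S).map (pullback.snd h q ≫ k) ≫ c := by
    rw [Functor.map_comp, Category.assoc, Category.assoc, ← wk, ← Category.assoc a, w,
      Category.assoc, ← Category.assoc ((AlgSp.yon S).map (pullback.fst h q)),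
      ← Functor.map_comp, sq.w, Functor.map_comp]
    simp only [Category.assoc]
  have h1 : P (pullback.snd h q ≫ k).left := hfg _ c _ ha' hce e
  have h2 : P (pullback.snd h q).left := hcancel _ _ (by rw [← Over.comp_left]; exact h1)
  have hQ : (@Surjective ⊓ @Flat ⊓ @LocallyOfFinitePresentation : MorphismProperty Scheme.{u})
      q.left := by
    have : Etale q.left := hqe
    exact ⟨⟨hqs, inferInstance⟩, inferInstance⟩
  exact MorphismProperty.of_isPullback_of_descendsAlong
    (Q := @Surjective ⊓ @Flat ⊓ @LocallyOfFinitePresentation) (P := P) sq'.flip hQ h2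

end Groth.Agent.Lib.H15.AS
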