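import Mathlib
import Groth.Prelude.Def_AlgSp
import Groth.Prelude.Def_AlgSp2
import Groth.Prelude.Def_AlgSp3
import Groth.Prelude.Def_AlgSp4
import Groth.Prelude.Def_AlgSpDec
import Groth.Agent.Lib.helper15.AlgSpSeven2

set_option autoImplicit false
universe u
open CategoryTheory CategoryTheory.Limits AlgebraicGeometry Opposite Topology

namespace Groth.Agent.Lib.H15.AS

variable {S : Scheme.{u}}

/-- If `t ≫ h` has `P` for an etale `t`, then `h` has `P` on the (open) image of `t`. -/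
theorem GoodP.exists_opens_of_etale_comp {P : MorphismProperty Scheme.{u}} (hP : GoodP P)
    [IsZariskiLocalAtSource P] {T U V : Scheme.{u}} (t : T ⟶ U) [Etale t] (h : U ⟶ V)
    (hPt : P (t ≫ h)) :
    ∃ W : U.Opens, (W : Set U) = Set.range t ∧ P (W.ι ≫ h) := by
  let W : U.Opens := ⟨Set.range t, t.isOpenMap.isOpen_range⟩
  refine ⟨W, rfl, ?_⟩
  have hsub : Set.range t ⊆ Set.range W.ι := by
    rw [Scheme.Opens.range_ι]
    rfl
  let l : T ⟶ W.toScheme := IsOpenImmersion.lift W.ι t hsub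
  have hl : l ≫ W.ι = t := IsOpenImmersion.lift_fac _ _ _
  have hle : Etale l := by
    have : Etale (l ≫ W.ι) := by rw [hl]; infer_instance
    exact MorphismProperty.of_postcomp (W := @Etale) (W' := @Etale) l W.ι inferInstance this
  apply hP.of_forall_exists_etale
  intro w
  obtain ⟨x, hx⟩ : (w.1 : U) ∈ Set.range t := w.2
  refine ⟨T, l, hle, ⟨x, ?_⟩, ?_⟩
  · apply W.ι.injective
    rw [← Scheme.Hom.comp_apply, hl]
    exact hx
  · rw [← Category.assoc, hl]
    exact hPt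

/-- Chart independence of "`P` holds in a neighbourhood of the point" for good `P` that cancels etale morphisms on
the right: if it holds at `u1` in one chart diagram of `f`, it holds at every point `u` of any other chart diagram
lying over the same point of `X`. -/
theorem nbhd_chart_indep {P : MorphismProperty Scheme.{u}} (hP : GoodP P) [IsZariskiLocalAtSource P]
    (hcancel : ∀ ⦃A B C : Scheme.{u}⦄ (f : A ⟶ B) (g : B ⟶ C), Etale g → P (f ≫ g) → P f)
    {X Y : AlgSp.Sp S} {f : X ⟶ Y} {U1 V1 U V : Over S}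
    (a1 : (AlgSp.yon S).obj U1 ⟶ X) (b1 : (AlgSp.yon S).obj V1 ⟶ Y) (h1 : U1 ⟶ V1)
    (a : (AlgSp.yon S).obj U ⟶ X) (b : (AlgSp.yon S).obj V ⟶ Y) (h : U ⟶ V)
    (ha1e : AlgSp.RepWith @Etale a1) (hb1e : AlgSp.RepWith @Etale b1)
    (hae : AlgSp.RepWith @Etale a) (hbe : AlgSp.RepWith @Etale b)
    (w1 : a1 ≫ f = (AlgSp.yon S).map h1 ≫ b1) (w : a ≫ f = (AlgSp.yon S).map h ≫ b)
    (u1 : ↥U1.left) (u : ↥U.left) (e : AlgSp.Points.ofPt a1 u1 = AlgSp.Points.ofPt a u)
    (H : ∃ W1 : U1.left.Opens, u1 ∈ W1 ∧ P (W1.ι ≫ h1.left)) :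
    ∃ W : U.left.Opens, u ∈ W ∧ P (W.ι ≫ h.left) := by
  have := hP.mul
  have := hP.bc
  obtain ⟨W1, hu1W, hPW⟩ := H
  -- restrict the first chart to `W1`
  have ha2e : AlgSp.RepWith @Etale ((AlgSp.yon S).map (overOpenι U1 W1) ≫ a1) :=
    repWith_yon_map_comp @Etale (overOpenι U1 W1) a1 (by change Etale W1.ι; infer_instance) ha1e
  have w2 : ((AlgSp.yon S).map (overOpenι U1 W1) ≫ a1) ≫ f =
      (AlgSp.yon S).map (overOpenι U1 W1 ≫ h1) ≫ b1 := by
    rw [Category.assoc, w1, Functor.map_comp, Category.assoc]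
  have e2 : AlgSp.Points.ofPt a u =
      AlgSp.Points.ofPt ((AlgSp.yon S).map (overOpenι U1 W1) ≫ a1)
        (⟨u1, hu1W⟩ : ↥(overOpen U1 W1).left) := by
    rw [ofPt_yon_map_comp]
    exact e.symm
  have hP2 : P (overOpenι U1 W1 ≫ h1).left := hPW
  -- the common refinement of the source charts
  have ha : AlgSp.Representable a := hae.rep
  have sqT := ha.isPullback' ((AlgSp.yon S).map (overOpenι U1 W1) ≫ a1)
  have hsnd : Etale (ha.snd ((AlgSp.yon S).map (overOpenι U1 W1) ≫ a1)).left :=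
    hae.property_snd _
  have hfst : Etale (ha.fst' ((AlgSp.yon S).map (overOpenι U1 W1) ≫ a1)).left :=
    ((AlgSp.repWith_iff _ _).1 ha2e).2 a ((AlgSp.yon S).map (ha.snd _)) (ha.fst' _) sqT.flip
  obtain ⟨t, ht1, ht2⟩ := exists_point_of_ofPt_eq sqT u _ e2
  -- the common refinement of the target charts
  have hb : AlgSp.Representable b := hbe.rep
  have sqV := hb.isPullback' b1
  have hVsnd : Etale (hb.snd b1).left := hbe.property_snd b1
  have hVfst : Etale (hb.fst' b1).left :=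
    ((AlgSp.repWith_iff _ _).1 hb1e).2 b ((AlgSp.yon S).map (hb.snd b1)) (hb.fst' b1) sqV.flip
  have hm : (AlgSp.yon S).map (ha.fst' ((AlgSp.yon S).map (overOpenι U1 W1) ≫ a1) ≫ h) ≫ b =
      (AlgSp.yon S).map (ha.snd ((AlgSp.yon S).map (overOpenι U1 W1) ≫ a1) ≫
        (overOpenι U1 W1 ≫ h1)) ≫ b1 := by
    rw [Functor.map_comp, Category.assoc, ← w, ← Category.assoc, sqT.w, Category.assoc, w2]
    simp only [Functor.map_comp, Category.assoc]
  have hm1 := hb.lift'_fst _ _ hm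
  have hm2 := hb.lift'_snd _ _ hm
  generalize hb.lift' _ _ hm = m at hm1 hm2
  have hm1' : m.left ≫ (hb.fst' b1).left =
      (ha.fst' ((AlgSp.yon S).map (overOpenι U1 W1) ≫ a1)).left ≫ h.left := by
    rw [← Over.comp_left, hm1, Over.comp_left]
  have hm2' : m.left ≫ (hb.snd b1).left =
      (ha.snd ((AlgSp.yon S).map (overOpenι U1 W1) ≫ a1)).left ≫ (overOpenι U1 W1 ≫ h1).left := by
    rw [← Over.comp_left, hm2, Over.comp_left]
  have h3 : P (m.left ≫ (hb.snd b1).left) := by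
    rw [hm2']
    exact P.comp_mem _ _ (hP.etale_le _ hsnd) hP2
  have h4 : P m.left := hcancel _ _ hVsnd h3
  have h5 : P ((ha.fst' ((AlgSp.yon S).map (overOpenι U1 W1) ≫ a1)).left ≫ h.left) := by
    rw [← hm1']
    exact P.comp_mem _ _ h4 (hP.etale_le _ hVfst)
  obtain ⟨W, hW, hPW'⟩ := hP.exists_opens_of_etale_comp _ h.left h5
  refine ⟨W, ?_, hPW'⟩
  change u ∈ (W : Set ↥U.left)
  rw [hW]
  exact ⟨t, ht1⟩

end Groth.Agent.Lib.H15.AS
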