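import Mathlib
import Groth.Prelude.Def_AlgSp
import Groth.Prelude.Def_AlgSp2
import Groth.Prelude.Def_AlgSp3
import Groth.Prelude.Def_AlgSp4
import Groth.Agent.Lib.helper15.AlgSpPoints3
import Groth.Agent.Lib.helper15.AlgSpFibre

set_option autoImplicit false
universe u
open CategoryTheory CategoryTheory.Limits AlgebraicGeometry Opposite Topology

namespace Groth.Agent.Lib.H15.AS

variable {S : Scheme.{u}}

theorem isOpenMap_of_comp_surjective {A B C : Type*} [TopologicalSpace A] [TopologicalSpace B]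
    [TopologicalSpace C] {f : A → B} {g : B → C} (hf : Function.Surjective f) (hfc : Continuous f)
    (hgf : IsOpenMap (g ∘ f)) : IsOpenMap g := by
  intro W hW
  have : g '' W = (g ∘ f) '' (f ⁻¹' W) := by
    rw [Set.image_comp, Set.image_preimage_eq W hf]
  rw [this]
  exact hgf _ (hfc.isOpen_preimage W hW)

theorem points_map_comp_fun {F G H : AlgSp.Sp S} (f : F ⟶ G) (g : G ⟶ H) :
    AlgSp.Points.map (f ≫ g) = AlgSp.Points.map g ∘ AlgSp.Points.map f :=
  funext (AlgSp.Points.map_comp f g)

/-- An etale morphism (in the sense of the reference) from a sheaf with an atlas is open on points. -/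
theorem isOpenMap_of_isEtaleMor {F G : AlgSp.Sp S} {f : F ⟶ G}
    (hatlas : ∃ (U : Over S) (p : (AlgSp.yon S).obj U ⟶ F), AlgSp.RepWith @Etale p ∧
      AlgSp.RepWith @Surjective p) (hf : AlgSp.IsEtaleMor f) : IsOpenMap (AlgSp.Points.map f) := by
  obtain ⟨U, a, hae, has⟩ := hatlas
  have h1 : IsOpenMap (AlgSp.Points.map (a ≫ f)) :=
    isOpenMap_points_map_of_repWith (repWith_universallyOpen_of_etale (hf a hae))
  rw [points_map_comp_fun] at h1
  exact isOpenMap_of_comp_surjective (isSurjectiveMor_of_repWith has) (AlgSp.Points.continuous_map a) h1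

/-- Every base change of an etale morphism with source an algebraic space is open on points. -/
theorem isOpenMap_of_isPullback_of_isEtaleMor {X Y T T' : AlgSp.Sp S} {g : X ⟶ Y} {k : T ⟶ Y}
    {r1 : T' ⟶ X} {r2 : T' ⟶ T} (sq : IsPullback r1 r2 g k)
    (hatlas : ∃ (U : Over S) (p : (AlgSp.yon S).obj U ⟶ X), AlgSp.RepWith @Etale p ∧
      AlgSp.RepWith @Surjective p) (hg : AlgSp.IsEtaleMor g) : IsOpenMap (AlgSp.Points.map r2) := by
  obtain ⟨U, b, hbe, hbs⟩ := hatlas
  have sq1 := IsPullback.of_hasPullback b r1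
  have ht2e : AlgSp.RepWith @Etale (pullback.snd b r1) := MorphismProperty.of_isPullback sq1 hbe
  have ht2s : AlgSp.RepWith @Surjective (pullback.snd b r1) := MorphismProperty.of_isPullback sq1 hbs
  have big : IsPullback (pullback.fst b r1) (pullback.snd b r1 ≫ r2) (b ≫ g) k := sq1.paste_vert sq
  have h1 : AlgSp.RepWith @Etale (pullback.snd b r1 ≫ r2) := MorphismProperty.of_isPullback big (hg b hbe)
  have h2 : IsOpenMap (AlgSp.Points.map (pullback.snd b r1 ≫ r2)) :=
    isOpenMap_points_map_of_repWith (repWith_universallyOpen_of_etale h1)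
  rw [points_map_comp_fun] at h2
  exact isOpenMap_of_comp_surjective (isSurjectiveMor_of_repWith ht2s) (AlgSp.Points.continuous_map _) h2

/-- An etale morphism with source an algebraic space is universally open. -/
theorem isUnivOpenMor_of_isEtaleMor {X Y : AlgSp.Sp S} {g : X ⟶ Y}
    (hatlas : ∃ (U : Over S) (p : (AlgSp.yon S).obj U ⟶ X), AlgSp.RepWith @Etale p ∧
      AlgSp.RepWith @Surjective p) (hg : AlgSp.IsEtaleMor g) : AlgSp.IsUnivOpenMor g :=
  fun _ _ _ _ _ _ sq => isOpenMap_of_isPullback_of_isEtaleMor sq hatlas hg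

/-- The target of a morphism surjective on points from a quasi-compact sheaf is quasi-compact, if it has an atlas. -/
theorem isQuasiCompactSp_of_isSurjectiveMor {X Y : AlgSp.Sp S} {f : X ⟶ Y}
    (hatlas : ∃ (U : Over S) (p : (AlgSp.yon S).obj U ⟶ Y), AlgSp.RepWith @Etale p ∧
      AlgSp.RepWith @Surjective p) (hf : AlgSp.IsSurjectiveMor f) (hX : AlgSp.IsQuasiCompactSp X) :
    AlgSp.IsQuasiCompactSp Y := by
  have := compactSpace_of_isQuasiCompactSp hX
  have : CompactSpace (AlgSp.Points Y) :=
    (show Function.Surjective (AlgSp.Points.map f) from hf).compactSpace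
      (AlgSp.Points.continuous_map f)
  exact isQuasiCompactSp_of_compactSpace hatlas

/-- A compact scheme defines a quasi-compact sheaf. -/
theorem isQuasiCompactSp_yon (W : Over S) [CompactSpace ↥W.left] :
    AlgSp.IsQuasiCompactSp ((AlgSp.yon S).obj W) :=
  ⟨W, 𝟙 _, AlgSp.repWith_id _ W, AlgSp.repWith_id _ W, inferInstance⟩

/-- Finite subcover argument: a chart-like map which is open and surjective onto a quasi-compact space of points
can be restricted to a quasi-compact open. -/
theorem exists_compact_open_surjective {T : AlgSp.Sp S} {V : Over S} (e : (AlgSp.yon S).obj V ⟶ T)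
    (hopen : IsOpenMap (AlgSp.Points.ofPt e)) (hsurj : Function.Surjective (AlgSp.Points.ofPt e))
    [CompactSpace (AlgSp.Points T)] :
    ∃ W : V.left.Opens, IsCompact (W : Set V.left) ∧
      Function.Surjective (AlgSp.Points.ofPt ((AlgSp.yon S).map (overOpenι V W) ≫ e)) := by
  have hcov : (Set.univ : Set (AlgSp.Points T)) ⊆
      ⋃ W : V.left.affineOpens, AlgSp.Points.ofPt e '' ((W : V.left.Opens) : Set V.left) := by
    intro x _
    obtain ⟨v, rfl⟩ := hsurj x
    obtain ⟨W, hW, hvW, -⟩ :=
      TopologicalSpace.Opens.isBasis_iff_nbhd.1 (V.left.isBasis_affineOpens)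
        (show v ∈ (⊤ : V.left.Opens) from trivial)
    exact Set.mem_iUnion.2 ⟨⟨W, hW⟩, v, hvW, rfl⟩
  obtain ⟨t, ht⟩ := isCompact_univ.elim_finite_subcover
    (fun W : V.left.affineOpens => AlgSp.Points.ofPt e '' ((W : V.left.Opens) : Set V.left))
    (fun W => hopen _ W.1.2) hcov
  let W : V.left.Opens := ⨆ i ∈ t, (i : V.left.Opens)
  have hWc : IsCompact (W : Set V.left) := by
    have : (W : Set V.left) = ⋃ i ∈ t, ((i : V.left.Opens) : Set V.left) := by
      simp [W]
    rw [this]
    exact t.isCompact_biUnion (fun i _ => i.2.isCompact)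
  refine ⟨W, hWc, ?_⟩
  rw [← Set.range_eq_univ, range_ofPt_overOpen, Set.eq_univ_iff_forall]
  intro x
  obtain ⟨i, hi⟩ := Set.mem_iUnion.1 (ht (Set.mem_univ x))
  obtain ⟨hit, v, hv, rfl⟩ := Set.mem_iUnion.1 hi
  refine ⟨v, ?_, rfl⟩
  exact (le_iSup₂ (f := fun i (_ : i ∈ t) => (i : V.left.Opens)) i hit) hv

end Groth.Agent.Lib.H15.AS
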