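import Mathlib
import Groth.Prelude.Def_AlgSp
import Groth.Prelude.Def_AlgSp2
import Groth.Prelude.Def_AlgSp3
import Groth.Prelude.Def_AlgSp4
import Groth.Agent.Lib.helper15.AlgSpQC

set_option autoImplicit false
universe u
open CategoryTheory CategoryTheory.Limits AlgebraicGeometry Opposite Topology

namespace Groth.Agent.Lib.H15.AS

variable {S : Scheme.{u}}

/-- Quasi-compactness of a morphism descends along a base change which is open on points (universally) and
surjective. -/
theorem isQuasiCompactMor_of_univOpen_surjective_base_change {X Y Y' X' : AlgSp.Sp S}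
    (hX : AlgSp.IsAlgSpace X) (hY : AlgSp.IsAlgSpace Y) (hY' : AlgSp.IsAlgSpace Y')
    {f : X ⟶ Y} {g : Y' ⟶ Y} {fst : X' ⟶ X} {f' : X' ⟶ Y'} (sq : IsPullback fst f' f g)
    (hg : AlgSp.IsUnivOpenMor g) (hgs : AlgSp.IsSurjectiveMor g) (hf' : AlgSp.IsQuasiCompactMor f') :
    AlgSp.IsQuasiCompactMor f := by
  intro T P hT hTqc k p1 p2 sqP
  have sqT := IsPullback.of_hasPullback g k
  have hT' : AlgSp.IsAlgSpace (pullback g k) := isAlgSpace_of_isPullback hY.diag hY' hT sqT
  have hr2open : IsOpenMap (AlgSp.Points.map (pullback.snd g k)) := hg hT k _ _ sqT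
  have hr2surj : AlgSp.IsSurjectiveMor (pullback.snd g k) := isSurjectiveMor_of_isPullback sqT hgs
  obtain ⟨V, c, hce, hcs⟩ := hT'.atlas
  have := compactSpace_of_isQuasiCompactSp hTqc
  have hopen : IsOpenMap (AlgSp.Points.ofPt (c ≫ pullback.snd g k)) := by
    rw [ofPt_eq_comp, points_map_comp_fun]
    exact hr2open.comp ((isOpenMap_points_map_of_repWith (repWith_universallyOpen_of_etale hce)).comp
      (AlgSp.Points.schemeHomeo V).isOpenMap)
  have hsurj : Function.Surjective (AlgSp.Points.ofPt (c ≫ pullback.snd g k)) := by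
    rw [ofPt_eq_comp, points_map_comp_fun]
    exact hr2surj.comp ((isSurjectiveMor_of_repWith hcs).comp (AlgSp.Points.schemeHomeo V).surjective)
  obtain ⟨W, hWc, hWs⟩ := exists_compact_open_surjective (c ≫ pullback.snd g k) hopen hsurj
  have : CompactSpace ↥(overOpen V W).left := isCompact_iff_compactSpace.1 hWc
  obtain ⟨d, hd⟩ : ∃ d : (AlgSp.yon S).obj (overOpen V W) ⟶ pullback g k,
      d = (AlgSp.yon S).map (overOpenι V W) ≫ c := ⟨_, rfl⟩
  have hds : AlgSp.IsSurjectiveMor (d ≫ pullback.snd g k) := by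
    apply isSurjectiveMor_of_surjective_ofPt
    rw [hd, Category.assoc]
    exact hWs
  have sqQ := IsPullback.of_hasPullback p2 (d ≫ pullback.snd g k)
  have hq1 : AlgSp.IsSurjectiveMor (pullback.fst p2 (d ≫ pullback.snd g k)) :=
    isSurjectiveMor_of_isPullback sqQ.flip hds
  have big := sqQ.paste_horiz sqP
  have hk : (d ≫ pullback.snd g k) ≫ k = (d ≫ pullback.fst g k) ≫ g := by
    rw [Category.assoc, Category.assoc, sqT.w]
  rw [hk] at big
  let l : pullback p2 (d ≫ pullback.snd g k) ⟶ X' :=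
    sq.lift (pullback.fst p2 (d ≫ pullback.snd g k) ≫ p1)
      (pullback.snd p2 (d ≫ pullback.snd g k) ≫ d ≫ pullback.fst g k) (by
        rw [Category.assoc, sqP.w, ← Category.assoc, sqQ.w, Category.assoc, Category.assoc,
          Category.assoc, Category.assoc, sqT.w])
  have hl1 : l ≫ fst = pullback.fst p2 (d ≫ pullback.snd g k) ≫ p1 := sq.lift_fst _ _ _
  have hl2 : l ≫ f' = pullback.snd p2 (d ≫ pullback.snd g k) ≫ d ≫ pullback.fst g k :=
    sq.lift_snd _ _ _
  rw [← hl1] at big
  have sqL : IsPullback l (pullback.snd p2 (d ≫ pullback.snd g k)) f' (d ≫ pullback.fst g k) :=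
    IsPullback.of_right big hl2 sq
  have hQ : AlgSp.IsQuasiCompactSp (pullback p2 (d ≫ pullback.snd g k)) :=
    hf' (AlgSp.IsAlgSpace.yon_obj _) (isQuasiCompactSp_yon _) _ _ _ sqL
  have hP : AlgSp.IsAlgSpace P := isAlgSpace_of_isPullback hY.diag hX hT sqP
  exact isQuasiCompactSp_of_isSurjectiveMor hP.atlas hq1 hQ

/-- In a commutative triangle with `f` surjective, if `f ≫ q` is quasi-compact then `q` is quasi-compact. -/
theorem isQuasiCompactMor_of_surjective_triangle {X Y Z : AlgSp.Sp S}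
    (hY : AlgSp.IsAlgSpace Y) (hZ : AlgSp.IsAlgSpace Z)
    {f : X ⟶ Y} {q : Y ⟶ Z} (hf : AlgSp.IsSurjectiveMor f)
    (hp : AlgSp.IsQuasiCompactMor (f ≫ q)) : AlgSp.IsQuasiCompactMor q := by
  intro T T' hT hTqc g fst snd sqT
  have sq1 := IsPullback.of_hasPullback f fst
  have big : IsPullback (pullback.fst f fst) (pullback.snd f fst ≫ snd) (f ≫ q) g :=
    sq1.paste_vert sqT
  have hqc := hp hT hTqc g _ _ big
  have hs : AlgSp.IsSurjectiveMor (pullback.snd f fst) := isSurjectiveMor_of_isPullback sq1 hf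
  have hT' : AlgSp.IsAlgSpace T' := isAlgSpace_of_isPullback hZ.diag hY hT sqT
  exact isQuasiCompactSp_of_isSurjectiveMor hT'.atlas hs hqc

end Groth.Agent.Lib.H15.AS
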