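import Mathlib
import Groth.Prelude.Def_AlgSp
import Groth.Prelude.Def_AlgSp2
import Groth.Prelude.Def_AlgSp3
import Groth.Prelude.Def_AlgSp4
import Groth.Agent.Lib.helper15.AlgSpQC2

set_option autoImplicit false
universe u
open CategoryTheory CategoryTheory.Limits AlgebraicGeometry Opposite Topology

namespace Groth.Agent.Lib.H15.AS

variable {S : Scheme.{u}}

/-- Preimage of an image in a pullback square, on points. -/
theorem preimage_map_image_map {X Y Z P : AlgSp.Sp S} {f : X ⟶ Z} {g : Y ⟶ Z} {fst : P ⟶ X}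
    {snd : P ⟶ Y} (sq : IsPullback fst snd f g) (W : Set (AlgSp.Points X)) :
    AlgSp.Points.map g ⁻¹' (AlgSp.Points.map f '' W) =
      AlgSp.Points.map snd '' (AlgSp.Points.map fst ⁻¹' W) := by
  ext y
  constructor
  · rintro ⟨x, hxW, hx⟩
    obtain ⟨p, hp1, hp2⟩ := points_exists_of_isPullback sq x y hx
    exact ⟨p, by rw [Set.mem_preimage, hp1]; exact hxW, hp2⟩
  · rintro ⟨p, hp, rfl⟩
    refine ⟨AlgSp.Points.map fst p, hp, ?_⟩
    rw [← AlgSp.Points.map_comp, ← AlgSp.Points.map_comp, sq.w]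

/-- The range of a base change, on points. -/
theorem range_map_fst_of_isPullback {X Y Z P : AlgSp.Sp S} {f : X ⟶ Z} {g : Y ⟶ Z} {fst : P ⟶ X}
    {snd : P ⟶ Y} (sq : IsPullback fst snd f g) :
    Set.range (AlgSp.Points.map fst) = AlgSp.Points.map f ⁻¹' Set.range (AlgSp.Points.map g) := by
  ext x
  constructor
  · rintro ⟨p, rfl⟩
    refine ⟨AlgSp.Points.map snd p, ?_⟩
    rw [← AlgSp.Points.map_comp, ← AlgSp.Points.map_comp, sq.w]
  · rintro ⟨y, hy⟩
    obtain ⟨p, hp1, -⟩ := points_exists_of_isPullback sq x y hy.symm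
    exact ⟨p, hp1⟩

/-- If `X` has a surjective chart `b` such that `b ≫ g` is representable universally open, every base change of `g`
is open on points. -/
theorem isOpenMap_of_isPullback_of_chart {X Y T T' : AlgSp.Sp S} {g : X ⟶ Y} {k : T ⟶ Y}
    {r1 : T' ⟶ X} {r2 : T' ⟶ T} (sq : IsPullback r1 r2 g k) {U : AlgSp.Sp S}
    (b : U ⟶ X) (hbs : AlgSp.RepWith @Surjective b)
    (hbg : AlgSp.RepWith @UniversallyOpen (b ≫ g)) : IsOpenMap (AlgSp.Points.map r2) := by
  have sq1 := IsPullback.of_hasPullback b r1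
  have ht2s : AlgSp.RepWith @Surjective (pullback.snd b r1) := MorphismProperty.of_isPullback sq1 hbs
  have big : IsPullback (pullback.fst b r1) (pullback.snd b r1 ≫ r2) (b ≫ g) k := sq1.paste_vert sq
  have h1 : AlgSp.RepWith @UniversallyOpen (pullback.snd b r1 ≫ r2) :=
    MorphismProperty.of_isPullback big hbg
  have h2 : IsOpenMap (AlgSp.Points.map (pullback.snd b r1 ≫ r2)) := isOpenMap_points_map_of_repWith h1
  rw [points_map_comp_fun] at h2
  exact isOpenMap_of_comp_surjective (isSurjectiveMor_of_repWith ht2s) (AlgSp.Points.continuous_map _) h2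

theorem isUnivOpenMor_of_chart {X Y : AlgSp.Sp S} {g : X ⟶ Y} {U : AlgSp.Sp S}
    (b : U ⟶ X) (hbs : AlgSp.RepWith @Surjective b)
    (hbg : AlgSp.RepWith @UniversallyOpen (b ≫ g)) : AlgSp.IsUnivOpenMor g :=
  fun _ _ _ _ _ _ sq => isOpenMap_of_isPullback_of_chart sq b hbs hbg

/-- Universal openness descends along a representable universally open surjective base change. -/
theorem isUnivOpenMor_of_base_change {X Y V P : AlgSp.Sp S} (hX : AlgSp.IsAlgSpace X)
    (hY : AlgSp.IsAlgSpace Y) (hV : AlgSp.IsAlgSpace V) {f : X ⟶ Y} {p : V ⟶ Y}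
    (hp : AlgSp.RepWith @UniversallyOpen p) (hps : AlgSp.RepWith @Surjective p)
    {fst : P ⟶ X} {snd : P ⟶ V} (sq : IsPullback fst snd f p) (h : AlgSp.IsUnivOpenMor snd) :
    AlgSp.IsUnivOpenMor f := by
  intro Z Z' hZ g z1 z2 sqZ
  -- Z_V = Z ×_Y V
  have sqV := IsPullback.of_hasPullback g p
  have hZV : AlgSp.IsAlgSpace (pullback g p) := isAlgSpace_of_isPullback hY.diag hZ hV sqV
  have hv1o : AlgSp.RepWith @UniversallyOpen (pullback.fst g p) :=
    MorphismProperty.of_isPullback sqV.flip hp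
  have hv1s : AlgSp.RepWith @Surjective (pullback.fst g p) :=
    MorphismProperty.of_isPullback sqV.flip hps
  -- Q = Z' ×_Z Z_V
  have sqQ := IsPullback.of_hasPullback z2 (pullback.fst g p)
  -- Q = X ×_Y Z_V = P ×_V Z_V
  have big : IsPullback (pullback.fst z2 (pullback.fst g p) ≫ z1) (pullback.snd z2 (pullback.fst g p))
      f (pullback.fst g p ≫ g) := sqQ.paste_horiz sqZ
  have hk : pullback.fst g p ≫ g = pullback.snd g p ≫ p := sqV.w
  rw [hk] at big
  let l : pullback z2 (pullback.fst g p) ⟶ P :=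
    sq.lift (pullback.fst z2 (pullback.fst g p) ≫ z1)
      (pullback.snd z2 (pullback.fst g p) ≫ pullback.snd g p) (by
        rw [Category.assoc, sqZ.w, ← Category.assoc, sqQ.w, Category.assoc, Category.assoc, sqV.w])
  have hl1 : l ≫ fst = pullback.fst z2 (pullback.fst g p) ≫ z1 := sq.lift_fst _ _ _
  have hl2 : l ≫ snd = pullback.snd z2 (pullback.fst g p) ≫ pullback.snd g p := sq.lift_snd _ _ _
  rw [← hl1] at big
  have sqL : IsPullback l (pullback.snd z2 (pullback.fst g p)) snd (pullback.snd g p) :=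
    IsPullback.of_right big hl2 sq
  have hopen : IsOpenMap (AlgSp.Points.map (pullback.snd z2 (pullback.fst g p))) :=
    h hZV _ _ _ sqL
  -- now descend openness along the quotient map |Z_V| → |Z|
  have hquot : IsQuotientMap (AlgSp.Points.map (pullback.fst g p)) :=
    (isOpenMap_points_map_of_repWith hv1o).isQuotientMap (AlgSp.Points.continuous_map _)
      (isSurjectiveMor_of_repWith hv1s)
  intro W hW
  rw [← hquot.isOpen_preimage, preimage_map_image_map sqQ W]
  exact hopen _ ((AlgSp.Points.continuous_map _).isOpen_preimage W hW)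

end Groth.Agent.Lib.H15.AS
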