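import Mathlib
import Groth.Prelude.Def_AlgSp
import Groth.Prelude.Def_AlgSp2
import Groth.Prelude.Def_AlgSp3
import Groth.Prelude.Def_AlgSp4
import Groth.Agent.Lib.helper15.AlgSpOpen

set_option autoImplicit false
universe u
open CategoryTheory CategoryTheory.Limits AlgebraicGeometry Opposite Topology

namespace Groth.Agent.Lib.H15.AS

variable {S : Scheme.{u}}

/-- Universal openness can be tested on affine schemes over the target. -/
theorem isUnivOpenMor_of_affine {X Y : AlgSp.Sp S} {f : X ⟶ Y}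
    (H : ∀ (Z : Over S), IsAffine Z.left → ∀ (g : (AlgSp.yon S).obj Z ⟶ Y) (P : AlgSp.Sp S)
      (fst : P ⟶ X) (snd : P ⟶ (AlgSp.yon S).obj Z), IsPullback fst snd f g →
      IsOpenMap (AlgSp.Points.map snd)) : AlgSp.IsUnivOpenMor f := by
  intro Z Z' hZ g z1 z2 sqZ
  obtain ⟨V, c, hce, hcs⟩ := hZ.atlas
  have hquot := isQuotientMap_ofPt c (repWith_universallyOpen_of_etale hce) hcs
  intro W hW
  rw [← hquot.isOpen_preimage, isOpen_iff_forall_mem_open]
  intro v hv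
  obtain ⟨A, hA, hvA, -⟩ := TopologicalSpace.Opens.isBasis_iff_nbhd.1 (V.left.isBasis_affineOpens)
    (show v ∈ (⊤ : V.left.Opens) from trivial)
  obtain ⟨cA, hcA⟩ : ∃ cA : (AlgSp.yon S).obj (overOpen V A) ⟶ Z,
      cA = (AlgSp.yon S).map (overOpenι V A) ≫ c := ⟨_, rfl⟩
  have sqA := IsPullback.of_hasPullback z2 cA
  have big := sqA.paste_horiz sqZ
  have hopenA : IsOpenMap (AlgSp.Points.map (pullback.snd z2 cA)) :=
    H (overOpen V A) hA (cA ≫ g) _ _ _ big
  have hOA : IsOpen (AlgSp.Points.ofPt cA ⁻¹' (AlgSp.Points.map z2 '' W)) := by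
    rw [ofPt_eq_comp, Set.preimage_comp, preimage_map_image_map sqA W]
    exact (hopenA _ ((AlgSp.Points.continuous_map _).isOpen_preimage W hW)).preimage
      (AlgSp.Points.schemeHomeo _).continuous
  have hkey : ∀ a : ↥(overOpen V A).left,
      AlgSp.Points.ofPt cA a = AlgSp.Points.ofPt c ((Scheme.Opens.ι (A : V.left.Opens)) a) := by
    intro a
    rw [hcA, ofPt_yon_map_comp]
    rfl
  refine ⟨(Scheme.Opens.ι (A : V.left.Opens)) '' (AlgSp.Points.ofPt cA ⁻¹' (AlgSp.Points.map z2 '' W)), ?_,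
    (Scheme.Opens.ι (A : V.left.Opens)).isOpenEmbedding.isOpenMap _ hOA, ?_⟩
  · rintro _ ⟨a, ha, rfl⟩
    change AlgSp.Points.ofPt c ((Scheme.Opens.ι (A : V.left.Opens)) a) ∈ AlgSp.Points.map z2 '' W
    rw [← hkey]
    exact ha
  · refine ⟨⟨v, hvA⟩, ?_, rfl⟩
    change AlgSp.Points.ofPt cA ⟨v, hvA⟩ ∈ AlgSp.Points.map z2 '' W
    rw [hkey]
    exact hv

/-- Restricting a chart to a quasi-compact open with prescribed compact open image. -/
theorem exists_compact_open_image_eq {T : AlgSp.Sp S} {V : Over S} (e : (AlgSp.yon S).obj V ⟶ T)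
    (hopen : IsOpenMap (AlgSp.Points.ofPt e)) (K : Set (AlgSp.Points T)) (hK : IsOpen K)
    (hKc : IsCompact K) (hsub : K ⊆ Set.range (AlgSp.Points.ofPt e)) :
    ∃ W : V.left.Opens, IsCompact (W : Set V.left) ∧ AlgSp.Points.ofPt e '' (W : Set V.left) = K := by
  have hO : IsOpen (AlgSp.Points.ofPt e ⁻¹' K) := (AlgSp.Points.continuous_ofPt e).isOpen_preimage K hK
  let I := {A : V.left.affineOpens // ((A : V.left.Opens) : Set V.left) ⊆ AlgSp.Points.ofPt e ⁻¹' K}
  have hcov : K ⊆ ⋃ A : I, AlgSp.Points.ofPt e '' ((A.1 : V.left.Opens) : Set V.left) := by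
    intro x hx
    obtain ⟨v, rfl⟩ := hsub hx
    obtain ⟨A, hA, hvA, hAO⟩ :=
      TopologicalSpace.Opens.isBasis_iff_nbhd.1 (V.left.isBasis_affineOpens)
        (U := ⟨_, hO⟩) (show v ∈ (⟨_, hO⟩ : V.left.Opens) from hx)
    exact Set.mem_iUnion.2 ⟨⟨⟨A, hA⟩, hAO⟩, v, hvA, rfl⟩
  obtain ⟨t, ht⟩ := hKc.elim_finite_subcover
    (fun A : I => AlgSp.Points.ofPt e '' ((A.1 : V.left.Opens) : Set V.left))
    (fun A => hopen _ A.1.1.2) hcov
  let W : V.left.Opens := ⨆ i ∈ t, (i.1 : V.left.Opens)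
  have hWeq : (W : Set V.left) = ⋃ i ∈ t, ((i.1 : V.left.Opens) : Set V.left) := by
    simp [W]
  have hWc : IsCompact (W : Set V.left) := by
    rw [hWeq]
    exact t.isCompact_biUnion (fun i _ => i.1.2.isCompact)
  refine ⟨W, hWc, ?_⟩
  apply Set.Subset.antisymm
  · rintro _ ⟨v, hv, rfl⟩
    rw [hWeq] at hv
    obtain ⟨i, hi⟩ := Set.mem_iUnion.1 hv
    obtain ⟨_, hvi⟩ := Set.mem_iUnion.1 hi
    exact i.2 hvi
  · intro x hx
    obtain ⟨i, hi⟩ := Set.mem_iUnion.1 (ht hx)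
    obtain ⟨hit, v, hv, rfl⟩ := Set.mem_iUnion.1 hi
    refine ⟨v, ?_, rfl⟩
    rw [hWeq]
    exact Set.mem_iUnion.2 ⟨i, Set.mem_iUnion.2 ⟨hit, hv⟩⟩

/-- A quasi-compact morphism pulls back quasi-compact opens to quasi-compact sets. -/
theorem isCompact_preimage_of_isQuasiCompactMor {X Y : AlgSp.Sp S} (hY : AlgSp.IsAlgSpace Y)
    {f : X ⟶ Y} (hf : AlgSp.IsQuasiCompactMor f) (K : Set (AlgSp.Points Y)) (hK : IsOpen K)
    (hKc : IsCompact K) : IsCompact (AlgSp.Points.map f ⁻¹' K) := by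
  obtain ⟨V, b, hbe, hbs⟩ := hY.atlas
  have hopen := isOpenMap_ofPt b (repWith_universallyOpen_of_etale hbe)
  obtain ⟨W, hWc, hWK⟩ := exists_compact_open_image_eq b hopen K hK hKc
    (fun x _ => surjective_ofPt b hbs x)
  have : CompactSpace ↥(overOpen V W).left := isCompact_iff_compactSpace.1 hWc
  obtain ⟨g, hg⟩ : ∃ g : (AlgSp.yon S).obj (overOpen V W) ⟶ Y,
      g = (AlgSp.yon S).map (overOpenι V W) ≫ b := ⟨_, rfl⟩
  have sq := IsPullback.of_hasPullback f g
  have hP : AlgSp.IsQuasiCompactSp (pullback f g) :=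
    hf (AlgSp.IsAlgSpace.yon_obj _) (isQuasiCompactSp_yon _) g _ _ sq
  have := compactSpace_of_isQuasiCompactSp hP
  have hrange : Set.range (AlgSp.Points.map g) = K := by
    rw [← hWK, ← range_ofPt_overOpen b W, ← hg, ofPt_eq_comp,
      Set.range_comp, (AlgSp.Points.schemeHomeo _).surjective.range_eq, Set.image_univ]
  rw [← hrange, ← range_map_fst_of_isPullback sq]
  exact isCompact_range (AlgSp.Points.continuous_map _)

end Groth.Agent.Lib.H15.AS
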