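import Mathlib
import Groth.Prelude.Def_AlgSp
import Groth.Prelude.Def_AlgSp2
import Groth.Prelude.Def_AlgSp3
import Groth.Prelude.Def_AlgSp4
import Groth.Agent.Lib.helper15.AlgSpOpen2

set_option autoImplicit false
universe u
open CategoryTheory CategoryTheory.Limits AlgebraicGeometry Opposite Topology

namespace Groth.Agent.Lib.H15.AS

variable {S : Scheme.{u}}

/-- Universal closedness can be tested on affine schemes over the target. -/
theorem isUnivClosedMor_of_affine {X Y : AlgSp.Sp S} {f : X ⟶ Y}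
    (H : ∀ (Z : Over S), IsAffine Z.left → ∀ (g : (AlgSp.yon S).obj Z ⟶ Y) (P : AlgSp.Sp S)
      (fst : P ⟶ X) (snd : P ⟶ (AlgSp.yon S).obj Z), IsPullback fst snd f g →
      IsClosedMap (AlgSp.Points.map snd)) : AlgSp.IsUnivClosedMor f := by
  intro Z Z' hZ g z1 z2 sqZ
  obtain ⟨V, c, hce, hcs⟩ := hZ.atlas
  have hquot := isQuotientMap_ofPt c (repWith_universallyOpen_of_etale hce) hcs
  intro W hW
  rw [← hquot.isClosed_preimage]
  have hcover : TopologicalSpace.IsOpenCover (fun A : V.left.affineOpens => (A : V.left.Opens)) :=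
    AlgebraicGeometry.iSup_affineOpens_eq_top V.left
  rw [hcover.isClosed_iff_coe_preimage]
  intro A
  obtain ⟨cA, hcA⟩ : ∃ cA : (AlgSp.yon S).obj (overOpen V A.1) ⟶ Z,
      cA = (AlgSp.yon S).map (overOpenι V A.1) ≫ c := ⟨_, rfl⟩
  have sqA := IsPullback.of_hasPullback z2 cA
  have big := sqA.paste_horiz sqZ
  have hclosedA : IsClosedMap (AlgSp.Points.map (pullback.snd z2 cA)) :=
    H (overOpen V A.1) A.2 (cA ≫ g) _ _ _ big
  have hOA : IsClosed (AlgSp.Points.ofPt cA ⁻¹' (AlgSp.Points.map z2 '' W)) := by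
    rw [ofPt_eq_comp, Set.preimage_comp, preimage_map_image_map sqA W]
    exact (hclosedA _ (hW.preimage (AlgSp.Points.continuous_map _))).preimage
      (AlgSp.Points.schemeHomeo _).continuous
  have hkey : ∀ a : ↥(overOpen V A.1).left,
      AlgSp.Points.ofPt cA a = AlgSp.Points.ofPt c ((Scheme.Opens.ι (A.1 : V.left.Opens)) a) := by
    intro a
    rw [hcA, ofPt_yon_map_comp]
    rfl
  have hset : (((↑) : (A.1 : V.left.Opens) → V.left) ⁻¹'
      (AlgSp.Points.ofPt c ⁻¹' (AlgSp.Points.map z2 '' W))) =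
      AlgSp.Points.ofPt cA ⁻¹' (AlgSp.Points.map z2 '' W) := by
    ext a
    change AlgSp.Points.ofPt c ((Scheme.Opens.ι (A.1 : V.left.Opens)) a) ∈ AlgSp.Points.map z2 '' W ↔
      AlgSp.Points.ofPt cA a ∈ AlgSp.Points.map z2 '' W
    rw [hkey]
  rw [hset]
  exact hOA

/-- Universal closedness descends along a representable universally open surjective base change. -/
theorem isUnivClosedMor_of_base_change {X Y V P : AlgSp.Sp S}
    (hY : AlgSp.IsAlgSpace Y) (hV : AlgSp.IsAlgSpace V) {f : X ⟶ Y} {p : V ⟶ Y}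
    (hp : AlgSp.RepWith @UniversallyOpen p) (hps : AlgSp.RepWith @Surjective p)
    {fst : P ⟶ X} {snd : P ⟶ V} (sq : IsPullback fst snd f p) (h : AlgSp.IsUnivClosedMor snd) :
    AlgSp.IsUnivClosedMor f := by
  intro Z Z' hZ g z1 z2 sqZ
  have sqV := IsPullback.of_hasPullback g p
  have hZV : AlgSp.IsAlgSpace (pullback g p) := isAlgSpace_of_isPullback hY.diag hZ hV sqV
  have hv1o : AlgSp.RepWith @UniversallyOpen (pullback.fst g p) :=
    MorphismProperty.of_isPullback sqV.flip hp
  have hv1s : AlgSp.RepWith @Surjective (pullback.fst g p) :=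
    MorphismProperty.of_isPullback sqV.flip hps
  have sqQ := IsPullback.of_hasPullback z2 (pullback.fst g p)
  have big : IsPullback (pullback.fst z2 (pullback.fst g p) ≫ z1) (pullback.snd z2 (pullback.fst g p))
      f (pullback.fst g p ≫ g) := sqQ.paste_horiz sqZ
  have hk : pullback.fst g p ≫ g = pullback.snd g p ≫ p := sqV.w
  rw [hk] at big
  let l : pullback z2 (pullback.fst g p) ⟶ P :=
    sq.lift (pullback.fst z2 (pullback.fst g p) ≫ z1)
      (pullback.snd z2 (pullback.fst g p) ≫ pullback.snd g p) (by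
        rw [Category.assoc, sqZ.w, ← Category.assoc, sqQ.w, Category.assoc, Category.assoc, sqV.w])
  have hl1 : l ≫ fst = pullback.fst z2 (pullback.fst g p) ≫ z1 := sq.lift_fst _ _ _
  have hl2 : l ≫ snd = pullback.snd z2 (pullback.fst g p) ≫ pullback.snd g p := sq.lift_snd _ _ _
  rw [← hl1] at big
  have sqL : IsPullback l (pullback.snd z2 (pullback.fst g p)) snd (pullback.snd g p) :=
    IsPullback.of_right big hl2 sq
  have hclosed : IsClosedMap (AlgSp.Points.map (pullback.snd z2 (pullback.fst g p))) :=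
    h hZV _ _ _ sqL
  have hquot : IsQuotientMap (AlgSp.Points.map (pullback.fst g p)) :=
    (isOpenMap_points_map_of_repWith hv1o).isQuotientMap (AlgSp.Points.continuous_map _)
      (isSurjectiveMor_of_repWith hv1s)
  intro W hW
  rw [← hquot.isClosed_preimage, preimage_map_image_map sqQ W]
  exact hclosed _ (hW.preimage (AlgSp.Points.continuous_map _))

end Groth.Agent.Lib.H15.AS
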