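import Mathlib
import Groth.Prelude.Def_AlgSp
import Groth.Prelude.Def_AlgSp2
import Groth.Prelude.Def_AlgSp3
import Groth.Prelude.Def_AlgSp4
import Groth.Agent.Lib.helper15.AlgSpPoints3

set_option autoImplicit false
universe u
open CategoryTheory CategoryTheory.Limits AlgebraicGeometry Opposite Topology

namespace Groth.Agent.Lib.H15.AS

variable {S : Scheme.{u}}

/-- In a scheme the points whose local ring has dimension zero are dense. -/
theorem dense_setOf_ringKrullDim_stalk_eq_zero (U : Scheme.{u}) :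
    Dense {u : U | ringKrullDim ↥(U.presheaf.stalk u) = 0} := by
  rw [dense_iff_inter_open]
  intro O hO ⟨x, hx⟩
  obtain ⟨R, f, hf, hxf, hsub⟩ :=
    Scheme.exists_affine_mem_range_and_range_subset (U := ⟨O, hO⟩) (x := x) hx
  obtain ⟨y, rfl⟩ := hxf
  obtain ⟨q, hq, -⟩ := Ideal.exists_minimalPrimes_le (bot_le : ⊥ ≤ y.asIdeal)
  have hqp : q.IsPrime := hq.1.1
  let z : Spec R := ⟨q, hqp⟩
  refine ⟨f z, hsub ⟨z, rfl⟩, ?_⟩
  change ringKrullDim ↥(U.presheaf.stalk (f z)) = 0
  rw [ringKrullDim_stalk_eq_coheight, coheight_eq_of_isOpenImmersion, ← idealHeight_eq_coheight]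
  have : z.asIdeal.height = 0 := Ideal.height_eq_zero_iff.2 hq
  rw [this]
  rfl

/-- The codimension zero points of an algebraic space are dense. -/
theorem dense_codimZero_points {X : AlgSp.Sp S} (hX : AlgSp.IsAlgSpace X) :
    Dense {x : AlgSp.Points X |
      AlgSp.HasAt (fun U u => ringKrullDim ↥(U.presheaf.stalk u) = 0) X x} := by
  obtain ⟨U, p, hpe, hps⟩ := hX.atlas
  have hd := dense_setOf_ringKrullDim_stalk_eq_zero U.left
  have hdr : DenseRange (AlgSp.Points.ofPt p) := (surjective_ofPt p hps).denseRange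
  refine (hdr.dense_image (AlgSp.Points.continuous_ofPt p) hd).mono ?_
  rintro _ ⟨u, hu, rfl⟩
  exact ⟨U, p, u, hpe, rfl, hu⟩

end Groth.Agent.Lib.H15.AS
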