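import Mathlib
import Groth.Prelude.Def_AlgSp
import Groth.Prelude.Def_AlgSp2
import Groth.Prelude.Def_AlgSp3
import Groth.Prelude.Def_AlgSp4
import Groth.Agent.Lib.helper15.AlgSpCodimZero
import Groth.Agent.Lib.helper15.AlgSpLocPGen2
import Groth.Agent.Lib.helper15.UnramLqf

set_option autoImplicit false
universe u
open CategoryTheory CategoryTheory.Limits AlgebraicGeometry Opposite Topology

namespace Groth.Agent.Lib.H15.AS

variable {S : Scheme.{u}}

theorem ringKrullDim_stalk_eq_zero_iff_isMax {U : Scheme.{u}} (u : U) :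
    ringKrullDim ↥(U.presheaf.stalk u) = 0 ↔ IsMax u := by
  rw [ringKrullDim_stalk_eq_coheight]
  rw [show ((0 : WithBot ℕ∞)) = ((0 : ℕ∞) : WithBot ℕ∞) from rfl, WithBot.coe_inj,
    Order.coheight_eq_zero]

/-- A flat morphism maps maximal points (for generization) to maximal points. -/
theorem isMax_map_of_flat {U V : Scheme.{u}} (h : U ⟶ V) [Flat h] {u : U} (hu : IsMax u) :
    IsMax (h u) := by
  intro b hb
  obtain ⟨u', hu', rfl⟩ := Flat.generalizingMap h (Scheme.le_iff_specializes.1 hb)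
  have h1 : u ⤳ u' := Scheme.le_iff_specializes.1 (hu (Scheme.le_iff_specializes.2 hu'))
  exact Scheme.le_iff_specializes.2 (h1.map h.continuous)

/-- Points over a maximal point under an etale morphism are maximal. -/
theorem isMax_of_etale {U' U : Scheme.{u}} (p : U' ⟶ U) [Etale p] {u' : U'} (hu : IsMax (p u')) :
    IsMax u' := by
  intro b hb
  have hb' : b ⤳ u' := Scheme.le_iff_specializes.1 hb
  have h1 : p b ⤳ p u' := hb'.map p.continuous
  have h2 : p u' ⤳ p b := Scheme.le_iff_specializes.1 (hu (Scheme.le_iff_specializes.2 h1))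
  have h3 : p b = p u' := (h1.antisymm h2).eq
  have : LocallyQuasiFinite p := Groth.Agent.Lib.H15.locallyQuasiFinite_of_formallyUnramified p
  have hd := p.isDiscrete_preimage_singleton (p u')
  rw [isDiscrete_iff_discreteTopology] at hd
  have hbm : b ∈ p ⁻¹' {p u'} := h3
  have hum : u' ∈ p ⁻¹' {p u'} := rfl
  have h4 : (⟨b, hbm⟩ : ↥(p ⁻¹' {p u'})) ⤳ ⟨u', hum⟩ := (subtype_specializes_iff _ _).2 hb'
  have h5 := congrArg Subtype.val h4.eq
  have h6 : b = u' := h5
  rw [h6]

/-- A flat morphism of algebraic spaces maps codimension zero points to codimension zero points. -/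
theorem hasAt_codimZero_map_of_flat {X Y : AlgSp.Sp S} (hY : AlgSp.IsAlgSpace Y) (f : X ⟶ Y)
    (hf : AlgSp.LocP @Flat f) (x : AlgSp.Points X)
    (hx : AlgSp.HasAt (fun U u => ringKrullDim ↥(U.presheaf.stalk u) = 0) X x) :
    AlgSp.HasAt (fun U u => ringKrullDim ↥(U.presheaf.stalk u) = 0) Y (AlgSp.Points.map f x) := by
  obtain ⟨U, a, u, hae, rfl, hu⟩ := hx
  obtain ⟨V, b, hbe, hbs⟩ := hY.atlas
  obtain ⟨U', p, h, hpe, hps, w⟩ := exists_chart_cover f a b hbe hbs
  have hpe' : Etale p.left := hpe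
  have hps' : Surjective p.left := hps
  obtain ⟨u', rfl⟩ := hps'.surj u
  have ha'e : AlgSp.RepWith @Etale ((AlgSp.yon S).map p ≫ a) :=
    repWith_yon_map_comp @Etale p a hpe hae
  have hflat : Flat h.left := hf _ b h ha'e hbe w
  rw [ringKrullDim_stalk_eq_zero_iff_isMax] at hu
  have hu' : IsMax u' := isMax_of_etale p.left hu
  have hv : IsMax (h.left u') := isMax_map_of_flat h.left hu'
  refine ⟨V, b, h.left u', hbe, ?_, (ringKrullDim_stalk_eq_zero_iff_isMax _).2 hv⟩
  rw [← ofPt_yon_map_comp, ← w, ← AlgSp.Points.map_ofPt, ofPt_yon_map_comp]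

end Groth.Agent.Lib.H15.AS
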