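import Mathlib
import Groth.Prelude.Def_AlgSp
import Groth.Prelude.Def_AlgSp2
import Groth.Prelude.Def_AlgSp3
import Groth.Prelude.Def_AlgSp4
import Groth.Agent.Lib.helper15.AlgSpCodimZero2
import Groth.Agent.Lib.helper15.AlgSpSeven2

set_option autoImplicit false
universe u
open CategoryTheory CategoryTheory.Limits AlgebraicGeometry Opposite Topology

namespace Groth.Agent.Lib.H15.AS

variable {S : Scheme.{u}}

/-- An etale morphism is strictly monotone for the generization order. -/
theorem strictMono_of_etale {W U : Scheme.{u}} (g : W ⟶ U) [Etale g] :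
    StrictMono (fun w : W => g w) := by
  intro a b hab
  have h1 : b ⤳ a := Scheme.le_iff_specializes.1 hab.le
  have h2 : g b ⤳ g a := h1.map g.continuous
  refine lt_of_le_not_ge (Scheme.le_iff_specializes.2 h2) ?_
  intro h3
  have h4 : g a ⤳ g b := Scheme.le_iff_specializes.1 h3
  have h5 : g b = g a := (h2.antisymm h4).eq
  have : LocallyQuasiFinite g := Groth.Agent.Lib.H15.locallyQuasiFinite_of_formallyUnramified g
  have hd := g.isDiscrete_preimage_singleton (g a)
  rw [isDiscrete_iff_discreteTopology] at hd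
  have hbm : b ∈ g ⁻¹' {g a} := h5
  have ham : a ∈ g ⁻¹' {g a} := rfl
  have h6 : (⟨b, hbm⟩ : ↥(g ⁻¹' {g a})) ⤳ ⟨a, ham⟩ := (subtype_specializes_iff _ _).2 h1
  have h7 : b = a := congrArg Subtype.val h6.eq
  exact hab.ne h7.symm

/-- An etale morphism preserves the codimension of points. -/
theorem coheight_eq_of_etale {W U : Scheme.{u}} (g : W ⟶ U) [Etale g] (w : W) :
    Order.coheight w = Order.coheight (g w) := by
  refine Order.coheight_eq_of_strictMono (fun w : W => g w) (strictMono_of_etale g) ?_ w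
  intro a b hab
  obtain ⟨a', ha', rfl⟩ := Flat.generalizingMap g (Scheme.le_iff_specializes.1 hab.le)
  refine ⟨a', lt_of_le_not_ge (Scheme.le_iff_specializes.2 ha') ?_, rfl⟩
  intro h
  have h1 : a ⤳ a' := Scheme.le_iff_specializes.1 h
  exact hab.not_ge (Scheme.le_iff_specializes.2 (h1.map g.continuous))

theorem ringKrullDim_stalk_eq_of_etale {W U : Scheme.{u}} (g : W ⟶ U) [Etale g] (w : W) :
    ringKrullDim ↥(W.presheaf.stalk w) = ringKrullDim ↥(U.presheaf.stalk (g w)) := by
  rw [ringKrullDim_stalk_eq_coheight, ringKrullDim_stalk_eq_coheight, coheight_eq_of_etale g w]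

/-- The dimension of the local ring at a point of an etale chart does not depend on the chart. -/
theorem ringKrullDim_stalk_eq_of_charts {X : AlgSp.Sp S} (hX : AlgSp.IsAlgSpace X) {U U' : Over S}
    (a : (AlgSp.yon S).obj U ⟶ X) (a' : (AlgSp.yon S).obj U' ⟶ X) (hae : AlgSp.RepWith @Etale a)
    (ha'e : AlgSp.RepWith @Etale a') (u : ↥U.left) (u' : ↥U'.left)
    (e : AlgSp.Points.ofPt a u = AlgSp.Points.ofPt a' u') :
    ringKrullDim ↥(U.left.presheaf.stalk u) = ringKrullDim ↥(U'.left.presheaf.stalk u') := by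
  have hrep : AlgSp.Representable a := hae.rep
  have sq := hrep.isPullback' a'
  obtain ⟨t, ht1, ht2⟩ := exists_point_of_ofPt_eq sq u u' e
  have h2 : Etale (hrep.snd a').left := hae.property_snd a'
  have h1 : Etale (hrep.fst' a').left :=
    ((AlgSp.repWith_iff _ _).1 ha'e).2 a ((AlgSp.yon S).map (hrep.snd a')) (hrep.fst' a') sq.flip
  rw [← ht1, ← ht2, ← ringKrullDim_stalk_eq_of_etale, ← ringKrullDim_stalk_eq_of_etale]

end Groth.Agent.Lib.H15.AS
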