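import Mathlib
import Groth.Prelude.Def_AlgSp
import Groth.Prelude.Def_AlgSp2
import Groth.Prelude.Def_AlgSp3
import Groth.Prelude.Def_AlgSp4
import Groth.Prelude.Def_AlgSpDec
import Groth.Agent.Lib.helper15.AlgSpDimStalk
import Groth.Agent.Lib.helper15.AlgSpPoints3
import Groth.Agent.Lib.helper15.UnramLqf

set_option autoImplicit false
universe u
open CategoryTheory CategoryTheory.Limits AlgebraicGeometry Opposite Topology

namespace Groth.Agent.Lib.H15.AS

variable {S : Scheme.{u}}

/-- If the point is represented by a field point with quasi-compact morphism, then the fibre of an etale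
chart from a quasi-compact scheme is finite. -/
theorem finite_fibre_of_quasiCompact_fieldPt {X : AlgSp.Sp S} (p : AlgSp.FieldPt X)
    (hq : AlgSp.RepWith @QuasiCompact p.toHom) {U : Over S} (a : (AlgSp.yon S).obj U ⟶ X)
    (ha : AlgSp.RepWith @Etale a) [CompactSpace ↥U.left] :
    (AlgSp.Points.ofPt a ⁻¹' {AlgSp.Points.mk p}).Finite := by
  have hrep : AlgSp.Representable p.toHom := hq.rep
  have sq := hrep.isPullback' a
  have h2 : QuasiCompact (hrep.snd a).left := hq.property_snd a
  have h1 : Etale (hrep.fst' a).left :=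
    ((AlgSp.repWith_iff _ _).1 ha).2 p.toHom ((AlgSp.yon S).map (hrep.snd a)) (hrep.fst' a) sq.flip
  have hc : CompactSpace ↥(hrep.pullback a).left :=
    QuasiCompact.compactSpace_of_compactSpace (hrep.snd a).left
  have hlq : LocallyQuasiFinite (hrep.fst' a).left :=
    Groth.Agent.Lib.H15.locallyQuasiFinite_of_formallyUnramified _
  have hqc : QuasiCompact (hrep.fst' a).left := by
    have : QuasiSeparatedSpace ↥p.pt.left := by
      change QuasiSeparatedSpace ↥(Spec (CommRingCat.of p.K))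
      infer_instance
    infer_instance
  have hfin : (Set.univ : Set ↥(hrep.pullback a).left).Finite := by
    have := (hrep.fst' a).left.finite_preimage_singleton
      (show ↥p.pt.left from (default : ↥(Spec (CommRingCat.of p.K))))
    refine this.subset ?_
    intro t _
    show (hrep.fst' a).left t = _
    exact @Subsingleton.elim ↥(Spec (CommRingCat.of p.K)) inferInstance _ _
  refine (hfin.image (fun t => (hrep.snd a).left t)).subset ?_
  intro u hu
  have hu' : AlgSp.Points.ofPt a u = AlgSp.Points.mk p := hu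
  have e : AlgSp.Points.ofPt p.toHom (default : ↥(Spec (CommRingCat.of p.K))) =
      AlgSp.Points.ofPt a u := by
    rw [hu']; exact AlgSp.Points.ofPt_toHom p _
  obtain ⟨t, -, ht⟩ := exists_point_of_ofPt_eq sq _ u e
  exact ⟨t, Set.mem_univ _, ht⟩

/-- If two points `u' ⤳ u`, `u ≠ u'` of an etale chart lie over the same point, then every point of the
fibre has a proper generization in the fibre. -/
theorem exists_proper_generization_in_fibre {X : AlgSp.Sp S} {U : Over S}
    (a : (AlgSp.yon S).obj U ⟶ X) (ha : AlgSp.RepWith @Etale a) (u u' : ↥U.left)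
    (he : AlgSp.Points.ofPt a u = AlgSp.Points.ofPt a u') (hs : u' ⤳ u) (hne : u ≠ u')
    (v : ↥U.left) (hv : AlgSp.Points.ofPt a v = AlgSp.Points.ofPt a u) :
    ∃ v' : ↥U.left, v' ⤳ v ∧ v' ≠ v ∧ AlgSp.Points.ofPt a v' = AlgSp.Points.ofPt a u := by
  have hrep : AlgSp.Representable a := ha.rep
  have sq := hrep.isPullback' a
  have h2 : Etale (hrep.snd a).left := ha.property_snd a
  have h1 : Etale (hrep.fst' a).left :=
    ((AlgSp.repWith_iff _ _).1 ha).2 a ((AlgSp.yon S).map (hrep.snd a)) (hrep.fst' a) sq.flip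
  obtain ⟨r, hr1, hr2⟩ := exists_point_of_ofPt_eq sq u v hv.symm
  have hs' : u' ⤳ (hrep.fst' a).left r := by rw [hr1]; exact hs
  obtain ⟨r', hr', hr'u⟩ := Flat.generalizingMap (hrep.fst' a).left hs'
  have hlt : r < r' := by
    refine lt_of_le_not_ge (Scheme.le_iff_specializes.2 hr') ?_
    intro h
    have h3 : r ⤳ r' := Scheme.le_iff_specializes.1 h
    have h4 : r = r' := (hr'.antisymm h3).symm.eq
    apply hne
    rw [← hr1, h4, hr'u]
  have hlt2 := strictMono_of_etale (hrep.snd a).left hlt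
  refine ⟨(hrep.snd a).left r', ?_, ?_, ?_⟩
  · rw [← hr2]; exact Scheme.le_iff_specializes.1 hlt2.le
  · rw [← hr2]; exact (ne_of_lt hlt2).symm
  · rw [← ofPt_yon_map_comp, ← sq.w, ofPt_yon_map_comp]
    have : (hrep.fst' a).left r' = u' := hr'u
    rw [this, he]

/-- If the fibre of an etale chart over a point meets an open neighbourhood of `u` in a finite set,
there are no proper generizations of `u` in the fibre. -/
theorem eq_of_specializes_of_finite_fibre {X : AlgSp.Sp S} {U : Over S}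
    (a : (AlgSp.yon S).obj U ⟶ X) (ha : AlgSp.RepWith @Etale a) (u u' : ↥U.left)
    (he : AlgSp.Points.ofPt a u = AlgSp.Points.ofPt a u') (hs : u' ⤳ u)
    (W : Set ↥U.left) (hW : IsOpen W) (hu : u ∈ W)
    (hfin : (AlgSp.Points.ofPt a ⁻¹' {AlgSp.Points.ofPt a u} ∩ W).Finite) : u = u' := by
  by_contra hne
  have hne' : (AlgSp.Points.ofPt a ⁻¹' {AlgSp.Points.ofPt a u} ∩ W).Nonempty := ⟨u, rfl, hu⟩
  obtain ⟨m, hm, hmax⟩ := hfin.exists_maximal hne'
  obtain ⟨v', hv's, hv'ne, hv'⟩ := exists_proper_generization_in_fibre a ha u u' he hs hne m hm.1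
  have hv'W : v' ∈ W := hv's.mem_open hW hm.2
  have h1 : m ≤ v' := Scheme.le_iff_specializes.2 hv's
  have h2 : v' ≤ m := hmax ⟨hv', hv'W⟩ h1
  exact hv'ne ((Scheme.le_iff_specializes.1 h2).antisymm hv's).symm.eq

end Groth.Agent.Lib.H15.AS

namespace Groth.Agent.Lib.H15.AS

variable {S : Scheme.{u}}

theorem quasiCompact_fromSpecResidueField (X : Scheme.{u}) (x : X) :
    QuasiCompact (X.fromSpecResidueField x) := by
  refine ⟨fun U _ _ => ?_⟩
  exact (Set.toFinite _).isCompact

/-- Points of a represented pullback: a point of `F` over the class of a field point lifts. -/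
theorem exists_point_of_map_eq_mk {F G : AlgSp.Sp S} {f : F ⟶ G} (q : AlgSp.FieldPt G) {P : Over S}
    {fst : (AlgSp.yon S).obj P ⟶ F} {snd : P ⟶ q.pt}
    (sq : IsPullback fst ((AlgSp.yon S).map snd) f q.toHom) (x : AlgSp.Points F)
    (hx : AlgSp.Points.map f x = AlgSp.Points.mk q) :
    ∃ z : ↥P.left, AlgSp.Points.ofPt fst z = x := by
  have e : AlgSp.Points.map f x = AlgSp.Points.map q.toHom
      (AlgSp.Points.ofScheme q.pt (default : ↥(Spec (CommRingCat.of q.K)))) := by
    rw [hx, ← AlgSp.Points.ofPt_eq_map_ofScheme, AlgSp.Points.ofPt_toHom]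
  obtain ⟨z', hz', -⟩ := points_exists_of_isPullback sq x _ e
  obtain ⟨z, rfl⟩ := (AlgSp.Points.schemeHomeo P).surjective z'
  exact ⟨z, by rw [AlgSp.Points.ofPt_eq_map_ofScheme]; exact hz'⟩

/-- A morphism representable by schemes to a decent space has decent source. -/
theorem isDecent_of_representable {F G : AlgSp.Sp S} (f : F ⟶ G) (hf : AlgSp.Representable f)
    (hG : AlgSp.IsDecent G) : AlgSp.IsDecent F := by
  intro x
  obtain ⟨q, hq, hqm, hqq⟩ := hG (AlgSp.Points.map f x)
  have sq := hf.isPullback q.toHom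
  obtain ⟨z, hz⟩ := exists_point_of_map_eq_mk q sq x hq.symm
  refine ⟨AlgSp.FieldPt.ofPt (hf.fst q.toHom) z, hz, ?_, ?_⟩
  · rw [AlgSp.FieldPt.toHom_ofPt]
    have h1 : Mono (hf.fst q.toHom) := sq.mono_fst_of_mono
    have h2 : Mono (Over.homMk ((hf.pullback q.toHom).left.fromSpecResidueField z) rfl :
        Over.mk ((hf.pullback q.toHom).left.fromSpecResidueField z ≫ (hf.pullback q.toHom).hom) ⟶
          hf.pullback q.toHom) := by
      have : Mono (Over.homMk ((hf.pullback q.toHom).left.fromSpecResidueField z) rfl :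
        Over.mk ((hf.pullback q.toHom).left.fromSpecResidueField z ≫ (hf.pullback q.toHom).hom) ⟶
          hf.pullback q.toHom).left := by
        change Mono ((hf.pullback q.toHom).left.fromSpecResidueField z)
        infer_instance
      exact Over.mono_of_mono_left _
    have h3 := Functor.map_mono (AlgSp.yon S) (Over.homMk
      ((hf.pullback q.toHom).left.fromSpecResidueField z) rfl :
        Over.mk ((hf.pullback q.toHom).left.fromSpecResidueField z ≫ (hf.pullback q.toHom).hom) ⟶
          hf.pullback q.toHom)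
    exact @mono_comp _ _ _ _ _ _ h3 _ h1
  · rw [AlgSp.FieldPt.toHom_ofPt]
    refine repWith_yon_map_comp @QuasiCompact _ _ ?_ ?_
    · exact quasiCompact_fromSpecResidueField _ z
    · exact MorphismProperty.of_isPullback sq.flip hqq

end Groth.Agent.Lib.H15.AS

namespace Groth.Agent.Lib.H15.AS

variable {S : Scheme.{u}}

/-- The restriction of a chart to an affine open neighbourhood of a point. -/
theorem exists_affine_chart_nhd {X : AlgSp.Sp S} {U : Over S} (a : (AlgSp.yon S).obj U ⟶ X)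
    (ha : AlgSp.RepWith @Etale a) (u : ↥U.left) :
    ∃ (U' : Over S) (φ : U' ⟶ U) (w : ↥U'.left), IsAffine U'.left ∧ IsOpenImmersion φ.left ∧
      φ.left w = u ∧ AlgSp.RepWith @Etale ((AlgSp.yon S).map φ ≫ a) := by
  obtain ⟨w₀, hw₀⟩ := U.left.affineCover.covers u
  let j := U.left.affineCover.f (U.left.affineCover.idx u)
  have hj : IsOpenImmersion j := inferInstance
  let U' : Over S := Over.mk (j ≫ U.hom)
  let φ : U' ⟶ U := Over.homMk j rfl
  have hφ : Etale φ.left := by change Etale j; infer_instance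
  refine ⟨U', φ, w₀, ?_, hj, hw₀, repWith_yon_map_comp @Etale φ a hφ ha⟩
  change IsAffine (U.left.affineCover.X (U.left.affineCover.idx u))
  infer_instance

/-- If every affine etale chart has finite fibre over `x`, there are no specializations in the fibres over `x`
of etale charts. -/
theorem eq_of_specializes_of_finite_fibres {X : AlgSp.Sp S} (x : AlgSp.Points X)
    (hx : ∀ (V : Over S) (b : (AlgSp.yon S).obj V ⟶ X), IsAffine V.left → AlgSp.RepWith @Etale b →
      (AlgSp.Points.ofPt b ⁻¹' {x}).Finite)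
    {U : Over S} (a : (AlgSp.yon S).obj U ⟶ X) (ha : AlgSp.RepWith @Etale a) (u u' : ↥U.left)
    (hu : AlgSp.Points.ofPt a u = x) (hu' : AlgSp.Points.ofPt a u' = x) (hs : u' ⤳ u) : u = u' := by
  obtain ⟨U', φ, w₀, haff, hoi, hw₀, ha'⟩ := exists_affine_chart_nhd a ha u
  have hfin := hx U' _ haff ha'
  refine eq_of_specializes_of_finite_fibre a ha u u' (hu.trans hu'.symm) hs (Set.range φ.left)
    φ.left.isOpenEmbedding.isOpen_range ⟨w₀, hw₀⟩ ?_
  refine (hfin.image (fun w => φ.left w)).subset ?_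
  rintro _ ⟨hv, w, rfl⟩
  refine ⟨w, ?_, rfl⟩
  show AlgSp.Points.ofPt ((AlgSp.yon S).map φ ≫ a) w = x
  rw [ofPt_yon_map_comp, ← hu]
  exact hv

end Groth.Agent.Lib.H15.AS

namespace Groth.Agent.Lib.H15.AS

variable {S : Scheme.{u}}

/-- Generizations to a point represented by a quasi-compact field point lift along etale charts. -/
theorem exists_generization_of_quasiCompact_fieldPt {X : AlgSp.Sp S} (p : AlgSp.FieldPt X)
    (hq : AlgSp.RepWith @QuasiCompact p.toHom) {U : Over S} (a : (AlgSp.yon S).obj U ⟶ X)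
    (ha : AlgSp.RepWith @Etale a) (u : ↥U.left) (h : AlgSp.Points.mk p ⤳ AlgSp.Points.ofPt a u) :
    ∃ u' : ↥U.left, u' ⤳ u ∧ AlgSp.Points.ofPt a u' = AlgSp.Points.mk p := by
  obtain ⟨U', φ, w₀, haff, hoi, hw₀, ha'⟩ := exists_affine_chart_nhd a ha u
  have hc : CompactSpace ↥U'.left := inferInstance
  have hfin := finite_fibre_of_quasiCompact_fieldPt p hq _ ha'
  have hopen : IsOpenMap (AlgSp.Points.ofPt ((AlgSp.yon S).map φ ≫ a)) :=
    isOpenMap_ofPt _ (repWith_universallyOpen_of_etale ha')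
  have hmem : w₀ ∈ closure (AlgSp.Points.ofPt ((AlgSp.yon S).map φ ≫ a) ⁻¹' {AlgSp.Points.mk p}) := by
    rw [mem_closure_iff]
    intro N hN hwN
    have h1 : AlgSp.Points.ofPt a u ∈ AlgSp.Points.ofPt ((AlgSp.yon S).map φ ≫ a) '' N :=
      ⟨w₀, hwN, by rw [ofPt_yon_map_comp, hw₀]⟩
    obtain ⟨n, hnN, hn⟩ := h.mem_open (hopen N hN) h1
    exact ⟨n, hnN, hn⟩
  have hU : AlgSp.Points.ofPt ((AlgSp.yon S).map φ ≫ a) ⁻¹' {AlgSp.Points.mk p} =
      ⋃ w ∈ AlgSp.Points.ofPt ((AlgSp.yon S).map φ ≫ a) ⁻¹' {AlgSp.Points.mk p}, ({w} : Set ↥U'.left) :=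
    (Set.biUnion_of_singleton _).symm
  rw [hU, hfin.closure_biUnion] at hmem
  simp only [Set.mem_iUnion] at hmem
  obtain ⟨w', hw', hw'c⟩ := hmem
  have hsp : w' ⤳ w₀ := specializes_iff_mem_closure.2 hw'c
  refine ⟨φ.left w', ?_, ?_⟩
  · rw [← hw₀]; exact hsp.map φ.left.continuous
  · rw [← ofPt_yon_map_comp]; exact hw'

end Groth.Agent.Lib.H15.AS

namespace Groth.Agent.Lib.H15.AS

variable {S : Scheme.{u}}

theorem eq_of_specializes_of_isDecent {X : AlgSp.Sp S} (hX : AlgSp.IsDecent X) {U : Over S}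
    (a : (AlgSp.yon S).obj U ⟶ X) (ha : AlgSp.RepWith @Etale a) (u u' : ↥U.left)
    (he : AlgSp.Points.ofPt a u = AlgSp.Points.ofPt a u') (hs : u' ⤳ u) : u = u' := by
  obtain ⟨p, hp, -, hq⟩ := hX (AlgSp.Points.ofPt a u)
  refine eq_of_specializes_of_finite_fibres (AlgSp.Points.ofPt a u) ?_ a ha u u' rfl he.symm hs
  intro V b hV hb
  have hc : CompactSpace ↥V.left := inferInstance
  rw [← hp]
  exact finite_fibre_of_quasiCompact_fieldPt p hq b hb

/-- The space of points of a decent algebraic space is Kolmogorov. -/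
theorem t0Space_points_of_isDecent {X : AlgSp.Sp S} (hXa : AlgSp.IsAlgSpace X) (hX : AlgSp.IsDecent X) :
    T0Space (AlgSp.Points X) := by
  refine ⟨fun x y hxy => ?_⟩
  obtain ⟨U, p, hpe, hps⟩ := hXa.atlas
  obtain ⟨u, hu⟩ := surjective_ofPt p hps x
  obtain ⟨qy, hqy, -, hqyq⟩ := hX y
  obtain ⟨qx, hqx, -, hqxq⟩ := hX x
  have h1 : AlgSp.Points.mk qy ⤳ AlgSp.Points.ofPt p u := by rw [hqy, hu]; exact hxy.specializes'
  obtain ⟨u₂, hu₂s, hu₂⟩ := exists_generization_of_quasiCompact_fieldPt qy hqyq p hpe u h1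
  have h2 : AlgSp.Points.mk qx ⤳ AlgSp.Points.ofPt p u₂ := by
    rw [hqx, hu₂, hqy]; exact hxy.specializes
  obtain ⟨u₃, hu₃s, hu₃⟩ := exists_generization_of_quasiCompact_fieldPt qx hqxq p hpe u₂ h2
  have h3 : u = u₃ := eq_of_specializes_of_isDecent hX p hpe u u₃ (by rw [hu, hu₃, hqx])
    (hu₃s.trans hu₂s)
  have h4 : u₂ = u := (hu₂s.antisymm (h3 ▸ hu₃s)).eq
  rw [← hu, ← h4, hu₂, hqy]

end Groth.Agent.Lib.H15.AS
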