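import Mathlib
import Groth.Prelude.Def_AlgSp
import Groth.Prelude.Def_AlgSp2
import Groth.Prelude.Def_AlgSp3
import Groth.Prelude.Def_AlgSp4
import Groth.Prelude.Def_AlgSpDec
import Groth.Agent.Lib.helper15.AlgSpDecent

set_option autoImplicit false
universe u
open CategoryTheory CategoryTheory.Limits AlgebraicGeometry Opposite Topology

namespace Groth.Agent.Lib.H15.AS

variable {S : Scheme.{u}}

/-- A locally quasi-finite morphism from a quasi-compact scheme has finite fibres (no assumption on the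
target). -/
theorem finite_preimage_singleton_of_compactSpace {W Y : Scheme.{u}} (f : W ⟶ Y) [LocallyQuasiFinite f]
    [CompactSpace ↥W] (y : Y) : ((fun w : W => f w) ⁻¹' {y}).Finite := by
  have key : ∀ w : W, ∃ N : W.Opens, w ∈ N ∧ (((fun w : W => f w) ⁻¹' {y}) ∩ (N : Set W)).Finite := by
    intro w
    obtain ⟨O0, ⟨O', hO', rfl⟩, hfwO', -⟩ := Y.isBasis_affineOpens.exists_subset_of_mem_open
      (Set.mem_univ (f w)) isOpen_univ
    obtain ⟨O, hOO'⟩ : ∃ O : Y.Opens, O = O' := ⟨O', rfl⟩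
    have hO : IsAffineOpen O := hOO' ▸ hO'
    have hfwO : f w ∈ O := hOO' ▸ hfwO'
    obtain ⟨N0, ⟨N', hN', rfl⟩, hwN', hN'O⟩ := W.isBasis_affineOpens.exists_subset_of_mem_open
      (show w ∈ ((f ⁻¹ᵁ O : W.Opens) : Set W) from hfwO) (f ⁻¹ᵁ O).2
    obtain ⟨N, hNN'⟩ : ∃ N : W.Opens, N = N' := ⟨N', rfl⟩
    have hN : IsAffineOpen N := hNN' ▸ hN'
    have hwN : w ∈ N := hNN' ▸ hwN'
    have hNO : N ≤ f ⁻¹ᵁ O := by
      intro a ha
      exact hN'O (hNN' ▸ ha)
    refine ⟨N, hwN, ?_⟩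
    have h1 : IsAffine (N : Scheme.{u}) := hN
    have h2 : IsAffine (O : Scheme.{u}) := hO
    by_cases hy : y ∈ O
    · have hfin := (f.resLE O N hNO).finite_preimage_singleton ⟨y, hy⟩
      refine (hfin.image (fun n => N.ι n)).subset ?_
      rintro w' ⟨hw'y, hw'N⟩
      refine ⟨⟨w', hw'N⟩, ?_, rfl⟩
      have hw'y' : f w' = y := hw'y
      show (f.resLE O N hNO) ⟨w', hw'N⟩ = ⟨y, hy⟩
      apply Subtype.ext
      have h3 : O.ι ((f.resLE O N hNO) ⟨w', hw'N⟩) = f (N.ι ⟨w', hw'N⟩) := by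
        rw [← Scheme.Hom.comp_apply, Scheme.Hom.resLE_comp_ι, Scheme.Hom.comp_apply]
      exact h3.trans hw'y'
    · have : ((fun w : W => f w) ⁻¹' {y}) ∩ (N : Set W) = ∅ := by
        ext w'
        simp only [Set.mem_inter_iff, Set.mem_preimage, Set.mem_singleton_iff, Set.mem_empty_iff_false,
          iff_false, not_and]
        intro h1 h2
        exact hy (h1 ▸ hNO h2)
      rw [this]
      exact Set.finite_empty
  choose N hwN hfin using key
  obtain ⟨t, ht⟩ := CompactSpace.elim_nhds_subcover (fun w => ((N w : W.Opens) : Set W))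
    (fun w => (N w).2.mem_nhds (hwN w))
  have : (fun w : W => f w) ⁻¹' {y} ⊆ ⋃ w ∈ t, (((fun w : W => f w) ⁻¹' {y}) ∩ (N w : Set W)) := by
    intro w' hw'
    have : w' ∈ ⋃ w ∈ t, ((N w : W.Opens) : Set W) := by rw [ht]; trivial
    simp only [Set.mem_iUnion] at this ⊢
    obtain ⟨w, hwt, hw'N⟩ := this
    exact ⟨w, hwt, hw', hw'N⟩
  exact (Set.Finite.biUnion t.finite_toSet (fun w _ => hfin w)).subset this

/-- If a jointly surjective family of etale charts has finite fibres over `x`, so does every etale chart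
from a quasi-compact scheme. -/
theorem finite_fibre_of_etale_cover_finite_fibres {X : AlgSp.Sp S} (x : AlgSp.Points X) {ι : Type u}
    (U : ι → Over S) (φ : ∀ i, (AlgSp.yon S).obj (U i) ⟶ X)
    (hφ : ∀ i, AlgSp.RepWith @Etale (φ i))
    (hsurj : ∀ y : AlgSp.Points X, ∃ (i : ι) (v : ↥(U i).left), AlgSp.Points.ofPt (φ i) v = y)
    (hfin : ∀ i, (AlgSp.Points.ofPt (φ i) ⁻¹' {x}).Finite)
    {V : Over S} [CompactSpace ↥V.left] (ψ : (AlgSp.yon S).obj V ⟶ X) (hψ : AlgSp.RepWith @Etale ψ) :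
    (AlgSp.Points.ofPt ψ ⁻¹' {x}).Finite := by
  have key : ∀ v : ↥V.left, ∃ O : Set ↥V.left, IsOpen O ∧ v ∈ O ∧
      (O ∩ (AlgSp.Points.ofPt ψ ⁻¹' {x})).Finite := by
    intro v
    obtain ⟨i, u, hu⟩ := hsurj (AlgSp.Points.ofPt ψ v)
    have hrep : AlgSp.Representable (φ i) := (hφ i).rep
    have sq := hrep.isPullback' ψ
    have h2 : Etale (hrep.snd ψ).left := (hφ i).property_snd ψ
    have h1 : Etale (hrep.fst' ψ).left :=
      ((AlgSp.repWith_iff _ _).1 hψ).2 (φ i) ((AlgSp.yon S).map (hrep.snd ψ)) (hrep.fst' ψ) sq.flip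
    obtain ⟨t, ht1, ht2⟩ := exists_point_of_ofPt_eq sq u v hu
    obtain ⟨α, hα⟩ := (hrep.pullback ψ).left.affineCover.covers t
    let j := (hrep.pullback ψ).left.affineCover.f ((hrep.pullback ψ).left.affineCover.idx t)
    have hj : IsOpenImmersion j := inferInstance
    have hπe : Etale (j ≫ (hrep.snd ψ).left) := inferInstance
    have hge : Etale (j ≫ (hrep.fst' ψ).left) := inferInstance
    have hglq : LocallyQuasiFinite (j ≫ (hrep.fst' ψ).left) :=
      Groth.Agent.Lib.H15.locallyQuasiFinite_of_formallyUnramified _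
    have hopen : IsOpenMap (fun a => (j ≫ (hrep.snd ψ).left) a) := (j ≫ (hrep.snd ψ).left).isOpenMap
    refine ⟨Set.range (fun a => (j ≫ (hrep.snd ψ).left) a), hopen.isOpen_range, ⟨α, ?_⟩, ?_⟩
    · show (j ≫ (hrep.snd ψ).left) α = v
      rw [Scheme.Hom.comp_apply, hα, ht2]
    · have hf1 : ((fun a => (j ≫ (hrep.fst' ψ).left) a) ⁻¹' (AlgSp.Points.ofPt (φ i) ⁻¹' {x})).Finite :=
        (hfin i).preimage' fun u' _ => finite_preimage_singleton_of_compactSpace _ u'
      refine (hf1.image (fun a => (j ≫ (hrep.snd ψ).left) a)).subset ?_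
      rintro _ ⟨⟨a, rfl⟩, ha⟩
      refine ⟨a, ?_, rfl⟩
      have ha' : AlgSp.Points.ofPt ψ ((j ≫ (hrep.snd ψ).left) a) = x := ha
      show AlgSp.Points.ofPt (φ i) ((j ≫ (hrep.fst' ψ).left) a) = x
      rw [← ha', Scheme.Hom.comp_apply, Scheme.Hom.comp_apply, ← ofPt_yon_map_comp, sq.w,
        ofPt_yon_map_comp]
  choose O hO hvO hOfin using key
  obtain ⟨t, ht⟩ := CompactSpace.elim_nhds_subcover O (fun v => (hO v).mem_nhds (hvO v))
  have : AlgSp.Points.ofPt ψ ⁻¹' {x} ⊆ ⋃ v ∈ t, (O v ∩ (AlgSp.Points.ofPt ψ ⁻¹' {x})) := by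
    intro v' hv'
    have : v' ∈ ⋃ v ∈ t, O v := by rw [ht]; trivial
    simp only [Set.mem_iUnion] at this ⊢
    obtain ⟨v, hvt, hv'O⟩ := this
    exact ⟨v, hvt, hv'O, hv'⟩
  exact (Set.Finite.biUnion t.finite_toSet (fun v _ => hOfin v)).subset this

end Groth.Agent.Lib.H15.AS
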