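import Mathlib
import Groth.Prelude.Def_AlgSp
import Groth.Prelude.Def_AlgSp2
import Groth.Prelude.Def_AlgSp3
import Groth.Prelude.Def_AlgSp4
import Groth.Prelude.Def_AlgSpDec
import Groth.Agent.Lib.helper15.AlgSpDecent2

set_option autoImplicit false
universe u
open CategoryTheory CategoryTheory.Limits AlgebraicGeometry Opposite Topology

namespace Groth.Agent.Lib.H15.AS

variable {S : Scheme.{u}}

/-- If `ψ : T ⟶ U` has image a single point `u` and `ψ ≫ g` is integral for some `g : U ⟶ S`, then `u` is a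
closed point of `U`. -/
theorem isClosed_singleton_of_integral_comp {T U B : Scheme.{u}} (ψ : T ⟶ U) (g : U ⟶ B)
    [IsIntegralHom (ψ ≫ g)] (u : U) (hu : Set.range ψ = {u}) : IsClosed ({u} : Set U) := by
  rw [← isOpen_compl_iff, isOpen_iff_forall_mem_open]
  intro w hw
  have hwu : w ≠ u := hw
  obtain ⟨V0, ⟨V', hV', rfl⟩, hgwV', -⟩ := B.isBasis_affineOpens.exists_subset_of_mem_open
    (Set.mem_univ (g w)) isOpen_univ
  obtain ⟨V, hVV'⟩ : ∃ V : B.Opens, V = V' := ⟨V', rfl⟩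
  have hV : IsAffineOpen V := hVV' ▸ hV'
  have hgwV : g w ∈ V := hVV' ▸ hgwV'
  obtain ⟨W0, ⟨W', hW', rfl⟩, hwW', hW'V⟩ := U.isBasis_affineOpens.exists_subset_of_mem_open
    (show w ∈ ((g ⁻¹ᵁ V : U.Opens) : Set U) from hgwV) (g ⁻¹ᵁ V).2
  obtain ⟨W, hWW'⟩ : ∃ W : U.Opens, W = W' := ⟨W', rfl⟩
  have hW : IsAffineOpen W := hWW' ▸ hW'
  have hwW : w ∈ W := hWW' ▸ hwW'
  have hWV : W ≤ g ⁻¹ᵁ V := by
    intro a ha
    exact hW'V (hWW' ▸ ha)
  by_cases huW : u ∈ W
  · have h1 : IsAffine (W : Scheme.{u}) := hW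
    have h2 : IsAffine (V : Scheme.{u}) := hV
    have hrange : Set.range ψ ⊆ Set.range W.ι := by
      rw [hu, Scheme.Opens.range_ι]
      exact Set.singleton_subset_iff.2 huW
    let ψW : T ⟶ W.toScheme := IsOpenImmersion.lift W.ι ψ hrange
    have hfac : ψW ≫ W.ι = ψ := IsOpenImmersion.lift_fac _ _ _
    have h3 : IsIntegralHom ((ψW ≫ g.resLE V W hWV) ≫ V.ι) := by
      rw [Category.assoc, Scheme.Hom.resLE_comp_ι, ← Category.assoc, hfac]
      infer_instance
    have h4 : IsIntegralHom (ψW ≫ g.resLE V W hWV) := IsIntegralHom.of_comp _ V.ι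
    have h5 : IsIntegralHom ψW := IsIntegralHom.of_comp _ (g.resLE V W hWV)
    have h6 : IsClosed (Set.range ψW) := ψW.isClosedMap.isClosed_range
    refine ⟨W.ι '' (Set.range ψW)ᶜ, ?_, W.ι.isOpenEmbedding.isOpenMap _ h6.isOpen_compl, ?_⟩
    · rintro _ ⟨n, hn, rfl⟩ (h : W.ι n = u)
      apply hn
      have : u ∈ Set.range ψ := by rw [hu]; rfl
      obtain ⟨t, ht⟩ := this
      refine ⟨t, W.ι.isOpenEmbedding.injective ?_⟩
      rw [h, ← ht, ← hfac, Scheme.Hom.comp_apply]
    · refine ⟨⟨w, hwW⟩, ?_, rfl⟩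
      rintro ⟨t, ht⟩
      apply hwu
      have : ψ t ∈ Set.range ψ := ⟨t, rfl⟩
      rw [hu] at this
      rw [← Set.mem_singleton_iff.1 this, ← hfac, Scheme.Hom.comp_apply, ht]
      rfl
  · exact ⟨W, fun a ha (h : a = u) => huW (h ▸ ha), W.2, hwW⟩

theorem isClosed_of_locally_finite_of_closed_points {α : Type*} [TopologicalSpace α] (Φ : Set α)
    (h1 : ∀ u ∈ Φ, IsClosed ({u} : Set α))
    (h2 : ∀ w : α, ∃ N : Set α, IsOpen N ∧ w ∈ N ∧ (Φ ∩ N).Finite) : IsClosed Φ := by
  rw [← closure_subset_iff_isClosed]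
  intro w hw
  obtain ⟨N, hN, hwN, hfin⟩ := h2 w
  have h3 : w ∈ closure (Φ ∩ N) := by
    rw [mem_closure_iff] at hw ⊢
    intro O hO hwO
    obtain ⟨a, ⟨haO, haN⟩, haΦ⟩ := hw (O ∩ N) (hO.inter hN) ⟨hwO, hwN⟩
    exact ⟨a, haO, haΦ, haN⟩
  have h4 : IsClosed (Φ ∩ N) := by
    have : Φ ∩ N = ⋃ a ∈ Φ ∩ N, ({a} : Set α) := (Set.biUnion_of_singleton _).symm
    rw [this]
    exact hfin.isClosed_biUnion fun a ha => h1 a ha.1
  rw [h4.closure_eq] at h3
  exact h3.1

/-- Points of an etale chart over the image of an algebraic point over a closed point of the base are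
closed. -/
theorem isClosed_singleton_chart_of_algebraic {X : AlgSp.Sp S} (s : ↥S) (hs : IsClosed ({s} : Set ↥S))
    (k : Type u) [Field k] (φ : S.residueField s ⟶ CommRingCat.of k) (hφ : φ.hom.IsIntegral)
    (p : (AlgSp.yon S).obj (Over.mk (Spec.map φ ≫ S.fromSpecResidueField s)) ⟶ X)
    (t : ↥(Spec (CommRingCat.of k))) {U : Over S} (a : (AlgSp.yon S).obj U ⟶ X)
    (ha : AlgSp.RepWith @Etale a) (u : ↥U.left)
    (hu : AlgSp.Points.ofPt a u = AlgSp.Points.ofPt p t) : IsClosed ({u} : Set ↥U.left) := by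
  have hrep : AlgSp.Representable a := ha.rep
  have sq := hrep.isPullback' p
  have h2 : Etale (hrep.snd p).left := ha.property_snd p
  have hlq : LocallyQuasiFinite (hrep.snd p).left :=
    Groth.Agent.Lib.H15.locallyQuasiFinite_of_formallyUnramified _
  obtain ⟨z, hz1, hz2⟩ := exists_point_of_ofPt_eq sq u t hu
  have hdisc : DiscreteTopology ↥(hrep.pullback p).left := by
    have hd := (hrep.snd p).left.isDiscrete_preimage_singleton t
    have : (hrep.snd p).left ⁻¹' {t} = Set.univ := by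
      ext z'
      simp only [Set.mem_preimage, Set.mem_singleton_iff, Set.mem_univ, iff_true]
      exact @Subsingleton.elim ↥(Spec (CommRingCat.of k)) inferInstance _ _
    rw [this] at hd
    exact isDiscrete_univ_iff.1 hd
  let Z : (hrep.pullback p).left.Opens := ⟨{z}, isOpen_discrete _⟩
  have hZc : CompactSpace ↥Z := by
    have : Subsingleton ↥Z := ⟨fun a b => Subtype.ext (a.2.trans b.2.symm)⟩
    exact Finite.compactSpace
  have hqs : QuasiSeparatedSpace ↥(Over.mk (Spec.map φ ≫ S.fromSpecResidueField s)).left := by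
    change QuasiSeparatedSpace ↥(Spec (CommRingCat.of k))
    infer_instance
  have hla : IsLocallyArtinian (Over.mk (Spec.map φ ≫ S.fromSpecResidueField s)).left := by
    change IsLocallyArtinian (Spec (CommRingCat.of k))
    rw [Scheme.isLocallyArtinianScheme_Spec]
    infer_instance
  have hZc' : CompactSpace ↥(Z : Scheme.{u}) := hZc
  have hqc : QuasiCompact (Z.ι ≫ (hrep.snd p).left) := inferInstance
  have hfin : IsFinite (Z.ι ≫ (hrep.snd p).left) := IsFinite.of_locallyQuasiFinite _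
  have hci : IsClosedImmersion (S.fromSpecResidueField s) :=
    isClosed_singleton_iff_isClosedImmersion.1 hs
  have hint : IsIntegralHom (Spec.map φ) := IsIntegralHom.SpecMap_iff.2 hφ
  have hcomp : (Z.ι ≫ (hrep.fst' p).left) ≫ U.hom =
      (Z.ι ≫ (hrep.snd p).left) ≫ Spec.map φ ≫ S.fromSpecResidueField s := by
    rw [Category.assoc, Category.assoc, Over.w (hrep.fst' p)]
    exact congrArg (fun m => Z.ι ≫ m) (Over.w (hrep.snd p)).symm
  have hI : IsIntegralHom ((Z.ι ≫ (hrep.fst' p).left) ≫ U.hom) := by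
    rw [hcomp]
    infer_instance
  refine isClosed_singleton_of_integral_comp (Z.ι ≫ (hrep.fst' p).left) U.hom u ?_
  ext v
  simp only [Set.mem_range, Set.mem_singleton_iff]
  constructor
  · rintro ⟨⟨z', hz'⟩, rfl⟩
    have : z' = z := hz'
    subst this
    exact hz1
  · rintro rfl
    exact ⟨⟨z, rfl⟩, hz1⟩

end Groth.Agent.Lib.H15.AS
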