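import Mathlib
import Groth.Prelude.Def_AlgSp
import Groth.Prelude.Def_AlgSp2
import Groth.Prelude.Def_AlgSp3
import Groth.Prelude.Def_AlgSp4
import Groth.Agent.Lib.helper15.AlgSpClosed

set_option autoImplicit false
universe u
open CategoryTheory CategoryTheory.Limits AlgebraicGeometry Opposite Topology

namespace Groth.Agent.Lib.H15.AS

variable {S : Scheme.{u}}

/-- The cube of base changes: `(X ×_Y Z) ×_Z (Z ×_Y V) = (X ×_Y V) ×_V (Z ×_Y V)`. -/
theorem exists_isPullback_cube {X Y V P Z Z' : AlgSp.Sp S} {f : X ⟶ Y} {p : V ⟶ Y} {fst : P ⟶ X}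
    {snd : P ⟶ V} (sq : IsPullback fst snd f p) {g : Z ⟶ Y} {z1 : Z' ⟶ X} {z2 : Z' ⟶ Z}
    (sqZ : IsPullback z1 z2 f g) :
    ∃ l : pullback z2 (pullback.fst g p) ⟶ P,
      IsPullback l (pullback.snd z2 (pullback.fst g p)) snd (pullback.snd g p) := by
  have sqV := IsPullback.of_hasPullback g p
  have sqQ := IsPullback.of_hasPullback z2 (pullback.fst g p)
  have big : IsPullback (pullback.fst z2 (pullback.fst g p) ≫ z1) (pullback.snd z2 (pullback.fst g p))
      f (pullback.fst g p ≫ g) := sqQ.paste_horiz sqZ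
  have hk : pullback.fst g p ≫ g = pullback.snd g p ≫ p := sqV.w
  rw [hk] at big
  let l : pullback z2 (pullback.fst g p) ⟶ P :=
    sq.lift (pullback.fst z2 (pullback.fst g p) ≫ z1)
      (pullback.snd z2 (pullback.fst g p) ≫ pullback.snd g p) (by
        rw [Category.assoc, sqZ.w, ← Category.assoc, sqQ.w, Category.assoc, Category.assoc, sqV.w])
  have hl1 : l ≫ fst = pullback.fst z2 (pullback.fst g p) ≫ z1 := sq.lift_fst _ _ _
  have hl2 : l ≫ snd = pullback.snd z2 (pullback.fst g p) ≫ pullback.snd g p := sq.lift_snd _ _ _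
  rw [← hl1] at big
  exact ⟨l, IsPullback.of_right big hl2 sq⟩

/-- Universal injectivity descends along a base change which is surjective on points. -/
theorem isUnivInjectiveMor_of_base_change {X Y V P : AlgSp.Sp S}
    (hY : AlgSp.IsAlgSpace Y) (hV : AlgSp.IsAlgSpace V) {f : X ⟶ Y} {p : V ⟶ Y}
    (hps : AlgSp.IsSurjectiveMor p)
    {fst : P ⟶ X} {snd : P ⟶ V} (sq : IsPullback fst snd f p) (h : AlgSp.IsUnivInjectiveMor snd) :
    AlgSp.IsUnivInjectiveMor f := by
  intro Z Z' hZ g z1 z2 sqZ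
  have sqV := IsPullback.of_hasPullback g p
  have hZV : AlgSp.IsAlgSpace (pullback g p) := isAlgSpace_of_isPullback hY.diag hZ hV sqV
  have hv1s : AlgSp.IsSurjectiveMor (pullback.fst g p) := isSurjectiveMor_of_isPullback sqV.flip hps
  have sqQ := IsPullback.of_hasPullback z2 (pullback.fst g p)
  obtain ⟨l, sqL⟩ := exists_isPullback_cube sq sqZ
  have hinj : Function.Injective (AlgSp.Points.map (pullback.snd z2 (pullback.fst g p))) :=
    h hZV _ _ _ sqL
  intro a b hab
  obtain ⟨t', ht'⟩ := hv1s (AlgSp.Points.map z2 a)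
  obtain ⟨a', ha1, ha2⟩ := points_exists_of_isPullback sqQ a t' ht'.symm
  obtain ⟨b', hb1, hb2⟩ := points_exists_of_isPullback sqQ b t' (hab ▸ ht'.symm)
  have : a' = b' := hinj (ha2.trans hb2.symm)
  rw [← ha1, ← hb1, this]

end Groth.Agent.Lib.H15.AS
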