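import Mathlib
import Groth.Prelude.Def_AlgSp
import Groth.Prelude.Def_AlgSp2
import Groth.Prelude.Def_AlgSp3
import Groth.Prelude.Def_AlgSp4
import Groth.Agent.Lib.helper15.AlgSpInj

set_option autoImplicit false
universe u
open CategoryTheory CategoryTheory.Limits AlgebraicGeometry Opposite Topology

namespace Groth.Agent.Lib.H15.AS

variable {S : Scheme.{u}}

/-- Monomorphisms of sheaves can be tested on scheme valued points. -/
theorem mono_of_forall_yon {F G : AlgSp.Sp S} (f : F ⟶ G)
    (h : ∀ (T : Over S) (x y : (AlgSp.yon S).obj T ⟶ F), x ≫ f = y ≫ f → x = y) : Mono f := by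
  refine ⟨fun {Z} a b hab => ?_⟩
  refine GrothendieckTopology.hom_ext_uliftYoneda.{u+1} (AlgSp.J S) fun T p => ?_
  exact h T _ _ (by simp only [Category.assoc, hab])

/-- A representable flat, lfp, surjective morphism is locally surjective. -/
theorem isLocallySurjective_of_repWith_fppf {F G : AlgSp.Sp S} (a : F ⟶ G)
    (h₁ : AlgSp.RepWith @Flat a) (h₂ : AlgSp.RepWith @LocallyOfFinitePresentation a)
    (h₃ : AlgSp.RepWith @Surjective a) : Sheaf.IsLocallySurjective a := by
  refine ⟨fun {T} s => ?_⟩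
  have hrep : AlgSp.Representable a := h₁.rep
  let z : (AlgSp.yon S).obj T ⟶ G := (AlgSp.J S).uliftYonedaEquiv.symm s
  have hfl : Flat (hrep.snd z).left := h₁.property_snd z
  have hfp : LocallyOfFinitePresentation (hrep.snd z).left := h₂.property_snd z
  have hsu : Surjective (hrep.snd z).left := h₃.property_snd z
  refine mem_J_of_mem (hrep.snd z) _ ?_
  refine ⟨(AlgSp.J S).uliftYonedaEquiv (hrep.fst z), ?_⟩
  rw [← GrothendieckTopology.uliftYonedaEquiv_comp, hrep.w z,
    ← GrothendieckTopology.uliftYonedaEquiv_naturality, Equiv.apply_symm_apply]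

/-- A representable etale surjective morphism is an epimorphism of sheaves. -/
theorem epi_of_repWith_etale_surjective {F G : AlgSp.Sp S} (a : F ⟶ G)
    (h₁ : AlgSp.RepWith @Etale a) (h₃ : AlgSp.RepWith @Surjective a) : Epi a := by
  have := isLocallySurjective_of_repWith_fppf a
    (repWith_mono (fun _ _ f (_ : Etale f) => (inferInstance : Flat f)) h₁)
    (repWith_mono (fun _ _ f (_ : Etale f) => (inferInstance : LocallyOfFinitePresentation f)) h₁) h₃
  infer_instance

/-- Being a monomorphism descends along an etale surjective base change. -/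
theorem mono_of_etale_cover {X Y V P : AlgSp.Sp S} {f : X ⟶ Y} {p : V ⟶ Y}
    (hp : AlgSp.RepWith @Etale p) (hps : AlgSp.RepWith @Surjective p)
    {fst : P ⟶ X} {snd : P ⟶ V} (sq : IsPullback fst snd f p) [Mono snd] : Mono f := by
  refine mono_of_forall_yon f fun T x y hxy => ?_
  have sqT := IsPullback.of_hasPullback (x ≫ f) p
  have hre : AlgSp.RepWith @Etale (pullback.fst (x ≫ f) p) := MorphismProperty.of_isPullback sqT.flip hp
  have hrs : AlgSp.RepWith @Surjective (pullback.fst (x ≫ f) p) :=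
    MorphismProperty.of_isPullback sqT.flip hps
  have := epi_of_repWith_etale_surjective _ hre hrs
  rw [← cancel_epi (pullback.fst (x ≫ f) p)]
  have h1 : (pullback.fst (x ≫ f) p ≫ x) ≫ f = pullback.snd (x ≫ f) p ≫ p := by
    rw [Category.assoc]; exact sqT.w
  have h2 : (pullback.fst (x ≫ f) p ≫ y) ≫ f = pullback.snd (x ≫ f) p ≫ p := by
    rw [Category.assoc, ← hxy]; exact sqT.w
  have e : sq.lift _ _ h1 = sq.lift _ _ h2 := by
    rw [← cancel_mono snd, sq.lift_snd, sq.lift_snd]
  have := congrArg (· ≫ fst) e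
  simpa only [sq.lift_fst] using this

/-- Quasi-compactness of a morphism can be tested on affine schemes over the target. -/
theorem isQuasiCompactMor_of_affine {X Y : AlgSp.Sp S} (hX : AlgSp.IsAlgSpace X)
    (hY : AlgSp.IsAlgSpace Y) {f : X ⟶ Y}
    (H : ∀ (Z : Over S), IsAffine Z.left → ∀ (g : (AlgSp.yon S).obj Z ⟶ Y) (P : AlgSp.Sp S)
      (fst : P ⟶ X) (snd : P ⟶ (AlgSp.yon S).obj Z), IsPullback fst snd f g →
      AlgSp.IsQuasiCompactSp P) : AlgSp.IsQuasiCompactMor f := by
  intro Z P hZ hZqc g p1 p2 sqP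
  obtain ⟨A, c, hA, hce, hcs⟩ := exists_affine_chart_of_isQuasiCompactSp hZqc
  have sqQ := IsPullback.of_hasPullback p2 c
  have big := sqQ.paste_horiz sqP
  have hQ : AlgSp.IsQuasiCompactSp (pullback p2 c) := H A hA (c ≫ g) _ _ _ big
  have hs : AlgSp.IsSurjectiveMor (pullback.fst p2 c) :=
    isSurjectiveMor_of_isPullback sqQ.flip (isSurjectiveMor_of_repWith hcs)
  have hP : AlgSp.IsAlgSpace P := isAlgSpace_of_isPullback hY.diag hX hZ sqP
  exact isQuasiCompactSp_of_isSurjectiveMor hP.atlas hs hQ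

end Groth.Agent.Lib.H15.AS
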