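import Mathlib
import Groth.Prelude.Def_AlgSp
import Groth.Prelude.Def_AlgSp2
import Groth.Prelude.Def_AlgSp3
import Groth.Prelude.Def_AlgSp4
import Groth.Agent.Lib.helper15.AlgSpMono

set_option autoImplicit false
universe u
open CategoryTheory CategoryTheory.Limits AlgebraicGeometry Opposite Topology

namespace Groth.Agent.Lib.H15.AS

variable {S : Scheme.{u}}

/-- Base change of a represented pullback square along a pullback square of schemes. -/
theorem isPullback_of_scheme_isPullback {X Y : AlgSp.Sp S} {f : X ⟶ Y} {T W : Over S}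
    {g : (AlgSp.yon S).obj T ⟶ Y} {fst : (AlgSp.yon S).obj W ⟶ X} {s : W ⟶ T}
    (sq : IsPullback fst ((AlgSp.yon S).map s) f g) {W' T' : Scheme.{u}} {s' : W' ⟶ T'}
    {i₁ : W' ⟶ W.left} {i₂ : T' ⟶ T.left} (h : IsPullback s' i₁ i₂ s.left) :
    ∃ (s'' : Over.mk (i₁ ≫ W.hom) ⟶ Over.mk (i₂ ≫ T.hom)) (I₁ : Over.mk (i₁ ≫ W.hom) ⟶ W)
      (I₂ : Over.mk (i₂ ≫ T.hom) ⟶ T), s''.left = s' ∧ I₁.left = i₁ ∧ I₂.left = i₂ ∧
      IsPullback ((AlgSp.yon S).map I₁ ≫ fst) ((AlgSp.yon S).map s'') f ((AlgSp.yon S).map I₂ ≫ g) := by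
  have hw : s' ≫ i₂ ≫ T.hom = i₁ ≫ W.hom := by
    rw [← Category.assoc, h.w, Category.assoc, Over.w s]
  let s'' : Over.mk (i₁ ≫ W.hom) ⟶ Over.mk (i₂ ≫ T.hom) := Over.homMk s' hw
  let I₁ : Over.mk (i₁ ≫ W.hom) ⟶ W := Over.homMk i₁ rfl
  let I₂ : Over.mk (i₂ ≫ T.hom) ⟶ T := Over.homMk i₂ rfl
  have hcomm : s'' ≫ I₂ = I₁ ≫ s := by
    ext
    exact h.w
  have sqO : IsPullback s'' I₁ I₂ s := IsPullback.of_map (Over.forget S) hcomm h
  have sqY := (sqO.map (AlgSp.yon S)).flip
  exact ⟨s'', I₁, I₂, rfl, rfl, rfl, sqY.paste_horiz sq⟩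

/-- The homeomorphism on points induced by an isomorphism of sheaves. -/
noncomputable def pointsHomeo {F G : AlgSp.Sp S} (e : F ≅ G) : AlgSp.Points F ≃ₜ AlgSp.Points G where
  toFun := AlgSp.Points.map e.hom
  invFun := AlgSp.Points.map e.inv
  left_inv x := by rw [← AlgSp.Points.map_comp, e.hom_inv_id, AlgSp.Points.map_id]
  right_inv x := by rw [← AlgSp.Points.map_comp, e.inv_hom_id, AlgSp.Points.map_id]
  continuous_toFun := AlgSp.Points.continuous_map _
  continuous_invFun := AlgSp.Points.continuous_map _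

/-- Quasi-compactness of sheaves is invariant under isomorphism. -/
theorem isQuasiCompactSp_of_iso {F G : AlgSp.Sp S} (e : F ≅ G) (h : AlgSp.IsQuasiCompactSp F) :
    AlgSp.IsQuasiCompactSp G := by
  obtain ⟨U, p, hpe, hps, hU⟩ := h
  exact ⟨U, p ≫ e.hom, (MorphismProperty.cancel_right_of_respectsIso _ p e.hom).2 hpe,
    (MorphismProperty.cancel_right_of_respectsIso _ p e.hom).2 hps, hU⟩

/-- `h_φ` is open on points iff `φ` is open. -/
theorem isOpenMap_map_yon_map_iff {T T' : Over S} (φ : T ⟶ T') :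
    IsOpenMap (AlgSp.Points.map ((AlgSp.yon S).map φ)) ↔ IsOpenMap φ.left := by
  rw [AlgSp.Points.map_yon_map_eq]
  constructor
  · intro h
    have := ((AlgSp.Points.schemeHomeo T').symm.isOpenMap.comp h).comp
      (AlgSp.Points.schemeHomeo T).isOpenMap
    convert this using 1
    funext t
    simp
  · intro h
    exact (AlgSp.Points.schemeHomeo T').isOpenMap.comp
      (h.comp (AlgSp.Points.schemeHomeo T).symm.isOpenMap)

/-- `h_φ` is closed on points iff `φ` is closed. -/
theorem isClosedMap_map_yon_map_iff {T T' : Over S} (φ : T ⟶ T') :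
    IsClosedMap (AlgSp.Points.map ((AlgSp.yon S).map φ)) ↔ IsClosedMap φ.left := by
  rw [AlgSp.Points.map_yon_map_eq]
  constructor
  · intro h
    have := ((AlgSp.Points.schemeHomeo T').symm.isClosedMap.comp h).comp
      (AlgSp.Points.schemeHomeo T).isClosedMap
    convert this using 1
    funext t
    simp
  · intro h
    exact (AlgSp.Points.schemeHomeo T').isClosedMap.comp
      (h.comp (AlgSp.Points.schemeHomeo T).symm.isClosedMap)

/-- For representable `f`: representable universally open iff universally open. -/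
theorem repWith_universallyOpen_iff {X Y : AlgSp.Sp S} {f : X ⟶ Y} (hf : AlgSp.Representable f) :
    AlgSp.RepWith @UniversallyOpen f ↔ AlgSp.IsUnivOpenMor f := by
  constructor
  · intro h Z Z' _ g z1 z2 sq
    exact isOpenMap_points_map_of_repWith (MorphismProperty.of_isPullback sq h)
  · intro h
    rw [AlgSp.repWith_iff]
    refine ⟨hf, fun T W g fst s sq => ⟨?_⟩⟩
    intro W' T' i₁ i₂ s' hs'
    obtain ⟨s'', I₁, I₂, h1, -, -, sq'⟩ := isPullback_of_scheme_isPullback sq hs'
    have := (isOpenMap_map_yon_map_iff s'').1 (h (AlgSp.IsAlgSpace.yon_obj _) _ _ _ sq')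
    rw [h1] at this
    exact this

/-- For representable `f`: representable universally closed iff universally closed. -/
theorem repWith_universallyClosed_iff {X Y : AlgSp.Sp S} {f : X ⟶ Y} (hf : AlgSp.Representable f) :
    AlgSp.RepWith @UniversallyClosed f ↔ AlgSp.IsUnivClosedMor f := by
  constructor
  · intro h
    refine isUnivClosedMor_of_affine fun Z _ g P fst snd sq => ?_
    have hs : UniversallyClosed (hf.snd g).left := h.property_snd g
    let e : (AlgSp.yon S).obj (hf.pullback g) ≅ P := (hf.isPullback g).isoIsPullback _ _ sq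
    have he : e.hom ≫ snd = (AlgSp.yon S).map (hf.snd g) := IsPullback.isoIsPullback_hom_snd _ _ _ _
    have h1 : IsClosedMap (AlgSp.Points.map ((AlgSp.yon S).map (hf.snd g))) :=
      (isClosedMap_map_yon_map_iff _).2 (hf.snd g).left.isClosedMap
    rw [← he, points_map_comp_fun] at h1
    have h2 := h1.comp (pointsHomeo e).symm.isClosedMap
    convert h2 using 1
    funext x
    change _ = AlgSp.Points.map snd (AlgSp.Points.map e.hom (AlgSp.Points.map e.inv x))
    rw [← AlgSp.Points.map_comp e.inv e.hom, e.inv_hom_id, AlgSp.Points.map_id]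
  · intro h
    rw [AlgSp.repWith_iff]
    refine ⟨hf, fun T W g fst s sq => ⟨?_⟩⟩
    intro W' T' i₁ i₂ s' hs'
    obtain ⟨s'', I₁, I₂, h1, -, -, sq'⟩ := isPullback_of_scheme_isPullback sq hs'
    have := (isClosedMap_map_yon_map_iff s'').1 (h (AlgSp.IsAlgSpace.yon_obj _) _ _ _ sq')
    rw [h1] at this
    exact this


/-- For representable `f` between algebraic spaces: representable quasi-compact iff quasi-compact. -/
theorem repWith_quasiCompact_iff {X Y : AlgSp.Sp S} (hX : AlgSp.IsAlgSpace X) (hY : AlgSp.IsAlgSpace Y)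
    {f : X ⟶ Y} (hf : AlgSp.Representable f) :
    AlgSp.RepWith @QuasiCompact f ↔ AlgSp.IsQuasiCompactMor f := by
  constructor
  · intro h
    refine isQuasiCompactMor_of_affine hX hY fun Z hZ g P fst snd sq => ?_
    have hs : QuasiCompact (hf.snd g).left := h.property_snd g
    let e : (AlgSp.yon S).obj (hf.pullback g) ≅ P := (hf.isPullback g).isoIsPullback _ _ sq
    have : CompactSpace ↥(hf.pullback g).left :=
      QuasiCompact.compactSpace_of_compactSpace (hf.snd g).left
    exact isQuasiCompactSp_of_iso e (isQuasiCompactSp_yon _)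
  · intro h
    rw [AlgSp.repWith_iff]
    refine ⟨hf, fun T W g fst s sq => ?_⟩
    rw [quasiCompact_iff_forall_isAffineOpen]
    intro U hU
    obtain ⟨s'', I₁, I₂, -, -, -, sq'⟩ :=
      isPullback_of_scheme_isPullback sq (isPullback_morphismRestrict s.left U)
    have hUc : CompactSpace ↥(Over.mk (U.ι ≫ T.hom)).left := by
      change CompactSpace ↥U.toScheme
      exact isCompact_iff_compactSpace.1 hU.isCompact
    have hqc := h (AlgSp.IsAlgSpace.yon_obj _) (isQuasiCompactSp_yon _) _ _ _ sq'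
    have := compactSpace_of_isQuasiCompactSp hqc
    have h3 : CompactSpace ↥(Over.mk ((s.left ⁻¹ᵁ U).ι ≫ W.hom)).left :=
      (AlgSp.Points.schemeHomeo _).symm.compactSpace
    exact isCompact_iff_compactSpace.2 h3

end Groth.Agent.Lib.H15.AS
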