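import Mathlib
import Groth.Prelude.Def_AlgSp
import Groth.Prelude.Def_AlgSp2
import Groth.Prelude.Def_AlgSp3
import Groth.Prelude.Def_AlgSp4
import Groth.Agent.Lib.helper15.AlgSpRepIff

set_option autoImplicit false
universe u
open CategoryTheory CategoryTheory.Limits AlgebraicGeometry Opposite Topology

namespace Groth.Agent.Lib.H15.AS

variable {S : Scheme.{u}}

/-- Quasi-compact morphisms are stable under base change. -/
theorem isQuasiCompactMor_of_isPullback {X Y X' Y' : AlgSp.Sp S} {f : X ⟶ Y} {k : Y' ⟶ Y}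
    {k' : X' ⟶ X} {f' : X' ⟶ Y'} (sq : IsPullback k' f' f k) (hf : AlgSp.IsQuasiCompactMor f) :
    AlgSp.IsQuasiCompactMor f' := by
  intro T P hT hTqc g p1 p2 sqP
  exact hf hT hTqc (g ≫ k) (p1 ≫ k') p2 (sqP.paste_horiz sq)

/-- Quasi-compact morphisms of algebraic spaces are stable under composition. -/
theorem isQuasiCompactMor_comp {X Y Z : AlgSp.Sp S} (hY : AlgSp.IsAlgSpace Y) (hZ : AlgSp.IsAlgSpace Z)
    {f : X ⟶ Y} {g : Y ⟶ Z} (hf : AlgSp.IsQuasiCompactMor f) (hg : AlgSp.IsQuasiCompactMor g) :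
    AlgSp.IsQuasiCompactMor (f ≫ g) := by
  intro T P hT hTqc k p1 p2 sqP
  have sqY := IsPullback.of_hasPullback g k
  have hYT : AlgSp.IsAlgSpace (pullback g k) := isAlgSpace_of_isPullback hZ.diag hY hT sqY
  have hYTqc : AlgSp.IsQuasiCompactSp (pullback g k) := hg hT hTqc k _ _ sqY
  let l : P ⟶ pullback g k := pullback.lift (p1 ≫ f) p2 (by rw [Category.assoc]; exact sqP.w)
  have hl1 : l ≫ pullback.fst g k = p1 ≫ f := pullback.lift_fst _ _ _
  have hl2 : l ≫ pullback.snd g k = p2 := pullback.lift_snd _ _ _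
  have s : IsPullback (l ≫ pullback.snd g k) p1 k (f ≫ g) := by
    rw [hl2]; exact sqP.flip
  have sqL : IsPullback l p1 (pullback.fst g k) f := IsPullback.of_right s hl1 sqY.flip
  exact hf hYT hYTqc _ _ _ sqL.flip

/-- Cancellation: if `f ≫ g` is quasi-compact and `g` is quasi-separated, `f` is quasi-compact. -/
theorem isQuasiCompactMor_of_comp {X Y Z : AlgSp.Sp S} (hX : AlgSp.IsAlgSpace X)
    (hY : AlgSp.IsAlgSpace Y) (hZ : AlgSp.IsAlgSpace Z)
    {f : X ⟶ Y} {g : Y ⟶ Z} (hgf : AlgSp.IsQuasiCompactMor (f ≫ g))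
    (hg : AlgSp.IsQuasiSeparatedMor g) : AlgSp.IsQuasiCompactMor f := by
  -- graph of f
  have sqG := pullback_lift_diagonal_isPullback f g
  have hP : AlgSp.IsAlgSpace (pullback (f ≫ g) g) :=
    isAlgSpace_of_isPullback hZ.diag hX hY (IsPullback.of_hasPullback _ _)
  have hγ : AlgSp.RepWith @QuasiCompact (pullback.lift (𝟙 X) f (by simp) : X ⟶ pullback (f ≫ g) g) :=
    MorphismProperty.of_isPullback sqG hg
  have hγ' : AlgSp.IsQuasiCompactMor (pullback.lift (𝟙 X) f (by simp) : X ⟶ pullback (f ≫ g) g) :=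
    (repWith_quasiCompact_iff hX hP hγ.rep).1 hγ
  have hsnd : AlgSp.IsQuasiCompactMor (pullback.snd (f ≫ g) g) :=
    isQuasiCompactMor_of_isPullback (IsPullback.of_hasPullback (f ≫ g) g) hgf
  have e : f = (pullback.lift (𝟙 X) f (by simp) : X ⟶ pullback (f ≫ g) g) ≫ pullback.snd (f ≫ g) g := by
    rw [pullback.lift_snd]
  rw [e]
  exact isQuasiCompactMor_comp hP hY hγ' hsnd

end Groth.Agent.Lib.H15.AS
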