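import Mathlib
import Groth.Prelude.Def_AlgSp
import Groth.Prelude.Def_AlgSp2
import Groth.Prelude.Def_AlgSp3
import Groth.Prelude.Def_AlgSp4
import Groth.Agent.Lib.helper15.AlgSpQC3
import Groth.Agent.Lib.helper15.AlgSpBasic

set_option autoImplicit false
universe u
open CategoryTheory CategoryTheory.Limits AlgebraicGeometry Opposite Topology

namespace Groth.Agent.Lib.H15.AS

variable {S : Scheme.{u}}

/-- A morphism of sheaves which is representable by open immersions and surjective on points is an isomorphism. -/
theorem isIso_of_repWith_isOpenImmersion_of_surjective {F G : AlgSp.Sp S} (f : F ⟶ G)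
    (hf : AlgSp.RepWith @IsOpenImmersion f) (hs : AlgSp.IsSurjectiveMor f) : IsIso f := by
  have hmono : Mono f := mono_of_repWith (P := @IsOpenImmersion)
    (fun _ _ g (hg : IsOpenImmersion g) => (inferInstance : Mono g)) f hf
  have hrep : AlgSp.Representable f := hf.rep
  have hsurj := repWith_surjective_of_isSurjectiveMor hrep hs
  have hloc : Sheaf.IsLocallySurjective f := by
    refine ⟨fun {T} y => ?_⟩
    let z : (AlgSp.yon S).obj T ⟶ G := (AlgSp.J S).uliftYonedaEquiv.symm y
    have h1 : IsOpenImmersion (hrep.snd z).left := hf.property_snd z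
    have h2 : Surjective (hrep.snd z).left := hsurj.property_snd z
    refine mem_J_of_mem (hrep.snd z) _ ?_
    refine ⟨(AlgSp.J S).uliftYonedaEquiv (hrep.fst z), ?_⟩
    rw [← GrothendieckTopology.uliftYonedaEquiv_comp, hrep.w z,
      ← GrothendieckTopology.uliftYonedaEquiv_naturality, Equiv.apply_symm_apply]
  have : Epi f := inferInstance
  exact isIso_of_mono_of_epi f

/-- A morphism factors through an "open subspace" iff its image on points is contained in the image of the
open subspace. -/
theorem exists_factor_of_range_subset {X X' Y : AlgSp.Sp S} (j : X' ⟶ X)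
    (hj : AlgSp.RepWith @IsOpenImmersion j) (f : Y ⟶ X)
    (h : Set.range (AlgSp.Points.map f) ⊆ Set.range (AlgSp.Points.map j)) :
    ∃ g : Y ⟶ X', g ≫ j = f := by
  have sq := IsPullback.of_hasPullback f j
  have h1 : AlgSp.RepWith @IsOpenImmersion (pullback.fst f j) := MorphismProperty.of_isPullback sq.flip hj
  have h2 : AlgSp.IsSurjectiveMor (pullback.fst f j) := by
    intro y
    obtain ⟨x', hx'⟩ := h ⟨y, rfl⟩
    obtain ⟨p, hp, -⟩ := points_exists_of_isPullback sq y x' hx'.symm
    exact ⟨p, hp⟩
  have := isIso_of_repWith_isOpenImmersion_of_surjective _ h1 h2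
  refine ⟨inv (pullback.fst f j) ≫ pullback.snd f j, ?_⟩
  rw [Category.assoc, ← pullback.condition, IsIso.inv_hom_id_assoc]

end Groth.Agent.Lib.H15.AS
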