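import Mathlib

set_option autoImplicit false
open CategoryTheory CategoryTheory.Limits

namespace Groth.Agent.Lib.H15.AS

variable {D : Type*} [Category D]

/-- A fibre product `X ×_Z Y` is the base change of the diagonal of `Z` along `f × g`. -/
theorem isPullback_diag_of_isPullback {P X Y Z : D} {fst : P ⟶ X} {snd : P ⟶ Y} {f : X ⟶ Z}
    {g : Y ⟶ Z} (h : IsPullback fst snd f g) [HasBinaryProduct X Y] [HasBinaryProduct Z Z] :
    IsPullback (fst ≫ f) (prod.lift fst snd) (Limits.diag Z) (prod.map f g) := by
  have hcone : ∀ s : PullbackCone (Limits.diag Z) (prod.map f g),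
      s.fst = s.snd ≫ prod.fst ≫ f ∧ s.fst = s.snd ≫ prod.snd ≫ g := by
    intro s
    have h1 := congrArg (· ≫ prod.fst) s.condition
    have h2 := congrArg (· ≫ prod.snd) s.condition
    dsimp only [Limits.diag] at h1 h2
    simp only [Category.assoc, prod.lift_fst, prod.lift_snd, Category.comp_id, prod.map_fst,
      prod.map_snd] at h1 h2
    exact ⟨h1, h2⟩
  refine ⟨⟨?_⟩, ⟨PullbackCone.IsLimit.mk _
    (fun s => h.lift (s.snd ≫ prod.fst) (s.snd ≫ prod.snd) ?_) ?_ ?_ ?_⟩⟩
  · dsimp only [Limits.diag]
    apply Limits.prod.hom_ext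
    · simp only [Category.assoc, prod.lift_fst, Category.comp_id, prod.map_fst, prod.lift_fst_assoc]
    · simp only [Category.assoc, prod.lift_snd, Category.comp_id, prod.map_snd, prod.lift_snd_assoc]
      exact h.w
  · obtain ⟨h1, h2⟩ := hcone s
    rw [Category.assoc, Category.assoc, ← h1, ← h2]
  · intro s
    obtain ⟨h1, h2⟩ := hcone s
    rw [← Category.assoc, h.lift_fst, h1, Category.assoc]
  · intro s
    apply Limits.prod.hom_ext
    · rw [Category.assoc, prod.lift_fst, h.lift_fst]
    · rw [Category.assoc, prod.lift_snd, h.lift_snd]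
  · intro s m hm1 hm2
    apply h.hom_ext
    · rw [h.lift_fst, ← hm2, Category.assoc, prod.lift_fst]
    · rw [h.lift_snd, ← hm2, Category.assoc, prod.lift_snd]

/-- The base change of the diagonal of `F` along `w : T ⟶ F ⨯ F` is the base change of the diagonal of `T` along
`T ×_F T ⟶ T ⨯ T`. -/
theorem isPullback_diag_of_isPullback_diag [HasPullbacks D] {F T E : D} [HasBinaryProduct F F]
    [HasBinaryProduct T T] (w : T ⟶ F ⨯ F) {k1 : E ⟶ F} {k2 : E ⟶ T}
    (sq : IsPullback k1 k2 (Limits.diag F) w) (x y : T ⟶ F) (hx : x = w ≫ prod.fst)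
    (hy : y = w ≫ prod.snd) :
    ∃ j : E ⟶ pullback x y,
      IsPullback j k2 (prod.lift (pullback.fst x y) (pullback.snd x y)) (Limits.diag T) := by
  have A := isPullback_diag_of_isPullback (IsPullback.of_hasPullback x y)
  have hw : Limits.diag T ≫ prod.map x y = w := by
    dsimp only [Limits.diag]
    apply Limits.prod.hom_ext
    · rw [Category.assoc, prod.map_fst, prod.lift_fst_assoc, Category.id_comp, hx]
    · rw [Category.assoc, prod.map_snd, prod.lift_snd_assoc, Category.id_comp, hy]
  have h1 : k1 = k2 ≫ x := by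
    have := congrArg (· ≫ prod.fst) sq.w
    dsimp only [Limits.diag] at this
    simpa only [Category.assoc, prod.lift_fst, Category.comp_id, ← hx] using this
  have h2 : k1 = k2 ≫ y := by
    have := congrArg (· ≫ prod.snd) sq.w
    dsimp only [Limits.diag] at this
    simpa only [Category.assoc, prod.lift_snd, Category.comp_id, ← hy] using this
  let j : E ⟶ pullback x y := pullback.lift k2 k2 (by rw [← h1, ← h2])
  have hj1 : j ≫ pullback.fst x y = k2 := pullback.lift_fst _ _ _
  have hj2 : j ≫ pullback.snd x y = k2 := pullback.lift_snd _ _ _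
  refine ⟨j, ?_⟩
  have s : IsPullback (j ≫ pullback.fst x y ≫ x) k2 (Limits.diag F) (Limits.diag T ≫ prod.map x y) := by
    rw [hw, ← Category.assoc, hj1, ← h1]
    exact sq
  refine IsPullback.of_right s ?_ A
  dsimp only [Limits.diag]
  apply Limits.prod.hom_ext
  · rw [Category.assoc, prod.lift_fst, hj1, Category.assoc, prod.lift_fst, Category.comp_id]
  · rw [Category.assoc, prod.lift_snd, hj2, Category.assoc, prod.lift_snd, Category.comp_id]

end Groth.Agent.Lib.H15.AS
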