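import Mathlib
import Groth.Prelude.Def_AlgSp
import Groth.Prelude.Def_AlgSp2
import Groth.Prelude.Def_AlgSp3
import Groth.Prelude.Def_AlgSp4
import Groth.Agent.Lib.helper15.AlgSpOpenSub
import Groth.Agent.Lib.helper15.CatProd

set_option autoImplicit false
universe u
open CategoryTheory CategoryTheory.Limits AlgebraicGeometry Opposite Topology

namespace Groth.Agent.Lib.H15.AS

variable {S : Scheme.{u}}

/-- The fibre product `h_U ×_X h_V = h_P` is the base change of the diagonal of `X` along `h_{U × V} ⟶ X ⨯ X`;
hence `P ⟶ U × V` has every property the diagonal has. -/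
theorem prop_prod_lift_of_repWith_diag {X : AlgSp.Sp S} (Q : MorphismProperty Scheme.{u})
    (hX : AlgSp.RepWith Q (Limits.diag X)) {U V P : Over S} {a : (AlgSp.yon S).obj U ⟶ X}
    {b : (AlgSp.yon S).obj V ⟶ X} {fst : P ⟶ U} {snd : P ⟶ V}
    (sq : IsPullback ((AlgSp.yon S).map fst) ((AlgSp.yon S).map snd) a b) :
    Q (prod.lift fst snd).left := by
  have A := isPullback_diag_of_isPullback sq
  let e := PreservesLimitPair.iso (AlgSp.yon S) U V
  have he : prod.lift ((AlgSp.yon S).map fst) ((AlgSp.yon S).map snd) =
      (AlgSp.yon S).map (prod.lift fst snd) ≫ e.hom := by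
    rw [PreservesLimitPair.iso_hom]
    apply Limits.prod.hom_ext
    · rw [prod.lift_fst, Category.assoc, prodComparison_fst, ← CategoryTheory.Functor.map_comp,
        prod.lift_fst]
    · rw [prod.lift_snd, Category.assoc, prodComparison_snd, ← CategoryTheory.Functor.map_comp,
        prod.lift_snd]
  have B : IsPullback ((AlgSp.yon S).map fst ≫ a) ((AlgSp.yon S).map (prod.lift fst snd)) (Limits.diag X)
      (e.hom ≫ prod.map a b) :=
    IsPullback.of_iso A (Iso.refl _) (Iso.refl _) e.symm (Iso.refl _) (by simp) (by simp [he])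
      (by simp) (by simp)
  exact ((AlgSp.repWith_iff Q _).1 hX).2 _ _ _ B

/-- The underlying scheme of a product in `Over S` of two quasi-compact schemes over a quasi-separated base is
quasi-compact. -/
theorem compactSpace_prod_left [QuasiSeparatedSpace ↥S] (U V : Over S) [CompactSpace ↥U.left]
    [CompactSpace ↥V.left] : CompactSpace ↥(U ⨯ V).left := by
  have : QuasiCompact V.hom := inferInstance
  have : CompactSpace ↥(pullback U.hom V.hom) :=
    QuasiCompact.compactSpace_of_compactSpace (pullback.fst U.hom V.hom)
  exact (Over.prodLeftIsoPullback U V).hom.homeomorph.symm.compactSpace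

/-- Over a quasi-separated base, fibre products of quasi-compact schemes over a quasi-separated sheaf are
quasi-compact. -/
theorem compactSpace_of_isPullback_of_isQuasiSeparatedSp [QuasiSeparatedSpace ↥S] {X : AlgSp.Sp S}
    (hX : AlgSp.IsQuasiSeparatedSp X) {U V P : Over S} {a : (AlgSp.yon S).obj U ⟶ X}
    {b : (AlgSp.yon S).obj V ⟶ X} {fst : P ⟶ U} {snd : P ⟶ V} [CompactSpace ↥U.left]
    [CompactSpace ↥V.left]
    (sq : IsPullback ((AlgSp.yon S).map fst) ((AlgSp.yon S).map snd) a b) : CompactSpace ↥P.left := by
  have h1 : QuasiCompact (prod.lift fst snd).left := prop_prod_lift_of_repWith_diag @QuasiCompact hX sq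
  have := compactSpace_prod_left U V
  exact QuasiCompact.compactSpace_of_compactSpace (prod.lift fst snd).left

end Groth.Agent.Lib.H15.AS
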