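import Mathlib
import Groth.Prelude.Def_AlgSp
import Groth.Prelude.Def_AlgSp2
import Groth.Prelude.Def_AlgSp3
import Groth.Prelude.Def_AlgSp4
import Groth.Agent.Lib.helper15.AlgSpDiagBC

set_option autoImplicit false
universe u
open CategoryTheory CategoryTheory.Limits AlgebraicGeometry Opposite Topology

namespace Groth.Agent.Lib.H15.AS

variable {S : Scheme.{u}}

/-- A representable monomorphism of sheaves is representable by monomorphisms of schemes. -/
theorem repWith_mono_of_mono {F G : AlgSp.Sp S} (f : F ⟶ G) [Mono f] (hf : AlgSp.Representable f) :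
    AlgSp.RepWith (MorphismProperty.monomorphisms Scheme.{u}) f := by
  rw [AlgSp.repWith_iff]
  refine ⟨hf, fun U V g fst snd sq => ?_⟩
  have h1 : Mono ((AlgSp.yon S).map snd) := sq.mono_snd_of_mono
  have h2 : Mono snd := (AlgSp.yon S).mono_of_mono_map h1
  exact (inferInstance : Mono snd.left)

theorem isSeparated_prod_snd_left (U T : Over S) [IsSeparated U.hom] :
    IsSeparated (prod.snd : U ⨯ T ⟶ T).left := by
  rw [← Over.prodLeftIsoPullback_hom_snd]
  infer_instance

theorem isSeparated_prod_fst_left (T U : Over S) [IsSeparated U.hom] :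
    IsSeparated (prod.fst : T ⨯ U ⟶ T).left := by
  rw [← Over.prodLeftIsoPullback_hom_fst]
  infer_instance

/-- A chart from a separated scheme to a sheaf with representable diagonal is separated. -/
theorem separated_of_isPullback_chart {X : AlgSp.Sp S} (hX : AlgSp.Representable (Limits.diag X))
    {U T W : Over S} [IsSeparated U.hom] {a : (AlgSp.yon S).obj U ⟶ X} {g : (AlgSp.yon S).obj T ⟶ X}
    {u : W ⟶ U} {v : W ⟶ T}
    (sq : IsPullback ((AlgSp.yon S).map u) ((AlgSp.yon S).map v) a g) : IsSeparated v.left := by
  have hm : Mono (prod.lift u v).left :=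
    prop_prod_lift_of_repWith_diag _ (repWith_mono_of_mono _ hX) sq
  have h2 := isSeparated_prod_snd_left U T
  have e : v.left = (prod.lift u v).left ≫ (prod.snd : U ⨯ T ⟶ T).left := by
    rw [← Over.comp_left, prod.lift_snd]
  rw [e]
  infer_instance

end Groth.Agent.Lib.H15.AS
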