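import Mathlib
import Groth.Prelude.Def_AlgSp
import Groth.Prelude.Def_AlgSp2
import Groth.Prelude.Def_AlgSp3
import Groth.Prelude.Def_AlgSp4
import Groth.Prelude.Def_SGA1
import Groth.Agent.Lib.helper15.AlgSpRepIff

set_option autoImplicit false
universe u
open CategoryTheory CategoryTheory.Limits AlgebraicGeometry Opposite Topology

namespace Groth.Agent.Lib.H15.AS

variable {S : Scheme.{u}}

/-- `h_φ` is a quotient map on points iff `φ` is. -/
theorem isQuotientMap_map_yon_map_iff {T T' : Over S} (φ : T ⟶ T') :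
    IsQuotientMap (AlgSp.Points.map ((AlgSp.yon S).map φ)) ↔ IsQuotientMap φ.left := by
  rw [AlgSp.Points.map_yon_map_eq]
  constructor
  · intro h
    have := ((AlgSp.Points.schemeHomeo T').symm.isQuotientMap.comp h).comp
      (AlgSp.Points.schemeHomeo T).isQuotientMap
    convert this using 1
    funext t
    simp
  · intro h
    exact (AlgSp.Points.schemeHomeo T').isQuotientMap.comp
      (h.comp (AlgSp.Points.schemeHomeo T).symm.isQuotientMap)

/-- A representable universally submersive morphism is a quotient map on points. -/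
theorem isQuotientMap_points_map_of_repWith {F G : AlgSp.Sp S} {h : F ⟶ G}
    (hh : AlgSp.RepWith SGA1.UnivSubmersive h) : IsQuotientMap (AlgSp.Points.map h) := by
  have hrep : AlgSp.Representable h := hh.rep
  have hq : ∀ {T : Over S} (g : (AlgSp.yon S).obj T ⟶ G), IsQuotientMap (hrep.snd g).left := by
    intro T g
    have : SGA1.UnivSubmersive (hrep.snd g).left := hh.property_snd g
    exact this _ _ _ (IsPullback.of_id_snd)
  have hsurj : AlgSp.RepWith @Surjective h := by
    rw [AlgSp.repWith_iff]
    refine ⟨hrep, fun U V g fst snd sq => ?_⟩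
    have : SGA1.UnivSubmersive snd.left := ((AlgSp.repWith_iff _ _).1 hh).2 g fst snd sq
    exact ⟨(this _ _ _ (IsPullback.of_id_snd)).surjective⟩
  rw [isQuotientMap_iff]
  refine ⟨isCoinducing_iff.2 fun W => ⟨fun hW => ?_,
    fun hW => (AlgSp.Points.continuous_map h).isOpen_preimage W hW⟩, isSurjectiveMor_of_repWith hsurj⟩
  rw [AlgSp.Points.isOpen_iff]
  intro T g
  rw [← (hq g).isOpen_preimage]
  have : (hrep.snd g).left ⁻¹' (AlgSp.Points.ofPt g ⁻¹' W) =
      AlgSp.Points.ofPt (hrep.fst g) ⁻¹' (AlgSp.Points.map h ⁻¹' W) := by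
    ext v
    simp only [Set.mem_preimage]
    rw [AlgSp.Points.map_ofPt, hrep.w g, ofPt_yon_map_comp]
  rw [this]
  exact (AlgSp.Points.continuous_ofPt _).isOpen_preimage _ hW

/-- For representable `f`: representable universally submersive iff universally submersive. -/
theorem repWith_univSubmersive_iff {X Y : AlgSp.Sp S} {f : X ⟶ Y} (hf : AlgSp.Representable f) :
    AlgSp.RepWith SGA1.UnivSubmersive f ↔ AlgSp.IsUnivSubmersiveMor f := by
  constructor
  · intro h Z Z' _ g z1 z2 sq
    exact isQuotientMap_points_map_of_repWith (MorphismProperty.of_isPullback sq h)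
  · intro h
    rw [AlgSp.repWith_iff]
    refine ⟨hf, fun T W g fst s sq => ?_⟩
    intro W' T' i₁ i₂ s' hs'
    obtain ⟨s'', I₁, I₂, h1, -, -, sq'⟩ := isPullback_of_scheme_isPullback sq hs'
    have := (isQuotientMap_map_yon_map_iff s'').1 (h (AlgSp.IsAlgSpace.yon_obj _) _ _ _ sq')
    rw [h1] at this
    exact this

end Groth.Agent.Lib.H15.AS
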