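import Mathlib
import Groth.Prelude.Def_AlgSp
import Groth.Prelude.Def_AlgSp2
import Groth.Prelude.Def_AlgSp3
import Groth.Prelude.Def_AlgSp4
import Groth.Agent.Lib.helper15.AlgSpSubm
import Groth.Agent.Lib.helper15.AlgSpSepChart

set_option autoImplicit false
universe u
open CategoryTheory CategoryTheory.Limits AlgebraicGeometry Opposite Topology

namespace Groth.Agent.Lib.H15.AS

variable {S : Scheme.{u}}

/-- An isomorphism of sheaves is representable with every property containing the isomorphisms. -/
theorem repWith_of_isIso (P : MorphismProperty Scheme.{u}) (hP : MorphismProperty.isomorphisms Scheme.{u} ≤ P)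
    {F G : AlgSp.Sp S} (e : F ⟶ G) [IsIso e] : AlgSp.RepWith P e := by
  rw [AlgSp.repWith_iff]
  refine ⟨?_, fun U V g fst snd sq => ?_⟩
  · intro T g
    exact ⟨T, 𝟙 T, g ≫ inv e, by
      rw [CategoryTheory.Functor.map_id]
      exact IsPullback.of_vert_isIso ⟨by simp⟩⟩
  · have h1 : IsIso ((AlgSp.yon S).map snd) := sq.isIso_snd_of_isIso
    have h2 : IsIso snd := isIso_of_fully_faithful (AlgSp.yon S) snd
    have h3 : IsIso snd.left := inferInstanceAs (IsIso ((Over.forget S).map snd))
    exact hP _ h3

/-- A morphism representable by closed immersions is separated. -/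
theorem isSeparatedMor_of_repWith_isClosedImmersion {X Y : AlgSp.Sp S} {f : X ⟶ Y}
    (hf : AlgSp.RepWith @IsClosedImmersion f) : AlgSp.IsSeparatedMor f := by
  have : Mono f := mono_of_repWith (P := @IsClosedImmersion)
    (fun _ _ g (hg : IsClosedImmersion g) => (inferInstance : Mono g)) f hf
  exact repWith_of_isIso _ (fun _ _ g (hg : IsIso g) => (inferInstance : IsClosedImmersion g)) _

/-- The image of a base change on points. -/
theorem range_snd_left_of_isPullback {X Y : AlgSp.Sp S} {f : X ⟶ Y} {T W : Over S}
    {g : (AlgSp.yon S).obj T ⟶ Y} {fst : (AlgSp.yon S).obj W ⟶ X} {s : W ⟶ T}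
    (sq : IsPullback fst ((AlgSp.yon S).map s) f g) :
    Set.range s.left = AlgSp.Points.ofPt g ⁻¹' Set.range (AlgSp.Points.map f) := by
  have := preimage_ofPt_image_map sq Set.univ
  rw [Set.image_univ, Set.preimage_univ, Set.image_univ] at this
  exact this.symm

/-- An immersion of sheaves is a closed immersion iff its image on points is closed. -/
theorem repWith_isClosedImmersion_iff_isClosed_range {Z X : AlgSp.Sp S} {i : Z ⟶ X}
    (hi : AlgSp.RepWith @IsImmersion i) :
    AlgSp.RepWith @IsClosedImmersion i ↔ IsClosed (Set.range (AlgSp.Points.map i)) := by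
  constructor
  · intro h
    rw [← isOpen_compl_iff, AlgSp.Points.isOpen_iff]
    intro T g
    have hrep : AlgSp.Representable i := h.rep
    have hc : IsClosedImmersion (hrep.snd g).left := h.property_snd g
    have := range_snd_left_of_isPullback (hrep.isPullback g)
    rw [Set.preimage_compl, ← this]
    exact (hrep.snd g).left.isClosedEmbedding.isClosed_range.isOpen_compl
  · intro h
    rw [AlgSp.repWith_iff]
    refine ⟨hi.rep, fun T W g fst s sq => ?_⟩
    have him : IsImmersion s.left := ((AlgSp.repWith_iff _ _).1 hi).2 g fst s sq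
    have hr := range_snd_left_of_isPullback sq
    have hcl : IsClosed (Set.range s.left) := by
      rw [hr]
      exact h.preimage (AlgSp.Points.continuous_ofPt g)
    exact IsClosedImmersion.of_isPreimmersion s.left hcl

end Groth.Agent.Lib.H15.AS
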