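import Mathlib
import Groth.Prelude.Def_AlgSp
import Groth.Prelude.Def_AlgSp2
import Groth.Prelude.Def_AlgSp3
import Groth.Prelude.Def_AlgSp4
import Groth.Agent.Lib.helper15.AlgSpLocP5
import Groth.Agent.Lib.helper15.AlgSpSepChart
import Groth.Agent.Lib.helper15.AlgSpImm
import Groth.Agent.Lib.helper15.CatProd

set_option autoImplicit false
universe u
open CategoryTheory CategoryTheory.Limits AlgebraicGeometry Opposite Topology

namespace Groth.Agent.Lib.H15.AS

variable {S : Scheme.{u}}

/-- `RepWith P` can be checked after an etale surjective base change of the target, for `P` satisfying fppf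
descent. -/
theorem repWith_of_etale_cover_target (P : MorphismProperty Scheme.{u}) [P.IsStableUnderBaseChange]
    [P.DescendsAlong (@Surjective ⊓ @Flat ⊓ @LocallyOfFinitePresentation)]
    {F G G' F' : AlgSp.Sp S} {f : F ⟶ G} (hf : AlgSp.Representable f) {c : G' ⟶ G}
    (hce : AlgSp.RepWith @Etale c) (hcs : AlgSp.RepWith @Surjective c) {f' : F' ⟶ G'} {c' : F' ⟶ F}
    (sq : IsPullback c' f' f c) (hf' : AlgSp.RepWith P f') : AlgSp.RepWith P f := by
  have : P.RespectsIso := MorphismProperty.IsStableUnderBaseChange.respectsIso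
  refine MorphismProperty.relative.of_exists (fun T t => ?_)
  refine ⟨hf.pullback t, hf.fst t, hf.snd t, hf.isPullback t, ?_⟩
  have hc : AlgSp.Representable c := hce.rep
  have sqT := hc.isPullback t
  have hw2e : Etale (hc.snd t).left := hce.property_snd t
  have hw2s : Surjective (hc.snd t).left := hcs.property_snd t
  have sqZ : IsPullback (pullback.fst (hf.snd t) (hc.snd t)) (pullback.snd (hf.snd t) (hc.snd t))
      (hf.snd t) (hc.snd t) := IsPullback.of_hasPullback _ _
  have outer := (sqZ.map (AlgSp.yon S)).paste_horiz (hf.isPullback t)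
  have hcomm : ((AlgSp.yon S).map (pullback.fst (hf.snd t) (hc.snd t)) ≫ hf.fst t) ≫ f =
      ((AlgSp.yon S).map (pullback.snd (hf.snd t) (hc.snd t)) ≫ hc.fst t) ≫ c := by
    rw [Category.assoc, Category.assoc, sqT.w]
    simpa only [Category.assoc] using outer.w
  let l := sq.lift _ _ hcomm
  have hl1 : l ≫ c' = (AlgSp.yon S).map (pullback.fst (hf.snd t) (hc.snd t)) ≫ hf.fst t :=
    sq.lift_fst _ _ _
  have hl2 : l ≫ f' = (AlgSp.yon S).map (pullback.snd (hf.snd t) (hc.snd t)) ≫ hc.fst t :=
    sq.lift_snd _ _ _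
  rw [← hl1, ← sqT.w] at outer
  have left := IsPullback.of_right outer hl2 sq
  have hP : P (pullback.snd (hf.snd t) (hc.snd t)).left :=
    ((AlgSp.repWith_iff _ _).1 hf').2 _ _ _ left
  exact MorphismProperty.of_isPullback_of_descendsAlong
    (Q := @Surjective ⊓ @Flat ⊓ @LocallyOfFinitePresentation)
    (sqZ.flip.map (Over.forget S))
    ⟨⟨hw2s, (inferInstance : Flat (hc.snd t).left)⟩,
      (inferInstance : LocallyOfFinitePresentation (hc.snd t).left)⟩ hP

/-- Products of morphisms representable with `Q`. -/
theorem repWith_prod_map (Q : MorphismProperty Scheme.{u}) [Q.IsStableUnderBaseChange]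
    [Q.IsMultiplicative] {A B X Y : AlgSp.Sp S} (u : A ⟶ X) (v : B ⟶ Y)
    (hu : AlgSp.RepWith Q u) (hv : AlgSp.RepWith Q v) : AlgSp.RepWith Q (prod.map u v) := by
  have h1 : AlgSp.RepWith Q (prod.map u (𝟙 B)) :=
    MorphismProperty.of_isPullback (IsPullback.of_prod_fst_with_id u B) hu
  have h2 : AlgSp.RepWith Q (prod.map (𝟙 X) v) :=
    MorphismProperty.of_isPullback (isPullback_prod_snd_with_id v X) hv
  have : prod.map u v = prod.map u (𝟙 B) ≫ prod.map (𝟙 X) v := by
    rw [prod.map_map, Category.comp_id, Category.id_comp]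
  rw [this]
  exact MorphismProperty.comp_mem _ _ _ h1 h2

/-- If `x ≫ j` is representable with `P` and `j` is a monomorphism, so is `x`. -/
theorem repWith_of_comp_mono (P : MorphismProperty Scheme.{u}) {A B D : AlgSp.Sp S} (x : A ⟶ B)
    (j : B ⟶ D) [Mono j] (h : AlgSp.RepWith P (x ≫ j)) : AlgSp.RepWith P x :=
  MorphismProperty.of_isPullback (isPullback_of_mono x j) h

/-- The diagonal of an algebraic space is locally of finite type. -/
theorem repWith_lft_diag {X : AlgSp.Sp S} (hX : AlgSp.IsAlgSpace X) :
    AlgSp.RepWith @LocallyOfFiniteType (Limits.diag X) := by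
  obtain ⟨U, a, hae, has⟩ := hX.atlas
  have ha : AlgSp.Representable a := hae.rep
  have sqR := ha.isPullback' a
  have sq := isPullback_diag_of_isPullback sqR
  refine repWith_of_etale_cover_target @LocallyOfFiniteType hX.diag
    (repWith_prod_map @Etale a a hae hae) (repWith_prod_map @Surjective a a has has) sq ?_
  have he : prod.lift ((AlgSp.yon S).map (ha.fst' a)) ((AlgSp.yon S).map (ha.snd a)) =
      (AlgSp.yon S).map (prod.lift (ha.fst' a) (ha.snd a)) ≫ prodComparison (AlgSp.yon S) U U := by
    apply Limits.prod.hom_ext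
    · rw [prod.lift_fst, Category.assoc, prodComparison_fst, ← Functor.map_comp, prod.lift_fst]
    · rw [prod.lift_snd, Category.assoc, prodComparison_snd, ← Functor.map_comp, prod.lift_snd]
  rw [he]
  refine MorphismProperty.comp_mem _ _ _ ((AlgSp.repWith_yon_map_iff _ _).2 ?_)
    (repWith_of_isIso _ (fun _ _ g (hg : IsIso g) => (inferInstance : LocallyOfFiniteType g)) _)
  have h1 : Etale (ha.fst' a).left :=
    ((AlgSp.repWith_iff _ _).1 hae).2 a ((AlgSp.yon S).map (ha.snd a)) (ha.fst' a) sqR.flip
  have h2 : (prod.lift (ha.fst' a) (ha.snd a)).left ≫ (prod.fst : U ⨯ U ⟶ U).left = (ha.fst' a).left := by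
    rw [← Over.comp_left, prod.lift_fst]
  have : LocallyOfFiniteType ((prod.lift (ha.fst' a) (ha.snd a)).left ≫ (prod.fst : U ⨯ U ⟶ U).left) := by
    rw [h2]; infer_instance
  exact locallyOfFiniteType_of_comp _ (prod.fst : U ⨯ U ⟶ U).left

/-- The relative diagonal of a morphism of algebraic spaces is representable. -/
theorem representable_diagonal {X Y : AlgSp.Sp S} (hX : AlgSp.IsAlgSpace X) (f : X ⟶ Y) :
    AlgSp.Representable (pullback.diagonal f) := by
  have : Mono (prod.lift (pullback.fst f f) (pullback.snd f f)) :=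
    mono_prod_lift_of_isPullback (IsPullback.of_hasPullback f f)
  refine representable_of_comp_mono _ (prod.lift (pullback.fst f f) (pullback.snd f f)) ?_
  have : pullback.diagonal f ≫ prod.lift (pullback.fst f f) (pullback.snd f f) = Limits.diag X := by
    apply Limits.prod.hom_ext <;> simp
  rw [this]
  exact hX.diag

/-- The relative diagonal of a morphism of algebraic spaces is locally of finite type. -/
theorem repWith_lft_diagonal {X Y : AlgSp.Sp S} (hX : AlgSp.IsAlgSpace X) (f : X ⟶ Y) :
    AlgSp.RepWith @LocallyOfFiniteType (pullback.diagonal f) := by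
  have : Mono (prod.lift (pullback.fst f f) (pullback.snd f f)) :=
    mono_prod_lift_of_isPullback (IsPullback.of_hasPullback f f)
  refine repWith_of_comp_mono _ _ (prod.lift (pullback.fst f f) (pullback.snd f f)) ?_
  have : pullback.diagonal f ≫ prod.lift (pullback.fst f f) (pullback.snd f f) = Limits.diag X := by
    apply Limits.prod.hom_ext <;> simp
  rw [this]
  exact repWith_lft_diag hX

end Groth.Agent.Lib.H15.AS
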