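import Mathlib
import Groth.Prelude.Def_AlgSp
import Groth.Prelude.Def_AlgSp2
import Groth.Prelude.Def_AlgSp3
import Groth.Prelude.Def_AlgSp4
import Groth.Agent.Lib.helper15.AlgSpOpenSub
import Groth.Agent.Lib.helper15.AlgSpPoints3
import Groth.Agent.Lib.helper15.AlgSpCover

set_option autoImplicit false
universe u
open CategoryTheory CategoryTheory.Limits AlgebraicGeometry Opposite Topology

namespace Groth.Agent.Lib.H15.AS

variable {S : Scheme.{u}}

/-- Checking a pullback square of sheaves on sections. -/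
theorem isPullback_sp_of_sections {P X Y Z : AlgSp.Sp S} (fst : P ⟶ X) (snd : P ⟶ Y) (f : X ⟶ Z)
    (g : Y ⟶ Z) (w : fst ≫ f = snd ≫ g)
    (hinj : ∀ (T : (Over S)ᵒᵖ) (p p' : P.obj.obj T), fst.hom.app T p = fst.hom.app T p' →
      snd.hom.app T p = snd.hom.app T p' → p = p')
    (hsurj : ∀ (T : (Over S)ᵒᵖ) (x : X.obj.obj T) (y : Y.obj.obj T),
      f.hom.app T x = g.hom.app T y → ∃ p, fst.hom.app T p = x ∧ snd.hom.app T p = y) :
    IsPullback fst snd f g := by
  refine IsPullback.of_map (sheafToPresheaf (AlgSp.J S) (Type (u + 1))) w ?_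
  refine IsPullback.of_forall_isPullback_app fun T => ?_
  refine (Limits.Types.isPullback_iff _ _ _ _).2 ⟨?_, fun p p' h => hinj T p p' h.1 h.2, hsurj T⟩
  have := congrArg (fun k => k.hom.app T) w
  exact this

/-- The diagonal of a subobject is a base change of the diagonal. -/
theorem isPullback_diag_of_mono {D : Type*} [Category D] {X' X : D} (j : X' ⟶ X) [Mono j]
    [HasBinaryProduct X X] [HasBinaryProduct X' X'] :
    IsPullback j (Limits.diag X') (Limits.diag X) (prod.map j j) := by
  have hw : j ≫ Limits.diag X = Limits.diag X' ≫ prod.map j j := by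
    apply Limits.prod.hom_ext
    · rw [Category.assoc, Category.assoc, prod.map_fst, prod.lift_fst, prod.lift_fst_assoc,
        Category.comp_id, Category.id_comp]
    · rw [Category.assoc, Category.assoc, prod.map_snd, prod.lift_snd, prod.lift_snd_assoc,
        Category.comp_id, Category.id_comp]
  have key : ∀ s : PullbackCone (Limits.diag X) (prod.map j j),
      s.fst = s.snd ≫ prod.fst ≫ j ∧ s.fst = s.snd ≫ prod.snd ≫ j := by
    intro s
    have h1 := congrArg (· ≫ prod.fst) s.condition
    have h2 := congrArg (· ≫ prod.snd) s.condition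
    simp only [Category.assoc, prod.map_fst, prod.map_snd] at h1 h2
    rw [prod.lift_fst, Category.comp_id] at h1
    rw [prod.lift_snd, Category.comp_id] at h2
    exact ⟨h1, h2⟩
  refine ⟨⟨hw⟩, ⟨PullbackCone.IsLimit.mk _ (fun s => s.snd ≫ prod.fst) ?_ ?_ ?_⟩⟩
  · intro s
    rw [Category.assoc]
    exact (key s).1.symm
  · intro s
    have h3 : s.snd ≫ prod.fst = s.snd ≫ prod.snd := by
      rw [← cancel_mono j, Category.assoc, Category.assoc, ← (key s).1, ← (key s).2]
    apply Limits.prod.hom_ext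
    · rw [Category.assoc, prod.lift_fst, Category.comp_id]
    · rw [Category.assoc, prod.lift_snd, Category.comp_id, h3]
  · intro s m h1 h2
    have := congrArg (· ≫ prod.fst) h2
    simp only [Category.assoc] at this
    rw [prod.lift_fst, Category.comp_id] at this
    exact this

/-- The subpresheaf of sections of `F` all of whose points lie in `W`. -/
def openSubfunctor (F : AlgSp.Sp S) (W : Set (AlgSp.Points F)) : Subfunctor F.obj where
  obj T := {ξ | ∀ t : ↥T.unop.left, AlgSp.Points.ofPt ((AlgSp.J S).uliftYonedaEquiv.symm ξ) t ∈ W}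
  map {T T'} i ξ hξ := by
    intro t
    change AlgSp.Points.ofPt ((AlgSp.J S).uliftYonedaEquiv.symm (F.obj.map i ξ)) t ∈ W
    rw [GrothendieckTopology.uliftYonedaEquiv_symm_map, ofPt_yon_map_comp]
    exact hξ _

theorem mem_openSubfunctor_iff {F : AlgSp.Sp S} {W : Set (AlgSp.Points F)} {T : (Over S)ᵒᵖ}
    (ξ : F.obj.obj T) : ξ ∈ (openSubfunctor F W).obj T ↔
      ∀ t : ↥T.unop.left, AlgSp.Points.ofPt ((AlgSp.J S).uliftYonedaEquiv.symm ξ) t ∈ W := Iff.rfl

theorem openSubfunctor_isSheaf (F : AlgSp.Sp S) (W : Set (AlgSp.Points F)) :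
    Presheaf.IsSheaf (AlgSp.J S) (openSubfunctor F W).toFunctor := by
  rw [isSheaf_iff_isSheaf_of_type,
    Subfunctor.isSheaf_iff _ ((isSheaf_iff_isSheaf_of_type _ _).1 F.property)]
  intro T ξ hR t
  obtain ⟨R', hR', hle⟩ := exists_precoverage_le_of_mem_J _ hR
  have hjs := hR'.1
  rw [Presieve.mem_comap_jointlySurjectivePrecoverage_iff] at hjs
  obtain ⟨Z, g, hg, z, hz⟩ := hjs t
  have h1 := hle g hg
  have h2 : AlgSp.Points.ofPt ((AlgSp.J S).uliftYonedaEquiv.symm
      (F.obj.map (Over.homMk g : Over.mk (g ≫ T.unop.hom) ⟶ T.unop).op ξ)) z ∈ W := h1 z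
  rw [GrothendieckTopology.uliftYonedaEquiv_symm_map, ofPt_yon_map_comp] at h2
  have hz' : (Over.homMk g : Over.mk (g ≫ T.unop.hom) ⟶ T.unop).left z = t := hz
  rw [← hz']
  exact h2

/-- The open subsheaf of `F` defined by a set of points. -/
def openSub (F : AlgSp.Sp S) (W : Set (AlgSp.Points F)) : AlgSp.Sp S :=
  ⟨(openSubfunctor F W).toFunctor, openSubfunctor_isSheaf F W⟩

/-- The inclusion of the open subsheaf. -/
def openSubι (F : AlgSp.Sp S) (W : Set (AlgSp.Points F)) : openSub F W ⟶ F :=
  ⟨(openSubfunctor F W).ι⟩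

/-- The open subscheme of a chart lying over `W`. -/
noncomputable def preimageOpens {F : AlgSp.Sp S} {W : Set (AlgSp.Points F)} (hW : IsOpen W) {T : Over S}
    (a : (AlgSp.yon S).obj T ⟶ F) : T.left.Opens :=
  ⟨AlgSp.Points.ofPt a ⁻¹' W, AlgSp.Points.isOpen_iff.1 hW T a⟩

theorem mem_preimageOpens {F : AlgSp.Sp S} {W : Set (AlgSp.Points F)} (hW : IsOpen W) {T : Over S}
    (a : (AlgSp.yon S).obj T ⟶ F) (t : ↥T.left) :
    t ∈ preimageOpens hW a ↔ AlgSp.Points.ofPt a t ∈ W := Iff.rfl

/-- The restriction of a chart to the open subsheaf. -/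
noncomputable def openSubChart {F : AlgSp.Sp S} {W : Set (AlgSp.Points F)} (hW : IsOpen W) {T : Over S}
    (a : (AlgSp.yon S).obj T ⟶ F) :
    (AlgSp.yon S).obj (overOpen T (preimageOpens hW a)) ⟶ openSub F W :=
  (AlgSp.J S).uliftYonedaEquiv.symm
    (⟨F.obj.map (overOpenι T (preimageOpens hW a)).op ((AlgSp.J S).uliftYonedaEquiv a), by
      intro t
      rw [GrothendieckTopology.uliftYonedaEquiv_symm_map, Equiv.symm_apply_apply]
      change AlgSp.Points.ofPt ((AlgSp.yon S).map (overOpenι T (preimageOpens hW a)) ≫ a) t ∈ W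
      rw [ofPt_yon_map_comp]
      exact t.2⟩ : (openSub F W).obj.obj (op (overOpen T (preimageOpens hW a))))

theorem openSubChart_comp {F : AlgSp.Sp S} {W : Set (AlgSp.Points F)} (hW : IsOpen W) {T : Over S}
    (a : (AlgSp.yon S).obj T ⟶ F) :
    openSubChart hW a ≫ openSubι F W = (AlgSp.yon S).map (overOpenι T (preimageOpens hW a)) ≫ a := by
  apply (AlgSp.J S).uliftYonedaEquiv.injective
  rw [GrothendieckTopology.uliftYonedaEquiv_comp, openSubChart, Equiv.apply_symm_apply,
    ← GrothendieckTopology.uliftYonedaEquiv_naturality]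
  rfl

theorem isPullback_openSubChart {F : AlgSp.Sp S} {W : Set (AlgSp.Points F)} (hW : IsOpen W)
    {T : Over S} (a : (AlgSp.yon S).obj T ⟶ F) :
    IsPullback (openSubChart hW a) ((AlgSp.yon S).map (overOpenι T (preimageOpens hW a)))
      (openSubι F W) a := by
  have hmono : Mono (overOpenι T (preimageOpens hW a)) :=
    mono_of_mono_left (overOpenι T (preimageOpens hW a))
  refine isPullback_sp_of_sections _ _ _ _ (openSubChart_comp hW a) ?_ ?_
  · intro T'' p p' _ h2
    obtain ⟨p⟩ := p
    obtain ⟨p'⟩ := p'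
    have h3 : p ≫ overOpenι T (preimageOpens hW a) = p' ≫ overOpenι T (preimageOpens hW a) :=
      congrArg ULift.down h2
    rw [(cancel_mono _).1 h3]
  · intro T'' x y hxy
    obtain ⟨g⟩ := y
    have hx1 : x.1 = a.hom.app T'' ⟨g⟩ := hxy
    have hsymm : (AlgSp.J S).uliftYonedaEquiv.symm x.1 = (AlgSp.yon S).map g ≫ a := by
      apply (AlgSp.J S).uliftYonedaEquiv.injective
      rw [Equiv.apply_symm_apply, GrothendieckTopology.uliftYonedaEquiv_comp,
        GrothendieckTopology.uliftYonedaEquiv_uliftYoneda_map, hx1]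
    have hrange : Set.range g.left ⊆ Set.range (preimageOpens hW a).ι := by
      rintro _ ⟨t, rfl⟩
      rw [Scheme.Opens.range_ι]
      change AlgSp.Points.ofPt a (g.left t) ∈ W
      rw [← ofPt_yon_map_comp, ← hsymm]
      exact x.2 t
    let k0 : T''.unop.left ⟶ (overOpen T (preimageOpens hW a)).left :=
      IsOpenImmersion.lift (preimageOpens hW a).ι g.left hrange
    have hk0 : k0 ≫ (preimageOpens hW a).ι = g.left := IsOpenImmersion.lift_fac _ _ _
    let k : T''.unop ⟶ overOpen T (preimageOpens hW a) := Over.homMk k0 (by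
      change k0 ≫ (preimageOpens hW a).ι ≫ T.hom = _
      rw [← Category.assoc, hk0]
      exact Over.w g)
    have hk : k ≫ overOpenι T (preimageOpens hW a) = g := Over.OverMorphism.ext hk0
    refine ⟨⟨k⟩, ?_, ?_⟩
    · apply Subtype.ext
      rw [hx1]
      change ((openSubChart hW a).hom.app T'' ⟨k⟩).1 = _
      rw [openSubChart, GrothendieckTopology.uliftYonedaEquiv_symm_app_apply]
      change F.obj.map k.op (F.obj.map (overOpenι T (preimageOpens hW a)).op
        ((AlgSp.J S).uliftYonedaEquiv a)) = _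
      rw [← Functor.map_comp_apply, ← op_comp, hk,
        GrothendieckTopology.map_uliftYonedaEquiv]
    · change ULift.up (k ≫ overOpenι T (preimageOpens hW a)) = _
      rw [hk]

theorem repWith_isOpenImmersion_openSubι (F : AlgSp.Sp S) {W : Set (AlgSp.Points F)}
    (hW : IsOpen W) : AlgSp.RepWith @IsOpenImmersion (openSubι F W) := by
  refine MorphismProperty.relative.of_exists fun T a => ?_
  refine ⟨_, openSubChart hW a, overOpenι T (preimageOpens hW a), isPullback_openSubChart hW a, ?_⟩
  change IsOpenImmersion (preimageOpens hW a).ι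
  infer_instance

instance mono_openSubι (F : AlgSp.Sp S) (W : Set (AlgSp.Points F)) : Mono (openSubι F W) := by
  refine ⟨fun {Z} g h e => ?_⟩
  apply Sheaf.hom_ext
  ext T z
  apply Subtype.ext
  have := congrArg (fun k => k.hom.app T z) e
  exact this

/-- The open subsheaf of an algebraic space is an algebraic space. -/
theorem isAlgSpace_openSub {F : AlgSp.Sp S} (hF : AlgSp.IsAlgSpace F) {W : Set (AlgSp.Points F)}
    (hW : IsOpen W) : AlgSp.IsAlgSpace (openSub F W) := by
  refine ⟨?_, ?_⟩
  · exact MorphismProperty.of_isPullback (isPullback_diag_of_mono (openSubι F W)) hF.diag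
  · obtain ⟨U, p, hpe, hps⟩ := hF.atlas
    refine ⟨_, openSubChart hW p, ?_, ?_⟩
    · exact MorphismProperty.of_isPullback (isPullback_openSubChart hW p).flip hpe
    · exact MorphismProperty.of_isPullback (isPullback_openSubChart hW p).flip hps

theorem range_map_openSubι (F : AlgSp.Sp S) (W : Set (AlgSp.Points F)) :
    Set.range (AlgSp.Points.map (openSubι F W)) = W := by
  ext x
  constructor
  · rintro ⟨y, rfl⟩
    induction y using AlgSp.Points.ind with
    | h q =>
      rw [AlgSp.Points.map_mk]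
      have h1 := q.val.2 (IsLocalRing.closedPoint q.K)
      have h2 := points_eq_ofPt (q.map (openSubι F W)) (IsLocalRing.closedPoint q.K)
      rw [← h2]
      exact h1
  · intro hx
    induction x using AlgSp.Points.ind with
    | h q =>
      refine ⟨AlgSp.Points.mk ⟨q.K, q.str, ⟨q.val, fun t => ?_⟩⟩, rfl⟩
      have h2 := points_eq_ofPt q t
      change AlgSp.Points.ofPt (fieldPtHom q) t ∈ W
      rw [h2]
      exact hx

end Groth.Agent.Lib.H15.AS
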