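import Mathlib
import Groth.Prelude.Def_AlgSp
import Groth.Prelude.Def_AlgSp2
import Groth.Prelude.Def_AlgSp3
import Groth.Prelude.Def_AlgSp4
import Groth.Agent.Lib.helper15.AlgSpOpenSub2
import Groth.Agent.Lib.helper15.AlgSpDiag

set_option autoImplicit false
universe u
open CategoryTheory CategoryTheory.Limits AlgebraicGeometry Opposite Topology

namespace Groth.Agent.Lib.H15.AS

variable {S : Scheme.{u}}

/-- A monomorphism of sheaves is injective on sections. -/
theorem injective_app_of_mono {F G : AlgSp.Sp S} (j : F ⟶ G) [Mono j] (T : Over S) :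
    Function.Injective (j.hom.app (op T)) := by
  intro x y e
  have hx : (GrothendieckTopology.uliftYonedaEquiv.{u + 1} (AlgSp.J S)).symm x =
      (GrothendieckTopology.uliftYonedaEquiv.{u + 1} (AlgSp.J S)).symm y := by
    rw [← cancel_mono j, GrothendieckTopology.uliftYonedaEquiv_symm_naturality_right,
      GrothendieckTopology.uliftYonedaEquiv_symm_naturality_right, e]
  exact (GrothendieckTopology.uliftYonedaEquiv.{u + 1} (AlgSp.J S)).symm.injective hx

/-- A monomorphism of sheaves is injective on points. -/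
theorem injective_points_map_of_mono {F G : AlgSp.Sp S} (j : F ⟶ G) [Mono j] :
    Function.Injective (AlgSp.Points.map j) := by
  intro x y
  induction x using AlgSp.Points.ind with
  | h p =>
    induction y using AlgSp.Points.ind with
    | h q =>
      intro e
      rw [AlgSp.Points.map_mk, AlgSp.Points.map_mk, AlgSp.Points.mk_eq_mk_iff] at e
      obtain ⟨Ω, _, w, a, b, h⟩ := e
      apply AlgSp.Points.sound
      refine ⟨Ω, inferInstance, w, a, b, ?_⟩
      apply injective_app_of_mono j
      have h1 := NatTrans.naturality_apply j.hom a.op p.val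
      have h2 := NatTrans.naturality_apply j.hom b.op q.val
      exact h1.trans (h.trans h2.symm)

/-- The points of a morphism out of a scheme. -/
theorem range_map_eq_range_ofPt {F : AlgSp.Sp S} {U : Over S} (a : (AlgSp.yon S).obj U ⟶ F) :
    Set.range (AlgSp.Points.map a) = Set.range (AlgSp.Points.ofPt a) := by
  rw [ofPt_eq_comp, Set.range_comp, (AlgSp.Points.schemeHomeo U).surjective.range_eq, Set.image_univ]

/-- Restricting an etale chart to an open subscheme gives a surjective etale chart of the open subspace on its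
image. -/
theorem exists_chart_openSub {F : AlgSp.Sp S} {U : Over S} (a : (AlgSp.yon S).obj U ⟶ F)
    (hae : AlgSp.RepWith @Etale a) (W : U.left.Opens) :
    ∃ hΩ : IsOpen (AlgSp.Points.ofPt a '' (W : Set U.left)),
      ∃ a' : (AlgSp.yon S).obj (overOpen U W) ⟶ openSub F (AlgSp.Points.ofPt a '' (W : Set U.left)),
        a' ≫ openSubι F _ = (AlgSp.yon S).map (overOpenι U W) ≫ a ∧ AlgSp.RepWith @Etale a' ∧
          AlgSp.RepWith @Surjective a' := by
  have hΩ : IsOpen (AlgSp.Points.ofPt a '' (W : Set U.left)) :=
    isOpenMap_ofPt a (repWith_universallyOpen_of_etale hae) _ W.2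
  refine ⟨hΩ, ?_⟩
  have hj := repWith_isOpenImmersion_openSubι F hΩ
  have hrange : Set.range (AlgSp.Points.map ((AlgSp.yon S).map (overOpenι U W) ≫ a)) ⊆
      Set.range (AlgSp.Points.map (openSubι F (AlgSp.Points.ofPt a '' (W : Set U.left)))) := by
    rw [range_map_openSubι, range_map_eq_range_ofPt, range_ofPt_overOpen]
  obtain ⟨a', ha'⟩ := exists_factor_of_range_subset _ hj _ hrange
  have hae' : AlgSp.RepWith @Etale ((AlgSp.yon S).map (overOpenι U W) ≫ a) :=
    repWith_yon_map_comp @Etale _ _ (by change Etale W.ι; infer_instance) hae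
  have he : AlgSp.RepWith @Etale a' := by
    apply repWith_of_comp_mono @Etale a' (openSubι F _)
    rw [ha']
    exact hae'
  refine ⟨a', ha', he, ?_⟩
  refine repWith_surjective_of_isSurjectiveMor he.rep (isSurjectiveMor_of_surjective_ofPt a' ?_)
  intro y
  have hy : AlgSp.Points.map (openSubι F _) y ∈ AlgSp.Points.ofPt a '' (W : Set U.left) :=
    (Set.ext_iff.1 (range_map_openSubι F (AlgSp.Points.ofPt a '' (W : Set U.left))) _).1 ⟨y, rfl⟩
  obtain ⟨w0, hw0, hw⟩ := hy
  refine ⟨⟨w0, hw0⟩, ?_⟩
  apply injective_points_map_of_mono (openSubι F _)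
  rw [AlgSp.Points.map_ofPt, ha', ofPt_yon_map_comp, ← hw]
  rfl

end Groth.Agent.Lib.H15.AS
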