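import Mathlib
import Groth.Prelude.Def_AlgSp
import Groth.Prelude.Def_AlgSp2
import Groth.Prelude.Def_AlgSp3
import Groth.Prelude.Def_AlgSp4
import Groth.Prelude.Def_AlgSpSub
import Groth.Agent.Lib.helper15.AlgSpOpenSub3
import Groth.Agent.Lib.helper15.AlgSpMono

set_option autoImplicit false
universe u
open CategoryTheory CategoryTheory.Limits AlgebraicGeometry Opposite Topology

namespace Groth.Agent.Lib.H15.AS

variable {S : Scheme.{u}}

/-- A morphism of sheaves which is representable by closed immersions and surjective on points, to a reduced sheaf, is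
an isomorphism. -/
theorem isIso_of_repWith_isClosedImmersion_of_surjective {F G : AlgSp.Sp S} (f : F ⟶ G)
    (hf : AlgSp.RepWith @IsClosedImmersion f) (hs : AlgSp.IsSurjectiveMor f)
    (hG : AlgSp.IsReducedSp G) : IsIso f := by
  have hmono : Mono f := mono_of_repWith (P := @IsClosedImmersion)
    (fun _ _ g (hg : IsClosedImmersion g) => (inferInstance : Mono g)) f hf
  have hrep : AlgSp.Representable f := hf.rep
  have hsurj := repWith_surjective_of_isSurjectiveMor hrep hs
  obtain ⟨V, p, hpe, hps, hV⟩ := hG
  have hVred : IsReduced V.left := hV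
  have h1 : IsClosedImmersion (hrep.snd p).left := hf.property_snd p
  have h2 : Surjective (hrep.snd p).left := hsurj.property_snd p
  have h3 : IsIso (hrep.snd p).left := isIso_of_isClosedImmersion_of_surjective _
  have h4 : IsIso (hrep.snd p) := by
    have : IsIso ((Over.forget S).map (hrep.snd p)) := h3
    exact isIso_of_reflects_iso _ (Over.forget S)
  have hfac : ((AlgSp.yon S).map (inv (hrep.snd p)) ≫ hrep.fst p) ≫ f = p := by
    rw [Category.assoc, hrep.w p, ← Category.assoc, ← Functor.map_comp, IsIso.inv_hom_id,
      CategoryTheory.Functor.map_id, Category.id_comp]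
  have hepi : Epi p := epi_of_repWith_etale_surjective p hpe hps
  have hepif : Epi f := by
    rw [← hfac] at hepi
    exact epi_of_epi ((AlgSp.yon S).map (inv (hrep.snd p)) ≫ hrep.fst p) f
  exact isIso_of_mono_of_epi f

/-- A morphism from a reduced sheaf factors through a "closed subspace" iff its image on points is contained in the
image of the closed subspace. -/
theorem exists_factor_of_range_subset_closed {X Z Y : AlgSp.Sp S} (i : Z ⟶ X)
    (hi : AlgSp.RepWith @IsClosedImmersion i) (hY : AlgSp.IsReducedSp Y) (f : Y ⟶ X)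
    (h : Set.range (AlgSp.Points.map f) ⊆ Set.range (AlgSp.Points.map i)) :
    ∃ g : Y ⟶ Z, g ≫ i = f := by
  have sq := IsPullback.of_hasPullback f i
  have h1 : AlgSp.RepWith @IsClosedImmersion (pullback.fst f i) :=
    MorphismProperty.of_isPullback sq.flip hi
  have h2 : AlgSp.IsSurjectiveMor (pullback.fst f i) := by
    intro y
    obtain ⟨x', hx'⟩ := h ⟨y, rfl⟩
    obtain ⟨p, hp, -⟩ := points_exists_of_isPullback sq y x' hx'.symm
    exact ⟨p, hp⟩
  have := isIso_of_repWith_isClosedImmersion_of_surjective _ h1 h2 hY
  refine ⟨inv (pullback.fst f i) ≫ pullback.snd f i, ?_⟩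
  rw [Category.assoc, ← pullback.condition, IsIso.inv_hom_id_assoc]

end Groth.Agent.Lib.H15.AS
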