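import Mathlib
import Groth.Prelude.Def_AlgSp
import Groth.Prelude.Def_AlgSp2
import Groth.Prelude.Def_AlgSpGpd
import Groth.Agent.Lib.helper15.AlgSpMono

/-! # The quotient sheaf `U/R`, explicitly: sheafification of the presheaf quotient. -/

set_option autoImplicit false
universe u
open CategoryTheory CategoryTheory.Limits AlgebraicGeometry Opposite

namespace Groth.Agent.Lib.H15.Quot

variable {S : Scheme.{u}} {R U : AlgSp.Sp S} (s t : R ⟶ U)

/-- The relation on sections of `U` over `T` given by sections of `R`. -/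
def rel (T : (Over S)ᵒᵖ) (a b : U.obj.obj T) : Prop :=
  ∃ r : R.obj.obj T, t.hom.app T r = a ∧ s.hom.app T r = b

theorem rel_map {T T' : (Over S)ᵒᵖ} (f : T ⟶ T') {a b : U.obj.obj T} (h : rel s t T a b) :
    rel s t T' (U.obj.map f a) (U.obj.map f b) := by
  obtain ⟨r, rfl, rfl⟩ := h
  exact ⟨R.obj.map f r, NatTrans.naturality_apply t.hom f r, NatTrans.naturality_apply s.hom f r⟩

/-- The presheaf quotient. -/
def Q₀ : (Over S)ᵒᵖ ⥤ Type (u + 1) where
  obj T := Quot (rel s t T)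
  map {T T'} f := ↾(Quot.map (U.obj.map f) (fun _ _ h => rel_map s t f h))
  map_id T := by
    ext x : 3
    induction x using Quot.ind
    simp [Quot.map]
  map_comp f g := by
    ext x : 3
    induction x using Quot.ind
    simp [Quot.map]

/-- The projection to the presheaf quotient. -/
def p₀ : U.obj ⟶ Q₀ s t where
  app T := ↾(Quot.mk (rel s t T))
  naturality T T' f := by
    ext x : 3
    rfl

/-- The sheaf quotient, explicitly. -/
noncomputable def Q : AlgSp.Sp S := (presheafToSheaf (AlgSp.J S) (Type (u + 1))).obj (Q₀ s t)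

/-- The projection to the explicit sheaf quotient. -/
noncomputable def πQ : U ⟶ Q s t :=
  ObjectProperty.homMk (p₀ s t ≫ toSheafify (AlgSp.J S) (Q₀ s t))

theorem p₀_cond : s.hom ≫ p₀ s t = t.hom ≫ p₀ s t := by
  ext T r
  exact (Quot.sound (⟨r, rfl, rfl⟩ : rel s t T _ _)).symm

theorem cond : s ≫ πQ s t = t ≫ πQ s t := by
  apply ObjectProperty.hom_ext
  change s.hom ≫ p₀ s t ≫ toSheafify (AlgSp.J S) (Q₀ s t) = t.hom ≫ p₀ s t ≫ _
  rw [← Category.assoc, p₀_cond, Category.assoc]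

variable {s t}

/-- The presheaf-level descent of a coequalizing map. -/
def f₀ {M : AlgSp.Sp S} (f : U ⟶ M) (w : s ≫ f = t ≫ f) : Q₀ s t ⟶ M.obj where
  app T := ↾(Quot.lift (f.hom.app T) (by
    rintro a b ⟨r, rfl, rfl⟩
    exact (congrArg (fun k => k.hom.app T r) w).symm))
  naturality T T' g := by
    ext x : 3
    induction x using Quot.ind
    exact NatTrans.naturality_apply f.hom g _

theorem p₀_f₀ {M : AlgSp.Sp S} (f : U ⟶ M) (w : s ≫ f = t ≫ f) : p₀ s t ≫ f₀ f w = f.hom := by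
  ext T x
  rfl

/-- Descent to the explicit sheaf quotient. -/
noncomputable def desc {M : AlgSp.Sp S} (f : U ⟶ M) (w : s ≫ f = t ≫ f) : Q s t ⟶ M :=
  ObjectProperty.homMk (sheafifyLift (AlgSp.J S) (f₀ f w) M.property)

theorem π_desc {M : AlgSp.Sp S} (f : U ⟶ M) (w : s ≫ f = t ≫ f) : πQ s t ≫ desc f w = f := by
  apply ObjectProperty.hom_ext
  change (p₀ s t ≫ toSheafify (AlgSp.J S) (Q₀ s t)) ≫ sheafifyLift (AlgSp.J S) (f₀ f w) M.property = f.hom
  rw [Category.assoc, toSheafify_sheafifyLift, p₀_f₀]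

theorem desc_uniq {M : AlgSp.Sp S} (f : U ⟶ M) (w : s ≫ f = t ≫ f) (m : Q s t ⟶ M)
    (hm : πQ s t ≫ m = f) : m = desc f w := by
  apply ObjectProperty.hom_ext
  apply sheafifyLift_unique
  ext T x
  induction x using Quot.ind with
  | mk a =>
    exact congrArg (fun k => k.hom.app T a) hm

variable (s t)

/-- The explicit quotient is a coequalizer. -/
noncomputable def isColimit : IsColimit (Cofork.ofπ (πQ s t) (cond s t)) :=
  Cofork.IsColimit.mk' _ fun c =>
    ⟨desc c.π c.condition, π_desc c.π c.condition, fun {m} hm => desc_uniq c.π c.condition m hm⟩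

/-- Comparison with the chosen coequalizer. -/
noncomputable def iso : AlgSp.quotSp s t ≅ Q s t :=
  (AlgSp.quotSpIsCoequalizer s t).coconePointUniqueUpToIso (isColimit s t)

theorem π_iso_hom : AlgSp.quotSpπ s t ≫ (iso s t).hom = πQ s t :=
  (AlgSp.quotSpIsCoequalizer s t).comp_coconePointUniqueUpToIso_hom (isColimit s t)
    WalkingParallelPair.one

/-- Separatedness of a sheaf, in terms of morphisms from representables. -/
theorem eq_of_locally_eq {F : AlgSp.Sp S} {T : Over S} (x y : (AlgSp.yon S).obj T ⟶ F) (Sv : Sieve T)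
    (hSv : Sv ∈ AlgSp.J S T)
    (h : ∀ ⦃T' : Over S⦄ (f : T' ⟶ T), Sv f → (AlgSp.yon S).map f ≫ x = (AlgSp.yon S).map f ≫ y) :
    x = y := by
  apply (AlgSp.J S).uliftYonedaEquiv.injective
  apply (((isSheaf_iff_isSheaf_of_type _ _).1 F.property).isSeparated _ hSv).ext
  intro T' f hf
  rw [GrothendieckTopology.uliftYonedaEquiv_naturality,
    GrothendieckTopology.uliftYonedaEquiv_naturality, h f hf]

/-- Local lifting along an epimorphism of sheaves. -/
theorem exists_cover_lift {A Q' : AlgSp.Sp S} (p : A ⟶ Q') [Epi p] {T : Over S}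
    (x : (AlgSp.yon S).obj T ⟶ Q') :
    ∃ Sv : Sieve T, Sv ∈ AlgSp.J S T ∧ ∀ ⦃T' : Over S⦄ (f : T' ⟶ T), Sv f →
      ∃ a : (AlgSp.yon S).obj T' ⟶ A, a ≫ p = (AlgSp.yon S).map f ≫ x := by
  have hp : Sheaf.IsLocallySurjective p := (Sheaf.isLocallySurjective_iff_epi p).2 inferInstance
  refine ⟨_, Presheaf.imageSieve_mem (AlgSp.J S) p.hom ((AlgSp.J S).uliftYonedaEquiv x), ?_⟩
  rintro T' f ⟨a, ha⟩
  refine ⟨(AlgSp.J S).uliftYonedaEquiv.symm a, ?_⟩
  apply (AlgSp.J S).uliftYonedaEquiv.injective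
  rw [GrothendieckTopology.uliftYonedaEquiv_comp, Equiv.apply_symm_apply,
    ← GrothendieckTopology.uliftYonedaEquiv_naturality]
  exact ha

/-- Sections equal in the quotient are locally related, for an equivalence relation on sections. -/
theorem rel_locally_of_πQ_eq (hE : ∀ T : (Over S)ᵒᵖ, _root_.Equivalence (rel s t T)) {T : (Over S)ᵒᵖ}
    (a b : U.obj.obj T) (h : (πQ s t).hom.app T a = (πQ s t).hom.app T b) :
    ∃ Sv : Sieve T.unop, Sv ∈ AlgSp.J S T.unop ∧ ∀ ⦃T' : Over S⦄ (f : T' ⟶ T.unop), Sv f →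
      rel s t (op T') (U.obj.map f.op a) (U.obj.map f.op b) := by
  have h' : (toSheafify (AlgSp.J S) (Q₀ s t)).app T ((p₀ s t).app T a) =
      (toSheafify (AlgSp.J S) (Q₀ s t)).app T ((p₀ s t).app T b) := h
  refine ⟨_, Presheaf.equalizerSieve_mem (AlgSp.J S) (toSheafify (AlgSp.J S) (Q₀ s t)) _ _ h', ?_⟩
  intro T' f hf
  have hf' : Quot.mk (rel s t (op T')) (U.obj.map f.op a) = Quot.mk (rel s t (op T')) (U.obj.map f.op b) :=
    hf
  exact (hE (op T')).eqvGen_iff.1 (Quot.eqvGen_exact hf')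

theorem rel_iff {T : Over S} (a b : (AlgSp.yon S).obj T ⟶ U) :
    rel s t (op T) ((AlgSp.J S).uliftYonedaEquiv a) ((AlgSp.J S).uliftYonedaEquiv b) ↔
      ∃ r : (AlgSp.yon S).obj T ⟶ R, r ≫ t = a ∧ r ≫ s = b := by
  constructor
  · rintro ⟨r, h1, h2⟩
    refine ⟨(AlgSp.J S).uliftYonedaEquiv.symm r, ?_, ?_⟩
    · apply (AlgSp.J S).uliftYonedaEquiv.injective
      rw [GrothendieckTopology.uliftYonedaEquiv_comp, Equiv.apply_symm_apply]
      exact h1
    · apply (AlgSp.J S).uliftYonedaEquiv.injective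
      rw [GrothendieckTopology.uliftYonedaEquiv_comp, Equiv.apply_symm_apply]
      exact h2
  · rintro ⟨r, rfl, rfl⟩
    exact ⟨(AlgSp.J S).uliftYonedaEquiv r, rfl, rfl⟩

theorem rel_iff' {T : Over S} (x y : U.obj.obj (op T)) :
    rel s t (op T) x y ↔
      ∃ r : (AlgSp.yon S).obj T ⟶ R, r ≫ t = (AlgSp.J S).uliftYonedaEquiv.symm x ∧
        r ≫ s = (AlgSp.J S).uliftYonedaEquiv.symm y := by
  rw [← rel_iff, Equiv.apply_symm_apply, Equiv.apply_symm_apply]

theorem equivalence_rel (hpre : AlgSp.IsPreEqvRelSp s t) (T : (Over S)ᵒᵖ) :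
    _root_.Equivalence (rel s t T) := by
  have hT := hpre T.unop
  refine ⟨fun x => ?_, fun {x y} h => ?_, fun {x y z} h1 h2 => ?_⟩
  · exact (rel_iff' s t (T := T.unop) x x).2 (hT.refl _)
  · exact (rel_iff' s t (T := T.unop) y x).2 (hT.symm ((rel_iff' s t (T := T.unop) x y).1 h))
  · exact (rel_iff' s t (T := T.unop) x z).2
      (hT.trans ((rel_iff' s t (T := T.unop) x y).1 h1) ((rel_iff' s t (T := T.unop) y z).1 h2))

/-- Key lemma: two points of `U` with the same image in `U/R` are locally related by points of `R`, for a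
pre-equivalence relation. -/
theorem exists_cover_rel (hpre : AlgSp.IsPreEqvRelSp s t) {T : Over S}
    (a b : (AlgSp.yon S).obj T ⟶ U)
    (h : a ≫ AlgSp.quotSpπ s t = b ≫ AlgSp.quotSpπ s t) :
    ∃ Sv : Sieve T, Sv ∈ AlgSp.J S T ∧ ∀ ⦃T' : Over S⦄ (f : T' ⟶ T), Sv f →
      ∃ r : (AlgSp.yon S).obj T' ⟶ R, r ≫ t = (AlgSp.yon S).map f ≫ a ∧
        r ≫ s = (AlgSp.yon S).map f ≫ b := by
  have h1 : a ≫ πQ s t = b ≫ πQ s t := by
    rw [← π_iso_hom, ← Category.assoc, h, Category.assoc]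
  have h2 := congrArg (AlgSp.J S).uliftYonedaEquiv h1
  rw [GrothendieckTopology.uliftYonedaEquiv_comp, GrothendieckTopology.uliftYonedaEquiv_comp] at h2
  obtain ⟨Sv, hSv, hrel⟩ := rel_locally_of_πQ_eq s t (equivalence_rel s t hpre) _ _ h2
  refine ⟨Sv, hSv, fun T' f hf => ?_⟩
  have := hrel f hf
  rw [GrothendieckTopology.uliftYonedaEquiv_naturality,
    GrothendieckTopology.uliftYonedaEquiv_naturality] at this
  exact (rel_iff s t _ _).1 this

/-- A map out of the target of an epimorphism `p` is a monomorphism as soon as it does not enlarge the kernel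
pair of `p`. -/
theorem mono_of_epi_of_forall {A Q' Q₁ : AlgSp.Sp S} (p : A ⟶ Q') [Epi p] (ψ : Q' ⟶ Q₁)
    (h : ∀ (T : Over S) (a b : (AlgSp.yon S).obj T ⟶ A), a ≫ p ≫ ψ = b ≫ p ≫ ψ → a ≫ p = b ≫ p) :
    Mono ψ := by
  refine Groth.Agent.Lib.H15.AS.mono_of_forall_yon ψ fun T x y hxy => ?_
  obtain ⟨S1, hS1, l1⟩ := exists_cover_lift p x
  obtain ⟨S2, hS2, l2⟩ := exists_cover_lift p y
  refine eq_of_locally_eq x y (S1 ⊓ S2) ((AlgSp.J S).intersection_covering hS1 hS2) fun T' f hf => ?_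
  obtain ⟨a, ha⟩ := l1 f hf.1
  obtain ⟨b, hb⟩ := l2 f hf.2
  rw [← ha, ← hb]
  apply h
  rw [← Category.assoc, ha, ← Category.assoc b, hb, Category.assoc, hxy, Category.assoc]

instance epi_quotSpπ : Epi (AlgSp.quotSpπ s t) := by
  unfold AlgSp.quotSpπ; exact coequalizer.π_epi

end Groth.Agent.Lib.H15.Quot
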