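import Mathlib
import Groth.Prelude.Def_AlgSp
import Groth.Prelude.Def_AlgSp2
import Groth.Prelude.Def_AlgSp3
import Groth.Prelude.Def_AlgSp4
import Groth.Prelude.Def_AlgSpGpd
import Groth.Agent.Lib.helper15.AlgSpQuot
import Groth.Agent.Lib.helper15.AlgSpCover
import Groth.Agent.Lib.helper15.AlgSpPoints2

/-! # More on quotient sheaves: epimorphisms are surjective on points, kernel pair of `U ⟶ U/R`. -/

set_option autoImplicit false
universe u
open CategoryTheory CategoryTheory.Limits AlgebraicGeometry Opposite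
open Groth.Agent.Lib.H15.AS

namespace Groth.Agent.Lib.H15.Quot

variable {S : Scheme.{u}}

/-- A covering sieve of the fppf topology has, through every point, a flat locally finitely presented member. -/
theorem exists_mem_of_mem_J {T : Over S} (Sv : Sieve T) (hSv : Sv ∈ AlgSp.J S T) (x : ↥T.left) :
    ∃ (T' : Over S) (f : T' ⟶ T), Sv f ∧ Flat f.left ∧ LocallyOfFinitePresentation f.left ∧
      x ∈ Set.range f.left := by
  obtain ⟨R', hR', hle⟩ := exists_precoverage_le_of_mem_J Sv hSv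
  obtain ⟨ι, Y, g, rfl⟩ := R'.exists_eq_ofArrows
  rw [Scheme.fppfPrecoverage, Scheme.ofArrows_mem_precoverage_iff] at hR'
  obtain ⟨i, hi⟩ := hR'.1 x
  exact ⟨Over.mk (g i ≫ T.hom), Over.homMk (g i), hle _ ⟨i⟩, (hR'.2 i).1, (hR'.2 i).2, hi⟩

/-- An epimorphism of sheaves is surjective on points. -/
theorem isSurjectiveMor_of_epi {A Q' : AlgSp.Sp S} (p : A ⟶ Q') [Epi p] : AlgSp.IsSurjectiveMor p := by
  intro y
  induction y using AlgSp.Points.ind with
  | h q =>
  obtain ⟨Sv, hSv, hl⟩ := exists_cover_lift p (fieldPtHom q)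
  obtain ⟨T', f, hf, -, -, ⟨t', -⟩⟩ := exists_mem_of_mem_J Sv hSv (IsLocalRing.closedPoint q.K)
  obtain ⟨a, ha⟩ := hl f hf
  refine ⟨AlgSp.Points.ofPt a t', ?_⟩
  rw [AlgSp.Points.map_ofPt, ha, ofPt_yon_map_comp, points_eq_ofPt]

/-- A morphism of sheaves along which points lift locally is an epimorphism. -/
theorem epi_of_local_lift {A Q' : AlgSp.Sp S} (p : A ⟶ Q')
    (h : ∀ (T : Over S) (x : (AlgSp.yon S).obj T ⟶ Q'), ∃ Sv : Sieve T, Sv ∈ AlgSp.J S T ∧
      ∀ ⦃T' : Over S⦄ (f : T' ⟶ T), Sv f →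
        ∃ a : (AlgSp.yon S).obj T' ⟶ A, a ≫ p = (AlgSp.yon S).map f ≫ x) : Epi p := by
  rw [← Sheaf.isLocallySurjective_iff_epi]
  refine ⟨fun {T} x => ?_⟩
  obtain ⟨Sv, hSv, hl⟩ := h T ((AlgSp.J S).uliftYonedaEquiv.symm x)
  refine (AlgSp.J S).superset_covering ?_ hSv
  intro T' f hf
  obtain ⟨a, ha⟩ := hl f hf
  refine ⟨(AlgSp.J S).uliftYonedaEquiv a, ?_⟩
  have := congrArg (AlgSp.J S).uliftYonedaEquiv ha
  rw [GrothendieckTopology.uliftYonedaEquiv_comp, ← GrothendieckTopology.uliftYonedaEquiv_naturality,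
    Equiv.apply_symm_apply] at this
  exact this

/-- For an equivalence relation, `R` is the kernel pair of `U ⟶ U/R`. -/
theorem isIso_lift_kernelPair {R U : AlgSp.Sp S} (s t : R ⟶ U) (hj : AlgSp.IsEqvRelSp s t) :
    IsIso (pullback.lift t s (AlgSp.quotSp_condition s t).symm :
      R ⟶ pullback (AlgSp.quotSpπ s t) (AlgSp.quotSpπ s t)) := by
  haveI : Mono (pullback.lift t s (AlgSp.quotSp_condition s t).symm :
      R ⟶ pullback (AlgSp.quotSpπ s t) (AlgSp.quotSpπ s t)) := by
    refine mono_of_forall_yon _ fun T x y hxy => ?_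
    apply hj.injective T x y
    · have := congrArg (fun k => k ≫ pullback.fst _ _) hxy
      simpa only [Category.assoc, pullback.lift_fst] using this
    · have := congrArg (fun k => k ≫ pullback.snd _ _) hxy
      simpa only [Category.assoc, pullback.lift_snd] using this
  haveI : Epi (pullback.lift t s (AlgSp.quotSp_condition s t).symm :
      R ⟶ pullback (AlgSp.quotSpπ s t) (AlgSp.quotSpπ s t)) := by
    refine epi_of_local_lift _ fun T z => ?_
    obtain ⟨Sv, hSv, hrel⟩ := exists_cover_rel s t hj.equivalence (z ≫ pullback.fst _ _)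
      (z ≫ pullback.snd _ _) (by rw [Category.assoc, Category.assoc, pullback.condition])
    refine ⟨Sv, hSv, fun T' f hf => ?_⟩
    obtain ⟨r, hr1, hr2⟩ := hrel f hf
    refine ⟨r, ?_⟩
    apply pullback.hom_ext
    · rw [Category.assoc, pullback.lift_fst, hr1, Category.assoc]
    · rw [Category.assoc, pullback.lift_snd, hr2, Category.assoc]
  exact isIso_of_mono_of_epi _

end Groth.Agent.Lib.H15.Quot
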