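import Mathlib
import Groth.Prelude.Def_AlgSp
import Groth.Prelude.Def_AlgSp2
import Groth.Prelude.Def_AlgSp3
import Groth.Prelude.Def_AlgSp4
import Groth.Agent.Lib.helper15.AlgSpQuot2
import Groth.Agent.Lib.helper15.AlgSpOpenSub3

/-! # Coproducts of fppf sheaves: summands are open and closed subsheaves. -/

set_option autoImplicit false
universe u
open CategoryTheory CategoryTheory.Limits AlgebraicGeometry Opposite
open Groth.Agent.Lib.H15.AS Groth.Agent.Lib.H15.Quot

namespace Groth.Agent.Lib.H15.Cofan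

variable {S : Scheme.{u}}

section
variable {ι : Type*} {F : ι → AlgSp.Sp S} (c : Cofan F)

/-- The subfunctor of sections of `∐ F_i` which locally come from a summand. -/
def locSub : Subfunctor c.pt.obj where
  obj T := {ξ | ∃ Sv : Sieve T.unop, Sv ∈ AlgSp.J S T.unop ∧
    ∀ ⦃T' : Over S⦄ (f : T' ⟶ T.unop), Sv f →
      ∃ (i : ι) (η : (F i).obj.obj (op T')), (c.inj i).hom.app (op T') η = c.pt.obj.map f.op ξ}
  map {T T'} g ξ hξ := by
    obtain ⟨Sv, hSv, h⟩ := hξ
    refine ⟨Sv.pullback g.unop, (AlgSp.J S).pullback_stable g.unop hSv, fun T'' f hf => ?_⟩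
    obtain ⟨i, η, hη⟩ := h (f ≫ g.unop) hf
    refine ⟨i, η, ?_⟩
    rw [hη, op_comp, Quiver.Hom.op_unop, FunctorToTypes.map_comp_apply]

theorem locSub_isSheaf : Presheaf.IsSheaf (AlgSp.J S) (locSub c).toFunctor := by
  rw [isSheaf_iff_isSheaf_of_type,
    Subfunctor.isSheaf_iff _ ((isSheaf_iff_isSheaf_of_type _ _).1 c.pt.property)]
  intro T ξ hR
  refine ⟨Sieve.bind ((locSub c).sieveOfSection ξ) (fun T' f hf => hf.choose),
    (AlgSp.J S).bind_covering hR (fun T' f hf => hf.choose_spec.1), ?_⟩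
  rintro T'' _ ⟨T', g, f, hf, hg, rfl⟩
  obtain ⟨i, η, hη⟩ := hf.choose_spec.2 g hg
  exact ⟨i, η, by rw [hη, op_comp, FunctorToTypes.map_comp_apply]⟩

/-- Sections of a coproduct of sheaves locally come from a summand. -/
theorem local_factor (hc : IsColimit c) {T : Over S} (x : (AlgSp.yon S).obj T ⟶ c.pt) :
    ∃ Sv : Sieve T, Sv ∈ AlgSp.J S T ∧ ∀ ⦃T' : Over S⦄ (f : T' ⟶ T), Sv f →
      ∃ (i : ι) (y : (AlgSp.yon S).obj T' ⟶ F i), y ≫ c.inj i = (AlgSp.yon S).map f ≫ x := by
  let G : AlgSp.Sp S := ⟨(locSub c).toFunctor, locSub_isSheaf c⟩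
  let ιG : G ⟶ c.pt := ⟨(locSub c).ι⟩
  have hle : ∀ i, Subfunctor.range (c.inj i).hom ≤ locSub c := by
    intro i T ξ hξ
    obtain ⟨η, rfl⟩ := hξ
    refine ⟨⊤, (AlgSp.J S).top_mem _, fun T' f _ => ⟨i, (F i).obj.map f.op η, ?_⟩⟩
    exact NatTrans.naturality_apply (c.inj i).hom f.op η
  let j : ∀ i, F i ⟶ G := fun i => ⟨Subfunctor.lift (c.inj i).hom (hle i)⟩
  have hj : ∀ i, j i ≫ ιG = c.inj i := fun i => Sheaf.hom_ext (Subfunctor.lift_ι _ (hle i))
  have hd : hc.desc (Cofan.mk G j) ≫ ιG = 𝟙 c.pt := by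
    refine hc.hom_ext fun i => ?_
    have h1 : c.ι.app i ≫ hc.desc (Cofan.mk G j) = j i.as := hc.fac (Cofan.mk G j) i
    rw [← Category.assoc, h1, Category.comp_id]
    exact hj i.as
  have hmem : (AlgSp.J S).uliftYonedaEquiv x ∈ (locSub c).obj (op T) := by
    have h2 := congrArg (fun k => k.hom.app (op T) ((AlgSp.J S).uliftYonedaEquiv x)) hd
    have h3 := ((hc.desc (Cofan.mk G j)).hom.app (op T) ((AlgSp.J S).uliftYonedaEquiv x)).2
    have h4 : (((hc.desc (Cofan.mk G j)).hom.app (op T) ((AlgSp.J S).uliftYonedaEquiv x)).1 :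
        c.pt.obj.obj (op T)) = (AlgSp.J S).uliftYonedaEquiv x := h2
    rw [← h4]
    exact h3
  obtain ⟨Sv, hSv, h⟩ := hmem
  refine ⟨Sv, hSv, fun T' f hf => ?_⟩
  obtain ⟨i, η, hη⟩ := h f hf
  refine ⟨i, (AlgSp.J S).uliftYonedaEquiv.symm η, ?_⟩
  rw [GrothendieckTopology.uliftYonedaEquiv_symm_naturality_right, hη,
    ← GrothendieckTopology.uliftYonedaEquiv_symm_naturality_left, Equiv.symm_apply_apply]

end

/-- A constant map to a representable sheaf. -/
def constHom (F : AlgSp.Sp S) {A : Over S} (σ : Over.mk (𝟙 S) ⟶ A) : F ⟶ (AlgSp.yon S).obj A :=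
  ⟨{ app := fun T => ↾fun _ => ULift.up ((Over.homMk T.unop.hom : T.unop ⟶ Over.mk (𝟙 S)) ≫ σ)
     naturality := by
      intro T T' i
      ext ξ
      apply ULift.ext
      change Over.homMk _ ≫ σ = i.unop ≫ Over.homMk _ ≫ σ
      rw [← Category.assoc]
      congr 1
      ext
      simp }⟩

theorem comp_constHom {F : AlgSp.Sp S} {A : Over S} (σ : Over.mk (𝟙 S) ⟶ A) {T : Over S}
    (a : (AlgSp.yon S).obj T ⟶ F) :
    a ≫ constHom F σ = (AlgSp.yon S).map ((Over.homMk T.hom : T ⟶ Over.mk (𝟙 S)) ≫ σ) := by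
  apply (AlgSp.J S).uliftYonedaEquiv.injective
  rw [GrothendieckTopology.uliftYonedaEquiv_comp,
    GrothendieckTopology.uliftYonedaEquiv_uliftYoneda_map]
  rfl

section
variable {ι : Type*} {F : ι → AlgSp.Sp S} (c : Cofan F)

/-- Distinct summands of a coproduct of sheaves are disjoint. -/
theorem isEmpty_of_factor_ne (hc : IsColimit c) {i j : ι} (hij : i ≠ j) {T : Over S}
    (a : (AlgSp.yon S).obj T ⟶ F i) (b : (AlgSp.yon S).obj T ⟶ F j)
    (h : a ≫ c.inj i = b ≫ c.inj j) : IsEmpty ↥T.left := by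
  classical
  let A : Over S := Over.mk (coprod.desc (𝟙 S) (𝟙 S))
  let σl : Over.mk (𝟙 S) ⟶ A := Over.homMk coprod.inl
    (show coprod.inl ≫ coprod.desc (𝟙 S) (𝟙 S) = 𝟙 S from coprod.inl_desc _ _)
  let σr : Over.mk (𝟙 S) ⟶ A := Over.homMk coprod.inr
    (show coprod.inr ≫ coprod.desc (𝟙 S) (𝟙 S) = 𝟙 S from coprod.inr_desc _ _)
  let χ : c.pt ⟶ (AlgSp.yon S).obj A :=
    hc.desc (Cofan.mk _ (fun k => if k = i then constHom (F k) σl else constHom (F k) σr))
  have h1 : c.inj i ≫ χ = constHom (F i) σl :=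
    (hc.fac (Cofan.mk _ (fun k => if k = i then constHom (F k) σl else constHom (F k) σr)) ⟨i⟩).trans
      (if_pos rfl)
  have h2 : c.inj j ≫ χ = constHom (F j) σr :=
    (hc.fac (Cofan.mk _ (fun k => if k = i then constHom (F k) σl else constHom (F k) σr)) ⟨j⟩).trans
      (if_neg (Ne.symm hij))
  have h3 := congrArg (fun k => k ≫ χ) h
  simp only [Category.assoc] at h3
  rw [h1, h2, comp_constHom, comp_constHom] at h3
  have h4 := congrArg (fun k => k.left) ((AlgSp.yon S).map_injective h3)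
  refine ⟨fun τ => ?_⟩
  have h5 : ((Over.homMk T.hom : T ⟶ Over.mk (𝟙 S)) ≫ σl).left τ =
      ((Over.homMk T.hom : T ⟶ Over.mk (𝟙 S)) ≫ σr).left τ := by rw [h4]
  exact AlgebraicGeometry.inl_ne_inr _ _ (T.hom τ) (T.hom τ) h5

/-- The images on points of distinct summands are disjoint. -/
theorem range_disjoint (hc : IsColimit c) {i j : ι} (p : AlgSp.Points (F i)) (q : AlgSp.Points (F j))
    (h : AlgSp.Points.map (c.inj i) p = AlgSp.Points.map (c.inj j) q) : i = j := by
  by_contra hij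
  obtain ⟨z, -, -⟩ := points_exists_of_isPullback (IsPullback.of_hasPullback (c.inj i) (c.inj j)) p q h
  induction z using AlgSp.Points.ind with
  | h w =>
    have := isEmpty_of_factor_ne c hc hij (fieldPtHom w ≫ pullback.fst _ _)
      (fieldPtHom w ≫ pullback.snd _ _) (by rw [Category.assoc, Category.assoc, pullback.condition])
    exact this.false (IsLocalRing.closedPoint w.K)

/-- Every point of a coproduct of sheaves comes from a summand. -/
theorem exists_point (hc : IsColimit c) (x : AlgSp.Points c.pt) :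
    ∃ (i : ι) (p : AlgSp.Points (F i)), AlgSp.Points.map (c.inj i) p = x := by
  induction x using AlgSp.Points.ind with
  | h q =>
    obtain ⟨Sv, hSv, hl⟩ := local_factor c hc (fieldPtHom q)
    obtain ⟨T', f, hf, -, -, ⟨t', -⟩⟩ := exists_mem_of_mem_J Sv hSv (IsLocalRing.closedPoint q.K)
    obtain ⟨i, y, hy⟩ := hl f hf
    refine ⟨i, AlgSp.Points.ofPt y t', ?_⟩
    rw [AlgSp.Points.map_ofPt, hy, ofPt_yon_map_comp, points_eq_ofPt]

end

/-- The empty sieve covers an empty scheme. -/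
theorem bot_mem_J (T : Over S) [IsEmpty ↥T.left] : (⊥ : Sieve T) ∈ AlgSp.J S T := by
  rw [AlgSp.J_eq, GrothendieckTopology.mem_over_iff]
  have h1 : Presieve.ofArrows (fun e : PEmpty.{1} => (e.elim : Scheme.{u}))
      (fun e => (e.elim : _ ⟶ T.left)) ∈ Scheme.fppfPrecoverage T.left := by
    rw [Scheme.fppfPrecoverage, Scheme.ofArrows_mem_precoverage_iff]
    exact ⟨fun x => (IsEmpty.false x).elim, fun e => e.elim⟩
  refine GrothendieckTopology.superset_covering _ ?_ (Precoverage.generate_mem_toGrothendieck h1)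
  rw [Sieve.generate_le_iff]
  rintro Z g ⟨e⟩
  exact e.elim

section
variable {ι : Type*} {F : ι → AlgSp.Sp S} (c : Cofan F)

/-- The image of a summand is open. -/
theorem isOpen_range_inj (hc : IsColimit c) (i : ι) :
    IsOpen (Set.range (AlgSp.Points.map (c.inj i))) := by
  rw [AlgSp.Points.isOpen_iff]
  intro T x
  rw [isOpen_iff_forall_mem_open]
  intro τ hτ
  obtain ⟨Sv, hSv, hl⟩ := local_factor c hc x
  obtain ⟨T', f, hf, hf1, hf2, ⟨τ', rfl⟩⟩ := exists_mem_of_mem_J Sv hSv τ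
  obtain ⟨j, y, hy⟩ := hl f hf
  have hpt : ∀ τ'' : ↥T'.left, AlgSp.Points.ofPt x (f.left τ'') =
      AlgSp.Points.map (c.inj j) (AlgSp.Points.ofPt y τ'') := by
    intro τ''
    rw [← ofPt_yon_map_comp, ← hy, AlgSp.Points.map_ofPt]
  obtain ⟨p, hp⟩ := hτ
  have hji : i = j := range_disjoint c hc p (AlgSp.Points.ofPt y τ') (by rw [hp]; exact hpt τ')
  subst hji
  refine ⟨Set.range f.left, ?_, f.left.isOpenMap.isOpen_range, ⟨τ', rfl⟩⟩
  rintro _ ⟨τ'', rfl⟩
  exact ⟨_, (hpt τ'').symm⟩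

/-- The image of a summand is closed. -/
theorem isClosed_range_inj (hc : IsColimit c) (i : ι) :
    IsClosed (Set.range (AlgSp.Points.map (c.inj i))) := by
  have : (Set.range (AlgSp.Points.map (c.inj i)))ᶜ =
      ⋃ j : {j : ι // j ≠ i}, Set.range (AlgSp.Points.map (c.inj j.1)) := by
    ext x
    simp only [Set.mem_compl_iff, Set.mem_iUnion]
    constructor
    · intro hx
      obtain ⟨j, p, rfl⟩ := exists_point c hc x
      refine ⟨⟨j, fun hji => hx ?_⟩, p, rfl⟩
      subst hji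
      exact ⟨p, rfl⟩
    · rintro ⟨⟨j, hj⟩, p, rfl⟩ ⟨q, hq⟩
      exact hj (range_disjoint c hc p q hq.symm)
  rw [← isOpen_compl_iff, this]
  exact isOpen_iUnion fun j => isOpen_range_inj c hc j.1

/-- Sections of `∐ F_i` all of whose points lie in the image of `F_i` locally come from `F_i`. -/
theorem local_factor_of_points (hc : IsColimit c) (i : ι) {T : Over S}
    (x : (AlgSp.yon S).obj T ⟶ c.pt)
    (hx : ∀ τ : ↥T.left, AlgSp.Points.ofPt x τ ∈ Set.range (AlgSp.Points.map (c.inj i))) :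
    ∃ Sv : Sieve T, Sv ∈ AlgSp.J S T ∧ ∀ ⦃T' : Over S⦄ (f : T' ⟶ T), Sv f →
      ∃ y : (AlgSp.yon S).obj T' ⟶ F i, y ≫ c.inj i = (AlgSp.yon S).map f ≫ x := by
  obtain ⟨Sv, hSv, hl⟩ := local_factor c hc x
  let Sv' : Sieve T :=
    { arrows := fun T' f => ∃ y : (AlgSp.yon S).obj T' ⟶ F i, y ≫ c.inj i = (AlgSp.yon S).map f ≫ x
      downward_closed := by
        rintro Y Z f ⟨y, hy⟩ h
        exact ⟨(AlgSp.yon S).map h ≫ y, by rw [Category.assoc, hy, Functor.map_comp, Category.assoc]⟩ }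
  refine ⟨Sv', ?_, fun T' f hf => hf⟩
  refine (AlgSp.J S).transitive hSv Sv' fun T' f hf => ?_
  obtain ⟨j, y, hy⟩ := hl f hf
  by_cases hji : j = i
  · subst hji
    refine (AlgSp.J S).superset_covering ?_ ((AlgSp.J S).top_mem T')
    intro T'' h _
    exact ⟨(AlgSp.yon S).map h ≫ y, by rw [Category.assoc, hy, Functor.map_comp, Category.assoc]⟩
  · haveI : IsEmpty ↥T'.left := by
      refine ⟨fun τ' => hji ?_⟩
      obtain ⟨p, hp⟩ := hx (f.left τ')
      refine range_disjoint c hc (AlgSp.Points.ofPt y τ') p ?_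
      rw [hp, ← ofPt_yon_map_comp, ← hy, AlgSp.Points.map_ofPt]
    exact (AlgSp.J S).superset_covering bot_le (bot_mem_J T')

end

section
variable {ι : Type*} {F : ι → AlgSp.Sp S} (c : Cofan F)

instance : MonoCoprod (AlgSp.Sp S) := inferInstance

theorem mono_inj (hc : IsColimit c) (i : ι)
    [HasCoproduct (fun (k : ((Set.range (fun _ : Unit ↦ i))ᶜ : Set ι)) => F k.1)] : Mono (c.inj i) :=
  MonoCoprod.mono_inj F c hc i

/-- A summand of a coproduct of sheaves is the open subsheaf on its image. -/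
theorem exists_iso_openSub (hc : IsColimit c) (i : ι)
    [HasCoproduct (fun (k : ((Set.range (fun _ : Unit ↦ i))ᶜ : Set ι)) => F k.1)] :
    ∃ k : F i ⟶ openSub c.pt (Set.range (AlgSp.Points.map (c.inj i))),
      IsIso k ∧ k ≫ openSubι c.pt (Set.range (AlgSp.Points.map (c.inj i))) = c.inj i := by
  have hΩ := isOpen_range_inj c hc i
  have hι := repWith_isOpenImmersion_openSubι c.pt hΩ
  obtain ⟨k, hk⟩ := exists_factor_of_range_subset _ hι (c.inj i) (by rw [range_map_openSubι])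
  haveI := mono_inj c hc i
  haveI : Mono (k ≫ openSubι c.pt (Set.range (AlgSp.Points.map (c.inj i)))) := by
    rw [hk]; infer_instance
  haveI : Mono k := mono_of_mono k (openSubι c.pt (Set.range (AlgSp.Points.map (c.inj i))))
  haveI : Epi k := by
    refine epi_of_local_lift k fun T y => ?_
    obtain ⟨Sv, hSv, hl⟩ := local_factor_of_points c hc i (y ≫ openSubι _ _) (fun τ => by
      have h1 : AlgSp.Points.map (openSubι _ _) (AlgSp.Points.ofPt y τ) ∈
        Set.range (AlgSp.Points.map (openSubι c.pt (Set.range (AlgSp.Points.map (c.inj i))))) :=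
          ⟨_, rfl⟩
      rw [range_map_openSubι] at h1
      exact h1)
    refine ⟨Sv, hSv, fun T' f hf => ?_⟩
    obtain ⟨b, hb⟩ := hl f hf
    refine ⟨b, ?_⟩
    rw [← cancel_mono (openSubι _ _), Category.assoc, Category.assoc, hk]
    exact hb
  exact ⟨k, isIso_of_mono_of_epi k, hk⟩

theorem repWith_isOpenImmersion_inj (hc : IsColimit c) (i : ι)
    [HasCoproduct (fun (k : ((Set.range (fun _ : Unit ↦ i))ᶜ : Set ι)) => F k.1)] :
    AlgSp.RepWith @IsOpenImmersion (c.inj i) := by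
  obtain ⟨k, hki, hk⟩ := exists_iso_openSub c hc i
  rw [← hk]
  exact (MorphismProperty.cancel_left_of_respectsIso (AlgSp.RepWith @IsOpenImmersion) k _).2
    (repWith_isOpenImmersion_openSubι c.pt (isOpen_range_inj c hc i))

theorem repWith_openClosed_inj (hc : IsColimit c) (i : ι)
    [HasCoproduct (fun (k : ((Set.range (fun _ : Unit ↦ i))ᶜ : Set ι)) => F k.1)] :
    AlgSp.RepWith (@IsOpenImmersion ⊓ @IsClosedImmersion) (c.inj i) := by
  have h := repWith_isOpenImmersion_inj c hc i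
  rw [AlgSp.repWith_iff] at h ⊢
  refine ⟨h.1, fun U V g fst snd sq => ?_⟩
  have ho : IsOpenImmersion snd.left := h.2 g fst snd sq
  refine ⟨ho, ?_⟩
  have hr : Set.range snd.left =
      AlgSp.Points.ofPt g ⁻¹' Set.range (AlgSp.Points.map (c.inj i)) := by
    have := preimage_ofPt_image_map sq Set.univ
    rw [Set.image_univ, Set.preimage_univ, Set.image_univ] at this
    exact this.symm
  exact IsClosedImmersion.of_isPreimmersion _ (by
    rw [hr]; exact (isClosed_range_inj c hc i).preimage (AlgSp.Points.continuous_ofPt g))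

/-- A summand of an algebraic space is an algebraic space. -/
theorem isAlgSpace_summand (hc : IsColimit c) (h : AlgSp.IsAlgSpace c.pt) (i : ι)
    [HasCoproduct (fun (k : ((Set.range (fun _ : Unit ↦ i))ᶜ : Set ι)) => F k.1)] :
    AlgSp.IsAlgSpace (F i) := by
  obtain ⟨k, hki, hk⟩ := exists_iso_openSub c hc i
  have h1 := isAlgSpace_openSub h (isOpen_range_inj c hc i)
  exact h1.of_iso (asIso k).symm

end

end Groth.Agent.Lib.H15.Cofan
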