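import Groth.Agent.Lib.helper15.AlgSpCover
import Groth.Agent.Lib.helper15.AlgSpLocPGen
import Groth.Agent.Lib.helper15.AlgSpEtale2
import Groth.Agent.Lib.helper15.AlgSpFibre
import Groth.Agent.Lib.helper15.AlgSpPoints2

set_option autoImplicit false
universe u
open CategoryTheory CategoryTheory.Limits AlgebraicGeometry

namespace Groth.Agent.Lib.H15.AS

variable {S : Scheme.{u}}

/-- A jointly surjective family of flat, locally finitely presented morphisms of schemes over `S`
generates a covering sieve of the fppf topology on `Over S`. -/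
theorem ofArrows_mem_J {T : Over S} {κ : Type u} (Tk : κ → Over S) (c : ∀ k, Tk k ⟶ T)
    (h1 : ∀ k, Flat (c k).left) (h2 : ∀ k, LocallyOfFinitePresentation (c k).left)
    (h3 : ∀ x : T.left, ∃ k, x ∈ Set.range (c k).left) :
    Sieve.ofArrows Tk c ∈ AlgSp.J S T := by
  rw [AlgSp.J_eq, GrothendieckTopology.mem_over_iff]
  refine GrothendieckTopology.superset_covering _ ?_
    (Precoverage.generate_mem_toGrothendieck
      (R := Presieve.ofArrows (fun k => (Tk k).left) (fun k => (c k).left)) ?_)
  · rw [Sieve.generate_le_iff]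
    rintro Z g ⟨k⟩
    exact ⟨Tk k, c k, 𝟙 _, Sieve.ofArrows_mk _ _ k, by simp⟩
  · rw [Scheme.fppfPrecoverage, Scheme.ofArrows_mem_precoverage_iff]
    exact ⟨h3, fun k => ⟨h1 k, h2 k⟩⟩

end Groth.Agent.Lib.H15.AS
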