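import Mathlib
import Groth.Prelude.Def_AlgSp
import Groth.Prelude.Def_AlgSp2
import Groth.Agent.Lib.helper15.AlgSpCover2
import Groth.Agent.Lib.helper15.AlgSpPoints3
import Groth.Agent.Lib.helper15.AlgSpBasic

/-!
# Zariski locality and gluing for sections of fppf sheaves over a scheme
-/

set_option autoImplicit false
universe u
open CategoryTheory CategoryTheory.Limits AlgebraicGeometry Opposite

namespace Groth.Agent.Lib.H15.AS

variable {S : Scheme.{u}}

/-- An open cover of a scheme over `S` generates a covering sieve. -/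
theorem openCover_mem_J {Z : Over S} {κ : Type u} (O : κ → Z.left.Opens)
    (hO : ∀ z : Z.left, ∃ k, z ∈ O k) :
    Sieve.ofArrows (fun k => overOpen Z (O k)) (fun k => overOpenι Z (O k)) ∈ AlgSp.J S Z := by
  refine ofArrows_mem_J _ _ (fun k => ?_) (fun k => ?_) (fun z => ?_)
  · change Flat (O k).ι; infer_instance
  · change LocallyOfFinitePresentation (O k).ι; infer_instance
  · obtain ⟨k, hk⟩ := hO z
    refine ⟨k, ?_⟩
    change z ∈ Set.range (O k).ι
    rw [Scheme.Opens.range_ι]; exact hk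

/-- Sections of a sheaf over a scheme agree if they agree on an open cover. -/
theorem section_ext_of_openCover {F : AlgSp.Sp S} {Z : Over S} {κ : Type u} (O : κ → Z.left.Opens)
    (hO : ∀ z : Z.left, ∃ k, z ∈ O k) (ξ η : F.obj.obj (op Z))
    (h : ∀ k, F.obj.map (overOpenι Z (O k)).op ξ = F.obj.map (overOpenι Z (O k)).op η) : ξ = η := by
  have hsh := (isSheaf_iff_isSheaf_of_type _ _).1 F.property _ (openCover_mem_J O hO)
  refine hsh.isSeparatedFor.ext ?_
  rintro Y f ⟨W, g, _, ⟨k⟩, rfl⟩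
  rw [op_comp, F.obj.map_comp]
  change F.obj.map g.op (F.obj.map (overOpenι Z (O k)).op ξ) =
    F.obj.map g.op (F.obj.map (overOpenι Z (O k)).op η)
  rw [h k]

/-- Morphisms from a scheme to a sheaf agree if they agree on an open cover. -/
theorem hom_ext_of_openCover {F : AlgSp.Sp S} {Z : Over S} {κ : Type u} (O : κ → Z.left.Opens)
    (hO : ∀ z : Z.left, ∃ k, z ∈ O k) (a b : (AlgSp.yon S).obj Z ⟶ F)
    (h : ∀ k, (AlgSp.yon S).map (overOpenι Z (O k)) ≫ a = (AlgSp.yon S).map (overOpenι Z (O k)) ≫ b) :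
    a = b := by
  apply (AlgSp.J S).uliftYonedaEquiv.injective
  refine section_ext_of_openCover O hO _ _ fun k => ?_
  rw [GrothendieckTopology.uliftYonedaEquiv_naturality, GrothendieckTopology.uliftYonedaEquiv_naturality,
    h k]

/-- The inclusion between open subschemes, over `S`. -/
noncomputable abbrev overOpenLE (U : Over S) {V' V : U.left.Opens} (h : V' ≤ V) :
    overOpen U V' ⟶ overOpen U V :=
  Over.homMk (U.left.homOfLE h) (by simp)

theorem overOpenLE_ι (U : Over S) {V' V : U.left.Opens} (h : V' ≤ V) :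
    overOpenLE U h ≫ overOpenι U V = overOpenι U V' := by
  ext
  simp

instance mono_overOpenι (U : Over S) (V : U.left.Opens) : Mono (overOpenι U V) := by
  have : Mono (overOpenι U V).left := by
    change Mono V.ι
    infer_instance
  exact mono_of_mono_left _

/-- Restriction of a morphism over `S` to the preimage of an open. -/
noncomputable def overOpenRes {Z U : Over S} (g : Z ⟶ U) (V : U.left.Opens) :
    overOpen Z (g.left ⁻¹ᵁ V) ⟶ overOpen U V :=
  Over.homMk (g.left.resLE V (g.left ⁻¹ᵁ V) le_rfl) (by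
    change g.left.resLE V (g.left ⁻¹ᵁ V) le_rfl ≫ V.ι ≫ U.hom = (g.left ⁻¹ᵁ V).ι ≫ Z.hom
    rw [Scheme.Hom.resLE_comp_ι_assoc, Over.w])

theorem overOpenRes_ι {Z U : Over S} (g : Z ⟶ U) (V : U.left.Opens) :
    overOpenRes g V ≫ overOpenι U V = overOpenι Z (g.left ⁻¹ᵁ V) ≫ g := by
  ext
  change g.left.resLE V (g.left ⁻¹ᵁ V) le_rfl ≫ V.ι = (g.left ⁻¹ᵁ V).ι ≫ g.left
  rw [Scheme.Hom.resLE_comp_ι]

/-- Gluing morphisms to a sheaf along the affine opens of a scheme. -/
theorem exists_glue_affineOpens {F : AlgSp.Sp S} {U : Over S}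
    (x : ∀ V : U.left.affineOpens, (AlgSp.yon S).obj (overOpen U V.1) ⟶ F)
    (hx : ∀ (V V' : U.left.affineOpens) (h : V'.1 ≤ V.1),
      (AlgSp.yon S).map (overOpenLE U h) ≫ x V = x V') :
    ∃ ξ : (AlgSp.yon S).obj U ⟶ F, ∀ V, (AlgSp.yon S).map (overOpenι U V.1) ≫ ξ = x V := by
  have hcov : ∀ z : U.left, ∃ V : U.left.affineOpens, z ∈ V.1 := by
    intro z
    obtain ⟨_, ⟨V, hV, rfl⟩, hz, -⟩ := U.left.isBasis_affineOpens.exists_subset_of_mem_open
      (Set.mem_univ z) isOpen_univ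
    exact ⟨⟨V, hV⟩, hz⟩
  have hsh := (isSheaf_iff_isSheaf_of_type _ _).1 F.property _
    (openCover_mem_J (fun V : U.left.affineOpens => V.1) hcov)
  have hsh' := (Presieve.isSheafFor_iff_generate _).2 hsh
  rw [Presieve.isSheafFor_arrows_iff] at hsh'
  have hcompat : Presieve.Arrows.Compatible F.obj
      (fun V : U.left.affineOpens => overOpenι U V.1)
      (fun V => (AlgSp.J S).uliftYonedaEquiv (x V)) := by
    intro Vi Vj Z gi gj hg
    rw [GrothendieckTopology.uliftYonedaEquiv_naturality, GrothendieckTopology.uliftYonedaEquiv_naturality]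
    congr 1
    -- cover `Z` by preimages of affine opens inside `Vi ⊓ Vj`
    let g : Z ⟶ U := gi ≫ overOpenι U Vi.1
    let κ := {V : U.left.affineOpens // V.1 ≤ Vi.1 ⊓ Vj.1}
    refine hom_ext_of_openCover (κ := κ) (fun k => g.left ⁻¹ᵁ k.1.1) ?_ _ _ fun k => ?_
    · intro z
      have h1 : g.left z ∈ Vi.1 := by
        change (gi.left ≫ Vi.1.ι) z ∈ Vi.1
        rw [Scheme.Hom.comp_apply]
        exact (gi.left z).2
      have h2 : g.left z ∈ Vj.1 := by
        have : g = gj ≫ overOpenι U Vj.1 := hg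
        rw [this]
        change (gj.left ≫ Vj.1.ι) z ∈ Vj.1
        rw [Scheme.Hom.comp_apply]
        exact (gj.left z).2
      obtain ⟨_, ⟨V, hV, rfl⟩, hz, hsub⟩ := U.left.isBasis_affineOpens.exists_subset_of_mem_open
        (show g.left z ∈ ((Vi.1 ⊓ Vj.1 : U.left.Opens) : Set U.left) from ⟨h1, h2⟩)
        (Vi.1 ⊓ Vj.1).2
      exact ⟨⟨⟨V, hV⟩, hsub⟩, hz⟩
    · have hki : k.1.1 ≤ Vi.1 := k.2.trans inf_le_left
      have hkj : k.1.1 ≤ Vj.1 := k.2.trans inf_le_right
      have e1 : overOpenι Z (g.left ⁻¹ᵁ k.1.1) ≫ gi = overOpenRes g k.1.1 ≫ overOpenLE U hki := by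
        rw [← cancel_mono (overOpenι U Vi.1), Category.assoc, Category.assoc, overOpenLE_ι,
          overOpenRes_ι]
      have e2 : overOpenι Z (g.left ⁻¹ᵁ k.1.1) ≫ gj = overOpenRes g k.1.1 ≫ overOpenLE U hkj := by
        rw [← cancel_mono (overOpenι U Vj.1), Category.assoc, Category.assoc, overOpenLE_ι,
          overOpenRes_ι, ← hg]
      rw [← Functor.map_comp_assoc, ← Functor.map_comp_assoc, e1, e2, Functor.map_comp_assoc,
        Functor.map_comp_assoc, hx Vi k.1 hki, hx Vj k.1 hkj]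


  obtain ⟨t, ht, -⟩ := hsh' (fun V => (AlgSp.J S).uliftYonedaEquiv (x V)) hcompat
  refine ⟨(AlgSp.J S).uliftYonedaEquiv.symm t, fun V => ?_⟩
  apply (AlgSp.J S).uliftYonedaEquiv.injective
  rw [← GrothendieckTopology.uliftYonedaEquiv_naturality, Equiv.apply_symm_apply]
  exact ht V

end Groth.Agent.Lib.H15.AS
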