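import Mathlib
import Groth.Prelude.Def_AlgSp
import Groth.Prelude.Def_AlgSp2
import Groth.Prelude.Def_AlgSp3
import Groth.Prelude.Def_AlgSp4
import Groth.Agent.Lib.helper15.AlgSpCofan
import Groth.Agent.Lib.helper15.AlgSpZarGlue
import Groth.Agent.Lib.helper15.AlgSpMono

/-! # Coproducts of schemes over `S` and of fppf sheaves: `yon` preserves coproducts, fibre products of
coproducts. -/

set_option autoImplicit false
universe u
open CategoryTheory CategoryTheory.Limits AlgebraicGeometry Opposite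
open Groth.Agent.Lib.H15.AS Groth.Agent.Lib.H15.Quot

namespace Groth.Agent.Lib.H15.Cofan

variable {S : Scheme.{u}}

section OverCofan

variable {ι : Type u} {V : ι → Over S} (d : Cofan V) (hd : IsColimit d)

/-- The scheme-level cofan is a colimit. -/
noncomputable def hdL : IsColimit (Cofan.mk d.pt.left (fun i => (d.inj i).left) :
    Cofan (fun i => (V i).left)) :=
  isColimitCofanMkObjOfIsColimit (Over.forget S) V d.inj hd

noncomputable def eIso : (∐ fun i => (V i).left) ≅ d.pt.left :=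
  IsColimit.coconePointUniqueUpToIso (coproductIsCoproduct _) (hdL d hd)

lemma ι_eIso (i : ι) : Sigma.ι (fun i => (V i).left) i ≫ (eIso d hd).hom = (d.inj i).left :=
  IsColimit.comp_coconePointUniqueUpToIso_hom (coproductIsCoproduct _) (hdL d hd) ⟨i⟩

include hd in
lemma isOpenImmersion_inj_left (i : ι) : IsOpenImmersion (d.inj i).left := by
  rw [← ι_eIso d hd i]; infer_instance

include hd in
lemma exists_inj_left (x : d.pt.left) : ∃ (i : ι) (y : (V i).left), (d.inj i).left y = x := by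
  obtain ⟨i, y, hy⟩ := (sigmaOpenCover (fun i => (V i).left)).exists_eq ((eIso d hd).inv x)
  refine ⟨i, y, ?_⟩
  rw [← ι_eIso d hd i, Scheme.Hom.comp_apply]
  rw [sigmaOpenCover_f] at hy
  erw [hy]
  rw [← Scheme.Hom.comp_apply, Iso.inv_hom_id]
  rfl

include hd in
lemma inj_left_ne (i j : ι) (hij : i ≠ j) (y : (V i).left) (y' : (V j).left) :
    (d.inj i).left y ≠ (d.inj j).left y' := by
  intro e
  rw [← ι_eIso d hd i, ← ι_eIso d hd j, Scheme.Hom.comp_apply, Scheme.Hom.comp_apply] at e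
  have e' := (eIso d hd).hom.homeomorph.injective e
  exact hij (congrArg Sigma.fst ((sigmaι_eq_iff _ _ _ _ _).mp e'))

include hd in
lemma mono_inj_over (i : ι) : Mono (d.inj i) := by
  haveI := isOpenImmersion_inj_left d hd i
  exact mono_of_mono_left _

include hd in
/-- The summands of a coproduct of schemes over `S` cover it for the fppf topology. -/
lemma ofArrows_inj_mem_J : Sieve.ofArrows V d.inj ∈ AlgSp.J S d.pt := by
  refine ofArrows_mem_J V d.inj (fun i => ?_) (fun i => ?_) (fun x => ?_)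
  · haveI := isOpenImmersion_inj_left d hd i; infer_instance
  · haveI := isOpenImmersion_inj_left d hd i; infer_instance
  · obtain ⟨i, y, hy⟩ := exists_inj_left d hd x
    exact ⟨i, y, hy⟩

/-- Morphisms from an empty scheme to a sheaf are equal. -/
lemma hom_ext_of_isEmpty {X : AlgSp.Sp S} {T : Over S} [IsEmpty ↥T.left]
    (a b : (AlgSp.yon S).obj T ⟶ X) : a = b :=
  eq_of_locally_eq a b ⊥ (bot_mem_J T) (fun _ _ h => h.elim)

/-- There is a morphism from an empty scheme to any sheaf. -/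
lemma nonempty_hom_of_isEmpty (X : AlgSp.Sp S) (T : Over S) [IsEmpty ↥T.left] :
    Nonempty ((AlgSp.yon S).obj T ⟶ X) := by
  have h := Sheaf.isTerminalOfBotCover X T (bot_mem_J T)
  exact ⟨(AlgSp.J S).uliftYonedaEquiv.symm (h.from PUnit PUnit.unit)⟩

include hd in
/-- Uniqueness part of `yon` preserving coproducts. -/
lemma yon_cofan_hom_ext {X : AlgSp.Sp S} (g g' : (AlgSp.yon S).obj d.pt ⟶ X)
    (h : ∀ i, (AlgSp.yon S).map (d.inj i) ≫ g = (AlgSp.yon S).map (d.inj i) ≫ g') : g = g' := by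
  refine eq_of_locally_eq g g' _ (ofArrows_inj_mem_J d hd) ?_
  rintro T' f ⟨W, a, _, ⟨i⟩, rfl⟩
  rw [Functor.map_comp, Category.assoc, Category.assoc, h i]

include hd in
/-- Existence part of `yon` preserving coproducts. -/
lemma yon_cofan_exists_desc {X : AlgSp.Sp S} (f : ∀ i, (AlgSp.yon S).obj (V i) ⟶ X) :
    ∃ g : (AlgSp.yon S).obj d.pt ⟶ X, ∀ i, (AlgSp.yon S).map (d.inj i) ≫ g = f i := by
  have hsh := (isSheaf_iff_isSheaf_of_type _ _).1 X.property _ (ofArrows_inj_mem_J d hd)
  have hsh' := (Presieve.isSheafFor_iff_generate _).2 hsh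
  rw [Presieve.isSheafFor_arrows_iff] at hsh'
  have hcompat : Presieve.Arrows.Compatible X.obj d.inj
      (fun i => (AlgSp.J S).uliftYonedaEquiv (f i)) := by
    intro i j Z gi gj hg
    rw [GrothendieckTopology.uliftYonedaEquiv_naturality,
      GrothendieckTopology.uliftYonedaEquiv_naturality]
    congr 1
    by_cases hij : i = j
    · subst hij
      haveI := mono_inj_over d hd i
      have : gi = gj := (cancel_mono (d.inj i)).1 hg
      rw [this]
    · haveI : IsEmpty ↥Z.left := ⟨fun z => inj_left_ne d hd i j hij (gi.left z) (gj.left z) (by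
        rw [← Scheme.Hom.comp_apply, ← Scheme.Hom.comp_apply, ← Over.comp_left, ← Over.comp_left,
          hg])⟩
      exact hom_ext_of_isEmpty _ _
  obtain ⟨t, ht, -⟩ := hsh' (fun i => (AlgSp.J S).uliftYonedaEquiv (f i)) hcompat
  refine ⟨(AlgSp.J S).uliftYonedaEquiv.symm t, fun i => ?_⟩
  apply (AlgSp.J S).uliftYonedaEquiv.injective
  rw [← GrothendieckTopology.uliftYonedaEquiv_naturality, Equiv.apply_symm_apply]
  exact ht i

/-- `yon` sends a coproduct of schemes over `S` to a coproduct of sheaves. -/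
noncomputable def yonCofanIsColimit :
    IsColimit (Cofan.mk ((AlgSp.yon S).obj d.pt) (fun i => (AlgSp.yon S).map (d.inj i)) :
      Cofan (fun i => (AlgSp.yon S).obj (V i))) :=
  mkCofanColimit _ (fun s => (yon_cofan_exists_desc d hd s.inj).choose)
    (fun s i => (yon_cofan_exists_desc d hd s.inj).choose_spec i)
    (fun s m hm => yon_cofan_hom_ext d hd _ _ fun i => by
      rw [(yon_cofan_exists_desc d hd s.inj).choose_spec i]
      exact hm i)

end OverCofan

section SheafCofan

variable {ι : Type u} {F A B P : ι → AlgSp.Sp S}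

/-- Fibre products of coproducts of sheaves, computed summand by summand. -/
theorem isPullback_cofan (c : Cofan F) (hc : IsColimit c) (cA : Cofan A) (hA : IsColimit cA)
    (cB : Cofan B) (hB : IsColimit cB) (cP : Cofan P) (hP : IsColimit cP)
    (x : ∀ i, A i ⟶ F i) (y : ∀ i, B i ⟶ F i) (fst : ∀ i, P i ⟶ A i) (snd : ∀ i, P i ⟶ B i)
    (sq : ∀ i, IsPullback (fst i) (snd i) (x i) (y i)) :
    IsPullback (Cofan.IsColimit.desc hP (fun i => fst i ≫ cA.inj i))
      (Cofan.IsColimit.desc hP (fun i => snd i ≫ cB.inj i))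
      (Cofan.IsColimit.desc hA (fun i => x i ≫ c.inj i))
      (Cofan.IsColimit.desc hB (fun i => y i ≫ c.inj i)) := by
  set FST := Cofan.IsColimit.desc hP (fun i => fst i ≫ cA.inj i) with hFST
  set SND := Cofan.IsColimit.desc hP (fun i => snd i ≫ cB.inj i) with hSND
  set X := Cofan.IsColimit.desc hA (fun i => x i ≫ c.inj i) with hX
  set Y := Cofan.IsColimit.desc hB (fun i => y i ≫ c.inj i) with hY
  have eFST : ∀ i, cP.inj i ≫ FST = fst i ≫ cA.inj i := fun i => Cofan.IsColimit.fac hP _ i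
  have eSND : ∀ i, cP.inj i ≫ SND = snd i ≫ cB.inj i := fun i => Cofan.IsColimit.fac hP _ i
  have eX : ∀ i, cA.inj i ≫ X = x i ≫ c.inj i := fun i => Cofan.IsColimit.fac hA _ i
  have eY : ∀ i, cB.inj i ≫ Y = y i ≫ c.inj i := fun i => Cofan.IsColimit.fac hB _ i
  have w : FST ≫ X = SND ≫ Y := by
    apply Cofan.IsColimit.hom_ext hP
    intro i
    rw [reassoc_of% eFST i, reassoc_of% eSND i, eX, eY, reassoc_of% (sq i).w]
  let m : cP.pt ⟶ pullback X Y := pullback.lift FST SND w
  have hm1 : m ≫ pullback.fst X Y = FST := pullback.lift_fst _ _ _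
  have hm2 : m ≫ pullback.snd X Y = SND := pullback.lift_snd _ _ _
  haveI : Mono m := by
    refine mono_of_forall_yon m fun T u v huv => ?_
    have h1 : u ≫ FST = v ≫ FST := by rw [← hm1, reassoc_of% huv]
    have h2 : u ≫ SND = v ≫ SND := by rw [← hm2, reassoc_of% huv]
    obtain ⟨Su, hSu, hlu⟩ := local_factor cP hP u
    obtain ⟨Sv, hSv, hlv⟩ := local_factor cP hP v
    refine eq_of_locally_eq u v (Su ⊓ Sv) ((AlgSp.J S).intersection_covering hSu hSv) ?_
    intro T' f hf
    obtain ⟨i, ui, hui⟩ := hlu f hf.1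
    obtain ⟨j, vj, hvj⟩ := hlv f hf.2
    have e1 : (ui ≫ fst i) ≫ cA.inj i = (vj ≫ fst j) ≫ cA.inj j := by
      rw [Category.assoc, Category.assoc, ← eFST, ← eFST, reassoc_of% hui, reassoc_of% hvj, h1]
    by_cases hij : i = j
    · subst hij
      haveI := mono_inj cA hA i
      haveI := mono_inj cB hB i
      have e2 : (ui ≫ snd i) ≫ cB.inj i = (vj ≫ snd i) ≫ cB.inj i := by
        rw [Category.assoc, Category.assoc, ← eSND, reassoc_of% hui, reassoc_of% hvj, h2]
      have e3 : ui = vj := (sq i).hom_ext ((cancel_mono _).1 e1) ((cancel_mono _).1 e2)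
      rw [← hui, ← hvj, e3]
    · haveI := isEmpty_of_factor_ne cA hA hij _ _ e1
      exact hom_ext_of_isEmpty _ _
  haveI : Epi m := by
    refine epi_of_local_lift m fun T z => ?_
    have hz : (z ≫ pullback.fst X Y) ≫ X = (z ≫ pullback.snd X Y) ≫ Y := by
      rw [Category.assoc, Category.assoc, pullback.condition]
    obtain ⟨Sa, hSa, hla⟩ := local_factor cA hA (z ≫ pullback.fst X Y)
    obtain ⟨Sb, hSb, hlb⟩ := local_factor cB hB (z ≫ pullback.snd X Y)
    refine ⟨Sa ⊓ Sb, (AlgSp.J S).intersection_covering hSa hSb, fun T' f hf => ?_⟩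
    obtain ⟨i, ai, hai⟩ := hla f hf.1
    obtain ⟨j, bj, hbj⟩ := hlb f hf.2
    have e1 : (ai ≫ x i) ≫ c.inj i = (bj ≫ y j) ≫ c.inj j := by
      rw [Category.assoc, Category.assoc, ← eX, ← eY, reassoc_of% hai, reassoc_of% hbj,
        ← Category.assoc z, hz, Category.assoc]
    by_cases hij : i = j
    · subst hij
      haveI := mono_inj c hc i
      have e2 : ai ≫ x i = bj ≫ y i := (cancel_mono _).1 e1
      refine ⟨(sq i).lift ai bj e2 ≫ cP.inj i, ?_⟩
      apply pullback.hom_ext
      · rw [Category.assoc, Category.assoc, hm1, eFST, (sq i).lift_fst_assoc, hai, Category.assoc]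
      · rw [Category.assoc, Category.assoc, hm2, eSND, (sq i).lift_snd_assoc, hbj, Category.assoc]
    · haveI := isEmpty_of_factor_ne c hc hij _ _ e1
      obtain ⟨l⟩ := nonempty_hom_of_isEmpty cP.pt T'
      exact ⟨l, hom_ext_of_isEmpty _ _⟩
  haveI : IsIso m := isIso_of_mono_of_epi m
  exact IsPullback.of_iso_pullback ⟨w⟩ (asIso m) hm1 hm2

end SheafCofan

section Decomp

variable {ι : Type u} {F : ι → AlgSp.Sp S} (c : Cofan F) (hc : IsColimit c)

include hc in
/-- A morphism from a scheme to a coproduct of sheaves decomposes the scheme as a coproduct of open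
subschemes mapping to the summands. -/
theorem exists_decomp {T : Over S} (x : (AlgSp.yon S).obj T ⟶ c.pt) :
    ∃ (Ti : ι → Over S) (j : ∀ i, Ti i ⟶ T) (xi : ∀ i, (AlgSp.yon S).obj (Ti i) ⟶ F i),
      Nonempty (IsColimit (Cofan.mk T j)) ∧ (∀ i, IsOpenImmersion (j i).left) ∧
      ∀ i, (AlgSp.yon S).map (j i) ≫ x = xi i ≫ c.inj i := by
  have hrw := fun i => repWith_isOpenImmersion_inj c hc i
  have hrep : ∀ i, AlgSp.Representable (c.inj i) := fun i => (hrw i).rep
  let Ti : ι → Over S := fun i => (hrep i).pullback x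
  let j : ∀ i, Ti i ⟶ T := fun i => (hrep i).snd x
  let xi : ∀ i, (AlgSp.yon S).obj (Ti i) ⟶ F i := fun i => (hrep i).fst x
  have sq : ∀ i, IsPullback (xi i) ((AlgSp.yon S).map (j i)) (c.inj i) x :=
    fun i => (hrep i).isPullback x
  have hopen : ∀ i, IsOpenImmersion (j i).left := fun i => (hrw i).property_snd x
  refine ⟨Ti, j, xi, ?_, hopen, fun i => (sq i).w.symm⟩
  have hcov : ⨆ i, (j i).left.opensRange = ⊤ := by
    rw [eq_top_iff]
    intro t _
    obtain ⟨Sv, hSv, hl⟩ := local_factor c hc x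
    obtain ⟨T', f, hf, -, -, ⟨t', ht'⟩⟩ := exists_mem_of_mem_J Sv hSv t
    obtain ⟨i, y, hy⟩ := hl f hf
    obtain ⟨l', hl'⟩ := (AlgSp.yon S).map_surjective ((sq i).lift y ((AlgSp.yon S).map f) hy)
    have h1 : l' ≫ j i = f := by
      apply (AlgSp.yon S).map_injective
      rw [Functor.map_comp, hl', (sq i).lift_snd]
    rw [TopologicalSpace.Opens.mem_iSup]
    refine ⟨i, l'.left t', ?_⟩
    rw [← Scheme.Hom.comp_apply, ← Over.comp_left, h1, ht']
  have hdisj : Pairwise (Function.onFun Disjoint fun i => (j i).left.opensRange) := by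
    intro i k hik
    rw [Function.onFun, disjoint_iff, eq_bot_iff]
    rintro t ⟨⟨a, ha⟩, ⟨b, hb⟩⟩
    obtain ⟨z, -, -⟩ := Scheme.Pullback.exists_preimage_pullback (f := (j i).left) (g := (j k).left)
      a b (ha.trans hb.symm)
    let Q : Over S := Over.mk (pullback.fst (j i).left (j k).left ≫ (Ti i).hom)
    let qfst : Q ⟶ Ti i := Over.homMk (pullback.fst (j i).left (j k).left) rfl
    let qsnd : Q ⟶ Ti k := Over.homMk (pullback.snd (j i).left (j k).left) (by
      change pullback.snd (j i).left (j k).left ≫ (Ti k).hom =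
        pullback.fst (j i).left (j k).left ≫ (Ti i).hom
      rw [← Over.w (j k), ← Over.w (j i), pullback.condition_assoc])
    have hq : qfst ≫ j i = qsnd ≫ j k := by
      ext
      exact pullback.condition
    have := isEmpty_of_factor_ne c hc hik ((AlgSp.yon S).map qfst ≫ xi i)
      ((AlgSp.yon S).map qsnd ≫ xi k) (by
        rw [Category.assoc, Category.assoc, (sq i).w, (sq k).w, ← Functor.map_comp_assoc,
          ← Functor.map_comp_assoc, hq])
    exact (this.false z).elim
  obtain ⟨hcolim⟩ := nonempty_isColimit_cofanMk_of (fun i => (j i).left) hcov hdisj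
  exact ⟨isColimitOfIsColimitCofanMkObj (Over.forget S) Ti j hcolim⟩

end Decomp

section LemmaB

variable {ι : Type u} {F : ι → AlgSp.Sp S} (c : Cofan F) (hc : IsColimit c)

include hc in
/-- The fibre product of a scheme `T` and a coproduct of schemes `∐ B_i` over a coproduct of sheaves
`∐ F_i` is the coproduct of the fibre products `B_i ×_{F_i} T_i`. -/
theorem exists_isPullback_of_cofan {T : Over S} (x : (AlgSp.yon S).obj T ⟶ c.pt) {B : ι → Over S}
    (dB : Cofan B) (hdB : IsColimit dB) (y : (AlgSp.yon S).obj dB.pt ⟶ c.pt)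
    (yi : ∀ i, (AlgSp.yon S).obj (B i) ⟶ F i)
    (hy : ∀ i, (AlgSp.yon S).map (dB.inj i) ≫ y = yi i ≫ c.inj i)
    (hrep : ∀ i, AlgSp.Representable (yi i)) :
    ∃ (Ti : ι → Over S) (j : ∀ i, Ti i ⟶ T) (xi : ∀ i, (AlgSp.yon S).obj (Ti i) ⟶ F i)
      (Pi : ι → Over S) (e : Cofan Pi) (he : IsColimit e)
      (fi : ∀ i, (AlgSp.yon S).obj (Pi i) ⟶ (AlgSp.yon S).obj (B i))
      (si : ∀ i, Pi i ⟶ Ti i) (fst : (AlgSp.yon S).obj e.pt ⟶ (AlgSp.yon S).obj dB.pt),
      Nonempty (IsColimit (Cofan.mk T j)) ∧ (∀ i, IsOpenImmersion (j i).left) ∧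
      (∀ i, IsPullback (fi i) ((AlgSp.yon S).map (si i)) (yi i) (xi i)) ∧
      IsPullback fst ((AlgSp.yon S).map (Cofan.IsColimit.desc he (fun i => si i ≫ j i))) y x := by
  obtain ⟨Ti, j, xi, ⟨hT⟩, hopen, hx⟩ := exists_decomp c hc x
  let Pi : ι → Over S := fun i => (hrep i).pullback (xi i)
  let fi : ∀ i, (AlgSp.yon S).obj (Pi i) ⟶ (AlgSp.yon S).obj (B i) := fun i => (hrep i).fst (xi i)
  let si : ∀ i, Pi i ⟶ Ti i := fun i => (hrep i).snd (xi i)
  have sq : ∀ i, IsPullback (fi i) ((AlgSp.yon S).map (si i)) (yi i) (xi i) :=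
    fun i => (hrep i).isPullback (xi i)
  let e : Cofan Pi := Cofan.mk (∐ Pi) (Sigma.ι Pi)
  have he : IsColimit e := coproductIsCoproduct Pi
  let cA' : Cofan (fun i => (AlgSp.yon S).obj (B i)) :=
    Cofan.mk ((AlgSp.yon S).obj dB.pt) (fun i => (AlgSp.yon S).map (dB.inj i))
  let cB' : Cofan (fun i => (AlgSp.yon S).obj (Ti i)) :=
    Cofan.mk ((AlgSp.yon S).obj T) (fun i => (AlgSp.yon S).map (j i))
  let cP' : Cofan (fun i => (AlgSp.yon S).obj (Pi i)) :=
    Cofan.mk ((AlgSp.yon S).obj e.pt) (fun i => (AlgSp.yon S).map (e.inj i))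
  have hA : IsColimit cA' := yonCofanIsColimit dB hdB
  have hB : IsColimit cB' := yonCofanIsColimit (Cofan.mk T j) hT
  have hP : IsColimit cP' := yonCofanIsColimit e he
  have key := isPullback_cofan c hc cA' hA cB' hB cP' hP yi xi fi
    (fun i => (AlgSp.yon S).map (si i)) sq
  have e1 : Cofan.IsColimit.desc hA (fun i => yi i ≫ c.inj i) = y := by
    apply Cofan.IsColimit.hom_ext hA
    intro i
    rw [Cofan.IsColimit.fac]
    exact (hy i).symm
  have e2 : Cofan.IsColimit.desc hB (fun i => xi i ≫ c.inj i) = x := by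
    apply Cofan.IsColimit.hom_ext hB
    intro i
    rw [Cofan.IsColimit.fac]
    exact (hx i).symm
  have e3 : Cofan.IsColimit.desc hP (fun i => (AlgSp.yon S).map (si i) ≫ cB'.inj i) =
      (AlgSp.yon S).map (Cofan.IsColimit.desc he (fun i => si i ≫ j i)) := by
    apply Cofan.IsColimit.hom_ext hP
    intro i
    rw [Cofan.IsColimit.fac]
    change (AlgSp.yon S).map (si i) ≫ (AlgSp.yon S).map (j i) =
      (AlgSp.yon S).map (e.inj i) ≫ _
    rw [← Functor.map_comp, ← Functor.map_comp]
    congr 1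
    exact (Cofan.IsColimit.fac he (fun i => si i ≫ j i) i).symm
  rw [e1, e2, e3] at key
  exact ⟨Ti, j, xi, Pi, e, he, fi, si, _, ⟨hT⟩, hopen, sq, key⟩

end LemmaB

end Groth.Agent.Lib.H15.Cofan
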