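import Mathlib
import Groth.Prelude.Def_AlgSp
import Groth.Prelude.Def_AlgSp2
import Groth.Prelude.Def_AlgSp3
import Groth.Prelude.Def_AlgSp4
import Groth.Prelude.Def_AlgSpDec
import Groth.Agent.Lib.helper15.AlgSpDecent2
import Groth.Agent.Lib.helper15.AlgSpDiag
import Groth.Agent.Lib.helper15.AlgSpOpenSub3
import Groth.Agent.Lib.helper1.FpqcDescent

/-!
# Decent spaces: quasi-compactness of a monomorphic field point from finite fibres (helper15)
-/

set_option autoImplicit false
universe u
open CategoryTheory CategoryTheory.Limits AlgebraicGeometry Topology TopologicalSpace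

namespace Groth.Agent.Lib.H15.AS

variable {S : Scheme.{u}}

/-- A monomorphic field point of an algebraic space all of whose fibres in affine etale charts are finite is
quasi-compact. -/
theorem repWith_quasiCompact_of_finite_fibres {X : AlgSp.Sp S} (hX : AlgSp.IsAlgSpace X)
    (p : AlgSp.FieldPt X) (hm : Mono p.toHom)
    (hfin : ∀ (V : Over S) (ψ : (AlgSp.yon S).obj V ⟶ X), IsAffine V.left → AlgSp.RepWith @Etale ψ →
      (AlgSp.Points.ofPt ψ ⁻¹' {AlgSp.Points.mk p}).Finite) :
    AlgSp.RepWith @QuasiCompact p.toHom := by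
  have hrep : AlgSp.Representable p.toHom := hX.representable_from_yon _
  obtain ⟨U, a, hae, has⟩ := hX.atlas
  have sq := hrep.isPullback' a
  haveI := Groth.Agent.Lib.helper1.quasiCompact_descendsAlong.{u}
  refine repWith_of_etale_cover_target @QuasiCompact hrep hae has sq ?_
  rw [AlgSp.repWith_yon_map_iff]
  have h1 : Mono ((AlgSp.yon S).map (hrep.snd a)) := sq.mono_snd_of_mono
  have h2 : Mono (hrep.snd a) := (AlgSp.yon S).mono_of_mono_map h1
  have h3 : Mono (hrep.snd a).left := inferInstance
  have hinj : Function.Injective (hrep.snd a).left := (hrep.snd a).left.injective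
  rw [quasiCompact_iff_forall_isAffineOpen]
  intro U' hU'
  apply Set.Finite.isCompact
  let V : Over S := Over.mk (U'.ι ≫ U.hom)
  let φ : V ⟶ U := Over.homMk U'.ι rfl
  have hVaff : IsAffine V.left := hU'
  have hψ : AlgSp.RepWith @Etale ((AlgSp.yon S).map φ ≫ a) :=
    repWith_yon_map_comp @Etale φ a (by change Etale U'.ι; infer_instance) hae
  have hf := hfin V _ hVaff hψ
  refine Set.Finite.of_finite_image (f := (hrep.snd a).left) ?_ hinj.injOn
  refine (hf.image U'.ι).subset ?_
  rintro _ ⟨w, hw, rfl⟩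
  refine ⟨⟨_, hw⟩, ?_, rfl⟩
  show AlgSp.Points.ofPt ((AlgSp.yon S).map φ ≫ a) ⟨_, hw⟩ = AlgSp.Points.mk p
  rw [ofPt_yon_map_comp]
  show AlgSp.Points.ofPt a ((hrep.snd a).left w) = _
  rw [← ofPt_yon_map_comp, ← sq.w, ofPt_yon_map_comp, AlgSp.Points.ofPt_toHom]

end Groth.Agent.Lib.H15.AS
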