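import Mathlib

/-!
# Monomorphisms from schemes with field local rings (helper15)
-/

set_option autoImplicit false
universe u
open CategoryTheory CategoryTheory.Limits AlgebraicGeometry Topology

namespace Groth.Agent.Lib.H15

/-- For a monomorphism `g : W ⟶ U`, the residue field extension at every point is an isomorphism. -/
theorem bijective_residueFieldMap_of_mono {W U : Scheme.{u}} (g : W ⟶ U) [Mono g] (w : W) :
    Function.Bijective (g.residueFieldMap w).hom := by
  have h1 : Mono (Spec.map (g.residueFieldMap w) ≫ U.fromSpecResidueField (g w)) := by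
    rw [Scheme.Hom.SpecMap_residueFieldMap_fromSpecResidueField]
    infer_instance
  have h2 : Mono (Spec.map (g.residueFieldMap w)) := mono_of_mono _ (U.fromSpecResidueField (g w))
  have h3 : Flat (Spec.map (g.residueFieldMap w)) := by
    rw [HasRingHomProperty.Spec_iff (P := @Flat)]
    algebraize [(g.residueFieldMap w).hom]
    show Module.Flat _ _
    infer_instance
  have h4 : Surjective (Spec.map (g.residueFieldMap w)) := by
    refine ⟨fun y => ⟨IsLocalRing.closedPoint _, Subsingleton.elim _ _⟩⟩
  have h5 : IsIso (Spec.map (g.residueFieldMap w)) := Flat.isIso_of_surjective_of_mono _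
  have h6' : IsIso (g.residueFieldMap w).op := by
    haveI : IsIso (Scheme.Spec.map (g.residueFieldMap w).op) := h5
    exact isIso_of_reflects_iso _ Scheme.Spec
  have h6 : IsIso (g.residueFieldMap w) := (isIso_op_iff _).1 h6'
  exact (ConcreteCategory.isIso_iff_bijective (g.residueFieldMap w)).1 h6

/-- A monomorphism is surjective on the local ring at a point whose local ring is a field. -/
theorem surjective_stalkMap_of_mono_of_isField {W U : Scheme.{u}} (g : W ⟶ U) [Mono g] (w : W)
    (hw : IsField (W.presheaf.stalk w)) : Function.Surjective (g.stalkMap w) := by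
  intro l
  obtain ⟨k, hk⟩ := (bijective_residueFieldMap_of_mono g w).2 ((W.residue w).hom l)
  obtain ⟨r, rfl⟩ := IsLocalRing.residue_surjective (R := U.presheaf.stalk (g w)) k
  refine ⟨r, ?_⟩
  have hinj : Function.Injective (W.residue w).hom := by
    letI := hw.toField
    exact (W.residue w).hom.injective
  apply hinj
  rw [← hk]
  have := congrArg (fun φ => φ.hom r) (Scheme.residue_residueFieldMap (f := g) w)
  exact this.symm

/-- An injective map from a discrete space whose range consists of closed points and is locally finite is an
embedding. -/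
theorem isEmbedding_of_discrete_of_locally_finite {W U : Type*} [TopologicalSpace W]
    [DiscreteTopology W] [TopologicalSpace U] (g : W → U) (hg : Function.Injective g)
    (hcl : ∀ w, IsClosed ({g w} : Set U))
    (hfin : ∀ u : U, ∃ O : Set U, IsOpen O ∧ u ∈ O ∧ (O ∩ Set.range g).Finite) : IsEmbedding g := by
  refine ⟨⟨?_⟩, hg⟩
  rw [DiscreteTopology.eq_bot (α := W)]
  symm
  apply eq_bot_of_singletons_open
  intro w
  rw [isOpen_induced_iff]
  obtain ⟨O, hO, hwO, hOfin⟩ := hfin (g w)
  let F : Set U := (O ∩ Set.range g) \ {g w}
  have hFfin : F.Finite := hOfin.subset Set.sdiff_subset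
  have hFcl : IsClosed F := by
    have : F = ⋃ y ∈ F, ({y} : Set U) := (Set.biUnion_of_singleton F).symm
    rw [this]
    refine hFfin.isClosed_biUnion ?_
    rintro y ⟨⟨-, w', rfl⟩, -⟩
    exact hcl w'
  refine ⟨O \ F, hO.sdiff hFcl, ?_⟩
  ext w'
  simp only [Set.mem_preimage, Set.mem_sdiff, Set.mem_singleton_iff]
  constructor
  · rintro ⟨h1, h2⟩
    by_contra hne
    apply h2
    exact ⟨⟨h1, w', rfl⟩, fun h => hne (hg h)⟩
  · rintro rfl
    exact ⟨hwO, fun h => h.2 rfl⟩

/-- A monomorphism from a discrete scheme with field local rings, whose image is a closed, locally finite set of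
closed points, is a closed immersion. -/
theorem isClosedImmersion_of_mono_of_discrete {W U : Scheme.{u}} (g : W ⟶ U) [Mono g]
    [DiscreteTopology W] (hfield : ∀ w, IsField (W.presheaf.stalk w))
    (hcl : ∀ w, IsClosed ({g w} : Set U))
    (hfin : ∀ u : U, ∃ O : Set U, IsOpen O ∧ u ∈ O ∧ (O ∩ Set.range g).Finite)
    (hrange : IsClosed (Set.range g)) : IsClosedImmersion g := by
  haveI : IsPreimmersion g :=
    { stalkMap_surjective := fun w => surjective_stalkMap_of_mono_of_isField g w (hfield w)
      isEmbedding := isEmbedding_of_discrete_of_locally_finite _ g.injective hcl hfin }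
  exact IsClosedImmersion.of_isPreimmersion g hrange

/-- A scheme locally quasi-finite over the spectrum of a field is discrete. -/
theorem discreteTopology_of_lqf_field {W : Scheme.{u}} {k : Type u} [Field k]
    (g : W ⟶ Spec (CommRingCat.of k)) [LocallyQuasiFinite g] : DiscreteTopology W := by
  have h := g.isDiscrete_preimage_singleton (IsLocalRing.closedPoint k)
  rw [← isDiscrete_univ_iff]
  convert h
  ext w
  simp only [Set.mem_preimage, Set.mem_univ, true_iff]
  exact Subsingleton.elim _ _

end Groth.Agent.Lib.H15
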