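import Mathlib

/-!
# Schemes all of whose local rings are fields (helper15)
-/

set_option autoImplicit false
universe u
open CategoryTheory CategoryTheory.Limits AlgebraicGeometry

namespace Groth.Agent.Lib.H15

/-- The local rings of the spectrum of a field are fields. -/
theorem isField_stalk_spec_field (k : Type u) [Field k] (y : Spec (CommRingCat.of k)) :
    IsField ((Spec (CommRingCat.of k)).presheaf.stalk y) := by
  obtain rfl : y = genericPoint (Spec (CommRingCat.of k)) := Subsingleton.elim _ _
  exact Field.toIsField (Spec (CommRingCat.of k)).functionField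

/-- The local rings of a scheme etale over a field are fields. -/
theorem isField_stalk_of_etale_field {W : Scheme.{u}} {k : Type u} [Field k]
    (g : W ⟶ Spec (CommRingCat.of k)) [Etale g] (w : W) : IsField (W.presheaf.stalk w) := by
  have hR := isField_stalk_spec_field k (g w)
  algebraize [(g.stalkMap w).hom]
  have : IsLocalHom (algebraMap ((Spec (CommRingCat.of k)).presheaf.stalk (g w)) (W.presheaf.stalk w)) :=
    inferInstanceAs <| IsLocalHom (g.stalkMap w).hom
  have : Algebra.EssFiniteType ((Spec (CommRingCat.of k)).presheaf.stalk (g w)) (W.presheaf.stalk w) := by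
    rw [← RingHom.essFiniteType_algebraMap, RingHom.algebraMap_toAlgebra]
    exact LocallyOfFiniteType.stalkMap g w
  have : Algebra.FormallyUnramified ((Spec (CommRingCat.of k)).presheaf.stalk (g w))
      (W.presheaf.stalk w) := by
    rw [← RingHom.formallyUnramified_algebraMap, RingHom.algebraMap_toAlgebra]
    exact FormallyUnramified.stalkMap g w
  have h := Algebra.FormallyUnramified.map_maximalIdeal
    (R := (Spec (CommRingCat.of k)).presheaf.stalk (g w)) (S := W.presheaf.stalk w)
  rw [IsLocalRing.isField_iff_maximalIdeal_eq] at hR ⊢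
  rw [← h, hR, Ideal.map_bot]

/-- If `π` is flat and the local ring at `y'` is a field, so is the local ring at `π y'`. -/
theorem isField_stalk_of_flat {B' B : Scheme.{u}} (π : B' ⟶ B) [Flat π] (y' : B')
    (h : IsField (B'.presheaf.stalk y')) : IsField (B.presheaf.stalk (π y')) := by
  have hflat := Flat.stalkMap π y'
  algebraize [(π.stalkMap y').hom]
  have : IsLocalHom (algebraMap (B.presheaf.stalk (π y')) (B'.presheaf.stalk y')) :=
    inferInstanceAs <| IsLocalHom (π.stalkMap y').hom
  have : Module.FaithfullyFlat (B.presheaf.stalk (π y')) (B'.presheaf.stalk y') :=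
    Module.FaithfullyFlat.of_flat_of_isLocalHom
  have hinj : Function.Injective (algebraMap (B.presheaf.stalk (π y')) (B'.presheaf.stalk y')) :=
    FaithfulSMul.algebraMap_injective _ _
  rw [IsLocalRing.isField_iff_maximalIdeal_eq] at h ⊢
  rw [eq_bot_iff]
  intro x hx
  have hx' : algebraMap (B.presheaf.stalk (π y')) (B'.presheaf.stalk y') x ∈
      IsLocalRing.maximalIdeal (B'.presheaf.stalk y') := by
    rw [IsLocalRing.mem_maximalIdeal, mem_nonunits_iff] at hx ⊢
    intro hu
    exact hx (isUnit_of_map_unit (algebraMap _ _) x hu)
  rw [h] at hx'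
  exact hinj (by simpa using hx')

/-- Every morphism to a scheme all of whose local rings are fields is flat. -/
theorem flat_of_forall_isField_stalk {A B : Scheme.{u}} (h : A ⟶ B)
    (hB : ∀ y : B, IsField (B.presheaf.stalk y)) : Flat h := by
  rw [Flat.iff_flat_stalkMap]
  intro x
  letI := (hB (h x)).toField
  algebraize [(h.stalkMap x).hom]
  show Module.Flat (B.presheaf.stalk (h x)) (A.presheaf.stalk x)
  infer_instance

/-- An etale morphism between spectra of fields is finite. -/
theorem isFinite_of_etale_fields {k k' : Type u} [Field k] [Field k']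
    (c : Spec (CommRingCat.of k) ⟶ Spec (CommRingCat.of k')) [Etale c] : IsFinite c := by
  obtain ⟨φ, rfl⟩ := Spec.map_surjective c
  have h1 : φ.hom.Etale := (HasRingHomProperty.Spec_iff (P := @Etale)).1 inferInstance
  rw [IsFinite.SpecMap_iff]
  algebraize [φ.hom]
  have : Algebra.Etale k' k := h1
  have : Module.Finite k' k := Algebra.FormallyUnramified.finite_of_free k' k
  exact (RingHom.finite_algebraMap).2 this

end Groth.Agent.Lib.H15
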