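import Mathlib
import Groth.Prelude.Def_AlgSp
import Groth.Prelude.Def_AlgSp2
import Groth.Prelude.Def_AlgSp3
import Groth.Prelude.Def_AlgSp4
import Groth.Prelude.Def_AlgSpDec
import Groth.Agent.Lib.helper15.MonoClosedImm
import Groth.Agent.Lib.helper15.StalkField
import Groth.Agent.Lib.helper15.AlgSpDecent3
import Groth.Agent.Lib.helper15.AlgSpSeven2

/-!
# Decent spaces: closed points are closed immersions (chart level) (helper15)
-/

set_option autoImplicit false
universe u
open CategoryTheory CategoryTheory.Limits AlgebraicGeometry Topology TopologicalSpace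

namespace Groth.Agent.Lib.H15.AS

variable {S : Scheme.{u}}

/-- The base change to an etale chart of a quasi-compact monomorphic field point in the class of a closed
point of a decent space is a closed immersion onto the fibre. -/
theorem isClosedImmersion_snd_of_isDecent {X : AlgSp.Sp S} (hX : AlgSp.IsDecent X)
    (p : AlgSp.FieldPt X) (hpm : Mono p.toHom) (hpq : AlgSp.RepWith @QuasiCompact p.toHom)
    (hx : IsClosed ({AlgSp.Points.mk p} : Set (AlgSp.Points X))) {U : Over S}
    (a : (AlgSp.yon S).obj U ⟶ X) (hae : AlgSp.RepWith @Etale a) :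
    IsClosedImmersion (hpq.rep.snd a).left ∧
      Set.range (hpq.rep.snd a).left = AlgSp.Points.ofPt a ⁻¹' {AlgSp.Points.mk p} := by
  have hrep : AlgSp.Representable p.toHom := hpq.rep
  have sq := hrep.isPullback' a
  have h1 : Mono ((AlgSp.yon S).map (hrep.snd a)) := sq.mono_snd_of_mono
  have h2 : Mono (hrep.snd a) := (AlgSp.yon S).mono_of_mono_map h1
  haveI h3 : Mono (hrep.snd a).left := inferInstance
  have he : Etale (hrep.fst' a).left :=
    ((AlgSp.repWith_iff _ _).1 hae).2 p.toHom ((AlgSp.yon S).map (hrep.snd a)) (hrep.fst' a) sq.flip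
  let g0 : (hrep.pullback a).left ⟶ Spec (CommRingCat.of p.K) := (hrep.fst' a).left
  haveI : Etale g0 := he
  haveI : LocallyQuasiFinite g0 := Groth.Agent.Lib.H15.locallyQuasiFinite_of_formallyUnramified g0
  haveI : DiscreteTopology ↥(hrep.pullback a).left := Groth.Agent.Lib.H15.discreteTopology_of_lqf_field g0
  have hrange : Set.range (hrep.snd a).left = AlgSp.Points.ofPt a ⁻¹' {AlgSp.Points.mk p} := by
    ext u
    constructor
    · rintro ⟨w, rfl⟩
      show AlgSp.Points.ofPt a ((hrep.snd a).left w) = _
      rw [← ofPt_yon_map_comp, ← sq.w, ofPt_yon_map_comp, AlgSp.Points.ofPt_toHom]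
    · intro hu
      have hu' : AlgSp.Points.ofPt a u = AlgSp.Points.mk p := hu
      have e : AlgSp.Points.ofPt p.toHom (default : ↥(Spec (CommRingCat.of p.K))) =
          AlgSp.Points.ofPt a u := by
        rw [hu']; exact AlgSp.Points.ofPt_toHom p _
      obtain ⟨t, -, ht⟩ := exists_point_of_ofPt_eq sq _ u e
      exact ⟨t, ht⟩
  refine ⟨?_, hrange⟩
  have hcont : Continuous (AlgSp.Points.ofPt a) := AlgSp.Points.continuous_ofPt a
  have hmem : ∀ w, AlgSp.Points.ofPt a ((hrep.snd a).left w) = AlgSp.Points.mk p := fun w => by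
    have : (hrep.snd a).left w ∈ Set.range (hrep.snd a).left := ⟨w, rfl⟩
    rw [hrange] at this
    exact this
  apply Groth.Agent.Lib.H15.isClosedImmersion_of_mono_of_discrete
  · intro w
    exact Groth.Agent.Lib.H15.isField_stalk_of_etale_field g0 w
  · intro w
    apply isClosed_of_closure_subset
    intro t' ht'
    have hs : (hrep.snd a).left w ⤳ t' := specializes_iff_mem_closure.2 ht'
    have hs' : AlgSp.Points.ofPt a ((hrep.snd a).left w) ⤳ AlgSp.Points.ofPt a t' := hs.map hcont
    rw [hmem w] at hs'
    have ht'x : AlgSp.Points.ofPt a t' = AlgSp.Points.mk p := by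
      have := specializes_iff_mem_closure.1 hs'
      rw [hx.closure_eq] at this
      exact this
    have := eq_of_specializes_of_isDecent hX a hae t' ((hrep.snd a).left w)
      (by rw [ht'x, hmem w]) hs
    exact this
  · intro u
    obtain ⟨U', φ, w₀, haff, hoi, hw₀, ha'⟩ := exists_affine_chart_nhd a hae u
    haveI : CompactSpace ↥U'.left := inferInstance
    have hfin := finite_fibre_of_quasiCompact_fieldPt p hpq _ ha'
    refine ⟨Set.range φ.left, φ.left.isOpenEmbedding.isOpen_range, ⟨w₀, hw₀⟩, ?_⟩
    refine (hfin.image (fun w => φ.left w)).subset ?_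
    rintro _ ⟨⟨w', rfl⟩, hw'⟩
    refine ⟨w', ?_, rfl⟩
    show AlgSp.Points.ofPt ((AlgSp.yon S).map φ ≫ a) w' = AlgSp.Points.mk p
    rw [ofPt_yon_map_comp]
    rw [hrange] at hw'
    exact hw'
  · rw [hrange]
    exact hx.preimage hcont

end Groth.Agent.Lib.H15.AS
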