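import Mathlib
import Groth.Prelude.Def_AlgSp
import Groth.Prelude.Def_AlgSp2
import Groth.Prelude.Def_AlgSp3
import Groth.Prelude.Def_AlgSp4
import Groth.Prelude.Def_AlgSpDec
import Groth.Agent.Lib.helper15.AlgSpDecent
import Groth.Agent.Lib.helper15.AlgSpFibre

set_option autoImplicit false
universe u
open CategoryTheory CategoryTheory.Limits AlgebraicGeometry Opposite Topology

namespace Groth.Agent.Lib.H15.AS

variable {S : Scheme.{u}}

/-- A mono quasi-compact field point of `F'` maps to a mono quasi-compact field point of `F` along a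
representable quasi-compact monomorphism. -/
theorem fieldPt_map_mono_qc {F' F : AlgSp.Sp S} (m : F' ⟶ F) (hm : Mono m)
    (hmq : AlgSp.RepWith @QuasiCompact m) (p : AlgSp.FieldPt F') (hp : Mono p.toHom)
    (hpq : AlgSp.RepWith @QuasiCompact p.toHom) :
    Mono (p.map m).toHom ∧ AlgSp.RepWith @QuasiCompact (p.map m).toHom := by
  rw [AlgSp.FieldPt.toHom_map]
  exact ⟨@mono_comp _ _ _ _ _ _ hp _ hm, MorphismProperty.comp_mem _ _ _ hpq hmq⟩

/-- Base change of a decent morphism to a decent space has decent source. -/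
theorem isDecent_of_isDecentMor_of_isPullback {X Y X' Y' : AlgSp.Sp S} {f : X ⟶ Y} {g' : Y' ⟶ Y}
    {fst : X' ⟶ X} {snd : X' ⟶ Y'} (hf : AlgSp.IsDecentMor f) (sq : IsPullback fst snd f g')
    (hY' : AlgSp.IsDecent Y') : AlgSp.IsDecent X' := by
  intro x'
  obtain ⟨q, hq, hqm, hqq⟩ := hY' (AlgSp.Points.map snd x')
  have sqB := IsPullback.of_hasPullback snd q.toHom
  have sqP : IsPullback (pullback.fst snd q.toHom ≫ fst) (pullback.snd snd q.toHom) f
      (q.toHom ≫ g') := (sqB.flip.paste_vert sq.flip).flip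
  have hdec : AlgSp.IsDecent (pullback snd q.toHom) := hf _ _ _ sqP
  have e : AlgSp.Points.map snd x' = AlgSp.Points.map q.toHom
      (AlgSp.Points.ofScheme q.pt (default : ↥(Spec (CommRingCat.of q.K)))) := by
    rw [← hq, ← AlgSp.Points.ofPt_eq_map_ofScheme, AlgSp.Points.ofPt_toHom]
  obtain ⟨z, hz, -⟩ := points_exists_of_isPullback sqB x' _ e
  obtain ⟨p, hp, hpm, hpq⟩ := hdec z
  have hm1 : Mono (pullback.fst snd q.toHom) := sqB.mono_fst_of_mono
  have hm2 : AlgSp.RepWith @QuasiCompact (pullback.fst snd q.toHom) :=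
    MorphismProperty.of_isPullback sqB.flip hqq
  obtain ⟨h1, h2⟩ := fieldPt_map_mono_qc _ hm1 hm2 p hpm hpq
  refine ⟨p.map (pullback.fst snd q.toHom), ?_, h1, h2⟩
  rw [← AlgSp.Points.map_mk, hp, hz]

theorem isDecent_of_isDecentMor {X Y : AlgSp.Sp S} {f : X ⟶ Y} (hf : AlgSp.IsDecentMor f)
    (hY : AlgSp.IsDecent Y) : AlgSp.IsDecent X :=
  isDecent_of_isDecentMor_of_isPullback hf (IsPullback.of_horiz_isIso ⟨by simp⟩ :
    IsPullback (𝟙 X) f f (𝟙 Y)) hY

theorem isDecentMor_comp {X Y Z : AlgSp.Sp S} {f : X ⟶ Y} {g : Y ⟶ Z} (hf : AlgSp.IsDecentMor f)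
    (hg : AlgSp.IsDecentMor g) : AlgSp.IsDecentMor (f ≫ g) := by
  intro T F' t fst snd sq
  have sqB := IsPullback.of_hasPullback g t
  let l : F' ⟶ pullback g t := pullback.lift (fst ≫ f) snd (by rw [Category.assoc]; exact sq.w)
  have h1 : l ≫ pullback.fst g t = fst ≫ f := pullback.lift_fst _ _ _
  have h2 : l ≫ pullback.snd g t = snd := pullback.lift_snd _ _ _
  have sqT : IsPullback fst l f (pullback.fst g t) := by
    refine IsPullback.of_bot ?_ h1.symm sqB
    rw [h2]
    exact sq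
  exact isDecent_of_isDecentMor_of_isPullback hf sqT (hg t _ _ sqB)

end Groth.Agent.Lib.H15.AS

namespace Groth.Agent.Lib.H15.AS

variable {S : Scheme.{u}}

/-- A fibre product of decent spaces over an algebraic space is decent. -/
theorem isDecent_of_isPullback {X Y Z P : AlgSp.Sp S} {f : X ⟶ Y} {g : Z ⟶ Y} {fst : P ⟶ X}
    {snd : P ⟶ Z} (hY : AlgSp.IsAlgSpace Y) (h : IsPullback fst snd f g) (hX : AlgSp.IsDecent X)
    (hZ : AlgSp.IsDecent Z) : AlgSp.IsDecent P := by
  intro ξ
  obtain ⟨q, hq, hqm, hqq⟩ := hZ (AlgSp.Points.map snd ξ)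
  have sqB := IsPullback.of_hasPullback snd q.toHom
  have sqP : IsPullback (pullback.fst snd q.toHom ≫ fst) (pullback.snd snd q.toHom) f
      (q.toHom ≫ g) := sqB.paste_horiz h
  have hrep : AlgSp.Representable (pullback.fst snd q.toHom ≫ fst) :=
    MorphismProperty.of_isPullback sqP.flip (hY.representable_from_yon (q.toHom ≫ g))
  have hdec : AlgSp.IsDecent (pullback snd q.toHom) := isDecent_of_representable _ hrep hX
  have e : AlgSp.Points.map snd ξ = AlgSp.Points.map q.toHom
      (AlgSp.Points.ofScheme q.pt (default : ↥(Spec (CommRingCat.of q.K)))) := by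
    rw [← hq, ← AlgSp.Points.ofPt_eq_map_ofScheme, AlgSp.Points.ofPt_toHom]
  obtain ⟨z, hz, -⟩ := points_exists_of_isPullback sqB ξ _ e
  obtain ⟨p, hp, hpm, hpq⟩ := hdec z
  have hm1 : Mono (pullback.fst snd q.toHom) := sqB.mono_fst_of_mono
  have hm2 : AlgSp.RepWith @QuasiCompact (pullback.fst snd q.toHom) :=
    MorphismProperty.of_isPullback sqB.flip hqq
  obtain ⟨h1, h2⟩ := fieldPt_map_mono_qc _ hm1 hm2 p hpm hpq
  refine ⟨p.map (pullback.fst snd q.toHom), ?_, h1, h2⟩
  rw [← AlgSp.Points.map_mk, hp, hz]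

/-- The field point of a scheme point of a chart whose structure map is mono is mono. -/
theorem mono_toHom_ofPt {F : AlgSp.Sp S} {P : Over S} (a : (AlgSp.yon S).obj P ⟶ F) (ha : Mono a)
    (z : ↥P.left) : Mono (AlgSp.FieldPt.ofPt a z).toHom := by
  rw [AlgSp.FieldPt.toHom_ofPt]
  have h2 : Mono (Over.homMk (P.left.fromSpecResidueField z) rfl :
      Over.mk (P.left.fromSpecResidueField z ≫ P.hom) ⟶ P) := by
    have : Mono (Over.homMk (P.left.fromSpecResidueField z) rfl :
      Over.mk (P.left.fromSpecResidueField z ≫ P.hom) ⟶ P).left := by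
      change Mono (P.left.fromSpecResidueField z)
      infer_instance
    exact Over.mono_of_mono_left _
  have h3 := Functor.map_mono (AlgSp.yon S) (Over.homMk (P.left.fromSpecResidueField z) rfl :
      Over.mk (P.left.fromSpecResidueField z ≫ P.hom) ⟶ P)
  exact @mono_comp _ _ _ _ _ _ h3 _ ha

/-- Mono field points lift along representable morphisms. -/
theorem exists_mono_fieldPt_of_representable {F G : AlgSp.Sp S} (f : F ⟶ G)
    (hf : AlgSp.Representable f)
    (hG : ∀ y : AlgSp.Points G, ∃ q : AlgSp.FieldPt G, AlgSp.Points.mk q = y ∧ Mono q.toHom)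
    (x : AlgSp.Points F) : ∃ p : AlgSp.FieldPt F, AlgSp.Points.mk p = x ∧ Mono p.toHom := by
  obtain ⟨q, hq, hqm⟩ := hG (AlgSp.Points.map f x)
  have sq := hf.isPullback q.toHom
  obtain ⟨z, hz⟩ := exists_point_of_map_eq_mk q sq x hq.symm
  have h1 : Mono (hf.fst q.toHom) := sq.mono_fst_of_mono
  exact ⟨AlgSp.FieldPt.ofPt (hf.fst q.toHom) z, hz, mono_toHom_ofPt _ h1 z⟩

end Groth.Agent.Lib.H15.AS
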