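import Mathlib
import Groth.Prelude.Def_AlgSp
import Groth.Prelude.Def_AlgSp2
import Groth.Prelude.Def_AlgSp3
import Groth.Prelude.Def_AlgSp4
import Groth.Agent.Lib.helper15.AlgSpDiag

set_option autoImplicit false
universe u
open CategoryTheory CategoryTheory.Limits AlgebraicGeometry Opposite Topology

namespace Groth.Agent.Lib.H15.AS

variable {S : Scheme.{u}}

/-- Properties of the relative diagonal of a morphism from an algebraic space. -/
theorem diagonal_props {X Y : AlgSp.Sp S} (hX : AlgSp.IsAlgSpace X) (f : X ⟶ Y) :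
    AlgSp.Representable (pullback.diagonal f) ∧
    AlgSp.RepWith @LocallyOfFiniteType (pullback.diagonal f) ∧
    AlgSp.RepWith (@LocallyQuasiFinite ⊓ @LocallyOfFiniteType) (pullback.diagonal f) ∧
    AlgSp.RepWith @IsSeparated (pullback.diagonal f) ∧
    AlgSp.RepWith (MorphismProperty.monomorphisms Scheme.{u}) (pullback.diagonal f) := by
  have hrep := representable_diagonal hX f
  have hlft := repWith_lft_diagonal hX f
  have hmono : AlgSp.RepWith (MorphismProperty.monomorphisms Scheme.{u}) (pullback.diagonal f) :=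
    repWith_mono_of_mono _ hrep
  refine ⟨hrep, hlft, ?_, ?_, hmono⟩
  · rw [AlgSp.repWith_iff] at hlft hmono ⊢
    refine ⟨hrep, fun U V g fst snd sq => ?_⟩
    have h1 : LocallyOfFiniteType snd.left := hlft.2 g fst snd sq
    have h2 : Mono snd.left := hmono.2 g fst snd sq
    exact ⟨inferInstance, h1⟩
  · exact repWith_mono (fun _ _ g (hg : Mono g) => (inferInstance : IsSeparated g)) hmono

/-- Properties of a base change of the relative diagonal of a morphism from an algebraic space. -/
theorem diagonal_base_change_props {Z T A B : AlgSp.Sp S} (hZ : AlgSp.IsAlgSpace Z) (h : Z ⟶ T)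
    {m : A ⟶ B} {u : A ⟶ Z} {v : B ⟶ pullback h h} (sq : IsPullback u m (pullback.diagonal h) v) :
    AlgSp.Representable m ∧
    AlgSp.RepWith @LocallyOfFiniteType m ∧
    AlgSp.RepWith (@LocallyQuasiFinite ⊓ @LocallyOfFiniteType) m ∧
    AlgSp.RepWith @IsSeparated m ∧
    AlgSp.RepWith (MorphismProperty.monomorphisms Scheme.{u}) m ∧
    (AlgSp.IsSeparatedMor h → AlgSp.RepWith @IsClosedImmersion m) ∧
    (AlgSp.IsQuasiSeparatedMor h → AlgSp.RepWith @QuasiCompact m) := by
  obtain ⟨h1, h2, h3, h4, h5⟩ := diagonal_props hZ h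
  exact ⟨MorphismProperty.of_isPullback sq h1, MorphismProperty.of_isPullback sq h2,
    MorphismProperty.of_isPullback sq h3, MorphismProperty.of_isPullback sq h4,
    MorphismProperty.of_isPullback sq h5, fun hs => MorphismProperty.of_isPullback sq hs,
    fun hs => MorphismProperty.of_isPullback sq hs⟩

end Groth.Agent.Lib.H15.AS
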