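import Mathlib
import Groth.Prelude.Def_AlgSp
import Groth.Prelude.Def_AlgSp2
import Groth.Prelude.Def_AlgSp3
import Groth.Prelude.Def_AlgSp4
import Groth.Prelude.Def_Flat
import Groth.Agent.Lib.helper15.AlgSpDimStalk

set_option autoImplicit false
universe u
open CategoryTheory CategoryTheory.Limits AlgebraicGeometry Opposite Topology

namespace Groth.Agent.Lib.H15.AS

variable {S : Scheme.{u}}

/-- The Krull dimension of the space of a scheme is that of its generization order. -/
theorem topologicalKrullDim_eq_krullDim (X : Scheme.{u}) :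
    topologicalKrullDim X = Order.krullDim X := by
  letI := specializationOrder X
  exact Order.krullDim_eq_of_orderIso irreducibleSetEquivPoints

theorem topologicalKrullDim_eq_iSup_coheight (X : Scheme.{u}) :
    topologicalKrullDim X = ⨆ x : X, ((Order.coheight x : ℕ∞) : WithBot ℕ∞) := by
  rw [topologicalKrullDim_eq_krullDim, Order.krullDim_eq_iSup_coheight]

theorem topologicalKrullDim_opens_eq_iSup_coheight (X : Scheme.{u}) (U : X.Opens) :
    topologicalKrullDim ↥(U : Set X) = ⨆ x : U, ((Order.coheight (x : X) : ℕ∞) : WithBot ℕ∞) := by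
  have h := topologicalKrullDim_eq_iSup_coheight U.toScheme
  refine h.trans ?_
  refine iSup_congr fun x => ?_
  have := coheight_eq_of_isOpenImmersion (x := x) U.ι
  rw [← this]
  rfl

/-- An etale surjective morphism of schemes preserves the Krull dimension. -/
theorem topologicalKrullDim_eq_of_etale_surjective {W V : Scheme.{u}} (g : W ⟶ V) [Etale g]
    (hg : Function.Surjective (fun w : W => g w)) :
    topologicalKrullDim W = topologicalKrullDim V := by
  rw [topologicalKrullDim_eq_iSup_coheight, topologicalKrullDim_eq_iSup_coheight]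
  apply le_antisymm
  · refine iSup_le fun w => ?_
    rw [coheight_eq_of_etale g w]
    exact le_iSup (fun v : V => ((Order.coheight v : ℕ∞) : WithBot ℕ∞)) (g w)
  · refine iSup_le fun v => ?_
    obtain ⟨w, rfl⟩ := hg v
    show ((Order.coheight (g w) : ℕ∞) : WithBot ℕ∞) ≤ _
    rw [← coheight_eq_of_etale g w]
    exact le_iSup (fun w : W => ((Order.coheight w : ℕ∞) : WithBot ℕ∞)) w

/-- For an etale morphism, an open subset has the same dimension as its (open) image. -/
theorem topologicalKrullDim_opens_eq_of_etale {W V : Scheme.{u}} (g : W ⟶ V) [Etale g]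
    (W' : W.Opens) (V' : V.Opens) (h : (V' : Set V) = (fun w : W => g w) '' (W' : Set W)) :
    topologicalKrullDim ↥(W' : Set W) = topologicalKrullDim ↥(V' : Set V) := by
  rw [topologicalKrullDim_opens_eq_iSup_coheight, topologicalKrullDim_opens_eq_iSup_coheight]
  apply le_antisymm
  · refine iSup_le fun w => ?_
    rw [coheight_eq_of_etale g w.1]
    have hw : g w.1 ∈ (V' : Set V) := by rw [h]; exact ⟨w.1, w.2, rfl⟩
    exact le_iSup (fun v : V' => ((Order.coheight (v : V) : ℕ∞) : WithBot ℕ∞)) ⟨g w.1, hw⟩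
  · refine iSup_le fun v => ?_
    have hv : (v : V) ∈ (fun w : W => g w) '' (W' : Set W) := by rw [← h]; exact v.2
    obtain ⟨w, hw, e⟩ := hv
    have e' : g w = (v : V) := e
    rw [← e', ← coheight_eq_of_etale g w]
    exact le_iSup (fun w : W' => ((Order.coheight (w : W) : ℕ∞) : WithBot ℕ∞)) ⟨w, hw⟩

theorem topologicalKrullDim_mono {X : Type*} [TopologicalSpace X] {A B : Set X} (h : A ⊆ B) :
    topologicalKrullDim ↥A ≤ topologicalKrullDim ↥B :=
  (Topology.IsEmbedding.inclusion h).isInducing.topologicalKrullDim_le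

/-- An etale morphism preserves local dimension. -/
theorem localDim_eq_of_etale {W V : Scheme.{u}} (g : W ⟶ V) [Etale g] (w : W) :
    FlatMor.localDim W w = FlatMor.localDim V (g w) := by
  unfold FlatMor.localDim
  have hopen : IsOpenMap (fun w : W => g w) := g.isOpenMap
  apply le_antisymm
  · refine le_iInf fun V' => ?_
    let W' : W.Opens := g ⁻¹ᵁ V'.1
    have hw : w ∈ W' := V'.2
    let V'' : V.Opens := ⟨(fun w : W => g w) '' (W' : Set W), hopen _ W'.2⟩
    refine (iInf_le _ (⟨W', hw⟩ : {U : TopologicalSpace.Opens W // w ∈ U})).trans ?_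
    show topologicalKrullDim ↥(W' : Set W) ≤ _
    rw [topologicalKrullDim_opens_eq_of_etale g W' V'' rfl]
    refine topologicalKrullDim_mono ?_
    rintro _ ⟨a, ha, rfl⟩
    exact ha
  · refine le_iInf fun W' => ?_
    let V'' : V.Opens := ⟨(fun w : W => g w) '' (W'.1 : Set W), hopen _ W'.1.2⟩
    have hv : g w ∈ V'' := ⟨w, W'.2, rfl⟩
    refine (iInf_le _ (⟨V'', hv⟩ : {U : TopologicalSpace.Opens V // g w ∈ U})).trans ?_
    show topologicalKrullDim ↥(V'' : Set V) ≤ _
    rw [← topologicalKrullDim_opens_eq_of_etale g W'.1 V'' rfl]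

/-- The local dimension at a point of an etale chart does not depend on the chart. -/
theorem localDim_eq_of_charts {X : AlgSp.Sp S} (hX : AlgSp.IsAlgSpace X) {U U' : Over S}
    (a : (AlgSp.yon S).obj U ⟶ X) (a' : (AlgSp.yon S).obj U' ⟶ X) (hae : AlgSp.RepWith @Etale a)
    (ha'e : AlgSp.RepWith @Etale a') (u : ↥U.left) (u' : ↥U'.left)
    (e : AlgSp.Points.ofPt a u = AlgSp.Points.ofPt a' u') :
    FlatMor.localDim ↥U.left u = FlatMor.localDim ↥U'.left u' := by
  have hrep : AlgSp.Representable a := hae.rep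
  have sq := hrep.isPullback' a'
  obtain ⟨t, ht1, ht2⟩ := exists_point_of_ofPt_eq sq u u' e
  have h2 : Etale (hrep.snd a').left := hae.property_snd a'
  have h1 : Etale (hrep.fst' a').left :=
    ((AlgSp.repWith_iff _ _).1 ha'e).2 a ((AlgSp.yon S).map (hrep.snd a')) (hrep.fst' a') sq.flip
  rw [← ht1, ← ht2, ← localDim_eq_of_etale, ← localDim_eq_of_etale]

end Groth.Agent.Lib.H15.AS
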