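import Mathlib
import Groth.Prelude.Def_AlgSp
import Groth.Prelude.Def_AlgSp2
import Groth.Prelude.Def_AlgSp3
import Groth.Prelude.Def_AlgSp4
import Groth.Prelude.Def_AlgSpDec
import Groth.Agent.Lib.helper15.AlgSpDimStalk
import Groth.Agent.Lib.helper15.AlgSpDimEtale
import Groth.Agent.Lib.helper15.AlgSpPoints
import Groth.Agent.Lib.helper15.AlgSpPoints2
import Groth.Agent.Lib.helper15.AlgSpPoints3

set_option autoImplicit false
universe u
open CategoryTheory CategoryTheory.Limits AlgebraicGeometry Opposite Topology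

namespace Groth.Agent.Lib.H15.AS

variable {S : Scheme.{u}}

theorem ringKrullDim_le_of_isIntegral' (R S : Type*) [CommRing R] [CommRing S] [Algebra R S]
    [Algebra.IsIntegral R S] : ringKrullDim S ≤ ringKrullDim R := by
  refine Order.krullDim_le_of_strictMono (PrimeSpectrum.comap (algebraMap R S)) ?_
  intro p q hpq
  have h1 : p.asIdeal < q.asIdeal := hpq
  have h2 := Ideal.IsIntegral.comap_lt_comap (R := R) h1
  exact h2

theorem ringKrullDim_le_of_isIntegral_of_comap_surjective (R S : Type*) [CommRing R] [CommRing S]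
    [Algebra R S] [Algebra.IsIntegral R S]
    (h : Function.Surjective (PrimeSpectrum.comap (algebraMap R S))) :
    ringKrullDim R ≤ ringKrullDim S := by
  unfold ringKrullDim Order.krullDim
  refine iSup_le fun l => ?_
  obtain ⟨Q, hQ⟩ := h (RelSeries.head l)
  have : Q.asIdeal.LiesOver (RelSeries.head l).asIdeal := ⟨by rw [← hQ]; rfl⟩
  obtain ⟨L, hL, -, -⟩ := Ideal.exists_ltSeries_of_hasGoingUp l Q.asIdeal
  rw [← hL]
  exact le_iSup (fun L : LTSeries (PrimeSpectrum S) => (L.length : WithBot ℕ∞)) L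

theorem topologicalKrullDim_eq_ringKrullDim_of_isAffine (T : Scheme.{u}) [IsAffine T] :
    topologicalKrullDim T = ringKrullDim Γ(T, ⊤) := by
  rw [← PrimeSpectrum.topologicalKrullDim_eq_ringKrullDim]
  exact IsHomeomorph.topologicalKrullDim_eq _ (Scheme.homeoOfIso T.isoSpec).isHomeomorph

/-- An integral morphism to an affine scheme does not raise the dimension. -/
theorem topologicalKrullDim_le_of_isIntegralHom {W V : Scheme.{u}} [IsAffine V] (g : W ⟶ V)
    [IsIntegralHom g] : topologicalKrullDim W ≤ topologicalKrullDim V := by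
  have : IsAffine W := isAffine_of_isAffineHom g
  rw [topologicalKrullDim_eq_ringKrullDim_of_isAffine, topologicalKrullDim_eq_ringKrullDim_of_isAffine]
  have hint : (g.appTop).hom.IsIntegral := g.isIntegral_app ⊤ (isAffineOpen_top V)
  letI := g.appTop.hom.toAlgebra
  have : Algebra.IsIntegral Γ(V, ⊤) Γ(W, ⊤) := ⟨hint⟩
  exact ringKrullDim_le_of_isIntegral' _ _

/-- A surjective integral morphism to an affine scheme does not lower the dimension. -/
theorem topologicalKrullDim_le_of_isIntegralHom_surjective {W V : Scheme.{u}} [IsAffine V]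
    (g : W ⟶ V) [IsIntegralHom g] (hs : Function.Surjective (fun w : W => g w)) :
    topologicalKrullDim V ≤ topologicalKrullDim W := by
  have : IsAffine W := isAffine_of_isAffineHom g
  rw [topologicalKrullDim_eq_ringKrullDim_of_isAffine, topologicalKrullDim_eq_ringKrullDim_of_isAffine]
  have hint : (g.appTop).hom.IsIntegral := g.isIntegral_app ⊤ (isAffineOpen_top V)
  letI := g.appTop.hom.toAlgebra
  have : Algebra.IsIntegral Γ(V, ⊤) Γ(W, ⊤) := ⟨hint⟩
  refine ringKrullDim_le_of_isIntegral_of_comap_surjective _ _ ?_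
  intro p
  obtain ⟨w, hw⟩ := hs (V.isoSpec.inv p)
  refine ⟨W.isoSpec.hom w, ?_⟩
  have h1 := Scheme.isoSpec_hom_naturality g
  have h2 : (W.isoSpec.hom ≫ Spec.map g.appTop) w = (g ≫ V.isoSpec.hom) w := by rw [h1]
  have h3 : (g ≫ V.isoSpec.hom) w = p := by
    show V.isoSpec.hom (g w) = p
    have : g w = V.isoSpec.inv p := hw
    rw [this]
    have h4 : (V.isoSpec.inv ≫ V.isoSpec.hom) p = p := by rw [Iso.inv_hom_id]; rfl
    exact h4
  rw [← h3, ← h2]
  rfl

/-- Points of a represented pullback: a point of `F` and a point of the scheme `Z` with the same image in `G`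
come from a point of the scheme `W`. -/
theorem exists_pt_of_isPullback_yon {F G : AlgSp.Sp S} {f : F ⟶ G} {Z W : Over S}
    {g : (AlgSp.yon S).obj Z ⟶ G} {fst : (AlgSp.yon S).obj W ⟶ F} {i : W ⟶ Z}
    (sq : IsPullback fst ((AlgSp.yon S).map i) f g) (x : AlgSp.Points F) (z : ↥Z.left)
    (e : AlgSp.Points.map f x = AlgSp.Points.ofPt g z) :
    ∃ w : ↥W.left, AlgSp.Points.ofPt fst w = x ∧ i.left w = z := by
  obtain ⟨p, hp1, hp2⟩ := points_exists_of_isPullback sq x (AlgSp.Points.ofPt (𝟙 _) z)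
    (by rw [e, AlgSp.Points.map_ofPt, Category.id_comp])
  obtain ⟨w, rfl⟩ := (AlgSp.Points.schemeHomeo W).surjective p
  refine ⟨w, ?_, ?_⟩
  · rw [← hp1]
    exact AlgSp.Points.ofPt_eq_map_ofScheme fst w
  · have h2 : AlgSp.Points.map ((AlgSp.yon S).map i) (AlgSp.Points.schemeHomeo W w) =
        AlgSp.Points.schemeHomeo Z (i.left w) := AlgSp.Points.map_yon_map_apply i w
    rw [h2] at hp2
    exact (AlgSp.Points.schemeHomeo Z).injective hp2

/-- Every point of a scheme over `S` has an affine open neighbourhood. -/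
theorem exists_affineOpen_mem (V : Scheme.{u}) (v : V) : ∃ V₀ : V.Opens, IsAffineOpen V₀ ∧ v ∈ V₀ := by
  obtain ⟨_, ⟨V₀, hV₀, rfl⟩, hv, -⟩ :=
    (V.isBasis_affineOpens).exists_subset_of_mem_open (Set.mem_univ v) isOpen_univ
  exact ⟨V₀, hV₀, hv⟩

/-- The data obtained from an integral morphism over an affine open of an etale chart of the target. -/
theorem exists_integral_chart {X Y : AlgSp.Sp S} {f : X ⟶ Y} (hf : AlgSp.IsIntegralMor f)
    {V : Over S} (b : (AlgSp.yon S).obj V ⟶ Y) (hb : AlgSp.RepWith @Etale b) (v : ↥V.left) :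
    ∃ (V₀ : V.left.Opens) (hv : v ∈ V₀) (W : Over S) (i : W ⟶ overOpen V V₀)
      (fst : (AlgSp.yon S).obj W ⟶ X),
      IsAffine (overOpen V V₀).left ∧ IsAffine W.left ∧ IsIntegralHom i.left ∧
      AlgSp.RepWith @Etale ((AlgSp.yon S).map (overOpenι V V₀) ≫ b) ∧
      AlgSp.RepWith @Etale fst ∧
      IsPullback fst ((AlgSp.yon S).map i) f ((AlgSp.yon S).map (overOpenι V V₀) ≫ b) := by
  obtain ⟨V₀, hV₀, hv⟩ := exists_affineOpen_mem V.left v
  have hb₀ : AlgSp.RepWith @Etale ((AlgSp.yon S).map (overOpenι V V₀) ≫ b) :=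
    repWith_yon_map_comp @Etale (overOpenι V V₀) b (by change Etale V₀.ι; infer_instance) hb
  have hZ : IsAffine (overOpen V V₀).left := hV₀
  obtain ⟨W, i, fst, sq, hW, hi⟩ := hf hZ ((AlgSp.yon S).map (overOpenι V V₀) ≫ b)
  exact ⟨V₀, hv, W, i, fst, hZ, hW, hi, hb₀,
    MorphismProperty.of_isPullback (P := AlgSp.RepWith @Etale) sq.flip hb₀, sq⟩

theorem coheight_le_topologicalKrullDim (T : Scheme.{u}) (t : T) :
    ((Order.coheight t : ℕ∞) : WithBot ℕ∞) ≤ topologicalKrullDim T := by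
  rw [topologicalKrullDim_eq_iSup_coheight]
  exact le_iSup (fun t : T => ((Order.coheight t : ℕ∞) : WithBot ℕ∞)) t

theorem topologicalKrullDim_le_dim {F : AlgSp.Sp S} {U : Over S} (a : (AlgSp.yon S).obj U ⟶ F)
    (ha : AlgSp.RepWith @Etale a) : topologicalKrullDim ↥U.left ≤ AlgSp.dim F := by
  unfold AlgSp.dim
  exact le_iSup_of_le U (le_iSup_of_le a (le_iSup_of_le ha le_rfl))

/-- An integral morphism does not raise the dimension. -/
theorem dim_le_of_isIntegralMor {X Y : AlgSp.Sp S} (hY : AlgSp.IsAlgSpace Y) {f : X ⟶ Y}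
    (hf : AlgSp.IsIntegralMor f) : AlgSp.dim X ≤ AlgSp.dim Y := by
  unfold AlgSp.dim
  refine iSup_le fun U => iSup_le fun a => iSup_le fun ha => ?_
  rw [topologicalKrullDim_eq_iSup_coheight]
  refine iSup_le fun u => ?_
  obtain ⟨V, b, hbe, hbs⟩ := hY.atlas
  obtain ⟨v, hv⟩ := surjective_ofPt b hbs (AlgSp.Points.map f (AlgSp.Points.ofPt a u))
  obtain ⟨V₀, hvV₀, W, i, fst, hZ, hW, hi, hb₀, hfst, sq⟩ := exists_integral_chart hf b hbe v
  have e : AlgSp.Points.map f (AlgSp.Points.ofPt a u) =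
      AlgSp.Points.ofPt ((AlgSp.yon S).map (overOpenι V V₀) ≫ b) (⟨v, hvV₀⟩ : ↥(overOpen V V₀).left) := by
    rw [ofPt_yon_map_comp, ← hv]; rfl
  obtain ⟨w, hw, -⟩ := exists_pt_of_isPullback_yon sq _ _ e
  -- compare the charts `U` and `W` of `X`
  obtain ⟨U', s, r0, sqU⟩ := hfst.1 a
  obtain ⟨r, rfl⟩ := (AlgSp.yon S).map_surjective r0
  have hs : Etale s.left := hfst.2 a _ s sqU
  have hr : Etale r.left := ha.2 fst ((AlgSp.yon S).map s) r sqU.flip
  obtain ⟨u', hu'1, hu'2⟩ := exists_pt_of_isPullback_yon sqU (AlgSp.Points.ofPt (𝟙 _) w) u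
    (by rw [AlgSp.Points.map_ofPt, Category.id_comp, hw])
  have hu'3 : r.left u' = w := by
    have h2 : AlgSp.Points.ofPt ((AlgSp.yon S).map r) u' = AlgSp.Points.ofPt (𝟙 _) (r.left u') := by
      have := ofPt_yon_map_comp r (𝟙 ((AlgSp.yon S).obj W)) u'
      rwa [Category.comp_id] at this
    rw [h2] at hu'1
    exact (AlgSp.Points.schemeHomeo W).injective hu'1
  have c1 : Order.coheight u = Order.coheight w := by
    rw [← hu'2, ← hu'3, ← coheight_eq_of_etale s.left u', ← coheight_eq_of_etale r.left u']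
  rw [c1]
  have hi' : IsIntegralHom i.left := hi
  have : IsAffine (overOpen V V₀).left := hZ
  calc ((Order.coheight w : ℕ∞) : WithBot ℕ∞) ≤ topologicalKrullDim ↥W.left :=
        coheight_le_topologicalKrullDim W.left w
    _ ≤ topologicalKrullDim ↥(overOpen V V₀).left := topologicalKrullDim_le_of_isIntegralHom i.left
    _ ≤ _ := topologicalKrullDim_le_dim _ hb₀

/-- A surjective integral morphism does not lower the dimension. -/
theorem dim_le_of_isIntegralMor_surjective {X Y : AlgSp.Sp S} {f : X ⟶ Y}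
    (hf : AlgSp.IsIntegralMor f) (hs : AlgSp.IsSurjectiveMor f) : AlgSp.dim Y ≤ AlgSp.dim X := by
  unfold AlgSp.dim
  refine iSup_le fun V => iSup_le fun b => iSup_le fun hb => ?_
  rw [topologicalKrullDim_eq_iSup_coheight]
  refine iSup_le fun v => ?_
  obtain ⟨V₀, hvV₀, W, i, fst, hZ, hW, hi, hb₀, hfst, sq⟩ := exists_integral_chart hf b hb v
  have hsurj : Surjective i.left :=
    (isSurjectiveMor_yon_map_iff i).1 (isSurjectiveMor_of_isPullback sq hs)
  obtain ⟨v₀, rfl⟩ : ∃ v₀ : ↥(V₀.toScheme), V₀.ι v₀ = v := ⟨⟨v, hvV₀⟩, rfl⟩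
  rw [coheight_eq_of_isOpenImmersion V₀.ι]
  have hi' : IsIntegralHom i.left := hi
  have : IsAffine (overOpen V V₀).left := hZ
  calc ((Order.coheight v₀ : ℕ∞) : WithBot ℕ∞)
        ≤ topologicalKrullDim ↥(overOpen V V₀).left := coheight_le_topologicalKrullDim V₀.toScheme v₀
    _ ≤ topologicalKrullDim ↥W.left :=
        topologicalKrullDim_le_of_isIntegralHom_surjective i.left hsurj.surj
    _ ≤ _ := topologicalKrullDim_le_dim _ hfst

end Groth.Agent.Lib.H15.AS
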