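import Mathlib
import Groth.Prelude.Def_AlgSp
import Groth.Prelude.Def_AlgSp2
import Groth.Prelude.Def_AlgSp3
import Groth.Prelude.Def_AlgSp4
import Groth.Prelude.Def_AlgSpDec
import Groth.Agent.Lib.helper15.AlgSpDimEtale
import Groth.Agent.Lib.helper15.AlgSpLocPGen2

set_option autoImplicit false
universe u
open CategoryTheory CategoryTheory.Limits AlgebraicGeometry Opposite Topology

namespace Groth.Agent.Lib.H15.AS

variable {S : Scheme.{u}}

/-- A locally quasi-finite morphism is strictly monotone for the generization order. -/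
theorem strictMono_of_locallyQuasiFinite {W U : Scheme.{u}} (g : W ⟶ U) [LocallyQuasiFinite g] :
    StrictMono (fun w : W => g w) := by
  intro a b hab
  have h1 : b ⤳ a := Scheme.le_iff_specializes.1 hab.le
  have h2 : g b ⤳ g a := h1.map g.continuous
  refine lt_of_le_not_ge (Scheme.le_iff_specializes.2 h2) ?_
  intro h3
  have h4 : g a ⤳ g b := Scheme.le_iff_specializes.1 h3
  have h5 : g b = g a := (h2.antisymm h4).eq
  have hd := g.isDiscrete_preimage_singleton (g a)
  rw [isDiscrete_iff_discreteTopology] at hd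
  have hbm : b ∈ g ⁻¹' {g a} := h5
  have ham : a ∈ g ⁻¹' {g a} := rfl
  have h6 : (⟨b, hbm⟩ : ↥(g ⁻¹' {g a})) ⤳ ⟨a, ham⟩ := (subtype_specializes_iff _ _).2 h1
  have h7 : b = a := congrArg Subtype.val h6.eq
  exact hab.ne h7.symm

theorem coheight_le_of_locallyQuasiFinite {W U : Scheme.{u}} (g : W ⟶ U) [LocallyQuasiFinite g] (w : W) :
    Order.coheight w ≤ Order.coheight (g w) :=
  Order.coheight_le_coheight_apply_of_strictMono _ (strictMono_of_locallyQuasiFinite g) w

theorem ringKrullDim_stalk_le_of_locallyQuasiFinite {W U : Scheme.{u}} (g : W ⟶ U)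
    [LocallyQuasiFinite g] (w : W) :
    ringKrullDim ↥(W.presheaf.stalk w) ≤ ringKrullDim ↥(U.presheaf.stalk (g w)) := by
  rw [ringKrullDim_stalk_eq_coheight, ringKrullDim_stalk_eq_coheight]
  exact_mod_cast coheight_le_of_locallyQuasiFinite g w

theorem topologicalKrullDim_le_of_locallyQuasiFinite {W U : Scheme.{u}} (g : W ⟶ U)
    [LocallyQuasiFinite g] : topologicalKrullDim W ≤ topologicalKrullDim U := by
  rw [topologicalKrullDim_eq_iSup_coheight, topologicalKrullDim_eq_iSup_coheight]
  refine iSup_le fun w => ?_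
  refine le_trans ?_ (le_iSup (fun v : U => ((Order.coheight v : ℕ∞) : WithBot ℕ∞)) (g w))
  exact_mod_cast coheight_le_of_locallyQuasiFinite g w

end Groth.Agent.Lib.H15.AS
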