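import Mathlib
import Groth.Prelude.Def_AlgSp
import Groth.Prelude.Def_AlgSp2
import Groth.Prelude.Def_AlgSp3
import Groth.Prelude.Def_AlgSp4
import Groth.Prelude.Def_AlgSpDec
import Groth.Prelude.Def_AlgSpEt
import Groth.Prelude.Def_AlgSpOX3
import Groth.Agent.Lib.helper15.MonoClosedImm
import Groth.Agent.Lib.helper15.AlgSpSeven2
import Groth.Agent.Lib.helper15.UnramLqf

set_option autoImplicit false
universe u
open CategoryTheory CategoryTheory.Limits AlgebraicGeometry Opposite Topology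

namespace Groth.Agent.Lib.H15.AS

variable {S : Scheme.{u}}

/-- A geometric point of `X` lifts to any point of an etale chart lying over it. -/
theorem exists_lift_of_isGeometric {X : AlgSp.Sp S} {U : Over S} (a : (AlgSp.yon S).obj U ⟶ X)
    (hae : AlgSp.RepWith @Etale a) (p : AlgSp.FieldPt X) (hp : p.IsGeometric) (u : ↥U.left)
    (hu : AlgSp.Points.ofPt a u = AlgSp.Points.mk p) :
    ∃ ubar : p.pt ⟶ U, (AlgSp.yon S).map ubar ≫ a = p.toHom ∧
      ubar.left (IsLocalRing.closedPoint p.K) = u := by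
  haveI : IsAlgClosed p.K := hp
  have hc : AlgSp.Representable a := hae.rep
  have sq := hc.isPullback' p.toHom
  have hse : Etale (hc.snd p.toHom).left := hae.property_snd p.toHom
  let g0 : (hc.pullback p.toHom).left ⟶ Spec (CommRingCat.of p.K) := (hc.snd p.toHom).left
  haveI : Etale g0 := hse
  haveI : LocallyQuasiFinite g0 := Groth.Agent.Lib.H15.locallyQuasiFinite_of_formallyUnramified g0
  haveI : DiscreteTopology ↥(hc.pullback p.toHom).left :=
    Groth.Agent.Lib.H15.discreteTopology_of_lqf_field g0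
  have e0 : AlgSp.Points.ofPt a u =
      AlgSp.Points.ofPt p.toHom (IsLocalRing.closedPoint p.K) := by
    rw [AlgSp.Points.ofPt_toHom, hu]
  obtain ⟨z, hz1, hz2⟩ := exists_point_of_ofPt_eq sq u _ e0
  let s : Spec (CommRingCat.of p.K) ⟶ (hc.pullback p.toHom).left :=
    pointOfClosedPoint g0 z (isClosed_discrete _)
  have hs1 : s ≫ g0 = 𝟙 _ := pointOfClosedPoint_comp g0 z (isClosed_discrete _)
  have hs2 : s (IsLocalRing.closedPoint p.K) = z := pointOfClosedPoint_apply g0 z (isClosed_discrete _) _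
  have hw : s ≫ (hc.pullback p.toHom).hom = p.pt.hom := by
    have h1 : (hc.snd p.toHom).left ≫ p.pt.hom = (hc.pullback p.toHom).hom :=
      Over.w (hc.snd p.toHom)
    rw [← h1]
    change s ≫ g0 ≫ _ = _
    rw [← Category.assoc, hs1, Category.id_comp]
  let s' : p.pt ⟶ hc.pullback p.toHom := Over.homMk s hw
  have hs' : s' ≫ hc.snd p.toHom = 𝟙 _ := by
    apply Over.OverMorphism.ext
    exact hs1
  refine ⟨s' ≫ hc.fst' p.toHom, ?_, ?_⟩
  · rw [Functor.map_comp, Category.assoc, sq.w, ← Category.assoc, ← Functor.map_comp, hs',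
      CategoryTheory.Functor.map_id, Category.id_comp]
  · show (hc.fst' p.toHom).left (s (IsLocalRing.closedPoint p.K)) = u
    rw [hs2, hz1]

/-- A geometric point of a scheme lifts along an etale morphism to any point over it. -/
theorem exists_lift_of_etale_of_isGeometric {X : AlgSp.Sp S} (p : AlgSp.FieldPt X) (hp : p.IsGeometric)
    {W U : Over S} (g : W ⟶ U) (hg : Etale g.left) (ubar : p.pt ⟶ U) (w : ↥W.left)
    (hw : g.left w = ubar.left (IsLocalRing.closedPoint p.K)) :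
    ∃ wbar : p.pt ⟶ W, wbar ≫ g = ubar := by
  haveI : IsAlgClosed p.K := hp
  let u0 : Spec (CommRingCat.of p.K) ⟶ U.left := ubar.left
  have hw' : g.left w = u0 default := by
    rw [hw]
    exact congrArg _ (Subsingleton.elim _ _)
  obtain ⟨l, hl1, -⟩ := Scheme.exists_fac_of_etale_of_isSepClosed g.left u0 w hw'
  have h1 : g.left ≫ U.hom = W.hom := Over.w g
  have h2 : u0 ≫ U.hom = p.pt.hom := Over.w ubar
  refine ⟨Over.homMk l (by rw [← h1, ← Category.assoc, hl1, h2]), ?_⟩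
  apply Over.OverMorphism.ext
  exact hl1

end Groth.Agent.Lib.H15.AS

namespace Groth.Agent.Lib.H15.AS

variable {S : Scheme.{u}}

open AlgSp in
/-- The etale neighbourhoods of a field valued point admit common refinements and equalizers. -/
theorem isCofilteredOrEmpty_etNbhd {X : AlgSp.Sp S} (p : AlgSp.FieldPt X) :
    IsCofilteredOrEmpty (AlgSp.EtNbhd p) where
  cone_objs := by
    rintro ⟨E1, u1⟩ ⟨E2, u2⟩
    have hi : (AlgSp.yon S).map u2.1 ≫ E2.obj.hom = (AlgSp.yon S).map u1.1 ≫ E1.obj.hom := by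
      rw [u1.2, u2.2]
    have h1 : E2.property.1.lift' u2.1 u1.1 hi ≫ E2.property.1.snd E1.obj.hom = u1.1 :=
      Functor.relativelyRepresentable.lift'_snd _ _ _ _
    have h2 : E2.property.1.lift' u2.1 u1.1 hi ≫ E2.property.1.fst' E1.obj.hom = u2.1 :=
      Functor.relativelyRepresentable.lift'_fst _ _ _ _
    have h3 : (AlgSp.yon S).map (E2.property.1.lift' u2.1 u1.1 hi) ≫ (EtOver.prodObj E1 E2).obj.hom =
        p.toHom := by
      change (AlgSp.yon S).map _ ≫ (AlgSp.yon S).map _ ≫ E1.obj.hom = _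
      rw [← Category.assoc, ← Functor.map_comp, h1]
      exact u1.2
    refine ⟨⟨EtOver.prodObj E1 E2, ⟨E2.property.1.lift' u2.1 u1.1 hi, h3⟩⟩,
      ⟨EtOver.prodFst E1 E2, Subtype.ext h1⟩, ⟨EtOver.prodSnd E1 E2, Subtype.ext h2⟩, trivial⟩
  cone_maps := by
    rintro ⟨E1, u1⟩ ⟨E2, u2⟩ ⟨f, hf⟩ ⟨g, hg⟩
    have hf' : u1.1 ≫ f.hom.left = u2.1 := congrArg Subtype.val hf
    have hg' : u1.1 ≫ g.hom.left = u2.1 := congrArg Subtype.val hg
    obtain ⟨φ, hφ1, hφ2⟩ := BinaryFan.IsLimit.lift' (EtOver.prodIsLimit E1 E2) (𝟙 E1) f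
    obtain ⟨ψ, hψ1, hψ2⟩ := BinaryFan.IsLimit.lift' (EtOver.prodIsLimit E1 E2) (𝟙 E1) g
    have hφ1' : φ.hom.left ≫ E2.property.1.snd E1.obj.hom = 𝟙 _ :=
      congrArg (fun k => k.hom.left) hφ1
    have hφ2' : φ.hom.left ≫ E2.property.1.fst' E1.obj.hom = f.hom.left :=
      congrArg (fun k => k.hom.left) hφ2
    have hψ1' : ψ.hom.left ≫ E2.property.1.snd E1.obj.hom = 𝟙 _ :=
      congrArg (fun k => k.hom.left) hψ1
    have hψ2' : ψ.hom.left ≫ E2.property.1.fst' E1.obj.hom = g.hom.left :=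
      congrArg (fun k => k.hom.left) hψ2
    have hu : u1.1 ≫ φ.hom.left = u1.1 ≫ ψ.hom.left := by
      apply Functor.relativelyRepresentable.hom_ext' E2.property.1
      · exact (Category.assoc _ _ _).trans ((congrArg (u1.1 ≫ ·) hφ2').trans (hf'.trans
          (hg'.symm.trans ((congrArg (u1.1 ≫ ·) hψ2').symm.trans (Category.assoc _ _ _).symm))))
      · exact (Category.assoc _ _ _).trans ((congrArg (u1.1 ≫ ·) hφ1').trans
          ((congrArg (u1.1 ≫ ·) hψ1').symm.trans (Category.assoc _ _ _).symm))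
    have h1 : pullback.lift u1.1 u1.1 hu ≫ pullback.fst φ.hom.left ψ.hom.left = u1.1 :=
      pullback.lift_fst _ _ _
    have h3 : (AlgSp.yon S).map (pullback.lift u1.1 u1.1 hu) ≫ (EtOver.pullbackObj φ ψ).obj.hom =
        p.toHom := by
      change (AlgSp.yon S).map _ ≫ (AlgSp.yon S).map _ ≫ E1.obj.hom = _
      rw [← Category.assoc, ← Functor.map_comp, h1]
      exact u1.2
    have hπ : EtOver.pullbackFst φ ψ = EtOver.pullbackSnd φ ψ := by
      have h0 := congrArg (· ≫ EtOver.prodFst E1 E2) (EtOver.pullback_condition φ ψ)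
      have e1 : (EtOver.pullbackFst φ ψ ≫ φ) ≫ EtOver.prodFst E1 E2 = EtOver.pullbackFst φ ψ :=
        (Category.assoc _ _ _).trans ((congrArg (EtOver.pullbackFst φ ψ ≫ ·) hφ1).trans
          (Category.comp_id _))
      have e2 : (EtOver.pullbackSnd φ ψ ≫ ψ) ≫ EtOver.prodFst E1 E2 = EtOver.pullbackSnd φ ψ :=
        (Category.assoc _ _ _).trans ((congrArg (EtOver.pullbackSnd φ ψ ≫ ·) hψ1).trans
          (Category.comp_id _))
      exact e1.symm.trans (h0.trans e2)
    have hfg : EtOver.pullbackFst φ ψ ≫ f = EtOver.pullbackFst φ ψ ≫ g := by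
      have h0 := congrArg (· ≫ EtOver.prodSnd E1 E2) (EtOver.pullback_condition φ ψ)
      have e1 : (EtOver.pullbackFst φ ψ ≫ φ) ≫ EtOver.prodSnd E1 E2 = EtOver.pullbackFst φ ψ ≫ f :=
        (Category.assoc _ _ _).trans (congrArg (EtOver.pullbackFst φ ψ ≫ ·) hφ2)
      have e2 : (EtOver.pullbackSnd φ ψ ≫ ψ) ≫ EtOver.prodSnd E1 E2 = EtOver.pullbackSnd φ ψ ≫ g :=
        (Category.assoc _ _ _).trans (congrArg (EtOver.pullbackSnd φ ψ ≫ ·) hψ2)
      have e3 := e1.symm.trans (h0.trans e2)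
      rw [← hπ] at e3
      exact e3
    refine ⟨⟨EtOver.pullbackObj φ ψ, ⟨pullback.lift u1.1 u1.1 hu, h3⟩⟩,
      ⟨EtOver.pullbackFst φ ψ, Subtype.ext h1⟩, ?_⟩
    exact Subtype.ext hfg

/-- The etale neighbourhoods of a geometric point of an algebraic space form a cofiltered category. -/
theorem isCofiltered_etNbhd {X : AlgSp.Sp S} (hX : AlgSp.IsAlgSpace X) (p : AlgSp.FieldPt X)
    (hp : p.IsGeometric) : IsCofiltered (AlgSp.EtNbhd p) := by
  haveI := isCofilteredOrEmpty_etNbhd p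
  obtain ⟨U, a, hae, has⟩ := hX.atlas
  obtain ⟨u, hu⟩ := surjective_ofPt a has (AlgSp.Points.mk p)
  obtain ⟨ubar, hubar, -⟩ := exists_lift_of_isGeometric a hae p hp u hu
  haveI : Nonempty (AlgSp.EtNbhd p) := ⟨⟨AlgSp.EtOver.mk a hae, ⟨ubar, hubar⟩⟩⟩
  exact {}

end Groth.Agent.Lib.H15.AS
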