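import Mathlib
import Groth.Prelude.Def_AlgSp
import Groth.Prelude.Def_AlgSp2
import Groth.Prelude.Def_AlgSp3
import Groth.Prelude.Def_AlgSp4
import Groth.Prelude.Def_AlgSpDec
import Groth.Prelude.Def_AlgSpEt
import Groth.Prelude.Def_AlgSpOX3
import Groth.Agent.Lib.helper15.AlgSpEtPoint

set_option autoImplicit false
universe u
open CategoryTheory CategoryTheory.Limits AlgebraicGeometry Opposite Topology

namespace Groth.Agent.Lib.H15.AS

variable {S : Scheme.{u}}

open AlgSp in
/-- Lifts of a geometric point are jointly surjective on covering sieves of the small etale site. -/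
theorem liftsTo_jointly_surjective {X : AlgSp.Sp S} (p : AlgSp.FieldPt X) (hp : p.IsGeometric)
    {E : AlgSp.EtOver X} (R : Sieve E) (h : R ∈ AlgSp.etTop X E) (x : (AlgSp.FieldPt.liftsTo p).obj E) :
    ∃ (Y : AlgSp.EtOver X) (f : Y ⟶ E) (_ : R f) (y : (AlgSp.FieldPt.liftsTo p).obj Y),
      (AlgSp.FieldPt.liftsTo p).map f y = x := by
  unfold AlgSp.etTop at h
  rw [Precoverage.mem_toGrothendieck_iff_of_isStableUnderComposition] at h
  obtain ⟨R', hR', hle⟩ := h
  obtain ⟨ι, Y, g, rfl⟩ := R'.exists_eq_ofArrows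
  rw [AlgSp.ofArrows_mem_etPre_iff] at hR'
  obtain ⟨i, w, hw⟩ := hR' (x.1.left (IsLocalRing.closedPoint p.K))
  obtain ⟨wbar, hwbar⟩ := exists_lift_of_etale_of_isGeometric p hp (g i).hom.left
    (AlgSp.EtOver.etale_left (g i)) x.1 w hw
  refine ⟨Y i, g i, hle _ _ ⟨i⟩, ⟨wbar, ?_⟩, Subtype.ext hwbar⟩
  rw [← AlgSp.EtOver.w (g i), ← Category.assoc, ← Functor.map_comp, hwbar]
  exact x.2

end Groth.Agent.Lib.H15.AS

namespace Groth.Agent.Lib.H15.AS

variable {S : Scheme.{u}}

open AlgSp in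
/-- The category of etale neighbourhoods of a geometric point of an algebraic space is initially small: affine schemes etale
over a fixed atlas give a weakly initial essentially small family. -/
theorem initiallySmall_etNbhd {X : AlgSp.Sp S} (hX : AlgSp.IsAlgSpace X) (p : AlgSp.FieldPt X)
    (hp : p.IsGeometric) : InitiallySmall.{u} (AlgSp.EtNbhd p) := by
  haveI := isCofilteredOrEmpty_etNbhd p
  obtain ⟨U, a, hae, has⟩ := hX.atlas
  refine initiallySmall_of_essentiallySmall_weakly_initial_objectProperty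
    (Functor.Elements.precomp (Scheme.AffineEtale.Spec U.left ⋙ AlgSp.EtOver.ofChart a hae)
      (AlgSp.FieldPt.liftsTo p)).essImage ?_
  rintro ⟨E, ⟨ubar, hubar⟩⟩
  have ha : AlgSp.Representable a := hae.rep
  have sq := ha.isPullback' E.obj.hom
  have hsnde : Etale (ha.snd E.obj.hom).left := hae.property_snd _
  have hsnds : Surjective (ha.snd E.obj.hom).left := has.property_snd _
  have hfste : Etale (ha.fst' E.obj.hom).left :=
    ((AlgSp.repWith_iff _ _).1 E.property).2 a ((AlgSp.yon S).map (ha.snd _)) (ha.fst' _) sq.flip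
  obtain ⟨t, ht⟩ := hsnds.surj (ubar.left (IsLocalRing.closedPoint p.K))
  obtain ⟨tbar, htbar⟩ := exists_lift_of_etale_of_isGeometric p hp (ha.snd E.obj.hom) hsnde ubar t ht
  obtain ⟨R, j, hj, hjmem, -⟩ := Scheme.exists_affine_mem_range_and_range_subset
    (x := tbar.left (IsLocalRing.closedPoint p.K)) (U := ⊤) (by simp)
  haveI := hj
  have hss : Subsingleton ↥p.pt.left := (inferInstance : Subsingleton ↥(Spec (CommRingCat.of p.K)))
  have hsub : Set.range tbar.left ⊆ Set.range j := by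
    rintro _ ⟨s, rfl⟩
    rwa [Subsingleton.elim s (IsLocalRing.closedPoint p.K)]
  obtain ⟨y', hy'⟩ : ∃ y' : p.pt.left ⟶ Spec R, y' ≫ j = tbar.left :=
    ⟨IsOpenImmersion.lift j tbar.left hsub, IsOpenImmersion.lift_fac _ _ _⟩
  haveI : Etale (j ≫ (ha.fst' E.obj.hom).left) := inferInstance
  let A : Scheme.AffineEtale U.left := Scheme.AffineEtale.mk (j ≫ (ha.fst' E.obj.hom).left)
  have hT1 : (ha.fst' E.obj.hom).left ≫ U.hom = (ha.pullback E.obj.hom).hom := Over.w _
  have hT2 : (ha.snd E.obj.hom).left ≫ E.obj.left.hom = (ha.pullback E.obj.hom).hom := Over.w _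
  have hT3 : tbar.left ≫ (ha.pullback E.obj.hom).hom = p.pt.hom := Over.w tbar
  -- the open immersion as a morphism over `S`
  let jT : ((Scheme.AffineEtale.Spec U.left ⋙ AlgSp.EtOver.ofChart a hae).obj A).obj.left ⟶
      ha.pullback E.obj.hom := Over.homMk j (by
    change j ≫ (ha.pullback E.obj.hom).hom = (j ≫ (ha.fst' E.obj.hom).left) ≫ U.hom
    rw [Category.assoc, hT1])
  have hjT1 : jT ≫ ha.fst' E.obj.hom = AlgSp.EtOver.homOfEtale ((Scheme.AffineEtale.Spec U.left).obj A) :=
    Over.OverMorphism.ext rfl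
  -- the lift of the point
  let l : p.pt ⟶ ((Scheme.AffineEtale.Spec U.left ⋙ AlgSp.EtOver.ofChart a hae).obj A).obj.left :=
    Over.homMk y' (by
      change _ ≫ (j ≫ (ha.fst' E.obj.hom).left) ≫ U.hom = p.pt.hom
      rw [← Category.assoc, ← Category.assoc, hy', Category.assoc, hT1, hT3])
  have hl : l ≫ jT = tbar := Over.OverMorphism.ext (show l.left ≫ jT.left = tbar.left from hy')
  have hlmem : (AlgSp.yon S).map l ≫
      ((Scheme.AffineEtale.Spec U.left ⋙ AlgSp.EtOver.ofChart a hae).obj A).obj.hom = p.toHom := by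
    change (AlgSp.yon S).map l ≫ (AlgSp.yon S).map (AlgSp.EtOver.homOfEtale _) ≫ a = _
    rw [← hjT1, Functor.map_comp, Category.assoc, sq.w, ← Category.assoc, ← Category.assoc,
      ← Functor.map_comp, ← Functor.map_comp, hl, htbar]
    exact hubar
  let Z : (Scheme.AffineEtale.Spec U.left ⋙ AlgSp.EtOver.ofChart a hae ⋙
      AlgSp.FieldPt.liftsTo p).Elements := ⟨A, ⟨l, hlmem⟩⟩
  refine ⟨_, Functor.obj_mem_essImage _ Z, ⟨?_⟩⟩
  refine ⟨AlgSp.EtOver.homMk (jT ≫ ha.snd E.obj.hom) ?_, Subtype.ext ?_⟩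
  · change (AlgSp.yon S).map _ ≫ E.obj.hom = (AlgSp.yon S).map (AlgSp.EtOver.homOfEtale _) ≫ a
    rw [← hjT1]
    exact (congrArg (· ≫ E.obj.hom) ((AlgSp.yon S).map_comp jT (ha.snd _))).trans
      ((Category.assoc _ _ _).trans ((congrArg ((AlgSp.yon S).map jT ≫ ·) sq.w.symm).trans
        ((Category.assoc _ _ _).symm.trans
          (congrArg (· ≫ a) ((AlgSp.yon S).map_comp jT (ha.fst' _)).symm))))
  · change l ≫ jT ≫ ha.snd E.obj.hom = ubar
    rw [← Category.assoc, hl, htbar]

end Groth.Agent.Lib.H15.AS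

namespace Groth.Agent.Lib.H15.AS

variable {S : Scheme.{u}}

/-- The point of the small etale site of an algebraic space defined by a geometric point. -/
noncomputable def etPoint {X : AlgSp.Sp S} (hX : AlgSp.IsAlgSpace X) (p : AlgSp.FieldPt X)
    (hp : p.IsGeometric) : GrothendieckTopology.Point.{u} (AlgSp.etTop X) where
  fiber := AlgSp.FieldPt.liftsTo p
  isCofiltered := isCofiltered_etNbhd hX p hp
  initiallySmall := initiallySmall_etNbhd hX p hp
  jointly_surjective R h x := liftsTo_jointly_surjective p hp R h x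

@[simp] theorem etPoint_fiber {X : AlgSp.Sp S} (hX : AlgSp.IsAlgSpace X) (p : AlgSp.FieldPt X)
    (hp : p.IsGeometric) : (etPoint hX p hp).fiber = AlgSp.FieldPt.liftsTo p := rfl

end Groth.Agent.Lib.H15.AS
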