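import Mathlib
import Groth.Prelude.Def_AlgSp
import Groth.Prelude.Def_AlgSp2
import Groth.Prelude.Def_AlgSp3
import Groth.Prelude.Def_AlgSp4
import Groth.Prelude.Def_AlgSpDec
import Groth.Prelude.Def_AlgSpEt
import Groth.Prelude.Def_AlgSpOX3
import Groth.Agent.Lib.helper15.AlgSpEtPoint2

set_option autoImplicit false
universe u
open CategoryTheory CategoryTheory.Limits AlgebraicGeometry Opposite Topology

namespace Groth.Agent.Lib.H15.AS

variable {S : Scheme.{u}}

/-- Every point of an object of the small etale site is the image of a lift of some geometric point of `X`. -/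
theorem exists_geometric_lift {X : AlgSp.Sp S} (E : AlgSp.EtOver X) (e : ↥E.obj.left.left) :
    ∃ (p : AlgSp.FieldPt X) (_ : p.IsGeometric) (x : (AlgSp.FieldPt.liftsTo p).obj E),
      x.1.left (IsLocalRing.closedPoint p.K) = e := by
  let K : Type u := AlgebraicClosure (E.obj.left.left.residueField e)
  let φ : E.obj.left.left.residueField e ⟶ CommRingCat.of K :=
    CommRingCat.ofHom (algebraMap (E.obj.left.left.residueField e) K)
  let ι : Spec (CommRingCat.of K) ⟶ E.obj.left.left :=
    Spec.map φ ≫ E.obj.left.left.fromSpecResidueField e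
  let str : Spec (CommRingCat.of K) ⟶ S := ι ≫ E.obj.left.hom
  let ιO : Over.mk str ⟶ E.obj.left := Over.homMk ι rfl
  let p : AlgSp.FieldPt X :=
    ⟨K, str, (AlgSp.J S).uliftYonedaEquiv ((AlgSp.yon S).map ιO ≫ E.obj.hom)⟩
  have hp : p.toHom = (AlgSp.yon S).map ιO ≫ E.obj.hom := Equiv.symm_apply_apply _ _
  refine ⟨p, (inferInstance : IsAlgClosed K), ⟨ιO, hp.symm⟩, ?_⟩
  change ι _ = e
  rw [Scheme.Hom.comp_apply, Scheme.fromSpecResidueField_apply]

/-- A sieve of the small etale site through which all lifts of all geometric points factor is covering. -/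
theorem mem_etTop_of_forall_geometric {X : AlgSp.Sp S} {E : AlgSp.EtOver X} (R : Sieve E)
    (H : ∀ (p : AlgSp.FieldPt X) (_ : p.IsGeometric) (x : (AlgSp.FieldPt.liftsTo p).obj E),
      ∃ (Y : AlgSp.EtOver X) (g : Y ⟶ E) (_ : R g) (y : (AlgSp.FieldPt.liftsTo p).obj Y),
        (AlgSp.FieldPt.liftsTo p).map g y = x) : R ∈ AlgSp.etTop X E := by
  choose p hp x hx using exists_geometric_lift E
  choose Y g hg y hy using fun e => H (p e) (hp e) (x e)
  have hcov : Sieve.ofArrows Y g ∈ AlgSp.etTop X E := by
    refine AlgSp.ofArrows_mem_etTop Y g fun e => ⟨e, (y e).1.left (IsLocalRing.closedPoint (p e).K), ?_⟩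
    have h1 : (y e).1 ≫ (g e).hom.left = (x e).1 := congrArg Subtype.val (hy e)
    have h2 : ((y e).1 ≫ (g e).hom.left).left (IsLocalRing.closedPoint (p e).K) = e := by
      rw [h1]
      exact hx e
    exact h2
  refine (AlgSp.etTop X).superset_covering ?_ hcov
  rw [Sieve.generate_le_iff, Presieve.ofArrows_le_iff]
  exact fun e => hg e

end Groth.Agent.Lib.H15.AS
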