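import Mathlib
import Groth.Prelude.Def_AlgSp
import Groth.Prelude.Def_AlgSp2
import Groth.Prelude.Def_AlgSp3
import Groth.Prelude.Def_AlgSp4
import Groth.Prelude.Def_AlgSpDec
import Groth.Prelude.Def_AlgSpEt
import Groth.Prelude.Def_AlgSpOX3
import Groth.Agent.Lib.helper15.AlgSpEtPoint3

set_option autoImplicit false
universe u
open CategoryTheory CategoryTheory.Limits AlgebraicGeometry Opposite Topology

namespace Groth.Agent.Lib.H15.AS

variable {S : Scheme.{u}}

/-- The image in `|X|` of the closed point under a lift of `p` to an etale `E ⟶ X` is the class of `p`. -/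
theorem ofPt_liftsTo {X : AlgSp.Sp S} (p : AlgSp.FieldPt X) {E : AlgSp.EtOver X}
    (l : (AlgSp.FieldPt.liftsTo p).obj E) (s : ↥p.pt.left) :
    AlgSp.Points.ofPt E.obj.hom (l.1.left s) = AlgSp.Points.mk p := by
  rw [← ofPt_yon_map_comp, l.2]
  exact AlgSp.Points.ofPt_toHom p s

/-- A lift of `p` to `E` lifts further along any morphism `φ : V ⟶ E` of the small etale site whose image contains the
image of the closed point. -/
theorem exists_liftsTo_of_mem_range {X : AlgSp.Sp S} (p : AlgSp.FieldPt X) (hp : p.IsGeometric)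
    {V E : AlgSp.EtOver X} (φ : V ⟶ E) (l : (AlgSp.FieldPt.liftsTo p).obj E) (v : ↥V.obj.left.left)
    (hv : φ.hom.left.left v = l.1.left (IsLocalRing.closedPoint p.K)) :
    ∃ y : (AlgSp.FieldPt.liftsTo p).obj V, (AlgSp.FieldPt.liftsTo p).map φ y = l := by
  obtain ⟨wbar, hwbar⟩ := exists_lift_of_etale_of_isGeometric p hp φ.hom.left
    (AlgSp.EtOver.etale_left φ) l.1 v hv
  refine ⟨⟨wbar, ?_⟩, Subtype.ext hwbar⟩
  rw [← AlgSp.EtOver.w φ, ← Category.assoc, ← Functor.map_comp, hwbar]
  exact l.2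

end Groth.Agent.Lib.H15.AS
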