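import Mathlib
import Groth.Prelude.Def_AlgSp
import Groth.Prelude.Def_AlgSp2
import Groth.Prelude.Def_AlgSp3
import Groth.Prelude.Def_AlgSp4
import Groth.Prelude.Def_AlgSpDec
import Groth.Prelude.Def_AlgSpEt
import Groth.Prelude.Def_AlgSpOX
import Groth.Prelude.Def_AlgSpOX3
import Groth.Agent.Lib.helper15.AlgSpEtPoint4

set_option autoImplicit false
universe u
open CategoryTheory CategoryTheory.Limits AlgebraicGeometry Opposite Topology

namespace Groth.Agent.Lib.H15.AS

variable {S : Scheme.{u}}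

/-- An open subscheme of an object of the small etale site, as an object of the site. -/
noncomputable def etOpen {X : AlgSp.Sp S} (E : AlgSp.EtOver X) (W : E.obj.left.left.Opens) :
    AlgSp.EtOver X :=
  AlgSp.EtOver.mk ((AlgSp.yon S).map (overOpenι E.obj.left W) ≫ E.obj.hom)
    (repWith_yon_map_comp @Etale (overOpenι E.obj.left W) E.obj.hom
      (by change Etale W.ι; infer_instance) E.property)

/-- The inclusion of an open subscheme, as a morphism of the small etale site. -/
noncomputable def etOpenι {X : AlgSp.Sp S} (E : AlgSp.EtOver X) (W : E.obj.left.left.Opens) :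
    etOpen E W ⟶ E :=
  AlgSp.EtOver.homMk (overOpenι E.obj.left W) rfl

theorem etOpenι_left {X : AlgSp.Sp S} (E : AlgSp.EtOver X) (W : E.obj.left.left.Opens) :
    (etOpenι E W).hom.left.left = W.ι := rfl

theorem etOpen_left {X : AlgSp.Sp S} (E : AlgSp.EtOver X) (W : E.obj.left.left.Opens) :
    (etOpen E W).obj.left.left = (W : Scheme.{u}) := rfl

/-- A family of opens covering an object of the small etale site is a covering. -/
theorem ofArrows_etOpen_mem_etTop {X : AlgSp.Sp S} (E : AlgSp.EtOver X) {ι : Type*}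
    (W : ι → E.obj.left.left.Opens) (h : ∀ x : ↥E.obj.left.left, ∃ i, x ∈ W i) :
    Sieve.ofArrows (fun i => etOpen E (W i)) (fun i => etOpenι E (W i)) ∈ AlgSp.etTop X E := by
  refine AlgSp.ofArrows_mem_etTop _ _ fun x => ?_
  obtain ⟨i, hi⟩ := h x
  exact ⟨i, ⟨⟨x, hi⟩, rfl⟩⟩

/-- Arrows in the sieve generated by a family of opens have range in one of the opens. -/
theorem range_subset_of_ofArrows_etOpen {X : AlgSp.Sp S} (E : AlgSp.EtOver X) {ι : Type*}
    (W : ι → E.obj.left.left.Opens) {V : AlgSp.EtOver X} (g : V ⟶ E)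
    (hg : Sieve.ofArrows (fun i => etOpen E (W i)) (fun i => etOpenι E (W i)) g) :
    ∃ i, Set.range g.hom.left.left ⊆ (W i : Set ↥E.obj.left.left) := by
  obtain ⟨Y, h, _, ⟨i⟩, rfl⟩ := hg
  refine ⟨i, ?_⟩
  rintro _ ⟨v, rfl⟩
  exact (h.hom.left.left v).2

/-- The empty sieve covers an object of the small etale site with empty underlying scheme. -/
theorem bot_mem_etTop_of_isEmpty {X : AlgSp.Sp S} (E : AlgSp.EtOver X)
    (hE : IsEmpty ↥E.obj.left.left) : (⊥ : Sieve E) ∈ AlgSp.etTop X E := by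
  have h := AlgSp.ofArrows_mem_etTop (X := X) (E := E) (ι := PEmpty.{1}) (fun i => i.elim)
    (fun i => i.elim) (fun x => (hE.false x).elim)
  refine (AlgSp.etTop X).superset_covering ?_ h
  rintro Y g ⟨_, _, _, ⟨i⟩, _⟩
  exact i.elim

end Groth.Agent.Lib.H15.AS

namespace Groth.Agent.Lib.H15

/-- A global function pulls back to a unit along a morphism with range in its basic open. -/
theorem isUnit_appTop_of_range_subset {Y T : Scheme.{u}} (φ : Y ⟶ T) (f : Γ(T, ⊤))
    (h : Set.range φ ⊆ (T.basicOpen f : Set ↥T)) : IsUnit (φ.appTop f) := by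
  have h1 : Y.basicOpen (φ.appTop f) = ⊤ := by
    rw [← Scheme.preimage_basicOpen_top]
    ext y
    simp only [TopologicalSpace.Opens.coe_top, Set.mem_univ, iff_true]
    exact h ⟨y, rfl⟩
  refine Y.toRingedSpace.isUnit_of_isUnit_germ ⊤ _ fun x hx => ?_
  have hx' : x ∈ Y.basicOpen (φ.appTop f) := by rw [h1]; trivial
  exact (Y.mem_basicOpen_top _ x).1 hx'

/-- A scheme on which `0 = 1` as global functions is empty. -/
theorem isEmpty_of_zero_eq_one (T : Scheme.{u}) (h : (0 : Γ(T, ⊤)) = 1) : IsEmpty ↥T := by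
  refine ⟨fun x => ?_⟩
  have h0 : T.basicOpen (0 : Γ(T, ⊤)) = ⊥ := T.basicOpen_zero ⊤
  have h1 : T.basicOpen (1 : Γ(T, ⊤)) = ⊤ := T.basicOpen_one
  rw [h, h1] at h0
  have : x ∈ (⊤ : T.Opens) := trivial
  rw [h0] at this
  exact this

end Groth.Agent.Lib.H15
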