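import Mathlib
import Groth.Prelude.Def_AlgSp
import Groth.Prelude.Def_AlgSp2
import Groth.Prelude.Def_AlgSp3
import Groth.Prelude.Def_AlgSp4
import Groth.Prelude.Def_AlgSpDec
import Groth.Prelude.Def_AlgSpEt
import Groth.Prelude.Def_AlgSpOX
import Groth.Prelude.Def_AlgSpOX3
import Groth.Agent.Lib.helper15.AlgSpEtOpen

set_option autoImplicit false
universe u
open CategoryTheory CategoryTheory.Limits AlgebraicGeometry Opposite Topology

namespace Groth.Agent.Lib.H15.AS

variable {S : Scheme.{u}}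

open AlgSp AlgSp.EtOver in
/-- `postcomp` takes the chosen fibre product squares of the small etale site to pullback squares. -/
theorem isPullback_postcomp {X Y : AlgSp.Sp S} (f : X ⟶ Y) (hf : AlgSp.IsEtaleMor f)
    {E₁ E₂ E₀ : AlgSp.EtOver X} (g₁ : E₁ ⟶ E₀) (g₂ : E₂ ⟶ E₀) :
    IsPullback ((postcomp f hf).map (pullbackFst g₁ g₂)) ((postcomp f hf).map (pullbackSnd g₁ g₂))
      ((postcomp f hf).map g₁) ((postcomp f hf).map g₂) := by
  have hc : (postcomp f hf).map (pullbackFst g₁ g₂) ≫ (postcomp f hf).map g₁ =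
      (postcomp f hf).map (pullbackSnd g₁ g₂) ≫ (postcomp f hf).map g₂ := by
    rw [← Functor.map_comp, ← Functor.map_comp, pullback_condition]
  refine IsPullback.of_isLimit (c := PullbackCone.mk _ _ hc) (PullbackCone.IsLimit.mk _
    (fun s => homMk (pullback.lift s.fst.hom.left s.snd.hom.left
      (congrArg (fun k => k.hom.left) s.condition)) ?_) ?_ ?_ ?_)
  · change (yon S).map _ ≫ ((yon S).map (pullback.fst g₁.hom.left g₂.hom.left) ≫ E₁.obj.hom) ≫ f =
      s.pt.obj.hom
    have h1 : (yon S).map (pullback.lift s.fst.hom.left s.snd.hom.left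
        (congrArg (fun k => k.hom.left) s.condition)) ≫
        (yon S).map (pullback.fst g₁.hom.left g₂.hom.left) = (yon S).map s.fst.hom.left :=
      ((yon S).map_comp _ _).symm.trans (congrArg (yon S).map (pullback.lift_fst _ _ _))
    have h2 : (yon S).map s.fst.hom.left ≫ E₁.obj.hom ≫ f = s.pt.obj.hom := w s.fst
    rw [← h2, ← h1]
    exact (congrArg (_ ≫ ·) (Category.assoc _ _ _)).trans (Category.assoc _ _ _).symm
  · intro s
    exact hom_ext _ _ (pullback.lift_fst _ _ _)
  · intro s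
    exact hom_ext _ _ (pullback.lift_snd _ _ _)
  · intro s m h₁ h₂
    exact hom_ext _ _ (pullback.hom_ext
      ((congrArg (fun k => k.hom.left) h₁).trans (pullback.lift_fst _ _ _).symm)
      ((congrArg (fun k => k.hom.left) h₂).trans (pullback.lift_snd _ _ _).symm))

open AlgSp AlgSp.EtOver in
instance preservesLimit_cospan_postcomp {X Y : AlgSp.Sp S} (f : X ⟶ Y) (hf : AlgSp.IsEtaleMor f)
    {E₁ E₂ E₀ : AlgSp.EtOver X} (g₁ : E₁ ⟶ E₀) (g₂ : E₂ ⟶ E₀) :
    PreservesLimit (cospan g₁ g₂) (postcomp f hf) :=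
  preservesLimit_of_preserves_limit_cone (pullbackIsLimit g₁ g₂)
    ((isLimitMapConePullbackConeEquiv _ _).symm (isPullback_postcomp f hf g₁ g₂).isLimit)

open AlgSp AlgSp.EtOver in
/-- `postcomp` preserves fibre products. -/
instance preservesPullbacks_postcomp {X Y : AlgSp.Sp S} (f : X ⟶ Y) (hf : AlgSp.IsEtaleMor f) :
    PreservesLimitsOfShape WalkingCospan (postcomp f hf) where
  preservesLimit {K} := preservesLimit_of_iso_diagram _ (diagramIsoCospan K).symm

open AlgSp AlgSp.EtOver in
theorem etPre_le_comap_postcomp {X Y : AlgSp.Sp S} (f : X ⟶ Y) (hf : AlgSp.IsEtaleMor f) :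
    etPre X ≤ (etPre Y).comap (postcomp f hf) := by
  intro E R hR
  obtain ⟨ι, Y', g, rfl⟩ := R.exists_eq_ofArrows
  rw [Precoverage.mem_comap_iff, Presieve.map_ofArrows]
  rw [ofArrows_mem_etPre_iff] at hR ⊢
  exact hR

open AlgSp AlgSp.EtOver in
/-- `postcomp` along an etale morphism is continuous. -/
theorem postcomp_isContinuous {X Y : AlgSp.Sp S} (f : X ⟶ Y) (hf : AlgSp.IsEtaleMor f) :
    (postcomp f hf).IsContinuous (etTop X) (etTop Y) := by
  change (postcomp f hf).IsContinuous (etPre X).toGrothendieck (etPre Y).toGrothendieck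
  exact Functor.isContinuous_toGrothendieck_of_pullbacksPreservedBy _ _ _ (etPre_le_comap_postcomp f hf)

open AlgSp AlgSp.EtOver in
/-- `postcomp` along an etale morphism is cocontinuous. -/
theorem postcomp_isCocontinuous {X Y : AlgSp.Sp S} (f : X ⟶ Y) (hf : AlgSp.IsEtaleMor f) :
    (postcomp f hf).IsCocontinuous (etTop X) (etTop Y) where
  cover_lift := by
    intro E R hR
    unfold etTop at hR
    rw [Precoverage.mem_toGrothendieck_iff_of_isStableUnderComposition] at hR
    obtain ⟨R', hR', hle⟩ := hR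
    obtain ⟨ι, Y', g, rfl⟩ := R'.exists_eq_ofArrows
    rw [ofArrows_mem_etPre_iff] at hR'
    let E' : ι → EtOver X := fun i => EtOver.mk ((yon S).map (g i).hom.left ≫ E.obj.hom)
      (repWith_yon_map_comp @Etale (g i).hom.left E.obj.hom (etale_left (g i)) E.property)
    let h : ∀ i, E' i ⟶ E := fun i => EtOver.homMk (g i).hom.left rfl
    have hcov : Sieve.ofArrows E' h ∈ etTop X E := ofArrows_mem_etTop E' h hR'
    refine (etTop X).superset_covering ?_ hcov
    rintro Z k ⟨_, k', _, ⟨i⟩, rfl⟩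
    change R.arrows ((postcomp f hf).map (k' ≫ h i))
    let e : (postcomp f hf).obj (E' i) ⟶ Y' i := EtOver.homMk (𝟙 _) (by
      change (yon S).map (𝟙 _) ≫ (Y' i).obj.hom = ((yon S).map (g i).hom.left ≫ E.obj.hom) ≫ f
      rw [CategoryTheory.Functor.map_id, Category.id_comp, Category.assoc]
      exact (w (g i)).symm)
    have he : (postcomp f hf).map (k' ≫ h i) = ((postcomp f hf).map k' ≫ e) ≫ g i := by
      apply hom_ext
      change k'.hom.left ≫ (g i).hom.left = (k'.hom.left ≫ 𝟙 _) ≫ (g i).hom.left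
      rw [Category.comp_id]
    rw [he]
    exact R.downward_closed (hle _ _ ⟨i⟩) _

end Groth.Agent.Lib.H15.AS
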