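import Mathlib
import Groth.Prelude.Def_AlgSp
import Groth.Prelude.Def_AlgSp2
import Groth.Prelude.Def_AlgSp3
import Groth.Prelude.Def_AlgSp4
import Groth.Agent.Lib.helper15.AlgSpOpenSub3
import Groth.Agent.Lib.helper15.AlgSpMono

set_option autoImplicit false
universe u
open CategoryTheory CategoryTheory.Limits AlgebraicGeometry Opposite Topology

namespace Groth.Agent.Lib.H15.AS

variable {S : Scheme.{u}}

/-- A represented pullback square of sheaves gives a pullback square of schemes. -/
theorem scheme_isPullback_of_isPullback {A B C D : Over S} {f₁ : A ⟶ B} {f₂ : A ⟶ C} {g₁ : B ⟶ D}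
    {g₂ : C ⟶ D}
    (sq : IsPullback ((AlgSp.yon S).map f₁) ((AlgSp.yon S).map f₂) ((AlgSp.yon S).map g₁)
      ((AlgSp.yon S).map g₂)) : IsPullback f₁.left f₂.left g₁.left g₂.left := by
  have h1 : IsPullback f₁ f₂ g₁ g₂ := IsPullback.of_map_of_faithful (AlgSp.yon S) sq
  exact h1.map (Over.forget S)

/-- A monomorphism from a nonempty algebraic space to the spectrum of a field is an isomorphism. -/
theorem isIso_of_mono_to_field {k : Type u} [Field k] (str : Spec (CommRingCat.of k) ⟶ S)
    {Z : AlgSp.Sp S} (hZ : AlgSp.IsAlgSpace Z) (f : Z ⟶ (AlgSp.yon S).obj (Over.mk str)) [Mono f]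
    (hne : Nonempty (AlgSp.Points Z)) : IsIso f := by
  obtain ⟨U, p, hpe, hps⟩ := hZ.atlas
  obtain ⟨z⟩ := hne
  obtain ⟨u, -⟩ := surjective_ofPt p hps z
  obtain ⟨W0, ⟨W', hW', rfl⟩, huW', -⟩ := U.left.isBasis_affineOpens.exists_subset_of_mem_open
    (Set.mem_univ u) isOpen_univ
  obtain ⟨W, hWW'⟩ : ∃ W : U.left.Opens, W = W' := ⟨W', rfl⟩
  have hW : IsAffineOpen W := hWW' ▸ hW'
  have huW : u ∈ W := hWW' ▸ huW'
  have hWaff : IsAffine (W : Scheme.{u}) := hW
  have hp₀e : AlgSp.RepWith @Etale ((AlgSp.yon S).map (overOpenι U W) ≫ p) :=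
    repWith_yon_map_comp @Etale _ _ (by change Etale W.ι; infer_instance) hpe
  obtain ⟨φ, hφ⟩ := (AlgSp.yon S).map_surjective (((AlgSp.yon S).map (overOpenι U W) ≫ p) ≫ f)
  have hrep : AlgSp.Representable ((AlgSp.yon S).map (overOpenι U W) ≫ p) := hp₀e.rep
  have sq := hrep.isPullback' ((AlgSp.yon S).map (overOpenι U W) ≫ p)
  have hsnd : Etale (hrep.snd ((AlgSp.yon S).map (overOpenι U W) ≫ p)).left := hp₀e.property_snd _
  have sq2 : IsPullback ((AlgSp.yon S).map (hrep.fst' ((AlgSp.yon S).map (overOpenι U W) ≫ p)))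
      ((AlgSp.yon S).map (hrep.snd ((AlgSp.yon S).map (overOpenι U W) ≫ p)))
      ((AlgSp.yon S).map φ) ((AlgSp.yon S).map φ) := by
    rw [hφ]
    exact IsKernelPair.comp_of_mono sq
  have sq3 := scheme_isPullback_of_isPullback sq2
  have hsub : Subsingleton ↥(Over.mk str).left := by
    change Subsingleton ↥(Spec (CommRingCat.of k))
    infer_instance
  have hint : IsIntegral (Over.mk str).left := by
    change IsIntegral (Spec (CommRingCat.of k))
    infer_instance
  have hflat : Flat φ.left := inferInstance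
  have hsurj : Surjective φ.left := by
    refine ⟨fun y => ⟨⟨u, huW⟩, Subsingleton.elim _ _⟩⟩
  have hcpt : CompactSpace ↥(overOpen U W).left := by
    change CompactSpace ↥(W : Scheme.{u})
    infer_instance
  have hqs : QuasiSeparatedSpace ↥(Over.mk str).left := by
    change QuasiSeparatedSpace ↥(Spec (CommRingCat.of k))
    infer_instance
  have hqc : QuasiCompact φ.left := inferInstance
  have hφe : Etale φ.left :=
    MorphismProperty.of_isPullback_of_descendsAlong (P := @Etale)
      (Q := (@Surjective ⊓ @Flat ⊓ @QuasiCompact : MorphismProperty Scheme.{u})) sq3.flip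
      ⟨⟨hsurj, hflat⟩, hqc⟩ hsnd
  have hepi : Epi ((AlgSp.yon S).map φ) :=
    epi_of_repWith_etale_surjective _ ((AlgSp.repWith_yon_map_iff @Etale φ).2 hφe)
      ((AlgSp.repWith_yon_map_iff @Surjective φ).2 hsurj)
  have hepif : Epi f := by
    rw [hφ] at hepi
    exact epi_of_epi ((AlgSp.yon S).map (overOpenι U W) ≫ p) f
  exact isIso_of_mono_of_epi f

end Groth.Agent.Lib.H15.AS
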