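import Mathlib

set_option autoImplicit false
universe v u
open CategoryTheory CategoryTheory.Limits

namespace Groth.Agent.Lib.H15.AS

variable {D : Type u} [Category.{v} D] [HasPullbacks D]

/-- The relative diagonal of a base change is the base change of the relative diagonal. -/
theorem isPullback_diagonal_of_isPullback {P X V Y : D} {fst : P ⟶ X} {snd : P ⟶ V} {f : X ⟶ Y}
    {p : V ⟶ Y} (sq : IsPullback fst snd f p) :
    IsPullback fst (pullback.diagonal snd) (pullback.diagonal f)
      (pullback.map snd snd f f fst fst p sq.w.symm sq.w.symm) := by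
  have key : ∀ s : PullbackCone (pullback.diagonal f) (pullback.map snd snd f f fst fst p sq.w.symm sq.w.symm),
      s.fst = s.snd ≫ pullback.fst snd snd ≫ fst ∧ s.fst = s.snd ≫ pullback.snd snd snd ≫ fst := by
    intro s
    have h1 := congrArg (· ≫ pullback.fst f f) s.condition
    have h2 := congrArg (· ≫ pullback.snd f f) s.condition
    simp only [Category.assoc, pullback.diagonal_fst, pullback.diagonal_snd, Category.comp_id,
      pullback.lift_fst, pullback.lift_snd] at h1 h2
    exact ⟨h1, h2⟩
  have hcond : ∀ s : PullbackCone (pullback.diagonal f) (pullback.map snd snd f f fst fst p sq.w.symm sq.w.symm),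
      s.fst ≫ f = (s.snd ≫ pullback.fst snd snd ≫ snd) ≫ p := by
    intro s
    have := congrArg (· ≫ f) (key s).1
    simp only [Category.assoc] at this
    rw [this]
    simp only [Category.assoc, sq.w]
  refine ⟨⟨?_⟩, ⟨PullbackCone.IsLimit.mk _
    (fun s => sq.lift s.fst (s.snd ≫ pullback.fst snd snd ≫ snd) (hcond s)) ?_ ?_ ?_⟩⟩
  · apply pullback.hom_ext
    · rw [Category.assoc, pullback.diagonal_fst, Category.comp_id, Category.assoc, pullback.lift_fst,
        ← Category.assoc, pullback.diagonal_fst, Category.id_comp]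
    · rw [Category.assoc, pullback.diagonal_snd, Category.comp_id, Category.assoc, pullback.lift_snd,
        ← Category.assoc, pullback.diagonal_snd, Category.id_comp]
  · intro s
    exact sq.lift_fst _ _ _
  · intro s
    apply pullback.hom_ext
    · rw [Category.assoc, pullback.diagonal_fst, Category.comp_id]
      apply sq.hom_ext
      · rw [sq.lift_fst, Category.assoc]; exact (key s).1
      · rw [sq.lift_snd, Category.assoc]
    · rw [Category.assoc, pullback.diagonal_snd, Category.comp_id]
      apply sq.hom_ext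
      · rw [sq.lift_fst, Category.assoc]; exact (key s).2
      · rw [sq.lift_snd, Category.assoc, pullback.condition]
  · intro s m h1 h2
    apply sq.hom_ext
    · rw [sq.lift_fst]; exact h1
    · rw [sq.lift_snd, ← h2, Category.assoc, ← Category.assoc (pullback.diagonal snd),
        pullback.diagonal_fst, Category.id_comp]

/-- `P ×_V P` is the base change of `X ×_Y X` along `V ⟶ Y`. -/
theorem isPullback_map_of_isPullback {P X V Y : D} {fst : P ⟶ X} {snd : P ⟶ V} {f : X ⟶ Y}
    {p : V ⟶ Y} (sq : IsPullback fst snd f p) :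
    IsPullback (pullback.map snd snd f f fst fst p sq.w.symm sq.w.symm) (pullback.fst snd snd ≫ snd)
      (pullback.fst f f ≫ f) p := by
  have hc1 : ∀ s : PullbackCone (pullback.fst f f ≫ f) p,
      (s.fst ≫ pullback.fst f f) ≫ f = s.snd ≫ p := by
    intro s; rw [Category.assoc]; exact s.condition
  have hc2 : ∀ s : PullbackCone (pullback.fst f f ≫ f) p,
      (s.fst ≫ pullback.snd f f) ≫ f = s.snd ≫ p := by
    intro s; rw [Category.assoc, ← pullback.condition]; exact s.condition
  refine ⟨⟨?_⟩, ⟨PullbackCone.IsLimit.mk _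
    (fun s => pullback.lift (sq.lift (s.fst ≫ pullback.fst f f) s.snd (hc1 s))
      (sq.lift (s.fst ≫ pullback.snd f f) s.snd (hc2 s))
      (by rw [sq.lift_snd, sq.lift_snd])) ?_ ?_ ?_⟩⟩
  · rw [← Category.assoc, pullback.lift_fst, Category.assoc, Category.assoc, sq.w]
  · intro s
    apply pullback.hom_ext
    · rw [Category.assoc, pullback.lift_fst, ← Category.assoc, pullback.lift_fst, sq.lift_fst]
    · rw [Category.assoc, pullback.lift_snd, ← Category.assoc, pullback.lift_snd, sq.lift_fst]
  · intro s
    rw [← Category.assoc, pullback.lift_fst, sq.lift_snd]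
  · intro s m h1 h2
    apply pullback.hom_ext
    · rw [pullback.lift_fst]
      apply sq.hom_ext
      · rw [sq.lift_fst, ← h1, Category.assoc, Category.assoc, pullback.lift_fst]
      · rw [sq.lift_snd, ← h2, Category.assoc]
    · rw [pullback.lift_snd]
      apply sq.hom_ext
      · rw [sq.lift_fst, ← h1, Category.assoc, Category.assoc, pullback.lift_snd]
      · rw [sq.lift_snd, ← h2, Category.assoc]
        exact congrArg (m ≫ ·) pullback.condition.symm

/-- A map `g : T ⟶ X ×_Y X` factors through `P ×_T P`, where `P = X ×_Y T`. -/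
theorem exists_lift_to_diagonalObj {P X T Y : D} {f : X ⟶ Y} (g : T ⟶ pullback f f)
    {pfst : P ⟶ X} {psnd : P ⟶ T} (sq : IsPullback pfst psnd f (g ≫ pullback.fst f f ≫ f)) :
    ∃ g' : T ⟶ pullback psnd psnd,
      g' ≫ pullback.map psnd psnd f f pfst pfst (g ≫ pullback.fst f f ≫ f) sq.w.symm sq.w.symm = g := by
  have h1 : (g ≫ pullback.fst f f) ≫ f = 𝟙 T ≫ g ≫ pullback.fst f f ≫ f := by simp
  have h2 : (g ≫ pullback.snd f f) ≫ f = 𝟙 T ≫ g ≫ pullback.fst f f ≫ f := by
    simp [pullback.condition]
  refine ⟨pullback.lift (sq.lift (g ≫ pullback.fst f f) (𝟙 T) h1)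
    (sq.lift (g ≫ pullback.snd f f) (𝟙 T) h2) (by rw [sq.lift_snd, sq.lift_snd]), ?_⟩
  apply pullback.hom_ext
  · rw [Category.assoc, pullback.lift_fst, ← Category.assoc, pullback.lift_fst, sq.lift_fst]
  · rw [Category.assoc, pullback.lift_snd, ← Category.assoc, pullback.lift_snd, sq.lift_fst]

end Groth.Agent.Lib.H15.AS
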