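import Mathlib
import Groth.Prelude.Def_AlgSp
import Groth.Prelude.Def_AlgSp2
import Groth.Prelude.Def_AlgSp3
import Groth.Prelude.Def_AlgSp4
import Groth.Agent.Lib.helper15.AlgSpMonoField
import Groth.Agent.Lib.helper15.AlgSpDiag2
import Groth.Agent.Lib.helper15.CatDiag2

set_option autoImplicit false
universe u
open CategoryTheory CategoryTheory.Limits AlgebraicGeometry Opposite Topology

namespace Groth.Agent.Lib.H15.AS

variable {S : Scheme.{u}}

/-- If the diagonal of `h` is surjective on points then `h` is injective on points. -/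
theorem injective_points_map_of_surjective_diagonal {A B : AlgSp.Sp S} (h : A ⟶ B)
    (hΔ : AlgSp.IsSurjectiveMor (pullback.diagonal h)) : Function.Injective (AlgSp.Points.map h) := by
  intro x₁ x₂ e
  obtain ⟨z, hz1, hz2⟩ := points_exists_of_isPullback (IsPullback.of_hasPullback h h) x₁ x₂ e
  obtain ⟨x, rfl⟩ := hΔ z
  rw [← AlgSp.Points.map_comp, pullback.diagonal_fst, AlgSp.Points.map_id] at hz1
  rw [← AlgSp.Points.map_comp, pullback.diagonal_snd, AlgSp.Points.map_id] at hz2
  rw [← hz1, ← hz2]

/-- Surjectivity of the diagonal implies universal injectivity. -/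
theorem isUnivInjectiveMor_of_surjective_diagonal {X Y : AlgSp.Sp S} (f : X ⟶ Y)
    (hΔ : AlgSp.IsSurjectiveMor (pullback.diagonal f)) : AlgSp.IsUnivInjectiveMor f := by
  intro Z Z' _ g fst snd sq
  apply injective_points_map_of_surjective_diagonal
  exact isSurjectiveMor_of_isPullback (isPullback_diagonal_of_isPullback sq) hΔ

/-- Universal injectivity implies surjectivity of the diagonal. -/
theorem surjective_diagonal_of_isUnivInjectiveMor {X Y : AlgSp.Sp S} (hX : AlgSp.IsAlgSpace X)
    (f : X ⟶ Y) (hf : AlgSp.IsUnivInjectiveMor f) :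
    AlgSp.IsSurjectiveMor (pullback.diagonal f) := by
  have hinj : Function.Injective (AlgSp.Points.map (pullback.snd f f)) :=
    hf hX f (pullback.fst f f) (pullback.snd f f) (IsPullback.of_hasPullback f f)
  intro z
  refine ⟨AlgSp.Points.map (pullback.snd f f) z, ?_⟩
  apply hinj
  rw [← AlgSp.Points.map_comp, pullback.diagonal_snd, AlgSp.Points.map_id]

/-- Injectivity on field valued points implies surjectivity of the diagonal. -/
theorem surjective_diagonal_of_injective_fieldPts {X Y : AlgSp.Sp S} (f : X ⟶ Y)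
    (h : ∀ (K : Type u) [Field K] (str : Spec (CommRingCat.of K) ⟶ S),
      Function.Injective (fun a : (AlgSp.yon S).obj (Over.mk str) ⟶ X => a ≫ f)) :
    AlgSp.IsSurjectiveMor (pullback.diagonal f) := by
  intro z
  induction z using AlgSp.Points.ind with
  | h q =>
    have e : fieldPtHom q ≫ pullback.fst f f = fieldPtHom q ≫ pullback.snd f f := by
      apply h q.K q.str
      change (fieldPtHom q ≫ pullback.fst f f) ≫ f = (fieldPtHom q ≫ pullback.snd f f) ≫ f
      rw [Category.assoc, Category.assoc, pullback.condition]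
    have e2 : fieldPtHom q = (fieldPtHom q ≫ pullback.fst f f) ≫ pullback.diagonal f := by
      apply pullback.hom_ext
      · rw [Category.assoc, pullback.diagonal_fst, Category.comp_id]
      · rw [Category.assoc, pullback.diagonal_snd, Category.comp_id, e]
    refine ⟨AlgSp.Points.map (fieldPtHom q ≫ pullback.fst f f) (AlgSp.Points.mk (fieldPtSelf q)), ?_⟩
    rw [← AlgSp.Points.map_comp, ← e2, map_fieldPtHom_self]

/-- Surjectivity of the diagonal implies injectivity on field valued points. -/
theorem injective_fieldPts_of_surjective_diagonal {X Y : AlgSp.Sp S} (hX : AlgSp.IsAlgSpace X)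
    (f : X ⟶ Y) (hΔ : AlgSp.IsSurjectiveMor (pullback.diagonal f))
    (K : Type u) [Field K] (str : Spec (CommRingCat.of K) ⟶ S) :
    Function.Injective (fun a : (AlgSp.yon S).obj (Over.mk str) ⟶ X => a ≫ f) := by
  intro x₁ x₂ e
  have e' : x₁ ≫ f = x₂ ≫ f := e
  have hrep : AlgSp.Representable (pullback.diagonal f) := (diagonal_props hX f).1
  have sq := hrep.isPullback (pullback.lift x₁ x₂ e')
  have hmono : Mono ((AlgSp.yon S).map (hrep.snd (pullback.lift x₁ x₂ e'))) := sq.mono_snd_of_mono
  have hsurj : AlgSp.IsSurjectiveMor ((AlgSp.yon S).map (hrep.snd (pullback.lift x₁ x₂ e'))) :=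
    isSurjectiveMor_of_isPullback sq hΔ
  have hne : Nonempty (AlgSp.Points ((AlgSp.yon S).obj (hrep.pullback (pullback.lift x₁ x₂ e')))) := by
    obtain ⟨y, -⟩ := hsurj (AlgSp.Points.mk ⟨K, str, ⟨𝟙 _⟩⟩)
    exact ⟨y⟩
  have hiso : IsIso ((AlgSp.yon S).map (hrep.snd (pullback.lift x₁ x₂ e'))) :=
    isIso_of_mono_to_field str (AlgSp.IsAlgSpace.yon_obj _) _ hne
  have hw := sq.w
  have h1 := congrArg (fun k => inv ((AlgSp.yon S).map (hrep.snd (pullback.lift x₁ x₂ e'))) ≫ k ≫
    pullback.fst f f) hw
  have h2 := congrArg (fun k => inv ((AlgSp.yon S).map (hrep.snd (pullback.lift x₁ x₂ e'))) ≫ k ≫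
    pullback.snd f f) hw
  simp only [Category.assoc, pullback.diagonal_fst, pullback.diagonal_snd, Category.comp_id,
    pullback.lift_fst, pullback.lift_snd, IsIso.inv_hom_id_assoc] at h1 h2
  exact h1.symm.trans h2

end Groth.Agent.Lib.H15.AS
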