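import Mathlib
import Groth.Prelude.Def_AlgSp
import Groth.Prelude.Def_AlgSp2
import Groth.Prelude.Def_AlgSp3
import Groth.Prelude.Def_AlgSp4
import Groth.Agent.Lib.helper15.AlgSpDiag
import Groth.Agent.Lib.helper15.AlgSpRepIff
import Groth.Agent.Lib.helper15.AlgSpQC2
import Groth.Agent.Lib.helper15.AlgSpClosed
import Groth.Agent.Lib.helper15.CatDiag2

set_option autoImplicit false
universe u
open CategoryTheory CategoryTheory.Limits AlgebraicGeometry Opposite Topology

namespace Groth.Agent.Lib.H15.AS

variable {S : Scheme.{u}}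

/-- A morphism from an algebraic space is separated iff its diagonal is universally closed. -/
theorem isSeparatedMor_iff_isUnivClosedMor_diagonal {X Y : AlgSp.Sp S} (hX : AlgSp.IsAlgSpace X)
    (f : X ⟶ Y) : AlgSp.IsSeparatedMor f ↔ AlgSp.IsUnivClosedMor (pullback.diagonal f) := by
  have hrep := representable_diagonal hX f
  have hlft := repWith_lft_diagonal hX f
  have hmono : AlgSp.RepWith (MorphismProperty.monomorphisms Scheme.{u}) (pullback.diagonal f) :=
    repWith_mono_of_mono _ hrep
  constructor
  · intro h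
    exact (repWith_universallyClosed_iff hrep).1
      (repWith_mono (fun _ _ g (hg : IsClosedImmersion g) => (inferInstance : UniversallyClosed g)) h)
  · intro h
    have huc := (repWith_universallyClosed_iff hrep).2 h
    change AlgSp.RepWith @IsClosedImmersion (pullback.diagonal f)
    rw [AlgSp.repWith_iff] at hlft hmono huc ⊢
    refine ⟨hrep, fun U V g fst snd sq => ?_⟩
    have i1 : LocallyOfFiniteType snd.left := hlft.2 g fst snd sq
    have i2 : Mono snd.left := hmono.2 g fst snd sq
    have i3 : UniversallyClosed snd.left := huc.2 g fst snd sq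
    have i4 : IsProper snd.left := {}
    exact (IsClosedImmersion.iff_isProper_and_mono snd.left).2 ⟨i4, i2⟩

/-- A morphism of algebraic spaces is quasi-separated iff its diagonal is quasi-compact. -/
theorem isQuasiSeparatedMor_iff_isQuasiCompactMor_diagonal {X Y : AlgSp.Sp S}
    (hX : AlgSp.IsAlgSpace X) (hY : AlgSp.IsAlgSpace Y) (f : X ⟶ Y) :
    AlgSp.IsQuasiSeparatedMor f ↔ AlgSp.IsQuasiCompactMor (pullback.diagonal f) :=
  repWith_quasiCompact_iff hX
    (isAlgSpace_of_isPullback hY.diag hX hX (IsPullback.of_hasPullback f f))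
    (representable_diagonal hX f)

/-- Separatedness descends along an etale surjective base change. -/
theorem isSeparatedMor_of_base_change {X Y V P : AlgSp.Sp S} (hX : AlgSp.IsAlgSpace X)
    (hY : AlgSp.IsAlgSpace Y) (hV : AlgSp.IsAlgSpace V) {f : X ⟶ Y} {p : V ⟶ Y}
    (hp : AlgSp.RepWith @Etale p) (hps : AlgSp.RepWith @Surjective p)
    {fst : P ⟶ X} {snd : P ⟶ V} (sq : IsPullback fst snd f p) (h : AlgSp.IsSeparatedMor snd) :
    AlgSp.IsSeparatedMor f := by
  have hP : AlgSp.IsAlgSpace P := isAlgSpace_of_isPullback hY.diag hX hV sq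
  have hXX : AlgSp.IsAlgSpace (pullback f f) :=
    isAlgSpace_of_isPullback hY.diag hX hX (IsPullback.of_hasPullback f f)
  have hPP : AlgSp.IsAlgSpace (pullback snd snd) :=
    isAlgSpace_of_isPullback hV.diag hP hP (IsPullback.of_hasPullback snd snd)
  have h' := (isSeparatedMor_iff_isUnivClosedMor_diagonal hP snd).1 h
  have sqΔ := isPullback_diagonal_of_isPullback sq
  have sqM := isPullback_map_of_isPullback sq
  have hme : AlgSp.RepWith @Etale (pullback.map snd snd f f fst fst p sq.w.symm sq.w.symm) :=
    (AlgSp.RepWith @Etale).of_isPullback sqM.flip hp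
  have hms : AlgSp.RepWith @Surjective (pullback.map snd snd f f fst fst p sq.w.symm sq.w.symm) :=
    (AlgSp.RepWith @Surjective).of_isPullback sqM.flip hps
  rw [isSeparatedMor_iff_isUnivClosedMor_diagonal hX f]
  exact isUnivClosedMor_of_base_change hXX hPP (repWith_universallyOpen_of_etale hme) hms sqΔ h'

/-- Quasi-separatedness descends along an etale surjective base change. -/
theorem isQuasiSeparatedMor_of_base_change {X Y V P : AlgSp.Sp S} (hX : AlgSp.IsAlgSpace X)
    (hY : AlgSp.IsAlgSpace Y) (hV : AlgSp.IsAlgSpace V) {f : X ⟶ Y} {p : V ⟶ Y}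
    (hp : AlgSp.RepWith @Etale p) (hps : AlgSp.RepWith @Surjective p)
    {fst : P ⟶ X} {snd : P ⟶ V} (sq : IsPullback fst snd f p) (h : AlgSp.IsQuasiSeparatedMor snd) :
    AlgSp.IsQuasiSeparatedMor f := by
  have hP : AlgSp.IsAlgSpace P := isAlgSpace_of_isPullback hY.diag hX hV sq
  have hXX : AlgSp.IsAlgSpace (pullback f f) :=
    isAlgSpace_of_isPullback hY.diag hX hX (IsPullback.of_hasPullback f f)
  have hPP : AlgSp.IsAlgSpace (pullback snd snd) :=
    isAlgSpace_of_isPullback hV.diag hP hP (IsPullback.of_hasPullback snd snd)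
  have h' := (isQuasiSeparatedMor_iff_isQuasiCompactMor_diagonal hP hV snd).1 h
  have sqΔ := isPullback_diagonal_of_isPullback sq
  have sqM := isPullback_map_of_isPullback sq
  have hme : AlgSp.RepWith @Etale (pullback.map snd snd f f fst fst p sq.w.symm sq.w.symm) :=
    (AlgSp.RepWith @Etale).of_isPullback sqM.flip hp
  have hms : AlgSp.RepWith @Surjective (pullback.map snd snd f f fst fst p sq.w.symm sq.w.symm) :=
    (AlgSp.RepWith @Surjective).of_isPullback sqM.flip hps
  rw [isQuasiSeparatedMor_iff_isQuasiCompactMor_diagonal hX hY f]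
  exact isQuasiCompactMor_of_univOpen_surjective_base_change hX hXX hPP sqΔ
    ((repWith_universallyOpen_iff hme.rep).1 (repWith_universallyOpen_of_etale hme))
    (isSurjectiveMor_of_repWith hms) h'

end Groth.Agent.Lib.H15.AS
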