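import Mathlib
import Groth.Prelude.Def_AlgSp
import Groth.Prelude.Def_AlgSp2
import Groth.Prelude.Def_AlgSp3
import Groth.Prelude.Def_AlgSp4
import Groth.Agent.Lib.helper15.AlgSpSep

set_option autoImplicit false
universe u
open CategoryTheory CategoryTheory.Limits AlgebraicGeometry Opposite Topology

namespace Groth.Agent.Lib.H15.AS

variable {S : Scheme.{u}}

/-- For a representable morphism `f`, the diagonal of `f` is representable with `Q` iff `f` is representable
with "the diagonal has `Q`". -/
theorem repWith_diagonal_iff_of_representable (Q : MorphismProperty Scheme.{u})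
    [Q.IsStableUnderBaseChange] {X Y : AlgSp.Sp S} {f : X ⟶ Y} (hf : AlgSp.Representable f) :
    AlgSp.RepWith Q (pullback.diagonal f) ↔ AlgSp.RepWith Q.diagonal f := by
  have : Q.RespectsIso := MorphismProperty.IsStableUnderBaseChange.respectsIso
  constructor
  · intro h
    rw [AlgSp.repWith_iff]
    refine ⟨hf, fun T W t fst w sqT => ?_⟩
    have h1 : (AlgSp.RepWith Q).diagonal ((AlgSp.yon S).map w) :=
      MorphismProperty.of_isPullback (P := (AlgSp.RepWith Q).diagonal) sqT h
    exact (AlgSp.repWith_diagonal_yon_map_iff Q w).1 h1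
  · intro h
    refine MorphismProperty.relative.of_exists (fun T g => ?_)
    have sqP := hf.isPullback (g ≫ pullback.fst f f ≫ f)
    have hQ : Q (pullback.diagonal (hf.snd (g ≫ pullback.fst f f ≫ f)).left) :=
      h.property_snd (g ≫ pullback.fst f f ≫ f)
    have hΔ : AlgSp.RepWith Q
        (pullback.diagonal ((AlgSp.yon S).map (hf.snd (g ≫ pullback.fst f f ≫ f)))) :=
      (AlgSp.repWith_diagonal_yon_map_iff Q _).2 hQ
    obtain ⟨g', hg'⟩ := exists_lift_to_diagonalObj g sqP
    have hrep := hΔ.rep
    have sqE := hrep.isPullback g'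
    have big := sqE.paste_horiz (isPullback_diagonal_of_isPullback sqP)
    rw [hg'] at big
    exact ⟨hrep.pullback g', _, hrep.snd g', big, hΔ.property_snd g'⟩

end Groth.Agent.Lib.H15.AS
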