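import Mathlib
import Groth.Prelude.Def_AlgSp
import Groth.Prelude.Def_AlgSp2
import Groth.Prelude.Def_AlgSp3
import Groth.Prelude.Def_AlgSp4
import Groth.Agent.Lib.helper15.AlgSpSeven2
import Groth.Agent.Lib.helper15.AlgSpDiag2
import Groth.Agent.Lib.helper15.AlgSpSep2
import Groth.Agent.Lib.helper15.AlgSpLocP2

set_option autoImplicit false
universe u
open CategoryTheory CategoryTheory.Limits AlgebraicGeometry Opposite Topology

namespace Groth.Agent.Lib.H15.AS

variable {S : Scheme.{u}}

section Cat

variable {D : Type*} [Category D] [HasPullbacks D]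

/-- The map of kernel pairs induced by `a` is a base change of `a × a`. -/
theorem isPullback_kernelPair_map {P U X Y : D} [HasBinaryProduct U U] [HasBinaryProduct X X]
    (a : U ⟶ X) (f : X ⟶ Y) {p₁ p₂ : P ⟶ U} (sq : IsPullback p₁ p₂ (a ≫ f) (a ≫ f)) :
    IsPullback (prod.lift p₁ p₂)
      (pullback.lift (p₁ ≫ a) (p₂ ≫ a) (by simp only [Category.assoc]; exact sq.w))
      (prod.map a a) (prod.lift (pullback.fst f f) (pullback.snd f f)) := by
  have hw : prod.lift p₁ p₂ ≫ prod.map a a =
      pullback.lift (p₁ ≫ a) (p₂ ≫ a) (by simp only [Category.assoc]; exact sq.w) ≫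
        prod.lift (pullback.fst f f) (pullback.snd f f) := by
    apply Limits.prod.hom_ext
    · rw [Category.assoc, prod.map_fst, prod.lift_fst_assoc, Category.assoc, prod.lift_fst,
        pullback.lift_fst]
    · rw [Category.assoc, prod.map_snd, prod.lift_snd_assoc, Category.assoc, prod.lift_snd,
        pullback.lift_snd]
  have key : ∀ s : PullbackCone (prod.map a a) (prod.lift (pullback.fst f f) (pullback.snd f f)),
      (s.fst ≫ prod.fst) ≫ a = s.snd ≫ pullback.fst f f ∧
      (s.fst ≫ prod.snd) ≫ a = s.snd ≫ pullback.snd f f := by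
    intro s
    have h1 := congrArg (· ≫ prod.fst) s.condition
    have h2 := congrArg (· ≫ prod.snd) s.condition
    simp only [Category.assoc, prod.map_fst, prod.map_snd] at h1 h2
    rw [prod.lift_fst] at h1
    rw [prod.lift_snd] at h2
    exact ⟨by rw [Category.assoc]; exact h1, by rw [Category.assoc]; exact h2⟩
  have hc : ∀ s : PullbackCone (prod.map a a) (prod.lift (pullback.fst f f) (pullback.snd f f)),
      (s.fst ≫ prod.fst) ≫ a ≫ f = (s.fst ≫ prod.snd) ≫ a ≫ f := by
    intro s
    rw [← Category.assoc, (key s).1, ← Category.assoc (s.fst ≫ prod.snd), (key s).2, Category.assoc,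
      Category.assoc, pullback.condition]
  refine ⟨⟨hw⟩, ⟨PullbackCone.IsLimit.mk _
    (fun s => sq.lift (s.fst ≫ prod.fst) (s.fst ≫ prod.snd) (hc s)) ?_ ?_ ?_⟩⟩
  · intro s
    apply Limits.prod.hom_ext
    · rw [Category.assoc, prod.lift_fst, sq.lift_fst]
    · rw [Category.assoc, prod.lift_snd, sq.lift_snd]
  · intro s
    apply pullback.hom_ext
    · rw [Category.assoc, pullback.lift_fst, ← Category.assoc, sq.lift_fst, (key s).1]
    · rw [Category.assoc, pullback.lift_snd, ← Category.assoc, sq.lift_snd, (key s).2]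
  · intro s m h1 h2
    apply sq.hom_ext
    · rw [sq.lift_fst, ← h1, Category.assoc, prod.lift_fst]
    · rw [sq.lift_snd, ← h1, Category.assoc, prod.lift_snd]

/-- If the diagonal of `f ≫ g` has a base change stable property, so does the diagonal of `f`. -/
theorem diagonal_of_comp (P : MorphismProperty D) [P.IsStableUnderBaseChange] {A B C : D}
    (f : A ⟶ B) (g : B ⟶ C) (h : P (pullback.diagonal (f ≫ g))) : P (pullback.diagonal f) := by
  rw [pullback.diagonal_comp] at h
  exact MorphismProperty.of_isPullback (isPullback_of_mono (pullback.diagonal f)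
    ((pullbackDiagonalMapIdIso f f g).inv ≫ pullback.snd _ _)) h

end Cat

/-- A section of an unramified morphism locally of finite type is an open immersion. -/
theorem isOpenImmersion_of_section {U W : Scheme.{u}} (δ : U ⟶ W) (p : W ⟶ U)
    [LocallyOfFiniteType p] [FormallyUnramified p] (h : δ ≫ p = 𝟙 U) : IsOpenImmersion δ := by
  have hle : (@LocallyOfFiniteType ⊓ @FormallyUnramified : MorphismProperty Scheme.{u}) ≤
      (@IsOpenImmersion : MorphismProperty Scheme.{u}).diagonal := by
    intro A B g hg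
    have : LocallyOfFiniteType g := hg.1
    have : FormallyUnramified g := hg.2
    exact (inferInstance : IsOpenImmersion (pullback.diagonal g))
  have hpost := (MorphismProperty.hasOfPostcompProperty_iff_le_diagonal
    (P := (@IsOpenImmersion : MorphismProperty Scheme.{u}))
    (Q := (@LocallyOfFiniteType ⊓ @FormallyUnramified : MorphismProperty Scheme.{u}))).2 hle
  refine hpost.of_postcomp δ p ⟨inferInstance, inferInstance⟩ ?_
  rw [h]
  exact (inferInstance : IsOpenImmersion (𝟙 U))

/-- The diagonal of an unramified morphism of algebraic spaces is an open immersion. -/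
theorem repWith_isOpenImmersion_diagonal_of_unramified {X Y : AlgSp.Sp S} (hX : AlgSp.IsAlgSpace X)
    (hY : AlgSp.IsAlgSpace Y) (f : X ⟶ Y)
    (hf : AlgSp.LocP (@LocallyOfFiniteType ⊓ @FormallyUnramified) f) :
    AlgSp.RepWith @IsOpenImmersion (pullback.diagonal f) := by
  have hG := goodP_lft_unram.{u}
  have := hG.bc
  have := hG.desc
  obtain ⟨U, a, hae, has⟩ := hX.atlas
  have hk : AlgSp.RepWith (@LocallyOfFiniteType ⊓ @FormallyUnramified) (a ≫ f) :=
    repWith_comp_of_locP _ hY hf a hae
  have hrep : AlgSp.Representable (a ≫ f) := hk.rep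
  have sq := hrep.isPullback' (a ≫ f)
  have hp₂ : (@LocallyOfFiniteType ⊓ @FormallyUnramified : MorphismProperty Scheme.{u})
      (hrep.snd (a ≫ f)).left := hk.property_snd (a ≫ f)
  have : LocallyOfFiniteType (hrep.snd (a ≫ f)).left := hp₂.1
  have : FormallyUnramified (hrep.snd (a ≫ f)).left := hp₂.2
  let δ : U ⟶ hrep.pullback (a ≫ f) := hrep.lift' (𝟙 U) (𝟙 U) (by simp)
  have hδ₁ : δ ≫ hrep.fst' (a ≫ f) = 𝟙 U := hrep.lift'_fst _ _ _
  have hδ₂ : δ ≫ hrep.snd (a ≫ f) = 𝟙 U := hrep.lift'_snd _ _ _
  have hδoi : IsOpenImmersion δ.left := by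
    apply isOpenImmersion_of_section δ.left (hrep.snd (a ≫ f)).left
    rw [← Over.comp_left, hδ₂]
    rfl
  have hδe : Etale δ.left := inferInstance
  have sqb := isPullback_kernelPair_map a f sq
  have hb : AlgSp.RepWith @Etale (pullback.lift ((AlgSp.yon S).map (hrep.fst' (a ≫ f)) ≫ a)
      ((AlgSp.yon S).map (hrep.snd (a ≫ f)) ≫ a) (by simp only [Category.assoc]; exact sq.w)) :=
    MorphismProperty.of_isPullback sqb (repWith_prod_map @Etale a a hae hae)
  have hcomm : a ≫ pullback.diagonal f = (AlgSp.yon S).map δ ≫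
      pullback.lift ((AlgSp.yon S).map (hrep.fst' (a ≫ f)) ≫ a)
        ((AlgSp.yon S).map (hrep.snd (a ≫ f)) ≫ a) (by simp only [Category.assoc]; exact sq.w) := by
    apply pullback.hom_ext
    · rw [Category.assoc, pullback.diagonal_fst, Category.comp_id, Category.assoc, pullback.lift_fst,
        ← Category.assoc, ← Functor.map_comp, hδ₁, CategoryTheory.Functor.map_id, Category.id_comp]
    · rw [Category.assoc, pullback.diagonal_snd, Category.comp_id, Category.assoc, pullback.lift_snd,
        ← Category.assoc, ← Functor.map_comp, hδ₂, CategoryTheory.Functor.map_id, Category.id_comp]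
  have hdiag := diagonal_props hX f
  have hcompE : AlgSp.RepWith @Etale (a ≫ pullback.diagonal f) := by
    rw [hcomm]
    exact MorphismProperty.comp_mem _ _ _ ((AlgSp.repWith_yon_map_iff @Etale δ).2 hδe) hb
  have hE : AlgSp.RepWith @Etale (pullback.diagonal f) :=
    repWith_of_comp_cover goodP_etale _ hdiag.1 a hae has hcompE
  have hM := hdiag.2.2.2.2
  rw [AlgSp.repWith_iff] at hE hM ⊢
  refine ⟨hdiag.1, fun T V g fst snd sqq => ?_⟩
  have h1 : Etale snd.left := hE.2 g fst snd sqq
  have h2 : Mono snd.left := hM.2 g fst snd sqq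
  exact IsOpenImmersion.of_flat_of_mono snd.left

/-- A morphism locally of finite type whose diagonal is an open immersion is unramified. -/
theorem locP_unramified_of_diagonal {X Y : AlgSp.Sp S} (hX : AlgSp.IsAlgSpace X)
    (hY : AlgSp.IsAlgSpace Y) (f : X ⟶ Y) (hlft : AlgSp.LocP @LocallyOfFiniteType f)
    (hD : AlgSp.RepWith @IsOpenImmersion (pullback.diagonal f)) :
    AlgSp.LocP (@LocallyOfFiniteType ⊓ @FormallyUnramified) f := by
  obtain ⟨U, a, hae, has⟩ := hX.atlas
  obtain ⟨V, b₀, hbe, hbs⟩ := hY.atlas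
  obtain ⟨U', p, h, hpe, hps, w⟩ := exists_chart_cover f a b₀ hbe hbs
  have ha'e : AlgSp.RepWith @Etale ((AlgSp.yon S).map p ≫ a) :=
    repWith_yon_map_comp @Etale p a hpe hae
  have ha's : AlgSp.RepWith @Surjective ((AlgSp.yon S).map p ≫ a) :=
    repWith_yon_map_comp @Surjective p a hps has
  have hh1 : LocallyOfFiniteType h.left := hlft _ b₀ h ha'e hbe w
  have hle : (@Etale : MorphismProperty Scheme.{u}) ≤
      (@IsOpenImmersion : MorphismProperty Scheme.{u}).diagonal := by
    intro A B g hg
    have : Etale g := hg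
    exact (inferInstance : IsOpenImmersion (pullback.diagonal g))
  have hDa : AlgSp.RepWith @IsOpenImmersion (pullback.diagonal ((AlgSp.yon S).map p ≫ a)) :=
    (repWith_diagonal_iff_of_representable @IsOpenImmersion ha'e.rep).2 (repWith_mono hle ha'e)
  have hDaf : (AlgSp.RepWith (S := S) @IsOpenImmersion).diagonal (((AlgSp.yon S).map p ≫ a) ≫ f) :=
    MorphismProperty.comp_mem _ _ _ hDa hD
  rw [w] at hDaf
  have hDh : AlgSp.RepWith @IsOpenImmersion (pullback.diagonal ((AlgSp.yon S).map h)) :=
    diagonal_of_comp (AlgSp.RepWith @IsOpenImmersion) _ _ hDaf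
  have hDh2 : AlgSp.RepWith (@IsOpenImmersion : MorphismProperty Scheme.{u}).diagonal
      ((AlgSp.yon S).map h) :=
    (repWith_diagonal_iff_of_representable @IsOpenImmersion (AlgSp.representable_yon_map h)).1 hDh
  have hDh3 : IsOpenImmersion (pullback.diagonal h.left) :=
    (AlgSp.repWith_yon_map_iff _ h).1 hDh2
  have hh2 : FormallyUnramified h.left := inferInstance
  exact locP_of_chart_gen goodP_lft_unram _ b₀ h ha'e ha's hbe w ⟨hh1, hh2⟩

end Groth.Agent.Lib.H15.AS
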