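import Mathlib
import Groth.Prelude.Def_AlgSp
import Groth.Prelude.Def_AlgSp2
import Groth.Prelude.Def_AlgSp3
import Groth.Prelude.Def_AlgSp4
import Groth.Agent.Lib.helper15.AlgSpUnivInj2
import Groth.Agent.Lib.helper15.AlgSpUnram
import Groth.Agent.Lib.helper15.AlgSpEtale2

set_option autoImplicit false
universe u
open CategoryTheory CategoryTheory.Limits AlgebraicGeometry Opposite Topology

namespace Groth.Agent.Lib.H15.AS

variable {S : Scheme.{u}}

/-- An etale monomorphism from an algebraic space to a scheme is (isomorphic to) an open immersion. -/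
theorem exists_open_of_etale_mono {Z : AlgSp.Sp S} (hZ : AlgSp.IsAlgSpace Z) {T : Over S}
    (g : Z ⟶ (AlgSp.yon S).obj T) [Mono g] (hg : AlgSp.LocP @Etale g) :
    ∃ (W : T.left.Opens) (g' : Z ⟶ (AlgSp.yon S).obj (overOpen T W)),
      g' ≫ (AlgSp.yon S).map (overOpenι T W) = g ∧ IsIso g' := by
  obtain ⟨U, c, hce, hcs⟩ := hZ.atlas
  obtain ⟨φ, hφ⟩ := (AlgSp.yon S).map_surjective (c ≫ g)
  have hφe : Etale φ.left :=
    hg c (𝟙 _) φ hce (AlgSp.repWith_id @Etale T) (by rw [hφ, Category.comp_id])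
  let W : T.left.Opens := ⟨Set.range φ.left, φ.left.isOpenMap.isOpen_range⟩
  have hι : AlgSp.RepWith @IsOpenImmersion ((AlgSp.yon S).map (overOpenι T W)) :=
    (AlgSp.repWith_yon_map_iff @IsOpenImmersion _).2 (by change IsOpenImmersion W.ι; infer_instance)
  have hrange : Set.range (AlgSp.Points.map g) ⊆
      Set.range (AlgSp.Points.map ((AlgSp.yon S).map (overOpenι T W))) := by
    rintro _ ⟨z, rfl⟩
    obtain ⟨u, rfl⟩ := surjective_ofPt c hcs z
    rw [range_map_eq_range_ofPt, AlgSp.Points.map_ofPt, ← hφ]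
    refine ⟨⟨φ.left u, ⟨u, rfl⟩⟩, ?_⟩
    have h1 := ofPt_yon_map_comp (overOpenι T W) (𝟙 ((AlgSp.yon S).obj T)) ⟨φ.left u, ⟨u, rfl⟩⟩
    have h2 := ofPt_yon_map_comp φ (𝟙 ((AlgSp.yon S).obj T)) u
    rw [Category.comp_id] at h1 h2
    rw [h1, h2]
    rfl
  obtain ⟨g', hg'⟩ := exists_factor_of_range_subset _ hι g hrange
  refine ⟨W, g', hg', ?_⟩
  have hmono : Mono g' := mono_of_mono_fac hg'
  obtain ⟨φ', hφ'⟩ := (AlgSp.yon S).map_surjective (c ≫ g')
  have hφφ' : φ' ≫ overOpenι T W = φ := by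
    apply (AlgSp.yon S).map_injective
    rw [Functor.map_comp, hφ', Category.assoc, hg', hφ]
  have hφφ'l : φ'.left ≫ W.ι = φ.left := by
    rw [← hφφ']
    rfl
  have hφ'e : Etale φ'.left := by
    have : Etale (φ'.left ≫ W.ι) := by rw [hφφ'l]; exact hφe
    exact Etale.of_comp φ'.left W.ι
  have hφ's : Surjective φ'.left := by
    refine ⟨fun w => ?_⟩
    obtain ⟨u, hu⟩ := w.2
    refine ⟨u, ?_⟩
    apply W.ι.injective
    rw [← Scheme.Hom.comp_apply, hφφ'l]
    exact hu
  have hepi : Epi ((AlgSp.yon S).map φ') :=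
    epi_of_repWith_etale_surjective _ ((AlgSp.repWith_yon_map_iff @Etale φ').2 hφ'e)
      ((AlgSp.repWith_yon_map_iff @Surjective φ').2 hφ's)
  have hepi' : Epi g' := by
    rw [hφ'] at hepi
    exact epi_of_epi c g'
  exact isIso_of_mono_of_epi g'

/-- An etale monomorphism of algebraic spaces is representable by open immersions. -/
theorem repWith_isOpenImmersion_of_etale_mono {X Y : AlgSp.Sp S} (hX : AlgSp.IsAlgSpace X)
    (hY : AlgSp.IsAlgSpace Y) (f : X ⟶ Y) [Mono f] (hf : AlgSp.LocP @Etale f) :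
    AlgSp.RepWith @IsOpenImmersion f := by
  refine MorphismProperty.relative.of_exists fun T a => ?_
  have sq := IsPullback.of_hasPullback f a
  have hZ : AlgSp.IsAlgSpace (pullback f a) :=
    isAlgSpace_of_isPullback hY.diag hX (AlgSp.IsAlgSpace.yon_obj T) sq
  have hg : AlgSp.LocP @Etale (pullback.snd f a) :=
    locP_of_isPullback_gen goodP_etale hX hY (AlgSp.IsAlgSpace.yon_obj T) sq hf
  obtain ⟨W, g', hg', hiso⟩ := exists_open_of_etale_mono hZ (pullback.snd f a) hg
  refine ⟨overOpen T W, inv g' ≫ pullback.fst f a, overOpenι T W, ?_, ?_⟩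
  · refine IsPullback.of_iso sq (asIso g') (Iso.refl _) (Iso.refl _) (Iso.refl _) ?_ ?_ ?_ ?_
    · simp
    · simp [hg']
    · simp
    · simp
  · change IsOpenImmersion W.ι
    infer_instance

/-- An etale universally injective morphism of algebraic spaces is an open immersion. -/
theorem repWith_isOpenImmersion_of_etale_univInjective {X Y : AlgSp.Sp S} (hX : AlgSp.IsAlgSpace X)
    (hY : AlgSp.IsAlgSpace Y) (f : X ⟶ Y) (hf : AlgSp.LocP @Etale f)
    (hinj : AlgSp.IsUnivInjectiveMor f) : AlgSp.RepWith @IsOpenImmersion f := by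
  have hle : (@Etale : MorphismProperty Scheme.{u}) ≤
      (@LocallyOfFiniteType ⊓ @FormallyUnramified : MorphismProperty Scheme.{u}) := by
    intro A B g hg
    have : Etale g := hg
    exact ⟨inferInstance, inferInstance⟩
  have hΔ := repWith_isOpenImmersion_diagonal_of_unramified hX hY f (locP_mono hle hf)
  have hΔs := surjective_diagonal_of_isUnivInjectiveMor hX f hinj
  have hiso := isIso_of_repWith_isOpenImmersion_of_surjective _ hΔ hΔs
  have hmono : Mono f := (pullback.isIso_diagonal_iff f).1 hiso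
  exact repWith_isOpenImmersion_of_etale_mono hX hY f hf

end Groth.Agent.Lib.H15.AS
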