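import Mathlib
import Groth.Prelude.Def_Flat
import Groth.Agent.Lib.helper9.TopDim

/-!
# Fibre dimension zero and quasi-finiteness (helper15)
-/

set_option autoImplicit false
universe u
open CategoryTheory CategoryTheory.Limits AlgebraicGeometry TopologicalSpace

namespace Groth.Agent.Lib.H15

open Groth.Agent.H9TopDim

/-- A scheme locally of finite type over a field is locally Noetherian. -/
theorem isLocallyNoetherian_of_lft_field {X : Scheme.{u}} {R : CommRingCat.{u}} [IsNoetherianRing R]
    (f : X ⟶ Spec R) [LocallyOfFiniteType f] : IsLocallyNoetherian X := by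
  constructor
  intro U
  have h := HasRingHomProperty.appLE (P := @LocallyOfFiniteType) (f := f) inferInstance
    ⟨⊤, isAffineOpen_top _⟩ U le_top
  have hN : IsNoetherianRing Γ(Spec R, ⊤) :=
    isNoetherianRing_of_ringEquiv R (Scheme.ΓSpecIso R).symm.commRingCatIsoToRingEquiv
  algebraize [(f.appLE ⊤ U.1 le_top).hom]
  exact Algebra.FiniteType.isNoetherianRing Γ(Spec R, ⊤) Γ(X, U.1)

/-- In a locally Noetherian scheme, a point of local dimension zero is open. -/
theorem isOpen_singleton_of_localDim_eq_zero {X : Scheme.{u}} [IsLocallyNoetherian X] (x : X)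
    (hx : FlatMor.localDim X x = 0) : IsOpen ({x} : Set X) := by
  obtain ⟨O, hxO, hO⟩ := exists_open_dim_eq_localDim x
  rw [hx] at hO
  obtain ⟨_, ⟨A, hA, rfl⟩, hxA, hAO⟩ := X.isBasis_affineOpens.exists_subset_of_mem_open hxO O.isOpen
  have hdim : topologicalKrullDim ↥(A : Set X) ≤ 0 := hO ▸ dim_mono hAO
  have hN : IsNoetherianRing Γ(X, A) := IsLocallyNoetherian.component_noetherian ⟨A, hA⟩
  have hNS : NoetherianSpace ↥(A : Set X) := noetherianSpace_of_isAffineOpen A hA
  obtain ⟨_, hdisc⟩ := finite_discrete_of_dim_le_zero (X := ↥(A : Set X)) hdim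
  have hopen : IsOpen ({⟨x, hxA⟩} : Set ↥(A : Set X)) := isOpen_discrete _
  have := A.isOpen.isOpenMap_subtype_val _ hopen
  simpa using this

/-- A morphism locally of finite type whose fibre has dimension zero at `u` is quasi-finite at `u`. -/
theorem quasiFiniteAt_of_fibreDimAt_eq_zero {U V : Scheme.{u}} (h : U ⟶ V) [LocallyOfFiniteType h]
    (u : U) (hu : FlatMor.fibreDimAt h u = 0) : h.QuasiFiniteAt u := by
  have : LocallyOfFiniteType (h.fiberToSpecResidueField (h u)) :=
    MorphismProperty.pullback_snd _ _ inferInstance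
  have : IsLocallyNoetherian (h.fiber (h u)) :=
    isLocallyNoetherian_of_lft_field (h.fiberToSpecResidueField (h u))
  exact Scheme.Hom.quasiFiniteAt_iff_isOpen_singleton_asFiber.mpr
    (isOpen_singleton_of_localDim_eq_zero _ hu)

/-- A locally quasi-finite morphism has fibre dimension zero at every point. -/
theorem fibreDimAt_eq_zero_of_locallyQuasiFinite {U V : Scheme.{u}} (h : U ⟶ V)
    [LocallyQuasiFinite h] (u : U) : FlatMor.fibreDimAt h u = 0 := by
  have hd : DiscreteTopology (h.fiber (h u)) := inferInstance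
  apply le_antisymm _ (localDim_nonneg _)
  have hop : IsOpen ({h.asFiber u} : Set (h.fiber (h u))) := isOpen_discrete _
  refine (localDim_le_dim_open ⟨{h.asFiber u}, hop⟩ (h.asFiber u) rfl).trans ?_
  have : Subsingleton ↥((⟨{h.asFiber u}, hop⟩ : Opens (h.fiber (h u))) : Set (h.fiber (h u))) := by
    constructor
    rintro ⟨a, ha⟩ ⟨b, hb⟩
    have ha' : a = h.asFiber u := ha
    have hb' : b = h.asFiber u := hb
    subst ha'; subst hb'; rfl
  exact topologicalKrullDim_zero_of_discreteTopology _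

/-- If the fibre has dimension zero at `u`, then `h` is locally quasi-finite on an open neighbourhood of
`u`. -/
theorem exists_opens_lqf_of_fibreDimAt_eq_zero {U V : Scheme.{u}} (h : U ⟶ V)
    [LocallyOfFiniteType h] (u : U) (hu : FlatMor.fibreDimAt h u = 0) :
    ∃ W : U.Opens, u ∈ W ∧
      ((@LocallyQuasiFinite : MorphismProperty Scheme.{u}) ⊓ @LocallyOfFiniteType) (W.ι ≫ h) :=
  ⟨h.quasiFiniteLocus, quasiFiniteAt_of_fibreDimAt_eq_zero h u hu,
    (inferInstance : LocallyQuasiFinite (h.quasiFiniteLocus.ι ≫ h)),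
    (inferInstance : LocallyOfFiniteType (h.quasiFiniteLocus.ι ≫ h))⟩

/-- A point of a fibre is open in the fibre iff it is isolated among the points of the fibre. -/
theorem isOpen_singleton_fiber_iff {X Y : Scheme.{u}} (f : X ⟶ Y) (y0 : Y) (z : f.fiber y0) :
    IsOpen ({z} : Set (f.fiber y0)) ↔ ∃ O : Set X, IsOpen O ∧ f.fiberι y0 z ∈ O ∧
      ∀ x' ∈ O, f x' = y0 → x' = f.fiberι y0 z := by
  rw [(f.fiberι y0).isEmbedding.isInducing.isOpen_iff]
  constructor
  · rintro ⟨t, ht, hpre⟩
    refine ⟨t, ht, ?_, ?_⟩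
    · have : z ∈ (f.fiberι y0) ⁻¹' t := by rw [hpre]; rfl
      exact this
    · intro x' hx' hfx'
      have hr : x' ∈ Set.range (f.fiberι y0) := by rw [f.range_fiberι]; exact hfx'
      obtain ⟨z', rfl⟩ := hr
      have : z' ∈ (f.fiberι y0) ⁻¹' t := hx'
      rw [hpre] at this
      rw [Set.mem_singleton_iff.1 this]
  · rintro ⟨O, hO, hz, hOx⟩
    refine ⟨O, hO, ?_⟩
    ext z'
    simp only [Set.mem_preimage, Set.mem_singleton_iff]
    constructor
    · intro hz'
      have hr : f.fiberι y0 z' ∈ Set.range (f.fiberι y0) := ⟨z', rfl⟩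
      rw [f.range_fiberι] at hr
      exact (f.fiberι y0).isEmbedding.injective (hOx _ hz' hr)
    · rintro rfl
      exact hz

/-- Quasi-finiteness at a point, for a morphism locally of finite type, means being isolated in the fibre. -/
theorem quasiFiniteAt_iff_exists_isOpen {X Y : Scheme.{u}} (f : X ⟶ Y) [LocallyOfFiniteType f] (x : X) :
    f.QuasiFiniteAt x ↔ ∃ O : Set X, IsOpen O ∧ x ∈ O ∧ ∀ x' ∈ O, f x' = f x → x' = x := by
  rw [Scheme.Hom.quasiFiniteAt_iff_isOpen_singleton_asFiber, isOpen_singleton_fiber_iff,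
    Scheme.Hom.fiberι_asFiber]

/-- Quasi-finiteness at a point descends along arbitrary base change. -/
theorem quasiFiniteAt_of_isPullback {P X Y Z : Scheme.{u}} {fst : P ⟶ X} {snd : P ⟶ Y} {f : X ⟶ Z}
    {g : Y ⟶ Z} (sq : IsPullback fst snd f g) [LocallyOfFiniteType f] (p : P)
    (hp : snd.QuasiFiniteAt p) : f.QuasiFiniteAt (fst p) := by
  haveI : LocallyOfFiniteType snd := MorphismProperty.of_isPullback sq inferInstance
  rw [Scheme.Hom.quasiFiniteAt_iff_isOpen_singleton_asFiber] at hp
  obtain ⟨ψ, sq', h1⟩ : ∃ ψ : snd.fiber (snd p) ⟶ f.fiber (g (snd p)),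
      IsPullback ψ (snd.fiberToSpecResidueField (snd p)) (f.fiberToSpecResidueField (g (snd p)))
        (Spec.map (g.residueFieldMap (snd p))) ∧
      ψ ≫ f.fiberι (g (snd p)) = snd.fiberι (snd p) ≫ fst :=
    ⟨_, isPullback_fiberToSpecResidueField_of_isPullback sq (snd p), pullback.lift_fst _ _ _⟩
  have hψo : UniversallyOpen ψ :=
    MorphismProperty.of_isPullback (P := @UniversallyOpen) sq'.flip inferInstance
  have hopen : IsOpen (ψ '' {snd.asFiber p}) := ψ.isOpenMap _ hp
  have himg : ψ '' {snd.asFiber p} = {ψ (snd.asFiber p)} := Set.image_singleton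
  rw [himg, isOpen_singleton_fiber_iff] at hopen
  have hfib : f.fiberι (g (snd p)) (ψ (snd.asFiber p)) = fst p := by
    rw [← Scheme.Hom.comp_apply, h1, Scheme.Hom.comp_apply, Scheme.Hom.fiberι_asFiber]
  rw [hfib] at hopen
  rw [quasiFiniteAt_iff_exists_isOpen]
  obtain ⟨O, hO, hpO, hOx⟩ := hopen
  refine ⟨O, hO, hpO, fun x' hx' hfx' => hOx x' hx' ?_⟩
  rw [hfx', ← Scheme.Hom.comp_apply, sq.w, Scheme.Hom.comp_apply]

end Groth.Agent.Lib.H15
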