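import Mathlib
import Groth.Prelude.Def_AlgSp
import Groth.Prelude.Def_AlgSp2
import Groth.Prelude.Def_AlgSp3
import Groth.Prelude.Def_AlgSp4
import Groth.Prelude.Def_AlgSpDec
import Groth.Agent.Lib.helper15.AlgSpSeven2
import Groth.Agent.Lib.helper15.FibreDimZero
import Groth.Agent.Lib.helper15.AlgSpOpenSub3
import Groth.Agent.Lib.helper15.AlgSpFibre

set_option autoImplicit false
universe u
open CategoryTheory CategoryTheory.Limits AlgebraicGeometry Opposite Topology

namespace Groth.Agent.Lib.H15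

/-- Points of a pullback square of schemes. -/
theorem exists_preimage_of_isPullback {P X Y Z : Scheme.{u}} {fst : P ⟶ X} {snd : P ⟶ Y} {f : X ⟶ Z}
    {g : Y ⟶ Z} (sq : IsPullback fst snd f g) (x : X) (y : Y) (h : f x = g y) :
    ∃ p : P, fst p = x ∧ snd p = y := by
  obtain ⟨z, hz1, hz2⟩ := Scheme.Pullback.exists_preimage_pullback x y h
  refine ⟨sq.isoPullback.inv z, ?_, ?_⟩
  · rw [← Scheme.Hom.comp_apply, sq.isoPullback_inv_fst]
    exact hz1
  · rw [← Scheme.Hom.comp_apply, sq.isoPullback_inv_snd]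
    exact hz2

/-- The dimension of a subsingleton space is at most zero. -/
theorem topologicalKrullDim_le_zero_of_subsingleton (X : Type*) [TopologicalSpace X] [Subsingleton X] :
    topologicalKrullDim X ≤ 0 := by
  have : Subsingleton (TopologicalSpace.IrreducibleCloseds X) := by
    refine ⟨fun Z1 Z2 => ?_⟩
    apply TopologicalSpace.IrreducibleCloseds.ext
    obtain ⟨x1, hx1⟩ := Z1.isIrreducible'.nonempty
    obtain ⟨x2, hx2⟩ := Z2.isIrreducible'.nonempty
    ext x
    rw [Subsingleton.elim x x1] at *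
    constructor
    · intro _; rw [Subsingleton.elim x1 x2]; exact hx2
    · intro _; exact hx1
  exact Order.krullDim_nonpos_of_subsingleton

/-- An open point has local dimension zero. -/
theorem localDim_eq_zero_of_isOpen_singleton {X : Type*} [TopologicalSpace X] (x : X)
    (h : IsOpen ({x} : Set X)) : FlatMor.localDim X x = 0 := by
  refine le_antisymm ?_ (Groth.Agent.H9TopDim.localDim_nonneg x)
  refine (Groth.Agent.H9TopDim.localDim_le_dim_open ⟨{x}, h⟩ x rfl).trans ?_
  haveI : Subsingleton ↥({x} : Set X) := (Set.subsingleton_coe _).2 Set.subsingleton_singleton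
  exact topologicalKrullDim_le_zero_of_subsingleton _

end Groth.Agent.Lib.H15

namespace Groth.Agent.Lib.H15.AS

variable {S : Scheme.{u}}

/-- The chart of a fibre `F = X ×_Y h_T` induced by a chart diagram of `f : X ⟶ Y`: with `V_T = V ×_Y T` and
`U' = U ×_V V_T`, the induced `c : h_{U'} ⟶ F` is a base change of `a : h_U ⟶ X`. -/
theorem exists_fibre_chart {X Y F : AlgSp.Sp S} {T : Over S} {f : X ⟶ Y}
    {y : (AlgSp.yon S).obj T ⟶ Y} {p : F ⟶ X} {q : F ⟶ (AlgSp.yon S).obj T}
    (sq : IsPullback p q f y) {U V : Over S} (a : (AlgSp.yon S).obj U ⟶ X)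
    (b : (AlgSp.yon S).obj V ⟶ Y) (h : U ⟶ V) (hb : AlgSp.Representable b)
    (wh : a ≫ f = (AlgSp.yon S).map h ≫ b) :
    ∃ c : (AlgSp.yon S).obj (pullback h (hb.fst' y)) ⟶ F,
      IsPullback c ((AlgSp.yon S).map (pullback.fst h (hb.fst' y))) p a ∧
        c ≫ q = (AlgSp.yon S).map (pullback.snd h (hb.fst' y) ≫ hb.snd y) := by
  have sqVK := hb.isPullback' y
  have sqU' : IsPullback (pullback.fst h (hb.fst' y)) (pullback.snd h (hb.fst' y)) h (hb.fst' y) :=
    IsPullback.of_hasPullback _ _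
  have outer := (sqU'.flip.map (AlgSp.yon S)).paste_horiz sqVK.flip
  rw [← wh] at outer
  have wc : ((AlgSp.yon S).map (pullback.fst h (hb.fst' y)) ≫ a) ≫ f =
      ((AlgSp.yon S).map (pullback.snd h (hb.fst' y)) ≫ (AlgSp.yon S).map (hb.snd y)) ≫ y := by
    rw [Category.assoc]
    exact outer.w.symm
  have hc1 : sq.lift _ _ wc ≫ p = (AlgSp.yon S).map (pullback.fst h (hb.fst' y)) ≫ a :=
    sq.lift_fst _ _ wc
  have hc2 : sq.lift _ _ wc ≫ q =
      (AlgSp.yon S).map (pullback.snd h (hb.fst' y)) ≫ (AlgSp.yon S).map (hb.snd y) :=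
    sq.lift_snd _ _ wc
  rw [← hc2] at outer
  refine ⟨sq.lift _ _ wc, IsPullback.of_right outer hc1 sq.flip, ?_⟩
  rw [hc2, Functor.map_comp]

/-- The scheme-level pullback square underlying `U ×_V V_T`. -/
theorem isPullback_left_pullback {U V W : Over S} (h : U ⟶ V) (φ : W ⟶ V) :
    IsPullback (pullback.fst h φ).left (pullback.snd h φ).left h.left φ.left :=
  (IsPullback.of_hasPullback h φ).map (Over.forget S)

/-- If `j ≫ f` is locally quasi-finite etale locally, for `j : X' ⟶ X` representable by open immersions, then the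
points of `X'` lie in the image of the quasi-finite locus of any chart with surjective source chart. -/
theorem range_subset_image_quasiFiniteLocus {X' X Y : AlgSp.Sp S} (j : X' ⟶ X) (f : X ⟶ Y)
    (hj : AlgSp.RepWith @IsOpenImmersion j)
    (hjf : AlgSp.LocP (@LocallyQuasiFinite ⊓ @LocallyOfFiniteType) (j ≫ f))
    {U V : Over S} (a : (AlgSp.yon S).obj U ⟶ X) (b : (AlgSp.yon S).obj V ⟶ Y) (h : U ⟶ V)
    (hae : AlgSp.RepWith @Etale a) (has : AlgSp.RepWith @Surjective a) (hbe : AlgSp.RepWith @Etale b)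
    (wh : a ≫ f = (AlgSp.yon S).map h ≫ b) [LocallyOfFiniteType h.left] :
    Set.range (AlgSp.Points.map j) ⊆
      AlgSp.Points.ofPt a '' (h.left.quasiFiniteLocus : Set ↥U.left) := by
  rintro _ ⟨x1, rfl⟩
  have hrep : AlgSp.Representable j := hj.rep
  have sqj := hrep.isPullback a
  have hs : IsOpenImmersion (hrep.snd a).left := hj.property_snd a
  have ha1e : AlgSp.RepWith @Etale (hrep.fst a) := MorphismProperty.of_isPullback sqj.flip hae
  have ha1s : AlgSp.RepWith @Surjective (hrep.fst a) := MorphismProperty.of_isPullback sqj.flip has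
  have w1 : hrep.fst a ≫ j ≫ f = (AlgSp.yon S).map (hrep.snd a ≫ h) ≫ b := by
    rw [← Category.assoc, sqj.w, Category.assoc, wh, Functor.map_comp, Category.assoc]
  have hP := hjf (hrep.fst a) b (hrep.snd a ≫ h) ha1e hbe w1
  have hlqf : LocallyQuasiFinite ((hrep.snd a).left ≫ h.left) := hP.1
  obtain ⟨u1, rfl⟩ := surjective_ofPt _ ha1s x1
  refine ⟨(hrep.snd a).left u1, ?_, ?_⟩
  · change h.left.QuasiFiniteAt _
    rw [← Scheme.Hom.quasiFiniteAt_comp_iff_of_isOpenImmersion]
    exact Scheme.Hom.quasiFiniteAt _ u1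
  · rw [AlgSp.Points.map_ofPt, sqj.w, ofPt_yon_map_comp]

end Groth.Agent.Lib.H15.AS
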