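import Mathlib
import Groth.Prelude.Def_AlgSp
import Groth.Prelude.Def_AlgSp2
import Groth.Prelude.Def_AlgSp3
import Groth.Prelude.Def_AlgSp4
import Groth.Prelude.Def_AlgSpCov
import Groth.Agent.Lib.helper15.AlgSpLocPGen
import Groth.Agent.Lib.helper15.AlgSpLocPGen2
import Groth.Agent.Lib.helper15.AlgSpEtale2

set_option autoImplicit false
universe u
open CategoryTheory CategoryTheory.Limits AlgebraicGeometry Opposite Topology

namespace Groth.Agent.Lib.H15.AS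

variable {S : Scheme.{u}}

/-- A refinement by a family indexed by an arbitrary finite type can be re-indexed by `Fin m`. -/
theorem fpqc_refine_of_finite {X : AlgSp.Sp S} {ι : Type u} {Y : ι → AlgSp.Sp S}
    {g : ∀ i, Y i ⟶ X} {Z : Over S} (h : (AlgSp.yon S).obj Z ⟶ X) (J : Type) [Finite J]
    (W : J → Over S) (c : ∀ j, W j ⟶ Z) (hW : ∀ j, IsAffine (W j).left)
    (hc : ∀ j, Flat (c j).left) (hs : ∀ z : ↥Z.left, ∃ j, z ∈ Set.range (c j).left)
    (hl : ∀ j, ∃ (i : _) (l : (AlgSp.yon S).obj (W j) ⟶ Y i),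
      l ≫ g i = (AlgSp.yon S).map (c j) ≫ h) :
    ∃ (m : ℕ) (W : Fin m → Over S) (c : ∀ j, W j ⟶ Z),
        (∀ j, IsAffine (W j).left) ∧ (∀ j, Flat (c j).left) ∧
        (∀ z : ↥Z.left, ∃ j, z ∈ Set.range (c j).left) ∧
        ∀ j, ∃ (i : _) (l : (AlgSp.yon S).obj (W j) ⟶ Y i),
          l ≫ g i = (AlgSp.yon S).map (c j) ≫ h := by
  obtain ⟨m, ⟨e⟩⟩ := Finite.exists_equiv_fin J
  refine ⟨m, fun t => W (e.symm t), fun t => c (e.symm t), fun t => hW _, fun t => hc _, ?_,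
    fun t => hl _⟩
  intro z
  obtain ⟨j, hj⟩ := hs z
  obtain ⟨t, rfl⟩ := e.symm.surjective j
  exact ⟨t, hj⟩

/-- Fpqc coverings compose. -/
theorem isFpqcCover_sigma {X : AlgSp.Sp S} (hX : AlgSp.IsAlgSpace X) {ι : Type u}
    (Xi : ι → AlgSp.Sp S) (hXi : ∀ i, AlgSp.IsAlgSpace (Xi i)) (g : ∀ i, Xi i ⟶ X)
    (κ : ι → Type u) (Xij : ∀ i, κ i → AlgSp.Sp S) (hXij : ∀ i j, AlgSp.IsAlgSpace (Xij i j))
    (gij : ∀ i j, Xij i j ⟶ Xi i)
    (h : AlgSp.IsFpqcCover Xi g) (hij : ∀ i, AlgSp.IsFpqcCover (Xij i) (gij i)) :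
    AlgSp.IsFpqcCover (fun r : Σ i, κ i => Xij r.1 r.2) (fun r => gij r.1 r.2 ≫ g r.1) := by
  refine ⟨fun r => ?_, ?_⟩
  · exact locP_comp_gen goodP_flat (hXij _ _) (hXi _) hX ((hij r.1).1 r.2) (h.1 r.1)
  · intro Z hZ h'
    obtain ⟨m, W, c, hW, hc, hsurj, hl⟩ := h.2 Z hZ h'
    choose i l hl using hl
    have key := fun j => (hij (i j)).2 (W j) (hW j) (l j)
    choose mm W' c' hW' hc' hsurj' hl' using key
    refine fpqc_refine_of_finite h' (Σ j : Fin m, Fin (mm j)) (fun s => W' s.1 s.2)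
      (fun s => c' s.1 s.2 ≫ c s.1) (fun s => hW' _ _) (fun s => ?_) ?_ (fun s => ?_)
    · rw [Over.comp_left]
      have := hc' s.1 s.2
      have := hc s.1
      infer_instance
    · intro z
      obtain ⟨j, w, rfl⟩ := hsurj z
      obtain ⟨k, w', rfl⟩ := hsurj' j w
      exact ⟨⟨j, k⟩, w', rfl⟩
    · obtain ⟨r, l'', hl''⟩ := hl' s.1 s.2
      refine ⟨⟨i s.1, r⟩, l'', ?_⟩
      rw [← Category.assoc, hl'', Category.assoc, hl, Functor.map_comp, Category.assoc]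

end Groth.Agent.Lib.H15.AS
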