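import Mathlib
import Groth.Prelude.Def_AlgSp
import Groth.Prelude.Def_AlgSp2
import Groth.Prelude.Def_AlgSp3
import Groth.Prelude.Def_AlgSp4
import Groth.Prelude.Def_AlgSpCov
import Groth.Agent.Lib.helper15.AlgSpFpqcCov
import Groth.Agent.Lib.helper15.AlgSpLocP2
import Groth.Agent.Lib.helper15.AlgSpSeven2

set_option autoImplicit false
universe u v
open CategoryTheory CategoryTheory.Limits AlgebraicGeometry Opposite Topology

namespace Groth.Agent.Lib.H15.AS

variable {S : Scheme.{u}}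

/-- Universe polymorphic version of `fpqc_refine_of_finite`. -/
theorem fpqc_refine_of_finite' {X : AlgSp.Sp S} {ι : Type u} {Y : ι → AlgSp.Sp S}
    {g : ∀ i, Y i ⟶ X} {Z : Over S} (h : (AlgSp.yon S).obj Z ⟶ X) (J : Type v) [Finite J]
    (W : J → Over S) (c : ∀ j, W j ⟶ Z) (hW : ∀ j, IsAffine (W j).left)
    (hc : ∀ j, Flat (c j).left) (hs : ∀ z : ↥Z.left, ∃ j, z ∈ Set.range (c j).left)
    (hl : ∀ j, ∃ (i : _) (l : (AlgSp.yon S).obj (W j) ⟶ Y i),
      l ≫ g i = (AlgSp.yon S).map (c j) ≫ h) :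
    ∃ (m : ℕ) (W : Fin m → Over S) (c : ∀ j, W j ⟶ Z),
        (∀ j, IsAffine (W j).left) ∧ (∀ j, Flat (c j).left) ∧
        (∀ z : ↥Z.left, ∃ j, z ∈ Set.range (c j).left) ∧
        ∀ j, ∃ (i : _) (l : (AlgSp.yon S).obj (W j) ⟶ Y i),
          l ≫ g i = (AlgSp.yon S).map (c j) ≫ h := by
  obtain ⟨m, ⟨e⟩⟩ := Finite.exists_equiv_fin J
  refine ⟨m, fun t => W (e.symm t), fun t => c (e.symm t), fun t => hW _, fun t => hc _, ?_,
    fun t => hl _⟩
  intro z
  obtain ⟨j, hj⟩ := hs z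
  obtain ⟨t, rfl⟩ := e.symm.surjective j
  exact ⟨t, hj⟩

/-- An fppf covering of an algebraic space by algebraic spaces is an fpqc covering. -/
theorem isFpqcCover_of_isFppfCover {X : AlgSp.Sp S} (hX : AlgSp.IsAlgSpace X) {ι : Type u}
    (Xi : ι → AlgSp.Sp S) (hXi : ∀ i, AlgSp.IsAlgSpace (Xi i)) (g : ∀ i, Xi i ⟶ X)
    (h : AlgSp.IsFppfCover Xi g) : AlgSp.IsFpqcCover Xi g := by
  obtain ⟨hP, hsurj⟩ := h
  refine ⟨fun i => (hP i).1, ?_⟩
  intro Z hZ h'
  choose U a hae has using fun i => (hXi i).atlas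
  have hk1 : ∀ i, AlgSp.RepWith @Flat (a i ≫ g i) := fun i =>
    repWith_comp_of_locP @Flat hX (hP i).1 (a i) (hae i)
  have hk2 : ∀ i, AlgSp.RepWith @LocallyOfFinitePresentation (a i ≫ g i) := fun i =>
    repWith_comp_of_locP @LocallyOfFinitePresentation hX (hP i).2 (a i) (hae i)
  have hrep : ∀ i, AlgSp.Representable (a i ≫ g i) := fun i => (hk1 i).rep
  have sq := fun i => (hrep i).isPullback' h'
  have hfl : ∀ i, Flat ((hrep i).snd h').left := fun i => (hk1 i).property_snd h'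
  have hlfp : ∀ i, LocallyOfFinitePresentation ((hrep i).snd h').left := fun i =>
    (hk2 i).property_snd h'
  have hopen : ∀ i, IsOpenMap ((hrep i).snd h').left := fun i => by
    have := hfl i
    have := hlfp i
    exact ((hrep i).snd h').left.isOpenMap
  have hcov : ∀ z : ↥Z.left, ∃ (i : ι) (w : ↥((hrep i).pullback h').left),
      ((hrep i).snd h').left w = z := by
    intro z
    obtain ⟨i, xi, hxi⟩ := hsurj (AlgSp.Points.ofPt h' z)
    obtain ⟨u, rfl⟩ := surjective_ofPt (a i) (has i) xi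
    have e : AlgSp.Points.ofPt (a i ≫ g i) u = AlgSp.Points.ofPt h' z := by
      rw [← AlgSp.Points.map_ofPt]; exact hxi
    obtain ⟨w, -, hw2⟩ := exists_point_of_ofPt_eq (sq i) u z e
    exact ⟨i, w, hw2⟩
  choose iz wz hwz using hcov
  have haff : ∀ z, ∃ V : ((hrep (iz z)).pullback h').left.Opens, IsAffineOpen V ∧ wz z ∈ V := by
    intro z
    obtain ⟨_, ⟨V, hV, rfl⟩, hx, -⟩ :=
      ((hrep (iz z)).pullback h').left.isBasis_affineOpens.exists_subset_of_mem_open
        (Set.mem_univ (wz z)) isOpen_univ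
    exact ⟨V, hV, hx⟩
  choose V hV hwV using haff
  have hO : ∀ z, IsOpen (((hrep (iz z)).snd h').left '' (V z : Set _)) := fun z =>
    hopen _ _ (V z).isOpen
  have hcompact : CompactSpace ↥Z.left := by
    haveI : IsAffine Z.left := hZ
    infer_instance
  obtain ⟨F, hF⟩ := isCompact_univ.elim_finite_subcover _ hO
    (fun z _ => Set.mem_iUnion.2 ⟨z, wz z, hwV z, hwz z⟩)
  refine fpqc_refine_of_finite' h' (↥F)
    (fun z => Over.mk ((V z.1).ι ≫ ((hrep (iz z.1)).pullback h').hom))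
    (fun z => Over.homMk ((V z.1).ι ≫ ((hrep (iz z.1)).snd h').left)
      (by simp [Category.assoc])) (fun z => hV z.1) (fun z => ?_) ?_ (fun z => ?_)
  · have := hfl (iz z.1)
    change Flat ((V z.1).ι ≫ ((hrep (iz z.1)).snd h').left)
    infer_instance
  · intro z
    obtain ⟨z', hz', w, hw, hwz'⟩ := Set.mem_iUnion₂.1 (hF (Set.mem_univ z))
    refine ⟨⟨z', hz'⟩, ⟨w, hw⟩, ?_⟩
    exact hwz'
  · let j : Over.mk ((V z.1).ι ≫ ((hrep (iz z.1)).pullback h').hom) ⟶
        (hrep (iz z.1)).pullback h' := Over.homMk (V z.1).ι rfl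
    refine ⟨iz z.1, (AlgSp.yon S).map j ≫ (AlgSp.yon S).map ((hrep (iz z.1)).fst' h') ≫ a (iz z.1),
      ?_⟩
    have e : (Over.homMk ((V z.1).ι ≫ ((hrep (iz z.1)).snd h').left) (by simp [Category.assoc]) :
        Over.mk ((V z.1).ι ≫ ((hrep (iz z.1)).pullback h').hom) ⟶ Z) =
          j ≫ (hrep (iz z.1)).snd h' := by
      ext; rfl
    rw [e, Functor.map_comp, Category.assoc, Category.assoc, Category.assoc]
    congr 1
    exact (sq (iz z.1)).w

end Groth.Agent.Lib.H15.AS
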