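import Mathlib
import Groth.Prelude.Def_AlgSp
import Groth.Prelude.Def_AlgSp2
import Groth.Prelude.Def_AlgSp3
import Groth.Prelude.Def_AlgSp4
import Groth.Prelude.Def_AlgSpCov
import Groth.Agent.Lib.helper15.AlgSpFpqcCov2

set_option autoImplicit false
universe u v
open CategoryTheory CategoryTheory.Limits AlgebraicGeometry Opposite Topology

namespace Groth.Agent.Lib.H15.AS

variable {S : Scheme.{u}}

/-- A morphism from an affine scheme to a sheaf with an etale surjective chart lifts to the chart on a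
finite affine etale cover. -/
theorem exists_finite_affine_etale_refinement {X : AlgSp.Sp S} {U : Over S}
    (p : (AlgSp.yon S).obj U ⟶ X) (hp : AlgSp.RepWith @Etale p) (hps : AlgSp.RepWith @Surjective p)
    (Z : Over S) (hZ : IsAffine Z.left) (h : (AlgSp.yon S).obj Z ⟶ X) :
    ∃ (m : ℕ) (Z' : Fin m → Over S) (c : ∀ k, Z' k ⟶ Z) (d : ∀ k, Z' k ⟶ U),
      (∀ k, IsAffine (Z' k).left) ∧ (∀ k, Etale (c k).left) ∧
      (∀ z : ↥Z.left, ∃ k, z ∈ Set.range (c k).left) ∧
      ∀ k, (AlgSp.yon S).map (d k) ≫ p = (AlgSp.yon S).map (c k) ≫ h := by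
  have hrep : AlgSp.Representable p := hp.rep
  have sq := hrep.isPullback' h
  have het : Etale (hrep.snd h).left := hp.property_snd h
  have hsu : Surjective (hrep.snd h).left := hps.property_snd h
  have hopen : IsOpenMap (hrep.snd h).left := (hrep.snd h).left.isOpenMap
  choose wz hwz using (hrep.snd h).left.surjective
  have haff : ∀ z, ∃ V : (hrep.pullback h).left.Opens, IsAffineOpen V ∧ wz z ∈ V := by
    intro z
    obtain ⟨_, ⟨V, hV, rfl⟩, hx, -⟩ :=
      (hrep.pullback h).left.isBasis_affineOpens.exists_subset_of_mem_open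
        (Set.mem_univ (wz z)) isOpen_univ
    exact ⟨V, hV, hx⟩
  choose V hV hwV using haff
  have hO : ∀ z, IsOpen ((hrep.snd h).left '' (V z : Set _)) := fun z => hopen _ (V z).isOpen
  have hcompact : CompactSpace ↥Z.left := by
    haveI : IsAffine Z.left := hZ
    infer_instance
  obtain ⟨F, hF⟩ := isCompact_univ.elim_finite_subcover _ hO
    (fun z _ => Set.mem_iUnion.2 ⟨z, wz z, hwV z, hwz z⟩)
  obtain ⟨m, ⟨e⟩⟩ := Finite.exists_equiv_fin (↥F)
  let j : ∀ z : ↥Z.left, Over.mk ((V z).ι ≫ (hrep.pullback h).hom) ⟶ hrep.pullback h :=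
    fun z => Over.homMk (V z).ι rfl
  refine ⟨m, fun k => Over.mk ((V (e.symm k).1).ι ≫ (hrep.pullback h).hom),
    fun k => j (e.symm k).1 ≫ hrep.snd h, fun k => j (e.symm k).1 ≫ hrep.fst' h,
    fun k => hV _, fun k => ?_, ?_, fun k => ?_⟩
  · rw [Over.comp_left]
    change Etale ((V (e.symm k).1).ι ≫ (hrep.snd h).left)
    infer_instance
  · intro z
    obtain ⟨z', hz', w, hw, hwz'⟩ := Set.mem_iUnion₂.1 (hF (Set.mem_univ z))
    obtain ⟨k, hk⟩ := e.symm.surjective ⟨z', hz'⟩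
    refine ⟨k, ?_⟩
    show z ∈ Set.range ((j (e.symm k).1 ≫ hrep.snd h).left)
    generalize e.symm k = s at hk
    subst hk
    exact ⟨⟨w, hw⟩, hwz'⟩
  · rw [Functor.map_comp, Functor.map_comp, Category.assoc, Category.assoc]
    congr 1
    exact sq.w

end Groth.Agent.Lib.H15.AS

namespace Groth.Agent.Lib.H15.AS

variable {S : Scheme.{u}}

/-- Base change of an fpqc covering (sheaf-level version). -/
theorem isFpqcCover_of_isPullback {X X' : AlgSp.Sp S} (hX : AlgSp.IsAlgSpace X)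
    (hX' : AlgSp.IsAlgSpace X') (a : X' ⟶ X) {ι : Type u}
    (Xi : ι → AlgSp.Sp S) (hXi : ∀ i, AlgSp.IsAlgSpace (Xi i)) (g : ∀ i, Xi i ⟶ X)
    (Xi' : ι → AlgSp.Sp S) (q : ∀ i, Xi' i ⟶ X') (p : ∀ i, Xi' i ⟶ Xi i)
    (sq : ∀ i, IsPullback (q i) (p i) a (g i)) (h : AlgSp.IsFpqcCover Xi g) :
    AlgSp.IsFpqcCover Xi' q := by
  obtain ⟨hfl, hcov⟩ := h
  refine ⟨fun i => ?_, ?_⟩
  · exact locP_of_isPullback_gen goodP_flat (hXi i) hX hX' (sq i).flip (hfl i)
  · intro Z hZ h'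
    obtain ⟨m, W, c, hW, hc, hsurj, hl⟩ := hcov Z hZ (h' ≫ a)
    refine ⟨m, W, c, hW, hc, hsurj, fun j => ?_⟩
    obtain ⟨i, l, hl⟩ := hl j
    refine ⟨i, (sq i).lift ((AlgSp.yon S).map (c j) ≫ h') l ?_, ?_⟩
    · rw [Category.assoc]; exact hl.symm
    · exact (sq i).lift_fst _ _ _

/-- A family is an fpqc covering if its base change to an etale surjective chart is. -/
theorem isFpqcCover_of_chart {X : AlgSp.Sp S} {ι : Type u}
    (Xi : ι → AlgSp.Sp S) (g : ∀ i, Xi i ⟶ X) {U : Over S} (p : (AlgSp.yon S).obj U ⟶ X)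
    (hp : AlgSp.RepWith @Etale p) (hps : AlgSp.RepWith @Surjective p)
    (Ui : ι → AlgSp.Sp S) (hUi : ∀ i, AlgSp.IsAlgSpace (Ui i))
    (q : ∀ i, Ui i ⟶ (AlgSp.yon S).obj U) (p' : ∀ i, Ui i ⟶ Xi i)
    (sq : ∀ i, IsPullback (q i) (p' i) p (g i)) (h : AlgSp.IsFpqcCover Ui q) :
    AlgSp.IsFpqcCover Xi g := by
  obtain ⟨hfl, hcov⟩ := h
  refine ⟨fun i => ?_, ?_⟩
  · obtain ⟨V, b, hbe, hbs⟩ := (hUi i).atlas
    have hp'e : AlgSp.RepWith @Etale (p' i) := MorphismProperty.of_isPullback (sq i) hp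
    have hp's : AlgSp.RepWith @Surjective (p' i) := MorphismProperty.of_isPullback (sq i) hps
    obtain ⟨k, hk⟩ := (AlgSp.yon S).map_surjective (b ≫ q i)
    have hkf : Flat k.left := hfl i b (𝟙 _) k hbe (AlgSp.repWith_id _ U)
      (by rw [hk, Category.comp_id])
    refine locP_of_chart_gen goodP_flat (b ≫ p' i) p k
      (MorphismProperty.comp_mem _ _ _ hbe hp'e) (MorphismProperty.comp_mem _ _ _ hbs hp's) hp ?_ hkf
    rw [hk, Category.assoc, Category.assoc, (sq i).w]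
  · intro Z hZ h'
    obtain ⟨m, Z', c, d, hZ', hc, hsurj, hd⟩ :=
      exists_finite_affine_etale_refinement p hp hps Z hZ h'
    have key := fun k => hcov (Z' k) (hZ' k) ((AlgSp.yon S).map (d k))
    choose mm W' c' hW' hc' hsurj' hl' using key
    refine fpqc_refine_of_finite h' (Σ k : Fin m, Fin (mm k)) (fun s => W' s.1 s.2)
      (fun s => c' s.1 s.2 ≫ c s.1) (fun s => hW' _ _) (fun s => ?_) ?_ (fun s => ?_)
    · rw [Over.comp_left]
      have := hc' s.1 s.2
      have := hc s.1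
      infer_instance
    · intro z
      obtain ⟨k, w, rfl⟩ := hsurj z
      obtain ⟨k', w', rfl⟩ := hsurj' k w
      exact ⟨⟨k, k'⟩, w', rfl⟩
    · obtain ⟨i, l, hl⟩ := hl' s.1 s.2
      refine ⟨i, l ≫ p' i, ?_⟩
      rw [Category.assoc, ← (sq i).w, ← Category.assoc, hl, Category.assoc, hd, Functor.map_comp,
        Category.assoc]

end Groth.Agent.Lib.H15.AS
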