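import Mathlib
import Groth.Prelude.Def_AlgSp
import Groth.Prelude.Def_AlgSp2
import Groth.Prelude.Def_AlgSp3
import Groth.Prelude.Def_AlgSp4
import Groth.Prelude.Def_AlgSpCov
import Groth.Agent.Lib.helper15.AlgSpFpqcCov3
import Groth.Agent.Lib.helper15.AlgSpFibre
import Groth.Agent.Lib.helper15.AlgSpFibreChart
import Groth.Agent.Lib.helper15.AlgSpPoints3
import Groth.Agent.Lib.helper15.FlatSrc

set_option autoImplicit false
universe u
open CategoryTheory CategoryTheory.Limits AlgebraicGeometry Opposite Topology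

namespace Groth.Agent.Lib.H15

/-- A property that is Zariski local on the target and descends along fpqc morphisms can be checked on a
finite jointly surjective family of flat morphisms from affine schemes to an affine scheme. -/
theorem prop_of_finite_flat_cover {P : MorphismProperty Scheme.{u}} [IsZariskiLocalAtTarget P]
    [P.DescendsAlong (@Surjective ⊓ @Flat ⊓ @QuasiCompact)]
    {A Z : Scheme.{u}} [IsAffine Z] (k : A ⟶ Z) {m : ℕ} (W : Fin m → Scheme.{u}) (c : ∀ j, W j ⟶ Z)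
    [∀ j, IsAffine (W j)] (hc : ∀ j, Flat (c j)) (hs : ∀ z : Z, ∃ j, z ∈ Set.range (c j))
    (hP : ∀ j, ∃ (B : Scheme.{u}) (fst : B ⟶ A) (snd : B ⟶ W j), IsPullback fst snd k (c j) ∧ P snd) :
    P k := by
  let c' : ∐ W ⟶ Z := Sigma.desc c
  have h1 : Surjective c' := Surjective.sigmaDesc_of_union_range_eq_univ (by
    ext z
    simp only [Set.mem_iUnion, Set.mem_univ, iff_true]
    exact hs z)
  have h2 : Flat c' := IsZariskiLocalAtSource.sigmaDesc hc
  have h3 : QuasiCompact c' := inferInstance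
  refine MorphismProperty.of_pullback_snd_of_descendsAlong (P := P)
    (Q := @Surjective ⊓ @Flat ⊓ @QuasiCompact) (f := k) (g := c') ⟨⟨h1, h2⟩, h3⟩ ?_
  rw [IsZariskiLocalAtTarget.iff_of_openCover (P := P) (sigmaOpenCover W)]
  intro j
  have sq1 : IsPullback (pullback.fst (pullback.snd k c') (Sigma.ι W j))
      (pullback.snd (pullback.snd k c') (Sigma.ι W j)) (pullback.snd k c') (Sigma.ι W j) :=
    IsPullback.of_hasPullback _ _
  have sq2 : IsPullback (pullback.fst k c') (pullback.snd k c') k c' := IsPullback.of_hasPullback _ _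
  have sq3 := sq1.paste_horiz sq2
  have e : Sigma.ι W j ≫ c' = c j := Sigma.ι_desc _ _
  rw [e] at sq3
  obtain ⟨B, fst, snd, sq4, hsnd⟩ := hP j
  change P (pullback.snd (pullback.snd k c') (Sigma.ι W j))
  rw [← sq3.isoIsPullback_hom_snd _ _ sq4]
  exact (P.cancel_left_of_respectsIso _ _).2 hsnd

end Groth.Agent.Lib.H15

namespace Groth.Agent.Lib.H15.AS

variable {S : Scheme.{u}}

/-- Key step: over an affine scheme `Z`, if a finite flat affine jointly surjective family `W j ⟶ Z` is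
such that the base changes of `sndZ : XZ ⟶ h_Z` to the `W j` have `Q` etale locally, then any etale chart of
`XZ` has `Q` over `Z`. -/
theorem prop_chart_of_fpqc_refinement {Q : MorphismProperty Scheme.{u}}
    [IsZariskiLocalAtTarget Q] [Q.DescendsAlong (@Surjective ⊓ @Flat ⊓ @QuasiCompact)]
    {XZ : AlgSp.Sp S} {Z : Over S} (hZ : IsAffine Z.left) (sndZ : XZ ⟶ (AlgSp.yon S).obj Z)
    {A : Over S} (aZ : (AlgSp.yon S).obj A ⟶ XZ) (haZ : AlgSp.RepWith @Etale aZ) (k : A ⟶ Z)
    (hk : aZ ≫ sndZ = (AlgSp.yon S).map k)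
    {m : ℕ} (W : Fin m → Over S) (c : ∀ j, W j ⟶ Z) (hW : ∀ j, IsAffine (W j).left)
    (hc : ∀ j, Flat (c j).left) (hs : ∀ z : ↥Z.left, ∃ j, z ∈ Set.range (c j).left)
    (H : ∀ j, ∃ (XW : AlgSp.Sp S) (r : XW ⟶ XZ) (sndW : XW ⟶ (AlgSp.yon S).obj (W j)),
      IsPullback r sndW sndZ ((AlgSp.yon S).map (c j)) ∧ AlgSp.LocP Q sndW) :
    Q k.left := by
  haveI : IsAffine Z.left := hZ
  haveI : ∀ j, IsAffine (W j).left := hW
  refine prop_of_finite_flat_cover k.left (fun j => (W j).left) (fun j => (c j).left) hc hs ?_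
  intro j
  obtain ⟨XW, r, sndW, sqR, hLoc⟩ := H j
  refine ⟨(pullback k (c j)).left, (pullback.fst k (c j)).left, (pullback.snd k (c j)).left,
    isPullback_left_pullback k (c j), ?_⟩
  have sqA : IsPullback ((AlgSp.yon S).map (pullback.fst k (c j)))
      ((AlgSp.yon S).map (pullback.snd k (c j))) ((AlgSp.yon S).map k) ((AlgSp.yon S).map (c j)) :=
    (IsPullback.of_hasPullback k (c j)).map (AlgSp.yon S)
  have wa : ((AlgSp.yon S).map (pullback.fst k (c j)) ≫ aZ) ≫ sndZ =
      (AlgSp.yon S).map (pullback.snd k (c j)) ≫ (AlgSp.yon S).map (c j) := by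
    rw [Category.assoc, hk]
    exact sqA.w
  have ha1 : sqR.lift _ _ wa ≫ r = (AlgSp.yon S).map (pullback.fst k (c j)) ≫ aZ :=
    sqR.lift_fst _ _ wa
  have ha2 : sqR.lift _ _ wa ≫ sndW = (AlgSp.yon S).map (pullback.snd k (c j)) :=
    sqR.lift_snd _ _ wa
  have sqA' : IsPullback ((AlgSp.yon S).map (pullback.fst k (c j))) (sqR.lift _ _ wa ≫ sndW)
      (aZ ≫ sndZ) ((AlgSp.yon S).map (c j)) := by
    rw [ha2, hk]
    exact sqA
  have sq3 : IsPullback ((AlgSp.yon S).map (pullback.fst k (c j))) (sqR.lift _ _ wa) aZ r :=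
    IsPullback.of_bot sqA' ha1.symm sqR
  have hae : AlgSp.RepWith @Etale (sqR.lift _ _ wa) := MorphismProperty.of_isPullback sq3 haZ
  exact hLoc (sqR.lift _ _ wa) (𝟙 _) (pullback.snd k (c j)) hae (AlgSp.repWith_id _ _)
    (by rw [ha2, Category.comp_id])

end Groth.Agent.Lib.H15.AS

namespace Groth.Agent.Lib.H15.AS

variable {S : Scheme.{u}}

/-- `LocP Q` is fpqc local on the base, for good `Q` descending along fpqc morphisms of schemes. -/
theorem isLocalOnBase_fpqc_locP {Q : MorphismProperty Scheme.{u}} (hQ : GoodP Q)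
    [IsZariskiLocalAtTarget Q] [IsZariskiLocalAtSource Q]
    [Q.DescendsAlong (@Surjective ⊓ @Flat ⊓ @QuasiCompact)] :
    AlgSp.IsLocalOnBase (AlgSp.IsFpqcCover (S := S)) (AlgSp.LocP Q) := by
  intro ι Y Yi g hY hYi hcov X f hX Xi p q hXi sq
  have := hQ.mul
  constructor
  · intro hf i
    exact locP_of_isPullback_gen hQ hX hY (hYi i) (sq i) hf
  · intro H
    apply locP_of_forall_hasAtMor hQ
    intro x
    obtain ⟨V, b, hbe, hbs⟩ := hY.atlas
    obtain ⟨v, hv⟩ := surjective_ofPt b hbs (AlgSp.Points.map f x)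
    obtain ⟨Z₀, hZ₀, hvZ⟩ : ∃ Z₀ : V.left.Opens, IsAffineOpen Z₀ ∧ v ∈ Z₀ := by
      obtain ⟨_, ⟨Z₀, hZ₀, rfl⟩, hx, -⟩ :=
        V.left.isBasis_affineOpens.exists_subset_of_mem_open (Set.mem_univ v) isOpen_univ
      exact ⟨Z₀, hZ₀, hx⟩
    let Z : Over S := overOpen V Z₀
    let ιZ : Z ⟶ V := overOpenι V Z₀
    have hZaff : IsAffine Z.left := hZ₀
    have hιe : Etale ιZ.left := by change Etale Z₀.ι; infer_instance
    obtain ⟨h, hh⟩ : ∃ h : (AlgSp.yon S).obj Z ⟶ Y, h = (AlgSp.yon S).map ιZ ≫ b := ⟨_, rfl⟩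
    have hhe : AlgSp.RepWith @Etale h := by
      rw [hh]; exact repWith_yon_map_comp @Etale ιZ b hιe hbe
    have sqZ := IsPullback.of_hasPullback f h
    have hXZ : AlgSp.IsAlgSpace (pullback f h) :=
      isAlgSpace_of_isPullback hY.diag hX (AlgSp.IsAlgSpace.yon_obj Z) sqZ
    have hfste : AlgSp.RepWith @Etale (pullback.fst f h) :=
      MorphismProperty.of_isPullback sqZ.flip hhe
    -- the point
    let z₀ : ↥Z.left := ⟨v, hvZ⟩
    have e : AlgSp.Points.map f x = AlgSp.Points.map h (AlgSp.Points.ofScheme Z z₀) := by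
      rw [← AlgSp.Points.ofPt_eq_map_ofScheme, hh, ofPt_yon_map_comp, ← hv]
      rfl
    obtain ⟨ξ, hξ1, -⟩ := points_exists_of_isPullback sqZ x _ e
    obtain ⟨A, aZ, haZe, haZs⟩ := hXZ.atlas
    obtain ⟨α, hα⟩ := surjective_ofPt aZ haZs ξ
    obtain ⟨k, hk⟩ := (AlgSp.yon S).map_surjective (aZ ≫ pullback.snd f h)
    -- the key claim
    have hQk : Q k.left := by
      obtain ⟨m, W, c, hW, hc, hsurj, hl⟩ := hcov.2 Z hZaff h
      refine prop_chart_of_fpqc_refinement hZaff (pullback.snd f h) aZ haZe k hk.symm W c hW hc hsurj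
        ?_
      intro j
      obtain ⟨i, l, hl⟩ := hl j
      have sqW := IsPullback.of_hasPullback (p i) l
      have hLoc : AlgSp.LocP Q (pullback.snd (p i) l) :=
        locP_of_isPullback_gen hQ (hXi i) (hYi i) (AlgSp.IsAlgSpace.yon_obj (W j)) sqW (H i)
      have outer : IsPullback (pullback.fst (p i) l ≫ q i) (pullback.snd (p i) l) f
          ((AlgSp.yon S).map (c j) ≫ h) := by
        rw [← hl]
        exact sqW.paste_horiz (sq i)
      have wouter : (pullback.fst (p i) l ≫ q i) ≫ f =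
          (pullback.snd (p i) l ≫ (AlgSp.yon S).map (c j)) ≫ h :=
        outer.w.trans (Category.assoc _ _ _).symm
      have hr1 : sqZ.lift _ _ wouter ≫ pullback.fst f h = pullback.fst (p i) l ≫ q i :=
        sqZ.lift_fst _ _ wouter
      have hr2 : sqZ.lift _ _ wouter ≫ pullback.snd f h =
          pullback.snd (p i) l ≫ (AlgSp.yon S).map (c j) := sqZ.lift_snd _ _ wouter
      rw [← hr1] at outer
      exact ⟨pullback (p i) l, sqZ.lift _ _ wouter, pullback.snd (p i) l,
        IsPullback.of_right outer hr2 sqZ, hLoc⟩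
    refine ⟨A, V, aZ ≫ pullback.fst f h, b, k ≫ ιZ, α, MorphismProperty.comp_mem _ _ _ haZe hfste,
      hbe, ?_, ?_, ⊤, trivial, ?_⟩
    · rw [Category.assoc, sqZ.w, ← Category.assoc, ← hk, hh, Functor.map_comp, Category.assoc]
    · rw [← AlgSp.Points.map_ofPt, hα, hξ1]
    · rw [Over.comp_left]
      exact Q.comp_mem _ _ (hQ.etale_le _ (inferInstance : Etale (⊤ : A.left.Opens).ι))
        (Q.comp_mem _ _ hQk (hQ.etale_le _ hιe))

end Groth.Agent.Lib.H15.AS
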