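import Mathlib
import Groth.Prelude.Def_AlgSp
import Groth.Prelude.Def_AlgSp2
import Groth.Prelude.Def_AlgSp3
import Groth.Prelude.Def_AlgSp4
import Groth.Prelude.Def_AlgSpCov
import Groth.Agent.Lib.helper15.AlgSpFpqcLocal
import Groth.Agent.Lib.helper15.AlgSpQC
import Groth.Agent.Lib.helper15.LqfSrc
import Groth.Agent.Lib.helper15.AlgSpSeven

set_option autoImplicit false
universe u
open CategoryTheory CategoryTheory.Limits AlgebraicGeometry Opposite Topology

namespace Groth.Agent.Lib.H15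

instance lqf_lft_descendsAlong_fpqc :
    MorphismProperty.DescendsAlong
      ((@LocallyQuasiFinite : MorphismProperty Scheme.{u}) ⊓ @LocallyOfFiniteType)
      (@Surjective ⊓ @Flat ⊓ @QuasiCompact) where
  of_isPullback {A X Y Z fst snd f g} sq hf hfst := by
    have : Surjective f := hf.1.1
    have : LocallyQuasiFinite fst := hfst.1
    have hg : LocallyOfFiniteType g :=
      MorphismProperty.of_isPullback_of_descendsAlong
        (Q := @Surjective ⊓ @Flat ⊓ @QuasiCompact) (P := @LocallyOfFiniteType)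
        sq hf hfst.2
    exact ⟨lqf_of_isPullback_surjective sq, hg⟩

end Groth.Agent.Lib.H15

namespace Groth.Agent.Lib.H15.AS

variable {S : Scheme.{u}}

/-- Quasi-compactness of morphisms of algebraic spaces is fpqc local on the base. -/
theorem isLocalOnBase_fpqc_isQuasiCompactMor :
    AlgSp.IsLocalOnBase (AlgSp.IsFpqcCover (S := S)) AlgSp.IsQuasiCompactMor := by
  intro ι Y Yi g hY hYi hcov X f hX Xi p q hXi sq
  constructor
  · intro hf i Z Z' hZ hZqc gZ fst snd sqZ
    exact hf hZ hZqc (gZ ≫ g i) (fst ≫ q i) snd (sqZ.paste_horiz (sq i))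
  · intro H Z Z' hZ hZqc gZ fst snd sqZ
    have hZ' : AlgSp.IsAlgSpace Z' := isAlgSpace_of_isPullback hY.diag hX hZ sqZ
    obtain ⟨U, pU, hUaff, hpUe, hpUs⟩ := exists_affine_chart_of_isQuasiCompactSp hZqc
    obtain ⟨m, W, c, hW, hc, hsurj, hl⟩ := hcov.2 U hUaff (pU ≫ gZ)
    choose i l hl using hl
    -- the pieces
    have hT : ∀ j, AlgSp.IsQuasiCompactSp (pullback (p (i j)) (l j)) := fun j => by
      haveI : IsAffine (W j).left := hW j
      exact H (i j) (AlgSp.IsAlgSpace.yon_obj (W j)) (isQuasiCompactSp_yon (W j)) (l j) _ _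
        (IsPullback.of_hasPullback _ _)
    have hTc : ∀ j, CompactSpace (AlgSp.Points (pullback (p (i j)) (l j))) := fun j =>
      compactSpace_of_isQuasiCompactSp (hT j)
    have outer : ∀ j, IsPullback (pullback.fst (p (i j)) (l j) ≫ q (i j))
        (pullback.snd (p (i j)) (l j)) f (((AlgSp.yon S).map (c j) ≫ pU) ≫ gZ) := fun j => by
      have e : ((AlgSp.yon S).map (c j) ≫ pU) ≫ gZ = l j ≫ g (i j) :=
        (Category.assoc _ _ _).trans (hl j).symm
      rw [e]
      exact (IsPullback.of_hasPullback (p (i j)) (l j)).paste_horiz (sq (i j))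
    have wout : ∀ j, (pullback.fst (p (i j)) (l j) ≫ q (i j)) ≫ f =
        (pullback.snd (p (i j)) (l j) ≫ ((AlgSp.yon S).map (c j) ≫ pU)) ≫ gZ := fun j =>
      (outer j).w.trans (Category.assoc _ _ _).symm
    have hρ1 : ∀ j, sqZ.lift _ _ (wout j) ≫ fst = pullback.fst (p (i j)) (l j) ≫ q (i j) :=
      fun j => sqZ.lift_fst _ _ (wout j)
    have hρ2 : ∀ j, sqZ.lift _ _ (wout j) ≫ snd =
        pullback.snd (p (i j)) (l j) ≫ ((AlgSp.yon S).map (c j) ≫ pU) :=
      fun j => sqZ.lift_snd _ _ (wout j)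
    have sqρ : ∀ j, IsPullback (sqZ.lift _ _ (wout j)) (pullback.snd (p (i j)) (l j)) snd
        ((AlgSp.yon S).map (c j) ≫ pU) := fun j => by
      have o := outer j
      rw [← hρ1 j] at o
      exact IsPullback.of_right o (hρ2 j) sqZ
    have hcover : (Set.univ : Set (AlgSp.Points Z')) =
        ⋃ j : Fin m, Set.range (AlgSp.Points.map (sqZ.lift _ _ (wout j))) := by
      symm
      rw [Set.eq_univ_iff_forall]
      intro ζ
      obtain ⟨u, hu⟩ := surjective_ofPt pU hpUs (AlgSp.Points.map snd ζ)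
      obtain ⟨j, w, rfl⟩ := hsurj u
      have e : AlgSp.Points.map snd ζ = AlgSp.Points.map ((AlgSp.yon S).map (c j) ≫ pU)
          (AlgSp.Points.ofScheme (W j) w) := by
        rw [← AlgSp.Points.ofPt_eq_map_ofScheme, ofPt_yon_map_comp, hu]
      obtain ⟨τ, hτ, -⟩ := points_exists_of_isPullback (sqρ j) ζ _ e
      exact Set.mem_iUnion.2 ⟨j, τ, hτ⟩
    have hc' : IsCompact (Set.univ : Set (AlgSp.Points Z')) := by
      rw [hcover]
      refine isCompact_iUnion (fun j => ?_)
      haveI := hTc j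
      exact isCompact_range (AlgSp.Points.continuous_map _)
    haveI : CompactSpace (AlgSp.Points Z') := ⟨hc'⟩
    exact isQuasiCompactSp_of_compactSpace hZ'.atlas

end Groth.Agent.Lib.H15.AS

namespace Groth.Agent.Lib.H15.AS

variable {S : Scheme.{u}}

/-- A conjunction of properties local on the base is local on the base. -/
theorem isLocalOnBase_and {τ : AlgSp.CovNotion S} {P P' : MorphismProperty (AlgSp.Sp S)}
    (hP : AlgSp.IsLocalOnBase τ P) (hP' : AlgSp.IsLocalOnBase τ P') :
    AlgSp.IsLocalOnBase τ (fun _ _ f => P f ∧ P' f) := by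
  intro ι Y Yi g hY hYi hcov X f hX Xi p q hXi sq
  have h1 := hP Yi g hY hYi hcov f hX Xi p q hXi sq
  have h2 := hP' Yi g hY hYi hcov f hX Xi p q hXi sq
  constructor
  · rintro ⟨a, b⟩ i
    exact ⟨h1.1 a i, h2.1 b i⟩
  · intro H
    exact ⟨h1.2 (fun i => (H i).1), h2.2 (fun i => (H i).2)⟩

theorem isLocalOnBase_fpqc_lqf :
    AlgSp.IsLocalOnBase (AlgSp.IsFpqcCover (S := S))
      (AlgSp.LocP (@LocallyQuasiFinite ⊓ @LocallyOfFiniteType)) :=
  isLocalOnBase_fpqc_locP goodP_lqf_lft

end Groth.Agent.Lib.H15.AS
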