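import Mathlib
import Groth.Prelude.Def_AlgSp
import Groth.Prelude.Def_AlgSp2
import Groth.Prelude.Def_AlgSp3
import Groth.Prelude.Def_AlgSp4
import Groth.Prelude.Def_AlgSpCov
import Groth.Agent.Lib.helper15.AlgSpFpqcLocal2
import Groth.Agent.Lib.helper15.AlgSpInj
import Groth.Agent.Lib.helper15.AlgSpEtaleMono
import Groth.Agent.Lib.helper15.AlgSpEtale
import Groth.Agent.Lib.helper15.AlgSpEtale2
import Groth.Agent.Lib.helper15.AlgSpOpenSub
import Groth.Agent.Lib.helper15.AlgSpOpenSub3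

set_option autoImplicit false
universe u
open CategoryTheory CategoryTheory.Limits AlgebraicGeometry Opposite Topology

namespace Groth.Agent.Lib.H15.AS

variable {S : Scheme.{u}}

/-- An fpqc covering is jointly surjective on points. -/
theorem exists_point_of_isFpqcCover {Y : AlgSp.Sp S} {ι : Type u} {Yi : ι → AlgSp.Sp S}
    {g : ∀ i, Yi i ⟶ Y} (hcov : AlgSp.IsFpqcCover Yi g) (y : AlgSp.Points Y) :
    ∃ (i : ι) (η : AlgSp.Points (Yi i)), AlgSp.Points.map (g i) η = y := by
  obtain ⟨q, rfl⟩ := AlgSp.Points.mk_surjective y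
  have haff : IsAffine q.pt.left := by
    change IsAffine (Spec (CommRingCat.of q.K))
    infer_instance
  obtain ⟨m, W, c, hW, hc, hsurj, hl⟩ := hcov.2 q.pt haff q.toHom
  obtain ⟨j, w, hw⟩ := hsurj (default : ↥(Spec (CommRingCat.of q.K)))
  obtain ⟨i, l, hl⟩ := hl j
  refine ⟨i, AlgSp.Points.ofPt l w, ?_⟩
  rw [AlgSp.Points.map_ofPt, hl, ofPt_yon_map_comp, AlgSp.Points.ofPt_toHom]

/-- Universal injectivity descends along a family of base changes which is jointly surjective on points. -/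
theorem isUnivInjectiveMor_of_family {X Y : AlgSp.Sp S} (hY : AlgSp.IsAlgSpace Y) {ι : Type u}
    {Yi : ι → AlgSp.Sp S} (hYi : ∀ i, AlgSp.IsAlgSpace (Yi i)) {g : ∀ i, Yi i ⟶ Y}
    (hsurj : ∀ y : AlgSp.Points Y, ∃ (i : ι) (η : AlgSp.Points (Yi i)), AlgSp.Points.map (g i) η = y)
    {f : X ⟶ Y} {Xi : ι → AlgSp.Sp S} {p : ∀ i, Xi i ⟶ Yi i} {q : ∀ i, Xi i ⟶ X}
    (sq : ∀ i, IsPullback (q i) (p i) f (g i)) (h : ∀ i, AlgSp.IsUnivInjectiveMor (p i)) :
    AlgSp.IsUnivInjectiveMor f := by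
  intro Z Z' hZ gZ z1 z2 sqZ
  intro a b hab
  obtain ⟨i, η, hη⟩ := hsurj (AlgSp.Points.map gZ (AlgSp.Points.map z2 a))
  have sqV := IsPullback.of_hasPullback gZ (g i)
  have hZV : AlgSp.IsAlgSpace (pullback gZ (g i)) := isAlgSpace_of_isPullback hY.diag hZ (hYi i) sqV
  obtain ⟨t', ht', -⟩ := points_exists_of_isPullback sqV (AlgSp.Points.map z2 a) η hη.symm
  have sqQ := IsPullback.of_hasPullback z2 (pullback.fst gZ (g i))
  obtain ⟨l, sqL⟩ := exists_isPullback_cube (sq i) sqZ
  have hinj : Function.Injective (AlgSp.Points.map (pullback.snd z2 (pullback.fst gZ (g i)))) :=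
    h i hZV _ _ _ sqL
  obtain ⟨a', ha1, ha2⟩ := points_exists_of_isPullback sqQ a t' ht'.symm
  obtain ⟨b', hb1, hb2⟩ := points_exists_of_isPullback sqQ b t' (hab ▸ ht'.symm)
  have : a' = b' := hinj (ha2.trans hb2.symm)
  rw [← ha1, ← hb1, this]

/-- Universal injectivity is stable under base change. -/
theorem isUnivInjectiveMor_of_isPullback {X Y X' Y' : AlgSp.Sp S} {f : X ⟶ Y} {g : Y' ⟶ Y}
    {fst : X' ⟶ X} {f' : X' ⟶ Y'} (sq : IsPullback fst f' f g) (hf : AlgSp.IsUnivInjectiveMor f) :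
    AlgSp.IsUnivInjectiveMor f' := by
  intro Z Z' hZ gZ z1 z2 sqZ
  exact hf hZ (gZ ≫ g) (z1 ≫ fst) z2 (sqZ.paste_horiz sq)

theorem isLocalOnBase_fpqc_isUnivInjectiveMor :
    AlgSp.IsLocalOnBase (AlgSp.IsFpqcCover (S := S)) AlgSp.IsUnivInjectiveMor := by
  intro ι Y Yi g hY hYi hcov X f hX Xi p q hXi sq
  constructor
  · intro hf i
    exact isUnivInjectiveMor_of_isPullback (sq i) hf
  · intro H
    exact isUnivInjectiveMor_of_family hY hYi (exists_point_of_isFpqcCover hcov) sq H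

end Groth.Agent.Lib.H15.AS

namespace Groth.Agent.Lib.H15.AS

variable {S : Scheme.{u}}

/-- Surjectivity on points descends along a jointly surjective family of base changes. -/
theorem isSurjectiveMor_of_family {X Y : AlgSp.Sp S} {ι : Type u}
    {Yi : ι → AlgSp.Sp S} {g : ∀ i, Yi i ⟶ Y}
    (hsurj : ∀ y : AlgSp.Points Y, ∃ (i : ι) (η : AlgSp.Points (Yi i)), AlgSp.Points.map (g i) η = y)
    {f : X ⟶ Y} {Xi : ι → AlgSp.Sp S} {p : ∀ i, Xi i ⟶ Yi i} {q : ∀ i, Xi i ⟶ X}
    (sq : ∀ i, IsPullback (q i) (p i) f (g i)) (h : ∀ i, AlgSp.IsSurjectiveMor (p i)) :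
    AlgSp.IsSurjectiveMor f := by
  intro y
  obtain ⟨i, η, rfl⟩ := hsurj y
  obtain ⟨ξ, rfl⟩ := h i η
  refine ⟨AlgSp.Points.map (q i) ξ, ?_⟩
  rw [← AlgSp.Points.map_comp, ← AlgSp.Points.map_comp, (sq i).w]

/-- An isomorphism of sheaves is etale. -/
theorem isEtaleMor_of_isIso {F G : AlgSp.Sp S} (f : F ⟶ G) [IsIso f] : AlgSp.IsEtaleMor f :=
  fun _ φ hφ => MorphismProperty.RespectsIso.postcomp _ f _ hφ

/-- An isomorphism of sheaves is universally injective. -/
theorem isUnivInjectiveMor_of_isIso {F G : AlgSp.Sp S} (f : F ⟶ G) [IsIso f] :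
    AlgSp.IsUnivInjectiveMor f := by
  intro Z Z' hZ g z1 z2 sqZ
  haveI : IsIso z2 := sqZ.isIso_snd_of_isIso
  exact injective_points_map_of_mono z2

/-- An isomorphism of sheaves is surjective on points. -/
theorem isSurjectiveMor_of_isIso {F G : AlgSp.Sp S} (f : F ⟶ G) [IsIso f] :
    AlgSp.IsSurjectiveMor f := by
  intro y
  refine ⟨AlgSp.Points.map (inv f) y, ?_⟩
  rw [← AlgSp.Points.map_comp, IsIso.inv_hom_id, AlgSp.Points.map_id]

theorem isLocalOnBase_fpqc_isomorphisms :
    AlgSp.IsLocalOnBase (AlgSp.IsFpqcCover (S := S)) (MorphismProperty.isomorphisms (AlgSp.Sp S)) := by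
  intro ι Y Yi g hY hYi hcov X f hX Xi p q hXi sq
  constructor
  · intro (hf : IsIso f) i
    exact (sq i).isIso_snd_of_isIso
  · intro H
    have H' : ∀ i, IsIso (p i) := H
    have hpts := exists_point_of_isFpqcCover hcov
    have h1 : AlgSp.LocP @Etale f :=
      (isLocalOnBase_fpqc_locP (S := S) goodP_etale Yi g hY hYi hcov f hX Xi p q hXi sq).2
        (fun i => locP_etale_of_isEtaleMor (isEtaleMor_of_isIso (p i)))
    have h2 : AlgSp.IsUnivInjectiveMor f :=
      isUnivInjectiveMor_of_family hY hYi hpts sq (fun i => isUnivInjectiveMor_of_isIso (p i))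
    have h3 : AlgSp.IsSurjectiveMor f :=
      isSurjectiveMor_of_family hpts sq (fun i => isSurjectiveMor_of_isIso (p i))
    exact isIso_of_repWith_isOpenImmersion_of_surjective f
      (repWith_isOpenImmersion_of_etale_univInjective hX hY f h1 h2) h3

theorem isLocalOnBase_fpqc_repWith_isOpenImmersion :
    AlgSp.IsLocalOnBase (AlgSp.IsFpqcCover (S := S)) (AlgSp.RepWith @IsOpenImmersion) := by
  intro ι Y Yi g hY hYi hcov X f hX Xi p q hXi sq
  constructor
  · intro hf i
    exact MorphismProperty.of_isPullback (sq i) hf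
  · intro H
    have hpts := exists_point_of_isFpqcCover hcov
    have hle : (@IsOpenImmersion : MorphismProperty Scheme.{u}) ≤ @Etale := by
      intro A B k hk
      have : IsOpenImmersion k := hk
      exact (inferInstance : Etale k)
    have hmono : ∀ i, Mono (p i) := fun i => mono_of_repWith (P := @IsOpenImmersion)
      (fun _ _ k (hk : IsOpenImmersion k) => (inferInstance : Mono k)) (p i) (H i)
    have h1 : AlgSp.LocP @Etale f :=
      (isLocalOnBase_fpqc_locP (S := S) goodP_etale Yi g hY hYi hcov f hX Xi p q hXi sq).2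
        (fun i => (locP_iff_repWith_of_representable goodP_etale (hXi i) (hYi i) (H i).rep).2
          (repWith_mono hle (H i)))
    have h2 : AlgSp.IsUnivInjectiveMor f := by
      refine isUnivInjectiveMor_of_family hY hYi hpts sq (fun i => ?_)
      intro Z Z' hZ gZ z1 z2 sqZ
      haveI := hmono i
      haveI : Mono z2 := sqZ.mono_snd_of_mono
      exact injective_points_map_of_mono z2
    exact repWith_isOpenImmersion_of_etale_univInjective hX hY f h1 h2

end Groth.Agent.Lib.H15.AS
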