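import Mathlib
import Groth.Prelude.Def_AlgSp
import Groth.Prelude.Def_AlgSp2
import Groth.Prelude.Def_AlgSp3
import Groth.Prelude.Def_AlgSp4
import Groth.Prelude.Def_AlgSpCov
import Groth.Agent.Lib.helper15.AlgSpFpqcLocal3
import Groth.Agent.Lib.helper15.AlgSpSeven

set_option autoImplicit false
universe u
open CategoryTheory CategoryTheory.Limits AlgebraicGeometry Opposite Topology

namespace Groth.Agent.Lib.H15.AS

variable {S : Scheme.{u}}

/-- The identity is smooth. -/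
theorem locP_smooth_id (X : AlgSp.Sp S) : AlgSp.LocP @Smooth (𝟙 X) :=
  locP_mono (fun _ _ k (_ : Etale k) => (inferInstance : Smooth k))
    (locP_etale_of_isEtaleMor (isEtaleMor_of_isIso (𝟙 X)))

theorem IsSmoothLocalST.isLocalOnSource {P : MorphismProperty (AlgSp.Sp S)}
    (hP : AlgSp.IsSmoothLocalST P) : AlgSp.IsLocalOnSource (AlgSp.IsSmCover (S := S)) P := by
  intro ι X Xi g hX hXi hcov Y f hY
  constructor
  · intro hf i
    exact hP.precomp (hXi i) hX hY (g i) f (hcov.1 i) hf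
  · intro H
    rw [hP.locality hX hY f]
    intro x
    obtain ⟨i, ξ, hξ⟩ := hcov.2 x
    exact ⟨Xi i, Y, g i, 𝟙 Y, g i ≫ f, ξ, hXi i, hY, hcov.1 i, locP_smooth_id Y,
      (Category.comp_id _).symm, hξ, H i⟩

theorem IsSmoothLocalST.isLocalOnBase {P : MorphismProperty (AlgSp.Sp S)}
    (hP : AlgSp.IsSmoothLocalST P) : AlgSp.IsLocalOnBase (AlgSp.IsSmCover (S := S)) P := by
  intro ι Y Yi g hY hYi hcov X f hX Xi p q hXi sq
  constructor
  · intro hf i
    exact hP.baseChange hX hY (hXi i) (hYi i) f (g i) (p i) (q i) (sq i) (hcov.1 i) hf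
  · intro H
    rw [hP.locality hX hY f]
    intro x
    obtain ⟨i, η, hη⟩ := hcov.2 (AlgSp.Points.map f x)
    obtain ⟨ξ, hξ, -⟩ := points_exists_of_isPullback (sq i) x η hη.symm
    refine ⟨Xi i, Yi i, q i, g i, p i, ξ, hXi i, hYi i, ?_, hcov.1 i, (sq i).w, hξ, H i⟩
    exact locP_of_isPullback_gen goodP_smooth (hYi i) hY hX (sq i).flip (hcov.1 i)

theorem IsSmoothLocalST.postcomp {P : MorphismProperty (AlgSp.Sp S)}
    (hP : AlgSp.IsSmoothLocalST P) {X Y Z : AlgSp.Sp S} (hX : AlgSp.IsAlgSpace X)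
    (hY : AlgSp.IsAlgSpace Y) (hZ : AlgSp.IsAlgSpace Z) (f : X ⟶ Y) (g : Y ⟶ Z) (hf : P f)
    (hg : AlgSp.LocP @Smooth g) : P (f ≫ g) := by
  rw [hP.locality hX hZ (f ≫ g)]
  intro x
  exact ⟨X, Y, 𝟙 X, g, f, x, hX, hY, locP_smooth_id X, hg, Category.id_comp _,
    AlgSp.Points.map_id x, hf⟩

end Groth.Agent.Lib.H15.AS

namespace Groth.Agent.Lib.H15.AS

variable {S : Scheme.{u}}

/-- The two-member family `{𝟙, f}` with `f` smooth is a smooth covering. -/
theorem isSmCover_id_pair {X Y : AlgSp.Sp S} (f : X ⟶ Y) (hf : AlgSp.LocP @Smooth f) :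
    AlgSp.IsSmCover (fun b : ULift.{u} Bool => if b.down then Y else X)
      (fun b => match b with
        | ⟨true⟩ => 𝟙 Y
        | ⟨false⟩ => f) := by
  refine ⟨?_, fun y => ⟨⟨true⟩, y, AlgSp.Points.map_id y⟩⟩
  rintro ⟨_ | _⟩
  · exact hf
  · exact locP_smooth_id Y

theorem isSmoothLocalST_of_local (P : MorphismProperty (AlgSp.Sp S))
    (h1 : AlgSp.IsLocalOnSource (AlgSp.IsSmCover (S := S)) P)
    (h2 : AlgSp.IsLocalOnBase (AlgSp.IsSmCover (S := S)) P)
    (h3 : ∀ ⦃X Y Z : AlgSp.Sp S⦄, AlgSp.IsAlgSpace X → AlgSp.IsAlgSpace Y → AlgSp.IsAlgSpace Z →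
      ∀ (f : X ⟶ Y) (g : Y ⟶ Z), P f → AlgSp.LocP @Smooth g → P (f ≫ g)) :
    AlgSp.IsSmoothLocalST P where
  precomp := by
    intro X Y Z hX hY hZ f g hf hg
    have hcov := isSmCover_id_pair f hf
    have key := (h1 _ _ hY (by rintro ⟨_ | _⟩ <;> assumption) hcov g hZ).1 hg ⟨false⟩
    exact key
  baseChange := by
    intro X Y X' Y' hX hY hX' hY' f g f' g' sq hg hf
    have hcov := isSmCover_id_pair g hg
    have key := (h2 _ _ hY (by rintro ⟨_ | _⟩ <;> assumption) hcov f hX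
      (fun b : ULift.{u} Bool => if b.down then X else X')
      (fun b => match b with
        | ⟨true⟩ => f
        | ⟨false⟩ => f')
      (fun b => match b with
        | ⟨true⟩ => 𝟙 X
        | ⟨false⟩ => g')
      (by rintro ⟨_ | _⟩ <;> assumption)
      (by
        rintro ⟨_ | _⟩
        · exact sq
        · show IsPullback (𝟙 X) f f (𝟙 Y)
          exact IsPullback.of_horiz_isIso ⟨by simp⟩)).1 hf ⟨false⟩
    exact key
  locality := by
    intro X Y hX hY f
    constructor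
    · intro hf x
      exact ⟨X, Y, 𝟙 X, 𝟙 Y, f, x, hX, hY, locP_smooth_id X, locP_smooth_id Y,
        (Category.id_comp _).trans (Category.comp_id _).symm, AlgSp.Points.map_id x, hf⟩
    · intro H
      obtain ⟨W, c, hce, hcs⟩ := hX.atlas
      choose U V a b h v hU hV ha hb hw hv hPh using H
      have hcov : AlgSp.IsSmCover (fun w : ↥W.left => U (AlgSp.Points.ofPt c w))
          (fun w => a (AlgSp.Points.ofPt c w)) := by
        refine ⟨fun w => ha _, fun x => ?_⟩
        obtain ⟨w, rfl⟩ := surjective_ofPt c hcs x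
        exact ⟨w, v _, hv _⟩
      refine (h1 _ _ hX (fun w => hU _) hcov f hY).2 (fun w => ?_)
      rw [hw]
      exact h3 (hU _) (hV _) hY _ _ (hPh _) (hb _)

end Groth.Agent.Lib.H15.AS
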