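import Mathlib
import Groth.Prelude.Def_AlgSp
import Groth.Prelude.Def_AlgSp2
import Groth.Prelude.Def_AlgSp3
import Groth.Prelude.Def_AlgSp4
import Groth.Prelude.Def_AlgSpCov
import Groth.Agent.Lib.helper15.AlgSpSmoothLocalST
import Groth.Agent.Lib.helper15.AlgSpFibre

set_option autoImplicit false
universe u
open CategoryTheory CategoryTheory.Limits AlgebraicGeometry Opposite Topology

namespace Groth.Agent.Lib.H15.AS

variable {S : Scheme.{u}}

/-- For good `P` with two-out-of-three cancellation: if `f ≫ g` and `g` have `P` etale locally,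
so does `f`. -/
theorem locP_of_comp_gen' {P : MorphismProperty Scheme.{u}} (hP : GoodP P)
    (hcancel : ∀ ⦃A B C : Scheme.{u}⦄ (f : A ⟶ B) (g : B ⟶ C), P (f ≫ g) → P g → P f)
    {X Y Z : AlgSp.Sp S} (hZ : AlgSp.IsAlgSpace Z) {f : X ⟶ Y} {g : Y ⟶ Z}
    (hfg : AlgSp.LocP P (f ≫ g)) (hg : AlgSp.LocP P g) : AlgSp.LocP P f := by
  have := hP.mul
  have := hP.bc
  have := hP.desc
  intro U V a b h ha hb w
  obtain ⟨W, c, hce, hcs⟩ := hZ.atlas
  obtain ⟨V', q, k, hqe, hqs, wk⟩ := exists_chart_cover g b c hce hcs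
  have hb'e : AlgSp.RepWith @Etale ((AlgSp.yon S).map q ≫ b) :=
    repWith_yon_map_comp @Etale q b hqe hb
  have hk : P k.left := hg _ c k hb'e hce wk
  have sq : IsPullback (pullback.fst h q) (pullback.snd h q) h q := IsPullback.of_hasPullback h q
  have sq' := sq.map (Over.forget S)
  have hpe : Etale (pullback.fst h q).left := MorphismProperty.of_isPullback (P := @Etale) sq'.flip hqe
  have ha' : AlgSp.RepWith @Etale ((AlgSp.yon S).map (pullback.fst h q) ≫ a) :=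
    repWith_yon_map_comp @Etale _ a hpe ha
  have e : ((AlgSp.yon S).map (pullback.fst h q) ≫ a) ≫ f ≫ g =
      (AlgSp.yon S).map (pullback.snd h q ≫ k) ≫ c := by
    rw [Functor.map_comp, Category.assoc, Category.assoc, ← wk, ← Category.assoc a, w,
      Category.assoc, ← Category.assoc ((AlgSp.yon S).map (pullback.fst h q)),
      ← Functor.map_comp, sq.w, Functor.map_comp]
    simp only [Category.assoc]
  have h1 : P (pullback.snd h q ≫ k).left := hfg _ c _ ha' hce e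
  have h2 : P (pullback.snd h q).left :=
    hcancel _ _ (by rw [← Over.comp_left]; exact h1) hk
  have hQ : (@Surjective ⊓ @Flat ⊓ @LocallyOfFinitePresentation : MorphismProperty Scheme.{u})
      q.left := by
    have : Etale q.left := hqe
    exact ⟨⟨hqs, inferInstance⟩, inferInstance⟩
  exact MorphismProperty.of_isPullback_of_descendsAlong
    (Q := @Surjective ⊓ @Flat ⊓ @LocallyOfFinitePresentation) (P := P) sq'.flip hQ h2

/-- If `f ≫ g` and `g` are etale then `f` is etale. -/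
theorem isEtaleMor_of_comp {X Y Z : AlgSp.Sp S} (hY : AlgSp.IsAlgSpace Y) (hZ : AlgSp.IsAlgSpace Z)
    {f : X ⟶ Y} {g : Y ⟶ Z} (hfg : AlgSp.IsEtaleMor (f ≫ g)) (hg : AlgSp.IsEtaleMor g) :
    AlgSp.IsEtaleMor f :=
  isEtaleMor_of_locP_etale hY (locP_of_comp_gen' goodP_etale
    (fun _ _ _ f g (_ : Etale (f ≫ g)) (_ : Etale g) => Etale.of_comp f g) hZ
    (locP_etale_of_isEtaleMor hfg) (locP_etale_of_isEtaleMor hg))

/-- Etale morphisms of algebraic spaces are stable under base change. -/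
theorem isEtaleMor_of_isPullback {X Y Y' X' : AlgSp.Sp S} (hX : AlgSp.IsAlgSpace X)
    (hY : AlgSp.IsAlgSpace Y) (hY' : AlgSp.IsAlgSpace Y') {f : X ⟶ Y} {g : Y' ⟶ Y} {fst : X' ⟶ X}
    {f' : X' ⟶ Y'} (sq : IsPullback fst f' f g) (hf : AlgSp.IsEtaleMor f) :
    AlgSp.IsEtaleMor f' :=
  isEtaleMor_of_locP_etale hY' (locP_of_isPullback_gen goodP_etale hX hY hY' sq
    (locP_etale_of_isEtaleMor hf))

/-- Etale morphisms are smooth. -/
theorem locP_smooth_of_isEtaleMor {X Y : AlgSp.Sp S} {f : X ⟶ Y} (hf : AlgSp.IsEtaleMor f) :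
    AlgSp.LocP @Smooth f :=
  locP_mono (fun _ _ _ (_ : Etale _) => (inferInstance : Smooth _)) (locP_etale_of_isEtaleMor hf)

/-- The graph of a morphism into the source of an etale morphism is etale. -/
theorem isEtaleMor_graph {X Y Z W : AlgSp.Sp S} (hX : AlgSp.IsAlgSpace X) (hY : AlgSp.IsAlgSpace Y)
    (hZ : AlgSp.IsAlgSpace Z) (hW : AlgSp.IsAlgSpace W) {k : X ⟶ Z} {g : Y ⟶ Z} {p : W ⟶ X}
    {q : W ⟶ Y} (sq : IsPullback p q k g) (hg : AlgSp.IsEtaleMor g) (e : X ⟶ W)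
    (he : e ≫ p = 𝟙 X) : AlgSp.IsEtaleMor e := by
  have hp : AlgSp.IsEtaleMor p := isEtaleMor_of_isPullback hY hZ hX sq.flip hg
  refine isEtaleMor_of_comp hW hX (g := p) ?_ hp
  rw [he]
  exact isEtaleMor_of_isIso (𝟙 X)

theorem IsEtaleSmoothLocalST.isLocalOnSource {P : MorphismProperty (AlgSp.Sp S)}
    (hP : AlgSp.IsEtaleSmoothLocalST P) : AlgSp.IsLocalOnSource (AlgSp.IsEtCover (S := S)) P := by
  intro ι X Xi g hX hXi hcov Y f hY
  constructor
  · intro hf i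
    exact hP.precomp (hXi i) hX hY (g i) f (hcov.1 i) hf
  · intro H
    rw [hP.locality hX hY f]
    intro x
    obtain ⟨i, ξ, hξ⟩ := hcov.2 x
    refine ⟨Y, X, Xi i, 𝟙 Y, 𝟙 X, f, g i, ξ, hY, hX, hXi i, locP_smooth_id Y,
      IsPullback.of_horiz_isIso ⟨by simp⟩, hcov.1 i, ?_, H i⟩
    rw [Category.comp_id]
    exact hξ

theorem IsEtaleSmoothLocalST.isLocalOnBase {P : MorphismProperty (AlgSp.Sp S)}
    (hP : AlgSp.IsEtaleSmoothLocalST P) : AlgSp.IsLocalOnBase (AlgSp.IsSmCover (S := S)) P := by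
  intro ι Y Yi g hY hYi hcov X f hX Xi p q hXi sq
  constructor
  · intro hf i
    exact hP.baseChange hX hY (hXi i) (hYi i) f (g i) (p i) (q i) (sq i) (hcov.1 i) hf
  · intro H
    rw [hP.locality hX hY f]
    intro x
    obtain ⟨i, η, hη⟩ := hcov.2 (AlgSp.Points.map f x)
    obtain ⟨ξ, hξ, -⟩ := points_exists_of_isPullback (sq i) x η hη.symm
    refine ⟨Yi i, Xi i, Xi i, g i, q i, p i, 𝟙 _, ξ, hYi i, hXi i, hXi i, hcov.1 i, sq i,
      isEtaleMor_of_isIso (𝟙 _), ?_, ?_⟩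
    · rw [Category.id_comp]
      exact hξ
    · rw [Category.id_comp]
      exact H i

theorem IsEtaleSmoothLocalST.postcomp {P : MorphismProperty (AlgSp.Sp S)}
    (hP : AlgSp.IsEtaleSmoothLocalST P) {X Y Z : AlgSp.Sp S} (hX : AlgSp.IsAlgSpace X)
    (hY : AlgSp.IsAlgSpace Y) (hZ : AlgSp.IsAlgSpace Z) (f : X ⟶ Y) (g : Y ⟶ Z) (hf : P f)
    (hg : AlgSp.IsEtaleMor g) : P (f ≫ g) := by
  rw [hP.locality hX hZ (f ≫ g)]
  intro x
  have sq : IsPullback (pullback.fst (f ≫ g) g) (pullback.snd (f ≫ g) g) (f ≫ g) g :=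
    IsPullback.of_hasPullback _ _
  have hW : AlgSp.IsAlgSpace (pullback (f ≫ g) g) := isAlgSpace_of_isPullback hZ.diag hX hY sq
  obtain ⟨e, he1, he2⟩ : ∃ e : X ⟶ pullback (f ≫ g) g, e ≫ pullback.fst (f ≫ g) g = 𝟙 X ∧
      e ≫ pullback.snd (f ≫ g) g = f :=
    ⟨sq.lift (𝟙 X) f (by simp), sq.lift_fst _ _ _, sq.lift_snd _ _ _⟩
  refine ⟨Y, _, X, g, _, _, e, x, hY, hW, hX, locP_smooth_of_isEtaleMor hg, sq,
    isEtaleMor_graph hX hY hZ hW sq hg e he1, ?_, ?_⟩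
  · rw [he1]
    exact AlgSp.Points.map_id x
  · rw [he2]
    exact hf

theorem IsEtaleSmoothLocalST.cancel {P : MorphismProperty (AlgSp.Sp S)}
    (hP : AlgSp.IsEtaleSmoothLocalST P) {X Y Z : AlgSp.Sp S} (hX : AlgSp.IsAlgSpace X)
    (hY : AlgSp.IsAlgSpace Y) (hZ : AlgSp.IsAlgSpace Z) (f : X ⟶ Y) (g : Y ⟶ Z)
    (hg : AlgSp.IsEtaleMor g) (hfg : P (f ≫ g)) : P f := by
  have sq : IsPullback (pullback.fst (f ≫ g) g) (pullback.snd (f ≫ g) g) (f ≫ g) g :=
    IsPullback.of_hasPullback _ _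
  have hW : AlgSp.IsAlgSpace (pullback (f ≫ g) g) := isAlgSpace_of_isPullback hZ.diag hX hY sq
  obtain ⟨e, he1, he2⟩ : ∃ e : X ⟶ pullback (f ≫ g) g, e ≫ pullback.fst (f ≫ g) g = 𝟙 X ∧
      e ≫ pullback.snd (f ≫ g) g = f :=
    ⟨sq.lift (𝟙 X) f (by simp), sq.lift_fst _ _ _, sq.lift_snd _ _ _⟩
  have hq : P (pullback.snd (f ≫ g) g) :=
    hP.baseChange hX hZ hW hY (f ≫ g) g _ _ sq (locP_smooth_of_isEtaleMor hg) hfg
  have := hP.precomp hX hW hY e _ (isEtaleMor_graph hX hY hZ hW sq hg e he1) hq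
  rw [he2] at this
  exact this

end Groth.Agent.Lib.H15.AS
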