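import Mathlib
import Groth.Prelude.Def_AlgSp
import Groth.Prelude.Def_AlgSp2
import Groth.Prelude.Def_AlgSp3
import Groth.Prelude.Def_AlgSp4
import Groth.Prelude.Def_AlgSpDec
import Groth.Agent.Lib.helper15.AlgSpDecent2
import Groth.Agent.Lib.helper15.AlgSpLocP

set_option autoImplicit false
universe u
open CategoryTheory CategoryTheory.Limits AlgebraicGeometry Opposite Topology

namespace Groth.Agent.Lib.H15.AS

variable {S : Scheme.{u}}

/-- Domain case: `D ⊆ K` a domain inside a field of finite type over it; some `y ≠ 0` is contained in all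
nonzero primes. -/
theorem AL_domain (D K : Type*) [CommRing D] [IsDomain D] [Field K] [Algebra D K]
    [Algebra.FiniteType D K] (hinj : Function.Injective (algebraMap D K)) :
    ∃ y : D, y ≠ 0 ∧ ∀ 𝔮 : Ideal D, 𝔮.IsPrime → y ∉ 𝔮 → 𝔮 = ⊥ := by
  classical
  let F := FractionRing D
  letI : Algebra F K := (IsFractionRing.lift hinj : F →+* K).toAlgebra
  haveI : IsScalarTower D F K :=
    IsScalarTower.of_algebraMap_eq (fun x => (IsFractionRing.lift_algebraMap hinj x).symm)
  haveI : Algebra.FiniteType F K := Algebra.FiniteType.of_restrictScalars_finiteType D F K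
  haveI : Module.Finite F K := finite_of_finite_type_of_isJacobsonRing F K
  haveI : Algebra.IsAlgebraic F K := Algebra.IsAlgebraic.of_finite F K
  haveI : Algebra.IsAlgebraic D F := IsLocalization.isAlgebraic F (nonZeroDivisors D)
  haveI halg : Algebra.IsAlgebraic D K := Algebra.IsAlgebraic.trans D F K
  obtain ⟨s, hs⟩ := (inferInstance : Algebra.FiniteType D K).out
  obtain ⟨y, hy0, hy⟩ := Algebra.IsAlgebraic.exists_integral_multiples (R := D) (A := K) s
  refine ⟨y, hy0, fun 𝔮 h𝔮 hy𝔮 => ?_⟩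
  let B := Localization.Away y
  have hyu : IsUnit (algebraMap D K y) := by
    rw [isUnit_iff_ne_zero]
    intro h
    exact hy0 (hinj (h.trans (map_zero _).symm))
  letI : Algebra B K := (IsLocalization.Away.lift y hyu : B →+* K).toAlgebra
  haveI : IsScalarTower D B K :=
    IsScalarTower.of_algebraMap_eq (fun x => (IsLocalization.Away.lift_eq y hyu x).symm)
  have hBinj : Function.Injective (algebraMap B K) := by
    have hM : Submonoid.powers y ≤ nonZeroDivisors D :=
      powers_le_nonZeroDivisors_of_noZeroDivisors hy0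
    change Function.Injective (IsLocalization.lift (M := Submonoid.powers y) _)
    rw [IsLocalization.lift_injective_iff]
    intro a b
    rw [(IsLocalization.injective B hM).eq_iff, hinj.eq_iff]
  have hint : Algebra.IsIntegral B K := by
    have hle : (⊤ : Subalgebra D K) ≤ (integralClosure B K).restrictScalars D := by
      rw [← hs]
      refine Algebra.adjoin_le fun x hx => ?_
      have h1 : IsIntegral B (y • x) := (hy x hx).tower_top
      have h2 : IsIntegral B (algebraMap B K (IsLocalization.Away.invSelf y)) := isIntegral_algebraMap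
      have h3 : x = algebraMap B K (IsLocalization.Away.invSelf y) * (y • x) := by
        rw [Algebra.smul_def, ← mul_assoc, IsScalarTower.algebraMap_apply D B K, ← map_mul,
          mul_comm (IsLocalization.Away.invSelf y), IsLocalization.Away.mul_invSelf, map_one, one_mul]
      change x ∈ integralClosure B K
      rw [h3]
      exact h2.mul h1
    exact ⟨fun x => hle (Algebra.mem_top : x ∈ (⊤ : Subalgebra D K))⟩
  have hBf : IsField B := isField_of_isIntegral_of_isField hBinj (Field.toIsField K)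
  have hdisj : Disjoint (Submonoid.powers y : Set D) (𝔮 : Set D) := by
    rw [Set.disjoint_left]
    rintro _ ⟨n, rfl⟩ hn
    exact hy𝔮 (h𝔮.mem_of_pow_mem n hn)
  have hprime := IsLocalization.isPrime_of_isPrime_disjoint (Submonoid.powers y) B 𝔮 h𝔮 hdisj
  have hbot : Ideal.map (algebraMap D B) 𝔮 = ⊥ := by
    letI := hBf.toField
    exact (Ideal.eq_bot_or_top _).resolve_right hprime.ne_top
  have hcomap := IsLocalization.under_map_of_isPrime_disjoint (Submonoid.powers y) B h𝔮 hdisj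
  rw [hbot] at hcomap
  rw [← hcomap]
  ext a
  simp only [Ideal.mem_comap, Ideal.mem_bot]
  have hM : Submonoid.powers y ≤ nonZeroDivisors D :=
    powers_le_nonZeroDivisors_of_noZeroDivisors hy0
  constructor
  · intro h
    exact (IsLocalization.injective B hM) (h.trans (map_zero _).symm)
  · rintro rfl
    exact map_zero _

theorem AL (R K : Type*) [CommRing R] [Field K] (ρ : R →+* K) (hρ : ρ.FiniteType) :
    ∃ f : R, ρ f ≠ 0 ∧ ∀ 𝔮 : Ideal R, 𝔮.IsPrime → RingHom.ker ρ ≤ 𝔮 → f ∉ 𝔮 → 𝔮 ≤ RingHom.ker ρ := by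
  let D := R ⧸ RingHom.ker ρ
  let ρ' : D →+* K := RingHom.kerLift ρ
  have hinj : Function.Injective ρ' := RingHom.kerLift_injective ρ
  haveI : (RingHom.ker ρ).IsPrime := RingHom.ker_isPrime ρ
  haveI : IsDomain D := Ideal.Quotient.isDomain _
  letI : Algebra D K := ρ'.toAlgebra
  have hcomp : ρ = ρ'.comp (Ideal.Quotient.mk (RingHom.ker ρ)) := by
    ext x
    rfl
  have hft' : ρ'.FiniteType := by
    rw [hcomp] at hρ
    exact RingHom.FiniteType.of_comp_finiteType hρ
  haveI : Algebra.FiniteType D K := hft'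
  obtain ⟨y, hy0, hy⟩ := AL_domain D K hinj
  obtain ⟨f, rfl⟩ := Ideal.Quotient.mk_surjective y
  refine ⟨f, ?_, fun 𝔮 h𝔮 hle hf𝔮 => ?_⟩
  · intro h
    apply hy0
    apply hinj
    rw [map_zero]
    exact h
  · have hprime : (𝔮.map (Ideal.Quotient.mk (RingHom.ker ρ))).IsPrime :=
      Ideal.map_isPrime_of_surjective Ideal.Quotient.mk_surjective (by rwa [Ideal.mk_ker])
    have hnot : Ideal.Quotient.mk (RingHom.ker ρ) f ∉ 𝔮.map (Ideal.Quotient.mk (RingHom.ker ρ)) := by
      rw [Ideal.mem_quotient_iff_mem hle]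
      exact hf𝔮
    have hbot := hy _ hprime hnot
    intro x hx
    have : Ideal.Quotient.mk (RingHom.ker ρ) x ∈ 𝔮.map (Ideal.Quotient.mk (RingHom.ker ρ)) :=
      Ideal.mem_map_of_mem _ hx
    rw [hbot, Ideal.mem_bot, Ideal.Quotient.eq_zero_iff_mem] at this
    exact this

/-- The image point of a morphism locally of finite type from the spectrum of a field is closed in some open
neighbourhood. -/
theorem exists_open_isClosed_of_lft_from_field {K : Type u} [Field K] {U : Scheme.{u}}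
    (ψ : Spec (CommRingCat.of K) ⟶ U) [LocallyOfFiniteType ψ] (u : U) (hu : Set.range ψ = {u}) :
    ∃ (U' : U.Opens) (hu' : u ∈ U'), IsClosed ({⟨u, hu'⟩} : Set ↥U') := by
  obtain ⟨W0, ⟨W', hW', rfl⟩, huW', -⟩ := U.isBasis_affineOpens.exists_subset_of_mem_open
    (Set.mem_univ u) isOpen_univ
  obtain ⟨W, hWW'⟩ : ∃ W : U.Opens, W = W' := ⟨W', rfl⟩
  have hW : IsAffineOpen W := hWW' ▸ hW'
  have huW : u ∈ W := hWW' ▸ huW'
  have hrange : Set.range ψ ⊆ Set.range hW.fromSpec := by
    rw [hu, hW.range_fromSpec]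
    exact Set.singleton_subset_iff.2 huW
  let ψ' : Spec (CommRingCat.of K) ⟶ Spec Γ(U, W) := IsOpenImmersion.lift hW.fromSpec ψ hrange
  have hfac : ψ' ≫ hW.fromSpec = ψ := IsOpenImmersion.lift_fac _ _ _
  have hlft : LocallyOfFiniteType ψ' := by
    have : LocallyOfFiniteType (ψ' ≫ hW.fromSpec) := by rw [hfac]; infer_instance
    exact locallyOfFiniteType_of_comp ψ' hW.fromSpec
  obtain ⟨ρ, hρ⟩ : ∃ ρ : Γ(U, W) ⟶ CommRingCat.of K, Spec.map ρ = ψ' := ⟨Spec.preimage ψ', Spec.map_preimage _⟩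
  have hρft : ρ.hom.FiniteType := by
    rw [← hρ] at hlft
    exact (HasRingHomProperty.Spec_iff (P := @LocallyOfFiniteType)).1 hlft
  obtain ⟨f, hf0, hf⟩ := AL Γ(U, W) K ρ.hom hρft
  let p₀ : ↥(Spec Γ(U, W)) := ψ' default
  have hp₀ : hW.fromSpec p₀ = u := by
    have : ψ default ∈ Set.range ψ := ⟨default, rfl⟩
    rw [hu] at this
    rw [← Set.mem_singleton_iff.1 this, ← hfac, Scheme.Hom.comp_apply]
  have hp₀ideal : p₀.asIdeal = RingHom.ker ρ.hom := by
    show (ψ' default).asIdeal = _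
    rw [← hρ]
    ext a
    change ρ.hom a ∈ (default : ↥(Spec (CommRingCat.of K))).asIdeal ↔ a ∈ RingHom.ker ρ.hom
    rw [RingHom.mem_ker]
    have hbot : (default : ↥(Spec (CommRingCat.of K))).asIdeal = ⊥ := by
      have := (default : ↥(Spec (CommRingCat.of K))).isPrime
      exact (Ideal.eq_bot_or_top _).resolve_right this.ne_top
    rw [hbot, Ideal.mem_bot]
  have hmem : ∀ q : ↥(Spec Γ(U, W)), hW.fromSpec q ∈ U.basicOpen f ↔ f ∉ q.asIdeal := by
    intro q
    have h1 : hW.fromSpec q ∈ U.basicOpen f ↔ q ∈ hW.fromSpec ⁻¹ᵁ U.basicOpen f := Iff.rfl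
    rw [h1, hW.fromSpec_preimage_basicOpen]
    exact Iff.rfl
  have huU' : u ∈ U.basicOpen f := by
    rw [← hp₀, hmem, hp₀ideal, RingHom.mem_ker]
    exact hf0
  refine ⟨U.basicOpen f, huU', ?_⟩
  rw [← closure_subset_iff_isClosed]
  rintro ⟨u', hu'U'⟩ hcl
  have hsp : (⟨u, huU'⟩ : ↥(U.basicOpen f)) ⤳ ⟨u', hu'U'⟩ := specializes_iff_mem_closure.2 hcl
  have hsp' : u ⤳ u' := (subtype_specializes_iff _ _).1 hsp
  have hu'W : u' ∈ W := U.basicOpen_le f hu'U'
  obtain ⟨q, hq⟩ : ∃ q, hW.fromSpec q = u' := by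
    have : u' ∈ Set.range hW.fromSpec := by rw [hW.range_fromSpec]; exact hu'W
    exact this
  have hsp'' : p₀ ⤳ q := by
    rw [← hW.fromSpec.isOpenEmbedding.isInducing.specializes_iff, hp₀, hq]
    exact hsp'
  have hle : p₀.asIdeal ≤ q.asIdeal := (PrimeSpectrum.le_iff_specializes p₀ q).2 hsp''
  have hfq : f ∉ q.asIdeal := (hmem q).1 (hq ▸ hu'U')
  have hle2 : q.asIdeal ≤ p₀.asIdeal := by
    rw [hp₀ideal]
    exact hf q.asIdeal q.isPrime (hp₀ideal ▸ hle) hfq
  have hqp : q = p₀ := PrimeSpectrum.ext (le_antisymm hle2 hle)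
  have : u' = u := by rw [← hq, hqp, hp₀]
  subst this
  rfl

/-- The image of a closed point under a morphism locally of finite type is closed in some open
neighbourhood. -/
theorem exists_open_isClosed_of_lft_of_isClosed {T U : Scheme.{u}} (ψ : T ⟶ U) [LocallyOfFiniteType ψ]
    (t : T) (ht : IsClosed ({t} : Set T)) :
    ∃ (U' : U.Opens) (hu' : ψ t ∈ U'), IsClosed ({⟨ψ t, hu'⟩} : Set ↥U') := by
  have hci : IsClosedImmersion (T.fromSpecResidueField t) := isClosed_singleton_iff_isClosedImmersion.1 ht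
  have hlft : LocallyOfFiniteType (T.fromSpecResidueField t ≫ ψ) := inferInstance
  refine @exists_open_isClosed_of_lft_from_field ↥(T.residueField t) _ U
    (T.fromSpecResidueField t ≫ ψ) hlft (ψ t) ?_
  ext v
  simp only [Set.mem_range, Set.mem_singleton_iff]
  constructor
  · rintro ⟨a, rfl⟩
    rw [Scheme.Hom.comp_apply]
    congr 1
    have : T.fromSpecResidueField t a ∈ Set.range (T.fromSpecResidueField t) := ⟨a, rfl⟩
    rw [Scheme.range_fromSpecResidueField] at this
    exact this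
  · rintro rfl
    refine ⟨IsLocalRing.closedPoint _, ?_⟩
    rw [Scheme.Hom.comp_apply, Scheme.fromSpecResidueField_apply]

/-- A point of a scheme which is closed gives a finite type point of the space via an etale chart. -/
theorem locP_lft_of_isClosed_chart {X : AlgSp.Sp S} {U : Over S} (φ : (AlgSp.yon S).obj U ⟶ X)
    (hφ : AlgSp.RepWith @Etale φ) (u : ↥U.left) (hu : IsClosed ({u} : Set ↥U.left)) :
    AlgSp.LocP @LocallyOfFiniteType
      ((AlgSp.yon S).map (Over.homMk (U.left.fromSpecResidueField u) rfl :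
        Over.mk (U.left.fromSpecResidueField u ≫ U.hom) ⟶ U) ≫ φ) := by
  have hci : IsClosedImmersion (U.left.fromSpecResidueField u) :=
    isClosed_singleton_iff_isClosedImmersion.1 hu
  refine locP_of_repWith @LocallyOfFiniteType ?_ ?_
  · intro A B C e p he hp
    infer_instance
  · refine repWith_yon_map_comp @LocallyOfFiniteType _ φ ?_ ?_
    · change LocallyOfFiniteType (U.left.fromSpecResidueField u)
      infer_instance
    · exact repWith_mono (fun _ _ f (hf : Etale f) => (inferInstance : LocallyOfFiniteType f)) hφ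

/-- Finite type points of a sheaf. -/
def IsFTPoint (X : AlgSp.Sp S) (x : AlgSp.Points X) : Prop :=
  ∃ (k : Type u) (_ : Field k) (str : Spec (CommRingCat.of k) ⟶ S)
    (ξ : (AlgSp.yon S).obj (Over.mk str) ⟶ X),
      AlgSp.LocP @LocallyOfFiniteType ξ ∧ AlgSp.Points.ofPt ξ (IsLocalRing.closedPoint k) = x

/-- The image of a closed point of an etale chart is a finite type point. -/
theorem isFTPoint_of_isClosed_chart {X : AlgSp.Sp S} {U : Over S} (φ : (AlgSp.yon S).obj U ⟶ X)
    (hφ : AlgSp.RepWith @Etale φ) (u : ↥U.left) (hu : IsClosed ({u} : Set ↥U.left)) :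
    IsFTPoint X (AlgSp.Points.ofPt φ u) := by
  refine ⟨↥(U.left.residueField u), inferInstance, U.left.fromSpecResidueField u ≫ U.hom,
    (AlgSp.yon S).map (Over.homMk (U.left.fromSpecResidueField u) rfl :
        Over.mk (U.left.fromSpecResidueField u ≫ U.hom) ⟶ U) ≫ φ,
    locP_lft_of_isClosed_chart φ hφ u hu, ?_⟩
  rw [ofPt_yon_map_comp]
  congr 1
  exact Scheme.fromSpecResidueField_apply _ _

/-- A finite type point is the image of a closed point of some etale chart. -/
theorem exists_isClosed_chart_of_isFTPoint {X : AlgSp.Sp S} (hX : AlgSp.IsAlgSpace X)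
    {x : AlgSp.Points X} (hx : IsFTPoint X x) :
    ∃ (U : Over S) (φ : (AlgSp.yon S).obj U ⟶ X) (u : ↥U.left), AlgSp.RepWith @Etale φ ∧
      IsClosed ({u} : Set ↥U.left) ∧ AlgSp.Points.ofPt φ u = x := by
  obtain ⟨k, _, str, ξ, hξ, rfl⟩ := hx
  obtain ⟨U, φ, hφe, hφs⟩ := hX.atlas
  have hrep : AlgSp.Representable φ := hφe.rep
  have sq := hrep.isPullback' ξ
  have h2e : Etale (hrep.snd ξ).left := hφe.property_snd ξ
  have h2s : Surjective (hrep.snd ξ).left := hφs.property_snd ξ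
  have hlft : LocallyOfFiniteType (hrep.fst' ξ).left :=
    hξ ((AlgSp.yon S).map (hrep.snd ξ)) φ (hrep.fst' ξ)
      ((AlgSp.repWith_yon_map_iff _ _).2 h2e) hφe sq.w.symm
  obtain ⟨z, hz⟩ := h2s.surj (IsLocalRing.closedPoint k)
  have hlq : LocallyQuasiFinite (hrep.snd ξ).left :=
    Groth.Agent.Lib.H15.locallyQuasiFinite_of_formallyUnramified _
  have hdisc : DiscreteTopology ↥(hrep.pullback ξ).left := by
    have hd := (hrep.snd ξ).left.isDiscrete_preimage_singleton ((hrep.snd ξ).left z)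
    have : (hrep.snd ξ).left ⁻¹' {(hrep.snd ξ).left z} = Set.univ := by
      ext z'
      simp only [Set.mem_preimage, Set.mem_singleton_iff, Set.mem_univ, iff_true]
      exact @Subsingleton.elim ↥(Spec (CommRingCat.of k)) inferInstance _ _
    rw [this] at hd
    exact isDiscrete_univ_iff.1 hd
  have hzc : IsClosed ({z} : Set ↥(hrep.pullback ξ).left) := isClosed_discrete _
  obtain ⟨U', hu', hcl⟩ := exists_open_isClosed_of_lft_of_isClosed (hrep.fst' ξ).left z hzc
  let U'' : Over S := Over.mk (U'.ι ≫ U.hom)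
  let j : U'' ⟶ U := Over.homMk U'.ι rfl
  have hj : Etale j.left := by change Etale U'.ι; infer_instance
  refine ⟨U'', (AlgSp.yon S).map j ≫ φ, ⟨(hrep.fst' ξ).left z, hu'⟩,
    repWith_yon_map_comp @Etale j φ hj hφe, hcl, ?_⟩
  rw [ofPt_yon_map_comp]
  have : j.left ⟨(hrep.fst' ξ).left z, hu'⟩ = (hrep.fst' ξ).left z := rfl
  rw [this, ← ofPt_yon_map_comp, sq.w, ofPt_yon_map_comp]
  congr 1

/-- A nonempty locally closed subset of a scheme contains a point closed in some affine open. -/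
theorem exists_isClosed_in_open_of_isLocallyClosed {U : Scheme.{u}} (T : Set U) (hT : IsLocallyClosed T)
    (hne : T.Nonempty) :
    ∃ (N : U.Opens) (w : U) (hw : w ∈ N), w ∈ T ∧ IsClosed ({⟨w, hw⟩} : Set ↥N) := by
  obtain ⟨O, C, hO, hC, rfl⟩ := hT
  obtain ⟨u, huO, huC⟩ := hne
  obtain ⟨N0, ⟨N', hN', rfl⟩, huN', hN'O⟩ := U.isBasis_affineOpens.exists_subset_of_mem_open huO hO
  obtain ⟨N, hNN'⟩ : ∃ N : U.Opens, N = N' := ⟨N', rfl⟩
  have hN : IsAffineOpen N := hNN' ▸ hN'
  have huN : u ∈ N := hNN' ▸ huN'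
  have hNO : (N : Set U) ⊆ O := by
    intro a ha
    exact hN'O (hNN' ▸ ha)
  have hNa : IsAffine (N : Scheme.{u}) := hN
  have hcomp : CompactSpace ↥(N : Scheme.{u}) := inferInstance
  have hcl : IsClosed ((fun n : ↥(N : Scheme.{u}) => N.ι n) ⁻¹' C) := hC.preimage N.ι.continuous
  have hne' : ((fun n : ↥(N : Scheme.{u}) => N.ι n) ⁻¹' C).Nonempty := ⟨⟨u, huN⟩, huC⟩
  obtain ⟨w, hwC, hwcl⟩ := hcl.exists_closed_singleton hne'
  exact ⟨N, w.1, w.2, ⟨hNO w.2, hwC⟩, hwcl⟩

/-- A nonempty locally closed set of points of an algebraic space contains a finite type point. -/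
theorem exists_isFTPoint_of_isLocallyClosed {X : AlgSp.Sp S} (hX : AlgSp.IsAlgSpace X)
    (T : Set (AlgSp.Points X)) (hT : IsLocallyClosed T) (hne : T.Nonempty) :
    ∃ x ∈ T, IsFTPoint X x := by
  obtain ⟨U, φ, hφe, hφs⟩ := hX.atlas
  have hT' : IsLocallyClosed (AlgSp.Points.ofPt φ ⁻¹' T) := hT.preimage (AlgSp.Points.continuous_ofPt φ)
  have hne' : (AlgSp.Points.ofPt φ ⁻¹' T).Nonempty := by
    obtain ⟨x, hx⟩ := hne
    obtain ⟨u, rfl⟩ := surjective_ofPt φ hφs x
    exact ⟨u, hx⟩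
  obtain ⟨N, w, hw, hwT, hwcl⟩ := exists_isClosed_in_open_of_isLocallyClosed _ hT' hne'
  let U'' : Over S := Over.mk (N.ι ≫ U.hom)
  let j : U'' ⟶ U := Over.homMk N.ι rfl
  have hj : Etale j.left := by change Etale N.ι; infer_instance
  have hFT := isFTPoint_of_isClosed_chart ((AlgSp.yon S).map j ≫ φ)
    (repWith_yon_map_comp @Etale j φ hj hφe) (⟨w, hw⟩ : ↥U''.left) hwcl
  rw [ofPt_yon_map_comp] at hFT
  exact ⟨_, hwT, hFT⟩

/-- Finite type points lift along surjective morphisms. -/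
theorem exists_isFTPoint_map_eq {X Y : AlgSp.Sp S} (hX : AlgSp.IsAlgSpace X) (hY : AlgSp.IsAlgSpace Y)
    (f : X ⟶ Y) (hs : AlgSp.IsSurjectiveMor f) (y : AlgSp.Points Y) (hy : IsFTPoint Y y) :
    ∃ x : AlgSp.Points X, AlgSp.Points.map f x = y ∧ IsFTPoint X x := by
  obtain ⟨V, ψ, v, hψe, hv, rfl⟩ := exists_isClosed_chart_of_isFTPoint hY hy
  obtain ⟨U, φ, hφe, hφs⟩ := hX.atlas
  have hrep : AlgSp.Representable ψ := hψe.rep
  have sq := hrep.isPullback' (φ ≫ f)
  have h2 : Etale (hrep.snd (φ ≫ f)).left := hψe.property_snd (φ ≫ f)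
  have hsurj : AlgSp.IsSurjectiveMor (φ ≫ f) := by
    intro y'
    obtain ⟨x', rfl⟩ := hs y'
    obtain ⟨t, rfl⟩ := isSurjectiveMor_of_repWith hφs x'
    exact ⟨t, AlgSp.Points.map_comp _ _ _⟩
  have h1s : Surjective (hrep.fst' (φ ≫ f)).left :=
    (isSurjectiveMor_yon_map_iff _).1 (isSurjectiveMor_of_isPullback sq.flip hsurj)
  obtain ⟨w₀, hw₀⟩ := h1s.surj v
  have hcl : IsClosed ((fun w => (hrep.fst' (φ ≫ f)).left w) ⁻¹' {v}) :=
    hv.preimage (hrep.fst' (φ ≫ f)).left.continuous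
  obtain ⟨N, w, hw, hwv, hwcl⟩ := exists_isClosed_in_open_of_isLocallyClosed _ hcl.isLocallyClosed
    ⟨w₀, hw₀⟩
  let W'' : Over S := Over.mk (N.ι ≫ (hrep.pullback (φ ≫ f)).hom)
  let j : W'' ⟶ hrep.pullback (φ ≫ f) := Over.homMk N.ι rfl
  have hj : Etale j.left := by change Etale N.ι; infer_instance
  have hje : Etale (j ≫ hrep.snd (φ ≫ f)).left := by
    rw [Over.comp_left]; infer_instance
  have hchart : AlgSp.RepWith @Etale ((AlgSp.yon S).map (j ≫ hrep.snd (φ ≫ f)) ≫ φ) :=
    repWith_yon_map_comp @Etale _ φ hje hφe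
  have hFT := isFTPoint_of_isClosed_chart _ hchart (⟨w, hw⟩ : ↥W''.left) hwcl
  refine ⟨_, ?_, hFT⟩
  have hwv' : (hrep.fst' (φ ≫ f)).left w = v := hwv
  rw [AlgSp.Points.map_ofPt]
  have e1 : AlgSp.Points.ofPt (((AlgSp.yon S).map (j ≫ hrep.snd (φ ≫ f)) ≫ φ) ≫ f)
      (⟨w, hw⟩ : ↥W''.left) = AlgSp.Points.ofPt (φ ≫ f) ((hrep.snd (φ ≫ f)).left w) := by
    rw [Category.assoc]
    exact ofPt_yon_map_comp _ _ _
  rw [e1, ← ofPt_yon_map_comp, ← sq.w, ofPt_yon_map_comp, hwv']

end Groth.Agent.Lib.H15.AS
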