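import Mathlib
import Groth.Prelude.Def_AlgSp
import Groth.Prelude.Def_AlgSp2
import Groth.Prelude.Def_AlgSp3
import Groth.Prelude.Def_AlgSp4
import Groth.Prelude.Def_FDesc
import Groth.Agent.Lib.helper15.AlgSpFibre
import Groth.Agent.Lib.helper15.AlgSpPoints
import Groth.Agent.Lib.helper15.AlgSpPoints2

set_option autoImplicit false
universe u
open CategoryTheory CategoryTheory.Limits AlgebraicGeometry Opposite Topology

namespace Groth.Agent.Lib.H15.AS

variable {k : Type u} [Field k]

/-- `Spec K` as a scheme over `Spec k`. -/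
noncomputable abbrev specOver (k : Type u) [Field k] (K : Type u) [Field K] [Algebra k K] :
    Over (Spec (CommRingCat.of k)) := Over.mk (Spec.map (CommRingCat.ofHom (algebraMap k K)))

/-- The base change `U_K` of a `k`-scheme as a scheme over `Spec k`. -/
noncomputable def bcOver (U : Over (Spec (CommRingCat.of k))) (K : Type u) [Field K] [Algebra k K] :
    Over (Spec (CommRingCat.of k)) := Over.mk (FBase.bcπ U.hom K ≫ U.hom)

noncomputable def bcOverπ (U : Over (Spec (CommRingCat.of k))) (K : Type u) [Field K] [Algebra k K] :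
    bcOver U K ⟶ U := Over.homMk (FBase.bcπ U.hom K) rfl

noncomputable def bcOverσ (U : Over (Spec (CommRingCat.of k))) (K : Type u) [Field K] [Algebra k K] :
    bcOver U K ⟶ specOver k K :=
  Over.homMk (FBase.bcStr U.hom K) pullback.condition.symm

theorem isPullback_bcOver (U : Over (Spec (CommRingCat.of k))) (K : Type u) [Field K] [Algebra k K] :
    IsPullback (bcOverπ U K) (bcOverσ U K)
      (Over.homMk U.hom : U ⟶ Over.mk (𝟙 (Spec (CommRingCat.of k))))
      (Over.homMk (Spec.map (CommRingCat.ofHom (algebraMap k K))) :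
        specOver k K ⟶ Over.mk (𝟙 (Spec (CommRingCat.of k)))) := by
  refine IsPullback.of_map (Over.forget _) ?_ ?_
  · ext; exact pullback.condition
  · exact IsPullback.of_hasPullback U.hom (Spec.map (CommRingCat.ofHom (algebraMap k K)))

variable (k) in
/-- The terminal sheaf over `Spec k`. -/
noncomputable def termSp : AlgSp.Sp (Spec (CommRingCat.of k)) :=
  (AlgSp.yon _).obj (Over.mk (𝟙 (Spec (CommRingCat.of k))))

noncomputable def termSpIsTerminal : IsTerminal (termSp k) :=
  IsTerminal.isTerminalObj (AlgSp.yon _) _ Over.mkIdTerminal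

/-- The base change `X_K = X × Spec K` of a sheaf over `Spec k`. -/
noncomputable abbrev bcSp (X : AlgSp.Sp (Spec (CommRingCat.of k))) (K : Type u) [Field K] [Algebra k K] :
    AlgSp.Sp (Spec (CommRingCat.of k)) :=
  X ⨯ (AlgSp.yon (Spec (CommRingCat.of k))).obj (specOver k K)

theorem isPullback_bcSp (X : AlgSp.Sp (Spec (CommRingCat.of k))) (K : Type u) [Field K] [Algebra k K] :
    IsPullback (Limits.prod.fst : bcSp X K ⟶ X) Limits.prod.snd
      (termSpIsTerminal.from X) (termSpIsTerminal.from _) :=
  IsPullback.of_is_product (limit.isLimit _) termSpIsTerminal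

theorem isAlgSpace_bcSp {X : AlgSp.Sp (Spec (CommRingCat.of k))} (hX : AlgSp.IsAlgSpace X)
    (K : Type u) [Field K] [Algebra k K] : AlgSp.IsAlgSpace (bcSp X K) :=
  isAlgSpace_of_isPullback (AlgSp.IsAlgSpace.yon_obj _).diag hX (AlgSp.IsAlgSpace.yon_obj _)
    (isPullback_bcSp X K)

/-- The base change of a chart. -/
noncomputable def bcChart {X : AlgSp.Sp (Spec (CommRingCat.of k))} {U : Over (Spec (CommRingCat.of k))}
    (a : (AlgSp.yon _).obj U ⟶ X) (K : Type u) [Field K] [Algebra k K] :
    (AlgSp.yon _).obj (bcOver U K) ⟶ bcSp X K :=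
  prod.lift ((AlgSp.yon _).map (bcOverπ U K) ≫ a) ((AlgSp.yon _).map (bcOverσ U K))

theorem isPullback_bcChart {X : AlgSp.Sp (Spec (CommRingCat.of k))} {U : Over (Spec (CommRingCat.of k))}
    (a : (AlgSp.yon _).obj U ⟶ X) (K : Type u) [Field K] [Algebra k K] :
    IsPullback (bcChart a K) ((AlgSp.yon _).map (bcOverπ U K)) Limits.prod.fst a := by
  have h1 : (AlgSp.yon _).map (Over.homMk U.hom : U ⟶ Over.mk (𝟙 (Spec (CommRingCat.of k)))) =
      a ≫ termSpIsTerminal.from X := termSpIsTerminal.hom_ext _ _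
  have h2 : (AlgSp.yon _).map (Over.homMk (Spec.map (CommRingCat.ofHom (algebraMap k K))) :
        specOver k K ⟶ Over.mk (𝟙 (Spec (CommRingCat.of k)))) =
      termSpIsTerminal.from _ := termSpIsTerminal.hom_ext _ _
  have outer := ((isPullback_bcOver U K).map (AlgSp.yon _)).flip
  rw [h1, h2] at outer
  have e : bcChart a K ≫ Limits.prod.snd = (AlgSp.yon _).map (bcOverσ U K) := prod.lift_snd _ _
  rw [← e] at outer
  exact IsPullback.of_right outer (prod.lift_fst _ _) (isPullback_bcSp X K).flip

theorem repWith_bcChart (P : MorphismProperty Scheme.{u}) [P.IsStableUnderBaseChange]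
    {X : AlgSp.Sp (Spec (CommRingCat.of k))} {U : Over (Spec (CommRingCat.of k))}
    (a : (AlgSp.yon _).obj U ⟶ X) (ha : AlgSp.RepWith P a) (K : Type u) [Field K] [Algebra k K] :
    AlgSp.RepWith P (bcChart a K) :=
  MorphismProperty.of_isPullback (P := AlgSp.RepWith P) (isPullback_bcChart a K).flip ha

/-- The transition morphism `X_L ⟶ X_K` for a tower `k → K → L`. -/
noncomputable def bcSpMap (X : AlgSp.Sp (Spec (CommRingCat.of k))) {K L : Type u} [Field K] [Field L]
    [Algebra k K] [Algebra k L] (g : specOver k L ⟶ specOver k K) : bcSp X L ⟶ bcSp X K :=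
  prod.map (𝟙 X) ((AlgSp.yon _).map g)

theorem isPullback_bcSpMap (X : AlgSp.Sp (Spec (CommRingCat.of k))) {K L : Type u} [Field K] [Field L]
    [Algebra k K] [Algebra k L] (g : specOver k L ⟶ specOver k K) :
    IsPullback (bcSpMap X g) Limits.prod.snd Limits.prod.snd ((AlgSp.yon _).map g) := by
  have outer := isPullback_bcSp X L
  have e1 : (Limits.prod.fst : bcSp X L ⟶ X) = bcSpMap X g ≫ Limits.prod.fst := by
    rw [bcSpMap, prod.map_fst, Category.comp_id]
  have e2 : termSpIsTerminal.from ((AlgSp.yon (Spec (CommRingCat.of k))).obj (specOver k L)) =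
      (AlgSp.yon _).map g ≫ termSpIsTerminal.from _ := termSpIsTerminal.hom_ext _ _
  rw [e1, e2] at outer
  exact IsPullback.of_right outer (prod.map_snd _ _) (isPullback_bcSp X K)

theorem isSurjectiveMor_bcSpMap (X : AlgSp.Sp (Spec (CommRingCat.of k))) {K L : Type u} [Field K]
    [Field L] [Algebra k K] [Algebra k L] (g : specOver k L ⟶ specOver k K) :
    AlgSp.IsSurjectiveMor (bcSpMap X g) := by
  refine isSurjectiveMor_of_isPullback (isPullback_bcSpMap X g).flip ?_
  rw [isSurjectiveMor_yon_map_iff]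
  have : Subsingleton ↥(specOver k K).left := by
    change Subsingleton (PrimeSpectrum K); infer_instance
  exact ⟨fun x => ⟨IsLocalRing.closedPoint L, Subsingleton.elim _ _⟩⟩

end Groth.Agent.Lib.H15.AS
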