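import Mathlib
import Groth.Prelude.Def_AlgSp
import Groth.Prelude.Def_AlgSp2
import Groth.Prelude.Def_AlgSp3
import Groth.Prelude.Def_AlgSp4
import Groth.Prelude.Def_AlgSpDec
import Groth.Prelude.Def_AlgSpGpd
import Groth.Agent.Lib.helper15.AlgSpPoints

set_option autoImplicit false
universe u
open CategoryTheory CategoryTheory.Limits AlgebraicGeometry Opposite Topology

namespace Groth.Agent.Lib.H15.AS

variable {S : Scheme.{u}}

/-- The field valued point defined by a morphism `h_{Spec K} ⟶ F`. -/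
noncomputable def fieldPtOfHom {F : AlgSp.Sp S} {K : Type u} [Field K] (str : Spec (CommRingCat.of K) ⟶ S)
    (r : (AlgSp.yon S).obj (Over.mk str) ⟶ F) : AlgSp.FieldPt F :=
  ⟨K, str, (AlgSp.J S).uliftYonedaEquiv r⟩

theorem fieldPtOfHom_toHom {F : AlgSp.Sp S} (p : AlgSp.FieldPt F) :
    fieldPtOfHom p.str p.toHom = p := by
  obtain ⟨K, str, val⟩ := p
  have : (AlgSp.J S).uliftYonedaEquiv (AlgSp.FieldPt.toHom ⟨K, str, val⟩) = val :=
    AlgSp.FieldPt.uliftYonedaEquiv_toHom _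
  change (⟨K, str, (AlgSp.J S).uliftYonedaEquiv (AlgSp.FieldPt.toHom ⟨K, str, val⟩)⟩ :
    AlgSp.FieldPt F) = ⟨K, str, val⟩
  rw [this]

theorem exists_fieldPtOfHom {F : AlgSp.Sp S} (x : AlgSp.Points F) :
    ∃ (K : Type u) (_ : Field K) (str : Spec (CommRingCat.of K) ⟶ S)
      (r : (AlgSp.yon S).obj (Over.mk str) ⟶ F), x = AlgSp.Points.mk (fieldPtOfHom str r) := by
  induction x using AlgSp.Points.ind with
  | h p => exact ⟨p.K, inferInstance, p.str, p.toHom, by rw [fieldPtOfHom_toHom]⟩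

theorem map_mk_fieldPtOfHom {F G : AlgSp.Sp S} {K : Type u} [Field K]
    (str : Spec (CommRingCat.of K) ⟶ S) (r : (AlgSp.yon S).obj (Over.mk str) ⟶ F) (f : F ⟶ G) :
    AlgSp.Points.map f (AlgSp.Points.mk (fieldPtOfHom str r)) =
      AlgSp.Points.mk (fieldPtOfHom str (r ≫ f)) := by
  rw [AlgSp.Points.map_mk]
  rfl

theorem mk_fieldPtOfHom_restrict {F : AlgSp.Sp S} {K Ω : Type u} [Field K] [Field Ω]
    (str : Spec (CommRingCat.of K) ⟶ S) (w : Spec (CommRingCat.of Ω) ⟶ S)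
    (c : Over.mk w ⟶ Over.mk str) (r : (AlgSp.yon S).obj (Over.mk str) ⟶ F) :
    AlgSp.Points.mk (fieldPtOfHom w ((AlgSp.yon S).map c ≫ r)) =
      AlgSp.Points.mk (fieldPtOfHom str r) := by
  rw [← points_mk_restrict (fieldPtOfHom str r) w c]
  congr 1
  change (⟨Ω, w, (AlgSp.J S).uliftYonedaEquiv ((AlgSp.yon S).map c ≫ r)⟩ : AlgSp.FieldPt F) = _
  rw [← GrothendieckTopology.uliftYonedaEquiv_naturality]
  rfl

/-- Two field valued points define the same point iff they agree over a common extension (morphism form). -/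
theorem exists_of_mk_eq {F : AlgSp.Sp S} {K L : Type u} [Field K] [Field L]
    {str : Spec (CommRingCat.of K) ⟶ S} {str' : Spec (CommRingCat.of L) ⟶ S}
    {r : (AlgSp.yon S).obj (Over.mk str) ⟶ F} {r' : (AlgSp.yon S).obj (Over.mk str') ⟶ F}
    (h : AlgSp.Points.mk (fieldPtOfHom str r) = AlgSp.Points.mk (fieldPtOfHom str' r')) :
    ∃ (Ω : Type u) (_ : Field Ω) (w : Spec (CommRingCat.of Ω) ⟶ S) (a : Over.mk w ⟶ Over.mk str)
      (b : Over.mk w ⟶ Over.mk str'), (AlgSp.yon S).map a ≫ r = (AlgSp.yon S).map b ≫ r' := by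
  obtain ⟨Ω, _, w, a, b, hab⟩ := AlgSp.Points.mk_eq_mk_iff.1 h
  refine ⟨Ω, inferInstance, w, a, b, ?_⟩
  apply (AlgSp.J S).uliftYonedaEquiv.injective
  rw [← GrothendieckTopology.uliftYonedaEquiv_naturality, ← GrothendieckTopology.uliftYonedaEquiv_naturality]
  exact hab

/-- For a pre-equivalence relation of sheaves, the induced relation on points is an equivalence relation. -/
theorem points_rel_equivalence {R U : AlgSp.Sp S} (s t : R ⟶ U) (h : AlgSp.IsPreEqvRelSp s t) :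
    _root_.Equivalence (fun x y : AlgSp.Points U =>
      ∃ r : AlgSp.Points R, AlgSp.Points.map t r = x ∧ AlgSp.Points.map s r = y) := by
  refine ⟨?_, ?_, ?_⟩
  · intro x
    obtain ⟨K, _, str, a, rfl⟩ := exists_fieldPtOfHom x
    obtain ⟨r, hr1, hr2⟩ := (h (Over.mk str)).refl a
    refine ⟨AlgSp.Points.mk (fieldPtOfHom str r), ?_, ?_⟩
    · rw [map_mk_fieldPtOfHom, hr1]
    · rw [map_mk_fieldPtOfHom, hr2]
  · rintro x y ⟨ρ, rfl, rfl⟩
    obtain ⟨K, _, str, q, rfl⟩ := exists_fieldPtOfHom ρ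
    obtain ⟨r', hr1, hr2⟩ := (h (Over.mk str)).symm ⟨q, rfl, rfl⟩
    refine ⟨AlgSp.Points.mk (fieldPtOfHom str r'), ?_, ?_⟩
    · rw [map_mk_fieldPtOfHom, hr1, ← map_mk_fieldPtOfHom]
    · rw [map_mk_fieldPtOfHom, hr2, ← map_mk_fieldPtOfHom]
  · rintro x y z ⟨ρ1, rfl, rfl⟩ ⟨ρ2, h2, rfl⟩
    obtain ⟨K1, _, str1, q1, rfl⟩ := exists_fieldPtOfHom ρ1
    obtain ⟨K2, _, str2, q2, rfl⟩ := exists_fieldPtOfHom ρ2
    rw [map_mk_fieldPtOfHom, map_mk_fieldPtOfHom] at h2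
    obtain ⟨Ω, _, w, d, c, hcd⟩ := exists_of_mk_eq h2
    obtain ⟨r3, hr1, hr2⟩ := (h (Over.mk w)).trans
      ⟨(AlgSp.yon S).map c ≫ q1, rfl, rfl⟩
      ⟨(AlgSp.yon S).map d ≫ q2, by rw [Category.assoc, hcd, Category.assoc], rfl⟩
    refine ⟨AlgSp.Points.mk (fieldPtOfHom w r3), ?_, ?_⟩
    · rw [map_mk_fieldPtOfHom, hr1, Category.assoc, mk_fieldPtOfHom_restrict, ← map_mk_fieldPtOfHom]
    · rw [map_mk_fieldPtOfHom, hr2, Category.assoc, mk_fieldPtOfHom_restrict, ← map_mk_fieldPtOfHom]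

end Groth.Agent.Lib.H15.AS
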