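import Mathlib
import Groth.Prelude.Def_AlgSp
import Groth.Prelude.Def_AlgSp2
import Groth.Prelude.Def_AlgSp3
import Groth.Prelude.Def_AlgSp4
import Groth.Agent.Lib.helper15.AlgSpFibre

set_option autoImplicit false
universe u
open CategoryTheory CategoryTheory.Limits AlgebraicGeometry Opposite Topology

namespace Groth.Agent.Lib.H15.AS

variable {S : Scheme.{u}}

/-- Universal properties `UnivSp Q` are stable under composition when `Q` is. -/
theorem univSp_comp (Q : MorphismProperty (AlgSp.Sp S))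
    (hQ : ∀ ⦃A B C : AlgSp.Sp S⦄ (x : A ⟶ B) (y : B ⟶ C), Q x → Q y → Q (x ≫ y))
    {X Y Z : AlgSp.Sp S} (hY : AlgSp.IsAlgSpace Y) (hZ : AlgSp.IsAlgSpace Z)
    {f : X ⟶ Y} {g : Y ⟶ Z} (hf : AlgSp.UnivSp Q f) (hg : AlgSp.UnivSp Q g) :
    AlgSp.UnivSp Q (f ≫ g) := by
  intro T P hT k p1 p2 sqP
  have sqY := IsPullback.of_hasPullback g k
  have hYT : AlgSp.IsAlgSpace (pullback g k) := isAlgSpace_of_isPullback hZ.diag hY hT sqY
  let l : P ⟶ pullback g k := pullback.lift (p1 ≫ f) p2 (by rw [Category.assoc]; exact sqP.w)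
  have hl1 : l ≫ pullback.fst g k = p1 ≫ f := pullback.lift_fst _ _ _
  have hl2 : l ≫ pullback.snd g k = p2 := pullback.lift_snd _ _ _
  have big : IsPullback p1 (l ≫ pullback.snd g k) (f ≫ g) k := by rw [hl2]; exact sqP
  have left : IsPullback p1 l f (pullback.fst g k) := IsPullback.of_bot big hl1.symm sqY
  have h1 : Q l := hf hYT (pullback.fst g k) p1 l left
  have h2 : Q (pullback.snd g k) := hg hT k _ _ sqY
  rw [← hl2]
  exact hQ _ _ h1 h2

end Groth.Agent.Lib.H15.AS
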