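import Mathlib
import Groth.Prelude.Def_AlgSp
import Groth.Prelude.Def_AlgSp2
import Groth.Prelude.Def_AlgSp3
import Groth.Prelude.Def_AlgSp4
import Groth.Agent.Lib.helper15.AlgSpLocP5
import Groth.Agent.Lib.helper15.AlgSpUnivComp
import Groth.Agent.Lib.helper15.AlgSpQC3
import Groth.Agent.Lib.helper15.AlgSpImm
import Groth.Agent.Lib.helper15.AlgSpRepIff

set_option autoImplicit false
universe u
open CategoryTheory CategoryTheory.Limits AlgebraicGeometry Opposite Topology

namespace Groth.Agent.Lib.H15.AS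

variable {S : Scheme.{u}}

/-- A closed immersion of algebraic spaces is proper. -/
theorem isProperMor_of_repWith_isClosedImmersion {X Y : AlgSp.Sp S} (hX : AlgSp.IsAlgSpace X)
    (hY : AlgSp.IsAlgSpace Y) {i : X ⟶ Y} (hi : AlgSp.RepWith @IsClosedImmersion i) :
    AlgSp.IsProperMor i := by
  refine ⟨isSeparatedMor_of_repWith_isClosedImmersion hi, ⟨?_, ?_⟩, ?_⟩
  · refine locP_of_repWith @LocallyOfFiniteType (fun A B C e p he hp => ?_)
      (repWith_mono (fun _ _ g (hg : IsClosedImmersion g) =>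
        (inferInstance : LocallyOfFiniteType g)) hi)
    have : Etale e := he
    have : LocallyOfFiniteType p := hp
    exact (inferInstance : LocallyOfFiniteType (e ≫ p))
  · exact (repWith_quasiCompact_iff hX hY hi.rep).1
      (repWith_mono (fun _ _ g (hg : IsClosedImmersion g) => (inferInstance : QuasiCompact g)) hi)
  · exact (repWith_universallyClosed_iff hi.rep).1
      (repWith_mono (fun _ _ g (hg : IsClosedImmersion g) =>
        (inferInstance : UniversallyClosed g)) hi)

/-- Proper morphisms of algebraic spaces are stable under base change. -/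
theorem isProperMor_of_isPullback {X Y Y' X' : AlgSp.Sp S} (hX : AlgSp.IsAlgSpace X)
    (hY : AlgSp.IsAlgSpace Y) (hY' : AlgSp.IsAlgSpace Y') {f : X ⟶ Y} {g : Y' ⟶ Y} {fst : X' ⟶ X}
    {f' : X' ⟶ Y'} (sq : IsPullback fst f' f g) (hf : AlgSp.IsProperMor f) : AlgSp.IsProperMor f' := by
  obtain ⟨hsep, ⟨hlft, hqc⟩, huc⟩ := hf
  refine ⟨?_, ⟨?_, ?_⟩, ?_⟩
  · exact MorphismProperty.of_isPullback (P := (AlgSp.RepWith @IsClosedImmersion).diagonal) sq hsep
  · exact locP_lft_of_isPullback hX hY hY' sq hlft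
  · exact isQuasiCompactMor_of_isPullback sq hqc
  · exact univSp_of_isPullback _ sq huc

/-- Universally closed morphisms of algebraic spaces are stable under composition. -/
theorem isUnivClosedMor_comp {X Y Z : AlgSp.Sp S} (hY : AlgSp.IsAlgSpace Y) (hZ : AlgSp.IsAlgSpace Z)
    {f : X ⟶ Y} {g : Y ⟶ Z} (hf : AlgSp.IsUnivClosedMor f) (hg : AlgSp.IsUnivClosedMor g) :
    AlgSp.IsUnivClosedMor (f ≫ g) := by
  refine univSp_comp _ (fun A B C x y hx hy => ?_) hY hZ hf hg
  change IsClosedMap (AlgSp.Points.map (x ≫ y))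
  rw [points_map_comp_fun]
  exact IsClosedMap.comp hy hx

/-- Proper morphisms of algebraic spaces are stable under composition. -/
theorem isProperMor_comp {X Y Z : AlgSp.Sp S} (hX : AlgSp.IsAlgSpace X) (hY : AlgSp.IsAlgSpace Y)
    (hZ : AlgSp.IsAlgSpace Z) {f : X ⟶ Y} {g : Y ⟶ Z} (hf : AlgSp.IsProperMor f)
    (hg : AlgSp.IsProperMor g) : AlgSp.IsProperMor (f ≫ g) := by
  obtain ⟨hsep, ⟨hlft, hqc⟩, huc⟩ := hf
  obtain ⟨hsep', ⟨hlft', hqc'⟩, huc'⟩ := hg
  refine ⟨?_, ⟨?_, ?_⟩, ?_⟩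
  · exact MorphismProperty.comp_mem (AlgSp.RepWith @IsClosedImmersion).diagonal f g hsep hsep'
  · exact locP_lft_comp hX hY hZ hlft hlft'
  · exact isQuasiCompactMor_comp hY hZ hqc hqc'
  · exact isUnivClosedMor_comp hY hZ huc huc'

end Groth.Agent.Lib.H15.AS
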