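import Mathlib
import Groth.Prelude.Def_AlgSp
import Groth.Prelude.Def_AlgSp2
import Groth.Prelude.Def_AlgSp3
import Groth.Prelude.Def_AlgSp4
import Groth.Agent.Lib.helper15.AlgSpProper
import Groth.Agent.Lib.helper15.AlgSpAffLoc
import Groth.Agent.Lib.helper15.AlgSpSep2

set_option autoImplicit false
universe u
open CategoryTheory CategoryTheory.Limits AlgebraicGeometry Opposite Topology

namespace Groth.Agent.Lib.H15.AS

variable {S : Scheme.{u}}

/-- `LocP` is invariant under precomposition with an isomorphism. -/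
theorem locP_iso_comp (P : MorphismProperty Scheme.{u}) {F F' G : AlgSp.Sp S} (e : F' ≅ F) {f : F ⟶ G}
    (h : AlgSp.LocP P f) : AlgSp.LocP P (e.hom ≫ f) := by
  intro U V a b hh ha hb w
  refine h (a ≫ e.hom) b hh ((MorphismProperty.cancel_right_of_respectsIso _ a e.hom).2 ha) hb ?_
  rw [Category.assoc]; exact w

/-- If `h_i` is universally closed as a morphism of sheaves then `i` is universally closed. -/
theorem universallyClosed_of_isUnivClosedMor_yon {W Z : Over S} (i : W ⟶ Z)
    (h : AlgSp.IsUnivClosedMor ((AlgSp.yon S).map i)) : UniversallyClosed i.left := by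
  have hrep : AlgSp.Representable ((AlgSp.yon S).map i) :=
    ((AlgSp.repWith_yon_map_iff (⊤ : MorphismProperty Scheme.{u}) i).2 trivial).rep
  exact (AlgSp.repWith_yon_map_iff _ _).1 ((repWith_universallyClosed_iff hrep).2 h)

/-- If `i` is universally closed then every pullback projection isomorphic to `h_i` is closed on points. -/
theorem isClosedMap_of_iso_yon_map {W Z : Over S} (i : W ⟶ Z) [UniversallyClosed i.left]
    {P : AlgSp.Sp S} (e : (AlgSp.yon S).obj W ≅ P) (snd : P ⟶ (AlgSp.yon S).obj Z)
    (he : e.hom ≫ snd = (AlgSp.yon S).map i) : IsClosedMap (AlgSp.Points.map snd) := by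
  have h1 : IsClosedMap (AlgSp.Points.map ((AlgSp.yon S).map i)) :=
    (isClosedMap_map_yon_map_iff i).2 i.left.isClosedMap
  have h2 : snd = e.inv ≫ (AlgSp.yon S).map i := by rw [← he, Iso.inv_hom_id_assoc]
  rw [h2, points_map_comp_fun]
  exact h1.comp (pointsHomeo e.symm).isClosedMap

/-- `LocP lft` of `h_i` for `i` locally of finite type. -/
theorem locP_lft_yon_map {W Z : Over S} (i : W ⟶ Z) [LocallyOfFiniteType i.left] :
    AlgSp.LocP @LocallyOfFiniteType ((AlgSp.yon S).map i) := by
  refine locP_of_repWith @LocallyOfFiniteType (fun A B C e p he hp => ?_)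
    ((AlgSp.repWith_yon_map_iff _ _).2 ‹_›)
  have : Etale e := he
  have : LocallyOfFiniteType p := hp
  exact (inferInstance : LocallyOfFiniteType (e ≫ p))

end Groth.Agent.Lib.H15.AS
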