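import Mathlib
import Groth.Prelude.Def_AlgSp
import Groth.Prelude.Def_AlgSp2
import Groth.Prelude.Def_AlgSp3
import Groth.Prelude.Def_AlgSp4
import Groth.Prelude.Def_AlgSpDec
import Groth.Agent.Lib.helper15.AlgSpClosedPt
import Groth.Agent.Lib.helper15.AlgSpDiag
import Groth.Agent.Lib.helper1.FpqcDescent

set_option autoImplicit false
universe u
open CategoryTheory CategoryTheory.Limits AlgebraicGeometry Opposite Topology

namespace Groth.Agent.Lib.H15.AS

variable {S : Scheme.{u}}

instance isFinite_descendsAlong_fpqc : MorphismProperty.DescendsAlong @IsFinite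
    (@Surjective ⊓ @Flat ⊓ @QuasiCompact : MorphismProperty Scheme.{u}) :=
  Groth.Agent.Lib.helper1.isFinite_descendsAlong

/-- A morphism from the spectrum of a field finite over the residue field of a closed point of the base,
which is quasi-compact: its base change to an etale chart is finite. -/
theorem isFinite_snd_of_finite_over_closedPoint {X : AlgSp.Sp S} (s : ↥S) (hs : IsClosed ({s} : Set ↥S))
    (k : Type u) [Field k] (φ : S.residueField s ⟶ CommRingCat.of k) (hφ : φ.hom.Finite)
    (p : (AlgSp.yon S).obj (Over.mk (Spec.map φ ≫ S.fromSpecResidueField s)) ⟶ X)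
    (hpq : AlgSp.RepWith @QuasiCompact p) {U : Over S} (a : (AlgSp.yon S).obj U ⟶ X)
    (ha : AlgSp.RepWith @Etale a) : IsFinite (hpq.rep.snd a).left := by
  have hp : AlgSp.Representable p := hpq.rep
  have sq := hp.isPullback' a
  have h2 : QuasiCompact (hp.snd a).left := hpq.property_snd a
  have h1 : Etale (hp.fst' a).left :=
    ((AlgSp.repWith_iff _ _).1 ha).2 p ((AlgSp.yon S).map (hp.snd a)) (hp.fst' a) sq.flip
  have hlq : LocallyQuasiFinite (hp.fst' a).left :=
    Groth.Agent.Lib.H15.locallyQuasiFinite_of_formallyUnramified _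
  have hqs : QuasiSeparatedSpace ↥(Over.mk (Spec.map φ ≫ S.fromSpecResidueField s)).left := by
    change QuasiSeparatedSpace ↥(Spec (CommRingCat.of k))
    infer_instance
  have hla : IsLocallyArtinian (Over.mk (Spec.map φ ≫ S.fromSpecResidueField s)).left := by
    change IsLocallyArtinian (Spec (CommRingCat.of k))
    rw [Scheme.isLocallyArtinianScheme_Spec]
    infer_instance
  have hci : IsClosedImmersion (S.fromSpecResidueField s) :=
    isClosed_singleton_iff_isClosedImmersion.1 hs
  have hfinφ : IsFinite (Spec.map φ) := (IsFinite.SpecMap_iff φ).2 hφ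
  rw [IsZariskiLocalAtTarget.iff_of_iSup_eq_top (P := @IsFinite) _ (iSup_affineOpens_eq_top U.left)]
  intro W
  have hWa : IsAffine ((W : U.left.Opens) : Scheme.{u}) := W.2
  have hc : CompactSpace ↥(((hp.snd a).left ⁻¹ᵁ (W : U.left.Opens) : (hp.pullback a).left.Opens) :
      Scheme.{u}) :=
    QuasiCompact.compactSpace_of_compactSpace ((hp.snd a).left ∣_ (W : U.left.Opens))
  have hfin1 : IsFinite (((hp.snd a).left ⁻¹ᵁ (W : U.left.Opens)).ι ≫ (hp.fst' a).left) :=
    IsFinite.of_locallyQuasiFinite _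
  have hcomp : ((hp.snd a).left ∣_ (W : U.left.Opens)) ≫ ((W : U.left.Opens).ι ≫ U.hom) =
      (((hp.snd a).left ⁻¹ᵁ (W : U.left.Opens)).ι ≫ (hp.fst' a).left) ≫
        Spec.map φ ≫ S.fromSpecResidueField s := by
    rw [← Category.assoc, morphismRestrict_ι, Category.assoc, Category.assoc, Over.w (hp.snd a)]
    exact congrArg (fun m => ((hp.snd a).left ⁻¹ᵁ (W : U.left.Opens)).ι ≫ m) (Over.w (hp.fst' a)).symm
  have hfin2 : IsFinite (((hp.snd a).left ∣_ (W : U.left.Opens)) ≫ ((W : U.left.Opens).ι ≫ U.hom)) := by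
    rw [hcomp]
    infer_instance
  exact IsFinite.of_comp _ ((W : U.left.Opens).ι ≫ U.hom)

theorem repWith_isFinite_of_finite_over_closedPoint {X : AlgSp.Sp S} (hX : AlgSp.IsAlgSpace X) (s : ↥S)
    (hs : IsClosed ({s} : Set ↥S))
    (k : Type u) [Field k] (φ : S.residueField s ⟶ CommRingCat.of k) (hφ : φ.hom.Finite)
    (p : (AlgSp.yon S).obj (Over.mk (Spec.map φ ≫ S.fromSpecResidueField s)) ⟶ X)
    (hpq : AlgSp.RepWith @QuasiCompact p) : AlgSp.RepWith @IsFinite p := by
  obtain ⟨U, a, hae, has⟩ := hX.atlas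
  have hp : AlgSp.Representable p := hpq.rep
  exact repWith_of_etale_cover_target @IsFinite hp hae has (hp.isPullback' a)
    ((AlgSp.repWith_yon_map_iff _ _).2 (isFinite_snd_of_finite_over_closedPoint s hs k φ hφ p hpq a hae))

/-- If the structure morphism of `T` is a monomorphism, every morphism out of `h_T` is a monomorphism. -/
theorem mono_of_mono_hom {X : AlgSp.Sp S} {T : Over S} [Mono T.hom] (p : (AlgSp.yon S).obj T ⟶ X) :
    Mono p := by
  refine mono_of_forall_yon p fun V x y _ => ?_
  obtain ⟨x', rfl⟩ := (AlgSp.yon S).map_surjective x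
  obtain ⟨y', rfl⟩ := (AlgSp.yon S).map_surjective y
  congr 1
  apply Over.OverMorphism.ext
  rw [← cancel_mono T.hom, Over.w x', Over.w y']

theorem repWith_isClosedImmersion_of_isFinite_of_mono {F G : AlgSp.Sp S} {f : F ⟶ G}
    (hf : AlgSp.RepWith @IsFinite f) [Mono f] : AlgSp.RepWith @IsClosedImmersion f := by
  rw [AlgSp.repWith_iff] at hf ⊢
  refine ⟨hf.1, fun U V g fst snd sq => ?_⟩
  have h1 : IsFinite snd.left := hf.2 g fst snd sq
  have h2 : Mono ((AlgSp.yon S).map snd) := sq.mono_snd_of_mono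
  have h3 : Mono snd := Functor.mono_of_mono_map (AlgSp.yon S) h2
  have h4 : Mono snd.left := Over.mono_left_of_mono snd
  exact (IsClosedImmersion.iff_isFinite_and_mono _).2 ⟨h1, h4⟩

end Groth.Agent.Lib.H15.AS
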