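import Mathlib
import Groth.Prelude.Def_AlgSp
import Groth.Prelude.Def_AlgSp2
import Groth.Prelude.Def_AlgSp3
import Groth.Prelude.Def_AlgSp4
import Groth.Prelude.Def_AlgSpInf

set_option autoImplicit false
universe u
open CategoryTheory CategoryTheory.Limits AlgebraicGeometry Opposite Topology

namespace Groth.Agent.Lib.H15.AS

variable {S : Scheme.{u}}

theorem hasUniqLift_iff {F G : AlgSp.Sp S} {f : F ⟶ G} (sq : AlgSp.InfSq f) :
    sq.HasUniqLift ↔ sq.HasLift ∧ sq.HasUniq := by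
  constructor
  · rintro ⟨l, ⟨h1, h2⟩, hu⟩
    refine ⟨⟨l, h1, h2⟩, fun l₁ l₂ a1 a2 b1 b2 => ?_⟩
    rw [hu l₁ ⟨a1, a2⟩, hu l₂ ⟨b1, b2⟩]
  · rintro ⟨⟨l, h1, h2⟩, hu⟩
    exact ⟨l, ⟨h1, h2⟩, fun l' ⟨a1, a2⟩ => hu l' l a1 a2 h1 h2⟩

theorem isFormallyEtaleMor_iff {F G : AlgSp.Sp S} (f : F ⟶ G) :
    AlgSp.IsFormallyEtaleMor f ↔ AlgSp.IsFormallySmoothMor f ∧ AlgSp.IsFormallyUnramifiedMor f := by
  constructor
  · intro h
    exact ⟨fun sq => ((hasUniqLift_iff sq).1 (h sq)).1, fun sq => ((hasUniqLift_iff sq).1 (h sq)).2⟩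
  · rintro ⟨h1, h2⟩ sq
    exact (hasUniqLift_iff sq).2 ⟨h1 sq, h2 sq⟩

/-- Change the morphism of an infinitesimal lifting square. -/
noncomputable abbrev InfSq.mk' {F G F' G' : AlgSp.Sp S} {f : F ⟶ G} (sq : AlgSp.InfSq f) (f' : F' ⟶ G')
    (top : (AlgSp.yon S).obj sq.ptT ⟶ F') (bot : (AlgSp.yon S).obj sq.ptT' ⟶ G')
    (comm : top ≫ f' = (AlgSp.yon S).map sq.j ≫ bot) : AlgSp.InfSq f' where
  A := sq.A
  I := sq.I
  sq_zero := sq.sq_zero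
  str := sq.str
  top := top
  bot := bot
  comm := comm

theorem isFormallySmoothMor_comp {F G H : AlgSp.Sp S} {a : F ⟶ G} {b : G ⟶ H}
    (ha : AlgSp.IsFormallySmoothMor a) (hb : AlgSp.IsFormallySmoothMor b) :
    AlgSp.IsFormallySmoothMor (a ≫ b) := by
  intro sq
  obtain ⟨lb, hlb1, hlb2⟩ := hb (InfSq.mk' sq b (sq.top ≫ a) sq.bot
    ((Category.assoc _ _ _).trans sq.comm))
  obtain ⟨l, hl1, hl2⟩ := ha (InfSq.mk' sq a sq.top lb hlb1.symm)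
  exact ⟨l, hl1, (Category.assoc l a b).symm.trans ((congrArg (· ≫ b) hl2).trans hlb2)⟩

theorem isFormallyUnramifiedMor_comp {F G H : AlgSp.Sp S} {a : F ⟶ G} {b : G ⟶ H}
    (ha : AlgSp.IsFormallyUnramifiedMor a) (hb : AlgSp.IsFormallyUnramifiedMor b) :
    AlgSp.IsFormallyUnramifiedMor (a ≫ b) := by
  intro sq l l' h1 h2 h1' h2'
  have e : l ≫ a = l' ≫ a := by
    refine hb (InfSq.mk' sq b (sq.top ≫ a) sq.bot ((Category.assoc _ _ _).trans sq.comm))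
      (l ≫ a) (l' ≫ a) ?_ ?_ ?_ ?_
    · show (AlgSp.yon S).map sq.j ≫ l ≫ a = sq.top ≫ a
      rw [← Category.assoc]; exact congrArg (· ≫ a) h1
    · exact (Category.assoc _ _ _).trans h2
    · show (AlgSp.yon S).map sq.j ≫ l' ≫ a = sq.top ≫ a
      rw [← Category.assoc]; exact congrArg (· ≫ a) h1'
    · exact (Category.assoc _ _ _).trans h2'
  refine ha (InfSq.mk' sq a sq.top (l ≫ a) ?_) l l' h1 rfl h1' e.symm
  rw [← Category.assoc]
  exact (congrArg (· ≫ a) h1).symm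

theorem isFormallyUnramifiedMor_of_comp {F G H : AlgSp.Sp S} {a : F ⟶ G} {b : G ⟶ H}
    (hab : AlgSp.IsFormallyUnramifiedMor (a ≫ b)) : AlgSp.IsFormallyUnramifiedMor a := by
  intro sq l l' h1 h2 h1' h2'
  refine hab (InfSq.mk' sq (a ≫ b) sq.top (sq.bot ≫ b) ?_) l l' h1 ?_ h1' ?_
  · rw [← Category.assoc, ← Category.assoc]
    exact congrArg (· ≫ b) sq.comm
  · show l ≫ a ≫ b = sq.bot ≫ b
    rw [← Category.assoc]; exact congrArg (· ≫ b) h2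
  · show l' ≫ a ≫ b = sq.bot ≫ b
    rw [← Category.assoc]; exact congrArg (· ≫ b) h2'

theorem isFormallySmoothMor_of_comp {F G H : AlgSp.Sp S} {a : F ⟶ G} {b : G ⟶ H}
    (hb : AlgSp.IsFormallyUnramifiedMor b) (hab : AlgSp.IsFormallySmoothMor (a ≫ b)) :
    AlgSp.IsFormallySmoothMor a := by
  intro sq
  have c1 : sq.top ≫ a ≫ b = (AlgSp.yon S).map sq.j ≫ sq.bot ≫ b := by
    rw [← Category.assoc, ← Category.assoc]
    exact congrArg (· ≫ b) sq.comm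
  obtain ⟨l, hl1, hl2⟩ := hab (InfSq.mk' sq (a ≫ b) sq.top (sq.bot ≫ b) c1)
  refine ⟨l, hl1, ?_⟩
  have c2 : (sq.top ≫ a) ≫ b = (AlgSp.yon S).map sq.j ≫ sq.bot ≫ b :=
    (Category.assoc _ _ _).trans c1
  refine hb (InfSq.mk' sq b (sq.top ≫ a) (sq.bot ≫ b) c2) (l ≫ a) sq.bot ?_ ?_ ?_ rfl
  · show (AlgSp.yon S).map sq.j ≫ l ≫ a = sq.top ≫ a
    rw [← Category.assoc]; exact congrArg (· ≫ a) hl1
  · exact (Category.assoc _ _ _).trans hl2
  · exact sq.comm.symm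

theorem isFormallySmoothMor_of_isPullback {F G H P : AlgSp.Sp S} {a : F ⟶ G} {b : H ⟶ G}
    {b' : P ⟶ F} {a' : P ⟶ H} (hP : IsPullback b' a' a b) (ha : AlgSp.IsFormallySmoothMor a) :
    AlgSp.IsFormallySmoothMor a' := by
  intro sq
  have c1 : (sq.top ≫ b') ≫ a = (AlgSp.yon S).map sq.j ≫ sq.bot ≫ b := by
    rw [Category.assoc, hP.w, ← Category.assoc, ← Category.assoc]
    exact congrArg (· ≫ b) sq.comm
  obtain ⟨l, hl1, hl2⟩ := ha (InfSq.mk' sq a (sq.top ≫ b') (sq.bot ≫ b) c1)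
  have hl2' : l ≫ a = sq.bot ≫ b := hl2
  have hl1' : (AlgSp.yon S).map sq.j ≫ l = sq.top ≫ b' := hl1
  refine ⟨hP.lift l sq.bot hl2', ?_, hP.lift_snd _ _ _⟩
  apply hP.hom_ext
  · rw [Category.assoc, hP.lift_fst]; exact hl1'
  · rw [Category.assoc, hP.lift_snd]; exact sq.comm.symm

theorem isFormallyUnramifiedMor_of_isPullback {F G H P : AlgSp.Sp S} {a : F ⟶ G} {b : H ⟶ G}
    {b' : P ⟶ F} {a' : P ⟶ H} (hP : IsPullback b' a' a b) (ha : AlgSp.IsFormallyUnramifiedMor a) :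
    AlgSp.IsFormallyUnramifiedMor a' := by
  intro sq l l' h1 h2 h1' h2'
  have c1 : (sq.top ≫ b') ≫ a = (AlgSp.yon S).map sq.j ≫ sq.bot ≫ b := by
    rw [Category.assoc, hP.w, ← Category.assoc, ← Category.assoc]
    exact congrArg (· ≫ b) sq.comm
  have e : l ≫ b' = l' ≫ b' := by
    refine ha (InfSq.mk' sq a (sq.top ≫ b') (sq.bot ≫ b) c1) (l ≫ b') (l' ≫ b') ?_ ?_ ?_ ?_
    · show (AlgSp.yon S).map sq.j ≫ l ≫ b' = sq.top ≫ b'
      rw [← Category.assoc]; exact congrArg (· ≫ b') h1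
    · show (l ≫ b') ≫ a = sq.bot ≫ b
      rw [Category.assoc, hP.w, ← Category.assoc]; exact congrArg (· ≫ b) h2
    · show (AlgSp.yon S).map sq.j ≫ l' ≫ b' = sq.top ≫ b'
      rw [← Category.assoc]; exact congrArg (· ≫ b') h1'
    · show (l' ≫ b') ≫ a = sq.bot ≫ b
      rw [Category.assoc, hP.w, ← Category.assoc]; exact congrArg (· ≫ b) h2'
  exact hP.hom_ext e (h2.trans h2'.symm)

end Groth.Agent.Lib.H15.AS
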