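import Mathlib
import Groth.Prelude.Def_AlgSp
import Groth.Prelude.Def_AlgSp2
import Groth.Prelude.Def_AlgSpInf
import Groth.Prelude.Def_MoreMor
import Groth.Agent.Lib.helper15.AlgSpFormal

/-!
# Formal properties of `h_g` versus the scheme-level predicates on `g.left`
-/

set_option autoImplicit false
universe u
open CategoryTheory CategoryTheory.Limits AlgebraicGeometry Opposite

namespace Groth.Agent.Lib.H15.AS

variable {S : Scheme.{u}}

/-- `h_g` is formally etale iff `g.left` is formally etale in the sense of `MoreMor.IsFormallyEtaleHom`. -/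
theorem isFormallyEtaleMor_yon_map_iff {U V : Over S} (h : U ⟶ V) :
    AlgSp.IsFormallyEtaleMor ((AlgSp.yon S).map h) ↔ MoreMor.IsFormallyEtaleHom h.left := by
  constructor
  · intro H A _ I hI a b w
    have hU : U.hom = h.left ≫ V.hom := (Over.w h).symm
    let t : (Over.mk (Spec.map (CommRingCat.ofHom (Ideal.Quotient.mk I)) ≫ b ≫ V.hom) : Over S) ⟶ U :=
      Over.homMk a (by
        change a ≫ U.hom = Spec.map (CommRingCat.ofHom (Ideal.Quotient.mk I)) ≫ b ≫ V.hom
        rw [hU, ← Category.assoc, ← w, Category.assoc])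
    let β : (Over.mk (b ≫ V.hom) : Over S) ⟶ V := Over.homMk b rfl
    let sq : AlgSp.InfSq ((AlgSp.yon S).map h) :=
      { A := A, I := I, sq_zero := hI, str := b ≫ V.hom
        top := (AlgSp.yon S).map t
        bot := (AlgSp.yon S).map β
        comm := by
          rw [← Functor.map_comp, ← Functor.map_comp]
          congr 1
          ext
          exact w.symm }
    obtain ⟨l, ⟨hl1, hl2⟩, hlu⟩ := H sq
    obtain ⟨g, rfl⟩ := (AlgSp.yon S).map_surjective l
    have hg1 : sq.j ≫ g = t := (AlgSp.yon S).map_injective (by rw [Functor.map_comp]; exact hl1)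
    have hg2 : g ≫ h = β := (AlgSp.yon S).map_injective (by rw [Functor.map_comp]; exact hl2)
    refine ⟨g.left, ⟨congrArg CommaMorphism.left hg1, congrArg CommaMorphism.left hg2⟩, ?_⟩
    rintro l2 ⟨h21, h22⟩
    let g2 : sq.ptT' ⟶ U := Over.homMk l2 (by
      change l2 ≫ U.hom = b ≫ V.hom
      rw [hU, ← Category.assoc, h22])
    have : (AlgSp.yon S).map g2 = (AlgSp.yon S).map g := by
      refine hlu _ ⟨?_, ?_⟩
      · change (AlgSp.yon S).map sq.j ≫ (AlgSp.yon S).map g2 = (AlgSp.yon S).map t
        rw [← Functor.map_comp]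
        congr 1
        ext
        exact h21
      · change (AlgSp.yon S).map g2 ≫ (AlgSp.yon S).map h = (AlgSp.yon S).map β
        rw [← Functor.map_comp]
        congr 1
        ext
        exact h22
    exact congrArg CommaMorphism.left ((AlgSp.yon S).map_injective this)
  · intro H sq
    obtain ⟨t, ht⟩ := (AlgSp.yon S).map_surjective sq.top
    obtain ⟨β, hβ⟩ := (AlgSp.yon S).map_surjective sq.bot
    have hcomm : t ≫ h = sq.j ≫ β := by
      apply (AlgSp.yon S).map_injective
      rw [Functor.map_comp, Functor.map_comp, ht, hβ]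
      exact sq.comm
    have hU : U.hom = h.left ≫ V.hom := (Over.w h).symm
    obtain ⟨l0, ⟨hl1, hl2⟩, hlu⟩ := H sq.A sq.I sq.sq_zero t.left β.left
      (congrArg CommaMorphism.left hcomm).symm
    let g : sq.ptT' ⟶ U := Over.homMk l0 (by
      change l0 ≫ U.hom = sq.str
      rw [hU, ← Category.assoc, hl2]
      exact Over.w β)
    refine ⟨(AlgSp.yon S).map g, ⟨?_, ?_⟩, ?_⟩
    · rw [← ht, ← Functor.map_comp]
      congr 1
      ext
      exact hl1
    · rw [← hβ, ← Functor.map_comp]
      congr 1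
      ext
      exact hl2
    · rintro m ⟨hm1, hm2⟩
      obtain ⟨g', rfl⟩ := (AlgSp.yon S).map_surjective m
      have e1 : sq.j ≫ g' = t := (AlgSp.yon S).map_injective (by rw [Functor.map_comp, ht]; exact hm1)
      have e2 : g' ≫ h = β := (AlgSp.yon S).map_injective (by rw [Functor.map_comp, hβ]; exact hm2)
      have : g'.left = l0 := hlu _ ⟨congrArg CommaMorphism.left e1, congrArg CommaMorphism.left e2⟩
      congr 1
      ext
      exact this

/-- The kernel of `Spec (A ⧸ I) ⟶ Spec A` is nilpotent when `I ^ 2 = ⊥`. -/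
theorem isNilpotent_ker_spec_map_mk {A : Type u} [CommRing A] (I : Ideal A) (hI : I ^ 2 = ⊥) :
    IsNilpotent (Spec.map (CommRingCat.ofHom (Ideal.Quotient.mk I))).ker := by
  refine ⟨2, ?_⟩
  apply Scheme.IdealSheafData.ext_of_isAffine
  rw [Scheme.IdealSheafData.ideal_pow]
  simp only [Pi.pow_apply, Scheme.Hom.ker_apply, Scheme.IdealSheafData.zero_eq_bot,
    Scheme.IdealSheafData.ideal_bot, Pi.bot_apply]
  rw [eq_bot_iff, pow_two, Ideal.mul_le]
  intro r hr s hs
  rw [Ideal.mem_bot]
  have hmap : ∀ x, x ∈ RingHom.ker ((Spec.map (CommRingCat.ofHom (Ideal.Quotient.mk I))).app ⊤).hom →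
      (Scheme.ΓSpecIso (.of A)).hom x ∈ I := by
    intro x hx
    rw [RingHom.mem_ker] at hx
    have hnat := Scheme.ΓSpecIso_naturality (CommRingCat.ofHom (Ideal.Quotient.mk I))
    have h1 := congrArg (fun φ => φ.hom x) hnat
    simp only [CommRingCat.hom_comp, RingHom.comp_apply, CommRingCat.hom_ofHom] at h1
    have hx' : (Spec.map (CommRingCat.ofHom (Ideal.Quotient.mk I))).appTop.hom x = 0 := hx
    rw [hx', map_zero] at h1
    have h2 : Ideal.Quotient.mk I ((Scheme.ΓSpecIso (.of A)).hom x) = 0 := h1.symm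
    exact Ideal.Quotient.eq_zero_iff_mem.1 h2
  have h3 : (Scheme.ΓSpecIso (.of A)).hom (r * s) ∈ I ^ 2 := by
    rw [map_mul, pow_two]
    exact Ideal.mul_mem_mul (hmap r hr) (hmap s hs)
  rw [hI, Ideal.mem_bot] at h3
  have := congrArg (Scheme.ΓSpecIso (.of A)).inv h3
  rw [← CommRingCat.comp_apply, Iso.hom_inv_id] at this
  simpa using this

/-- `h_g` is formally unramified iff `g.left` is formally unramified (Mathlib's class). -/
theorem isFormallyUnramifiedMor_yon_map_iff {U V : Over S} (h : U ⟶ V) :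
    AlgSp.IsFormallyUnramifiedMor ((AlgSp.yon S).map h) ↔ FormallyUnramified h.left := by
  have hU : U.hom = h.left ≫ V.hom := (Over.w h).symm
  constructor
  · intro H
    refine FormallyUnramified.of_hom_ext h.left fun R S' φ hφ hker g₁ g₂ h12 hgf => ?_
    let I : Ideal R := RingHom.ker φ.hom
    let ε : R ⧸ I ≃+* S' := RingHom.quotientKerEquivOfSurjective hφ
    have hε : CommRingCat.ofHom (Ideal.Quotient.mk I) ≫ CommRingCat.ofHom ε.toRingHom = φ := by
      ext x
      simp [ε, I]
    haveI : IsIso (CommRingCat.ofHom ε.toRingHom) :=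
      ⟨CommRingCat.ofHom ε.symm.toRingHom, by ext x; simp, by ext x; simp⟩
    have h12' : Spec.map (CommRingCat.ofHom (Ideal.Quotient.mk I)) ≫ g₁ =
        Spec.map (CommRingCat.ofHom (Ideal.Quotient.mk I)) ≫ g₂ := by
      rw [← hε, Spec.map_comp, Category.assoc, Category.assoc] at h12
      exact (cancel_epi _).1 h12
    let t : (Over.mk (Spec.map (CommRingCat.ofHom (Ideal.Quotient.mk I)) ≫ g₁ ≫ U.hom) : Over S) ⟶ U :=
      Over.homMk (Spec.map (CommRingCat.ofHom (Ideal.Quotient.mk I)) ≫ g₁) (Category.assoc _ _ _)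
    let β : (Over.mk (g₁ ≫ U.hom) : Over S) ⟶ V := Over.homMk (g₁ ≫ h.left) (by
      change (g₁ ≫ h.left) ≫ V.hom = g₁ ≫ U.hom
      rw [hU, Category.assoc])
    let G₁ : (Over.mk (g₁ ≫ U.hom) : Over S) ⟶ U := Over.homMk g₁ rfl
    let G₂ : (Over.mk (g₁ ≫ U.hom) : Over S) ⟶ U := Over.homMk g₂ (by
      change g₂ ≫ U.hom = g₁ ≫ U.hom
      rw [hU, ← Category.assoc, ← hgf, Category.assoc])
    let sq : AlgSp.InfSq ((AlgSp.yon S).map h) :=
      { A := R, I := I, sq_zero := hker, str := g₁ ≫ U.hom
        top := (AlgSp.yon S).map t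
        bot := (AlgSp.yon S).map β
        comm := by
          rw [← Functor.map_comp, ← Functor.map_comp]
          congr 1 }
    have key : (AlgSp.yon S).map G₁ = (AlgSp.yon S).map G₂ := by
      refine H sq _ _ ?_ ?_ ?_ ?_
      · change (AlgSp.yon S).map sq.j ≫ (AlgSp.yon S).map G₁ = (AlgSp.yon S).map t
        rw [← Functor.map_comp]
        congr 1
      · change (AlgSp.yon S).map G₁ ≫ (AlgSp.yon S).map h = (AlgSp.yon S).map β
        rw [← Functor.map_comp]
        congr 1
      · change (AlgSp.yon S).map sq.j ≫ (AlgSp.yon S).map G₂ = (AlgSp.yon S).map t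
        rw [← Functor.map_comp]
        congr 1
        ext
        exact h12'.symm
      · change (AlgSp.yon S).map G₂ ≫ (AlgSp.yon S).map h = (AlgSp.yon S).map β
        rw [← Functor.map_comp]
        congr 1
        ext
        exact hgf.symm
    exact congrArg CommaMorphism.left ((AlgSp.yon S).map_injective key)
  · intro H sq l l' h1 h2 h1' h2'
    obtain ⟨g, rfl⟩ := (AlgSp.yon S).map_surjective l
    obtain ⟨g', rfl⟩ := (AlgSp.yon S).map_surjective l'
    have e1 : sq.j ≫ g = sq.j ≫ g' := (AlgSp.yon S).map_injective (by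
      rw [Functor.map_comp, Functor.map_comp, h1, h1'])
    have e2 : g ≫ h = g' ≫ h := (AlgSp.yon S).map_injective (by
      rw [Functor.map_comp, Functor.map_comp, h2, h2'])
    haveI : IsClosedImmersion (Spec.map (CommRingCat.ofHom (Ideal.Quotient.mk sq.I))) :=
      IsClosedImmersion.spec_of_surjective _ Ideal.Quotient.mk_surjective
    have := FormallyUnramified.hom_ext (Spec.map (CommRingCat.ofHom (Ideal.Quotient.mk sq.I)))
      (isNilpotent_ker_spec_map_mk sq.I sq.sq_zero) h.left
      (g₁ := g.left) (g₂ := g'.left) (congrArg CommaMorphism.left e1) (congrArg CommaMorphism.left e2)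
    congr 1
    ext
    exact this

end Groth.Agent.Lib.H15.AS
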