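import Mathlib
import Groth.Prelude.Def_AlgSp
import Groth.Prelude.Def_AlgSp2
import Groth.Prelude.Def_AlgSp3
import Groth.Prelude.Def_AlgSp4
import Groth.Agent.Lib.helper15.AlgSpOpenSub3
import Groth.Agent.Lib.helper15.AlgSpMono

set_option autoImplicit false
universe u
open CategoryTheory CategoryTheory.Limits AlgebraicGeometry Opposite Topology

namespace Groth.Agent.Lib.H15.AS

variable {S : Scheme.{u}}

/-- The kernel pair of a representable etale map from a scheme is an etale equivalence relation. -/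
theorem isEtaleEqvRel_of_isPullback {F : AlgSp.Sp S} {R U : Over S} (p : (AlgSp.yon S).obj U ⟶ F)
    (he : AlgSp.RepWith @Etale p) (s t : R ⟶ U)
    (sq : IsPullback ((AlgSp.yon S).map t) ((AlgSp.yon S).map s) p p) :
    AlgSp.IsEtaleEqvRel s t := by
  have hrel : ∀ (T : Over S) (a b : T ⟶ U), (∃ r : T ⟶ R, r ≫ t = a ∧ r ≫ s = b) ↔
      (AlgSp.yon S).map a ≫ p = (AlgSp.yon S).map b ≫ p := by
    intro T a b
    constructor
    · rintro ⟨r, rfl, rfl⟩
      rw [Functor.map_comp, Functor.map_comp, Category.assoc, Category.assoc, sq.w]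
    · intro h
      refine ⟨(AlgSp.yon S).preimage (sq.lift _ _ h), ?_, ?_⟩
      · apply (AlgSp.yon S).map_injective
        rw [Functor.map_comp, Functor.map_preimage, sq.lift_fst]
      · apply (AlgSp.yon S).map_injective
        rw [Functor.map_comp, Functor.map_preimage, sq.lift_snd]
  refine ⟨⟨?_, ?_⟩, ?_, ?_⟩
  · intro T r r' h1 h2
    apply (AlgSp.yon S).map_injective
    apply sq.hom_ext
    · rw [← Functor.map_comp, ← Functor.map_comp, h1]
    · rw [← Functor.map_comp, ← Functor.map_comp, h2]
  · intro T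
    refine ⟨fun a => (hrel T a a).2 rfl, fun {a b} h => (hrel T b a).2 ((hrel T a b).1 h).symm,
      fun {a b c} h1 h2 => (hrel T a c).2 (((hrel T a b).1 h1).trans ((hrel T b c).1 h2))⟩
  · exact ((AlgSp.repWith_iff _ _).1 he).2 p ((AlgSp.yon S).map t) s sq
  · exact ((AlgSp.repWith_iff _ _).1 he).2 p ((AlgSp.yon S).map s) t sq.flip

/-- A representable etale surjective map from a scheme is the coequalizer of its kernel pair. -/
theorem nonempty_isColimit_of_isPullback {F : AlgSp.Sp S} {R U : Over S}
    (p : (AlgSp.yon S).obj U ⟶ F)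
    (he : AlgSp.RepWith @Etale p) (hs : AlgSp.RepWith @Surjective p) (s t : R ⟶ U)
    (sq : IsPullback ((AlgSp.yon S).map t) ((AlgSp.yon S).map s) p p) :
    Nonempty (IsColimit (Cofork.ofπ p sq.w)) := by
  have : Epi p := epi_of_repWith_etale_surjective p he hs
  have : IsRegularEpi p := IsRegularEpiCategory.regularEpiOfEpi p
  exact ⟨IsKernelPair.toCoequalizer' sq⟩

end Groth.Agent.Lib.H15.AS
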