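import Mathlib
import Groth.Prelude.Def_AlgSp
import Groth.Prelude.Def_AlgSp2
import Groth.Prelude.Def_AlgSpInf
import Groth.Agent.Lib.helper15.AlgSpFormal
import Groth.Agent.Lib.helper15.AlgSpPres
import Groth.Agent.Lib.helper15.AlgSpMono
import Groth.Agent.Lib.helper15.AlgSpCover2
import Groth.Agent.S1489

/-!
# Representable etale morphisms are formally etale; descent of formal properties along etale covers
-/

set_option autoImplicit false
universe u
open CategoryTheory CategoryTheory.Limits AlgebraicGeometry Opposite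

namespace Groth.Agent.Lib.H15.AS

variable {S : Scheme.{u}}

/-- A representable etale morphism of sheaves is formally etale. -/
theorem isFormallyEtaleMor_of_repWith_etale {F G : AlgSp.Sp S} {a : F ⟶ G}
    (ha : AlgSp.RepWith @Etale a) : AlgSp.IsFormallyEtaleMor a := by
  intro sq
  have hrep : AlgSp.Representable a := ha.rep
  have hE : Etale (hrep.snd sq.bot).left := ha.property_snd sq.bot
  have hFE : MoreMor.IsFormallyEtaleHom (hrep.snd sq.bot).left :=
    ((Groth.Agent.S1489.result _).1 hE).2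
  let σ : sq.ptT ⟶ hrep.pullback sq.bot := hrep.lift sq.top sq.j sq.comm
  have hσ1 : (AlgSp.yon S).map σ ≫ hrep.fst sq.bot = sq.top := hrep.lift_fst _ _ _
  have hσ2 : σ ≫ hrep.snd sq.bot = sq.j := hrep.lift_snd _ _ _
  obtain ⟨l, ⟨hl1, hl2⟩, hlu⟩ := hFE sq.A sq.I sq.sq_zero σ.left (𝟙 _) (by
    rw [Category.comp_id]; exact (congrArg CommaMorphism.left hσ2).symm)
  let l' : sq.ptT' ⟶ hrep.pullback sq.bot := Over.homMk l (by
    have := Over.w (hrep.snd sq.bot)
    rw [← this, ← Category.assoc, hl2]; exact Category.id_comp _)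
  have hl'1 : sq.j ≫ l' = σ := by ext; exact hl1
  have hl'2 : l' ≫ hrep.snd sq.bot = 𝟙 _ := by ext; exact hl2
  refine ⟨(AlgSp.yon S).map l' ≫ hrep.fst sq.bot, ⟨?_, ?_⟩, ?_⟩
  · rw [← Functor.map_comp_assoc, hl'1, hσ1]
  · rw [Category.assoc, hrep.w, ← Functor.map_comp_assoc, hl'2, CategoryTheory.Functor.map_id,
      Category.id_comp]
  · rintro m ⟨h1, h2⟩
    let l2 : sq.ptT' ⟶ hrep.pullback sq.bot := hrep.lift m (𝟙 _) (by
      rw [CategoryTheory.Functor.map_id, Category.id_comp]; exact h2)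
    have e1 : (AlgSp.yon S).map l2 ≫ hrep.fst sq.bot = m := hrep.lift_fst _ _ _
    have e2 : l2 ≫ hrep.snd sq.bot = 𝟙 _ := hrep.lift_snd _ _ _
    have e3 : sq.j ≫ l2 = σ := by
      apply hrep.hom_ext
      · rw [Functor.map_comp_assoc, e1, h1, hσ1]
      · rw [Category.assoc, e2, Category.comp_id, hσ2]
    have : l2.left = l := hlu _ ⟨congrArg CommaMorphism.left e3, congrArg CommaMorphism.left e2⟩
    have h3 : l2 = l' := by ext; exact this
    rw [← e1, h3]

/-- Morphisms from a scheme to a sheaf agree if they agree on an fppf covering family. -/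
theorem hom_ext_of_family {F : AlgSp.Sp S} {Z : Over S} {κ : Type u} (Tk : κ → Over S)
    (c : ∀ k, Tk k ⟶ Z) (h1 : ∀ k, Flat (c k).left)
    (h2 : ∀ k, LocallyOfFinitePresentation (c k).left)
    (h3 : ∀ x : Z.left, ∃ k, x ∈ Set.range (c k).left) (a b : (AlgSp.yon S).obj Z ⟶ F)
    (h : ∀ k, (AlgSp.yon S).map (c k) ≫ a = (AlgSp.yon S).map (c k) ≫ b) : a = b := by
  apply (AlgSp.J S).uliftYonedaEquiv.injective
  have hsh := (isSheaf_iff_isSheaf_of_type _ _).1 F.property _ (ofArrows_mem_J Tk c h1 h2 h3)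
  refine hsh.isSeparatedFor.ext ?_
  rintro Y f ⟨W, g, _, ⟨k⟩, rfl⟩
  rw [op_comp, F.obj.map_comp]
  have hk : F.obj.map (c k).op ((AlgSp.J S).uliftYonedaEquiv a) =
      F.obj.map (c k).op ((AlgSp.J S).uliftYonedaEquiv b) := by
    rw [GrothendieckTopology.uliftYonedaEquiv_naturality,
      GrothendieckTopology.uliftYonedaEquiv_naturality, h k]
  change F.obj.map g.op (F.obj.map (c k).op _) = F.obj.map g.op (F.obj.map (c k).op _)
  rw [hk]

/-- Uniqueness of lifts over an arbitrary scheme `W ⟶ Spec A` for a formally unramified morphism: two maps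
`h_W ⟶ G` with the same composite to `H` which agree on all affine schemes over `W` lying over `Spec (A ⧸ I)`
are equal. -/
theorem eq_of_isFormallyUnramifiedMor_of_affine_local {G H : AlgSp.Sp S} {b : G ⟶ H}
    (hb : AlgSp.IsFormallyUnramifiedMor b) {A : Type u} [CommRing A] (I : Ideal A) (hI : I ^ 2 = ⊥)
    {W : Over S} (w : W.left ⟶ Spec (.of A)) (l1 l2 : (AlgSp.yon S).obj W ⟶ G)
    (h1 : l1 ≫ b = l2 ≫ b)
    (h2 : ∀ (B : CommRingCat.{u}) (strB : Spec B ⟶ S) (c : Over.mk strB ⟶ W)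
      (τ : CommRingCat.of (A ⧸ I) ⟶ B),
      Spec.map τ ≫ Spec.map (CommRingCat.ofHom (Ideal.Quotient.mk I)) = c.left ≫ w →
      (AlgSp.yon S).map c ≫ l1 = (AlgSp.yon S).map c ≫ l2) : l1 = l2 := by
  let 𝒰 := W.left.affineOpenCover
  refine hom_ext_of_family (fun i => Over.mk (𝒰.f i ≫ W.hom)) (fun i => Over.homMk (𝒰.f i) rfl)
    (fun i => by change Flat (𝒰.f i); infer_instance)
    (fun i => by change LocallyOfFinitePresentation (𝒰.f i); infer_instance)
    (fun x => ⟨𝒰.idx x, 𝒰.covers x⟩) l1 l2 fun i => ?_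
  let φ : CommRingCat.of A ⟶ 𝒰.X i := Spec.preimage (𝒰.f i ≫ w)
  have hφ : Spec.map φ = 𝒰.f i ≫ w := Spec.map_preimage _
  let J : Ideal (𝒰.X i) := I.map φ.hom
  have hJ : J ^ 2 = ⊥ := by rw [← Ideal.map_pow, hI, Ideal.map_bot]
  let cW : (Over.mk (𝒰.f i ≫ W.hom) : Over S) ⟶ W := Over.homMk (𝒰.f i) rfl
  let jJ : (Over.mk (Spec.map (CommRingCat.ofHom (Ideal.Quotient.mk J)) ≫ 𝒰.f i ≫ W.hom) : Over S) ⟶
      Over.mk (𝒰.f i ≫ W.hom) := Over.homMk (Spec.map (CommRingCat.ofHom (Ideal.Quotient.mk J))) rfl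
  have key : (AlgSp.yon S).map (jJ ≫ cW) ≫ l1 = (AlgSp.yon S).map (jJ ≫ cW) ≫ l2 := by
    refine h2 _ _ (jJ ≫ cW)
      (CommRingCat.ofHom (Ideal.quotientMap J φ.hom Ideal.le_comap_map)) ?_
    change _ = (Spec.map (CommRingCat.ofHom (Ideal.Quotient.mk J)) ≫ 𝒰.f i) ≫ w
    rw [Category.assoc, ← hφ, ← Spec.map_comp, ← Spec.map_comp]
    congr 1
  let sqb : AlgSp.InfSq b :=
    { A := 𝒰.X i, I := J, sq_zero := hJ, str := 𝒰.f i ≫ W.hom,
      top := (AlgSp.yon S).map jJ ≫ (AlgSp.yon S).map cW ≫ l1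
      bot := (AlgSp.yon S).map cW ≫ l1 ≫ b
      comm := by simp only [Category.assoc]; rfl }
  refine hb sqb ((AlgSp.yon S).map cW ≫ l1) ((AlgSp.yon S).map cW ≫ l2) rfl
    (Category.assoc _ _ _) ?_ ?_
  · change (AlgSp.yon S).map jJ ≫ (AlgSp.yon S).map cW ≫ l2 =
      (AlgSp.yon S).map jJ ≫ (AlgSp.yon S).map cW ≫ l1
    rw [← Functor.map_comp_assoc, ← Functor.map_comp_assoc, key]
  · change ((AlgSp.yon S).map cW ≫ l2) ≫ b = (AlgSp.yon S).map cW ≫ l1 ≫ b
    rw [Category.assoc, h1]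

/-- Transfer of uniqueness: `a` formally etale, `a ≫ b` formally unramified.  Over a scheme `W ⟶ Spec A`, a map
`m : h_W ⟶ F` and a map `l : h_W ⟶ G` with the same composite to `H` such that `m ≫ a` and `l` agree on all affine
schemes over `W` lying over `Spec (A ⧸ I)` satisfy `m ≫ a = l`. -/
theorem eq_of_comp_isFormallyUnramifiedMor_of_affine_local {F G H : AlgSp.Sp S} {a : F ⟶ G} {b : G ⟶ H}
    (ha : AlgSp.IsFormallyEtaleMor a) (hab : AlgSp.IsFormallyUnramifiedMor (a ≫ b))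
    {A : Type u} [CommRing A] (I : Ideal A) (hI : I ^ 2 = ⊥)
    {W : Over S} (w : W.left ⟶ Spec (.of A)) (m : (AlgSp.yon S).obj W ⟶ F)
    (l : (AlgSp.yon S).obj W ⟶ G) (h1 : m ≫ a ≫ b = l ≫ b)
    (h2 : ∀ (B : CommRingCat.{u}) (strB : Spec B ⟶ S) (c : Over.mk strB ⟶ W)
      (τ : CommRingCat.of (A ⧸ I) ⟶ B),
      Spec.map τ ≫ Spec.map (CommRingCat.ofHom (Ideal.Quotient.mk I)) = c.left ≫ w →
      (AlgSp.yon S).map c ≫ m ≫ a = (AlgSp.yon S).map c ≫ l) : m ≫ a = l := by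
  let 𝒰 := W.left.affineOpenCover
  refine hom_ext_of_family (fun i => Over.mk (𝒰.f i ≫ W.hom)) (fun i => Over.homMk (𝒰.f i) rfl)
    (fun i => by change Flat (𝒰.f i); infer_instance)
    (fun i => by change LocallyOfFinitePresentation (𝒰.f i); infer_instance)
    (fun x => ⟨𝒰.idx x, 𝒰.covers x⟩) (m ≫ a) l fun i => ?_
  let φ : CommRingCat.of A ⟶ 𝒰.X i := Spec.preimage (𝒰.f i ≫ w)
  have hφ : Spec.map φ = 𝒰.f i ≫ w := Spec.map_preimage _
  let J : Ideal (𝒰.X i) := I.map φ.hom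
  have hJ : J ^ 2 = ⊥ := by rw [← Ideal.map_pow, hI, Ideal.map_bot]
  let cW : (Over.mk (𝒰.f i ≫ W.hom) : Over S) ⟶ W := Over.homMk (𝒰.f i) rfl
  let jJ : (Over.mk (Spec.map (CommRingCat.ofHom (Ideal.Quotient.mk J)) ≫ 𝒰.f i ≫ W.hom) : Over S) ⟶
      Over.mk (𝒰.f i ≫ W.hom) := Over.homMk (Spec.map (CommRingCat.ofHom (Ideal.Quotient.mk J))) rfl
  have key : (AlgSp.yon S).map (jJ ≫ cW) ≫ m ≫ a = (AlgSp.yon S).map (jJ ≫ cW) ≫ l := by
    refine h2 _ _ (jJ ≫ cW)
      (CommRingCat.ofHom (Ideal.quotientMap J φ.hom Ideal.le_comap_map)) ?_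
    change _ = (Spec.map (CommRingCat.ofHom (Ideal.Quotient.mk J)) ≫ 𝒰.f i) ≫ w
    rw [Category.assoc, ← hφ, ← Spec.map_comp, ← Spec.map_comp]
    congr 1
  have comm1 : ((AlgSp.yon S).map jJ ≫ (AlgSp.yon S).map cW ≫ m) ≫ a =
      (AlgSp.yon S).map jJ ≫ (AlgSp.yon S).map cW ≫ l := by
    rw [Category.assoc, Category.assoc, ← Functor.map_comp_assoc, key, Functor.map_comp_assoc]
  let sqa : AlgSp.InfSq a :=
    { A := 𝒰.X i, I := J, sq_zero := hJ, str := 𝒰.f i ≫ W.hom,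
      top := (AlgSp.yon S).map jJ ≫ (AlgSp.yon S).map cW ≫ m
      bot := (AlgSp.yon S).map cW ≫ l
      comm := comm1 }
  obtain ⟨l0, ⟨hl01, hl02⟩, -⟩ := ha sqa
  change (AlgSp.yon S).map jJ ≫ l0 = (AlgSp.yon S).map jJ ≫ (AlgSp.yon S).map cW ≫ m at hl01
  change l0 ≫ a = (AlgSp.yon S).map cW ≫ l at hl02
  let sqab : AlgSp.InfSq (a ≫ b) :=
    { A := 𝒰.X i, I := J, sq_zero := hJ, str := 𝒰.f i ≫ W.hom,
      top := (AlgSp.yon S).map jJ ≫ (AlgSp.yon S).map cW ≫ m
      bot := (AlgSp.yon S).map cW ≫ l ≫ b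
      comm := by
        have := congrArg (· ≫ b) comm1
        simp only [Category.assoc] at this ⊢
        exact this }
  have huniq : l0 = (AlgSp.yon S).map cW ≫ m := by
    refine hab sqab l0 ((AlgSp.yon S).map cW ≫ m) hl01 ?_ rfl ?_
    · change l0 ≫ a ≫ b = (AlgSp.yon S).map cW ≫ l ≫ b
      rw [← Category.assoc, hl02, Category.assoc]
    · change ((AlgSp.yon S).map cW ≫ m) ≫ a ≫ b = (AlgSp.yon S).map cW ≫ l ≫ b
      rw [Category.assoc, h1]
  change (AlgSp.yon S).map cW ≫ m ≫ a = (AlgSp.yon S).map cW ≫ l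
  rw [← hl02, huniq, Category.assoc]

/-- If `a` is representable, etale and surjective and `a ≫ b` is formally unramified, then `b` is formally
unramified. -/
theorem isFormallyUnramifiedMor_of_comp_etale_surj {F G H : AlgSp.Sp S} {a : F ⟶ G} {b : G ⟶ H}
    (ha : AlgSp.RepWith @Etale a) (ha' : AlgSp.RepWith @Surjective a)
    (hab : AlgSp.IsFormallyUnramifiedMor (a ≫ b)) : AlgSp.IsFormallyUnramifiedMor b := by
  intro sq l1 l2 h11 h12 h21 h22
  have hrep : AlgSp.Representable a := ha.rep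
  have hfe := isFormallyEtaleMor_of_repWith_etale ha
  have hepi : Epi ((AlgSp.yon S).map (hrep.snd l1)) :=
    epi_of_repWith_etale_surjective _
      ((AlgSp.repWith_yon_map_iff _ _).2 (ha.property_snd l1))
      ((AlgSp.repWith_yon_map_iff _ _).2 (ha'.property_snd l1))
  rw [← cancel_epi ((AlgSp.yon S).map (hrep.snd l1)), ← hrep.w l1]
  refine eq_of_comp_isFormallyUnramifiedMor_of_affine_local hfe hab sq.I sq.sq_zero
    (hrep.snd l1).left (hrep.fst l1) _ ?_ ?_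
  · rw [← Category.assoc, hrep.w l1, Category.assoc, Category.assoc, h12, h22]
  · intro B strB c τ hτ
    rw [hrep.w l1, ← Functor.map_comp_assoc, ← Functor.map_comp_assoc]
    let t' : (Over.mk strB : Over S) ⟶ sq.ptT := Over.homMk (Spec.map τ) (by
      have := Over.w (c ≫ hrep.snd l1)
      change Spec.map τ ≫ Spec.map (CommRingCat.ofHom (Ideal.Quotient.mk sq.I)) ≫ sq.str = strB
      rw [← Category.assoc, hτ]
      exact this)
    have : c ≫ hrep.snd l1 = t' ≫ sq.j := by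
      ext
      exact hτ.symm
    rw [this, Functor.map_comp_assoc, Functor.map_comp_assoc, h11, h21]

end Groth.Agent.Lib.H15.AS
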