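import Mathlib
import Groth.Prelude.Def_AlgSp
import Groth.Prelude.Def_AlgSp2
import Groth.Prelude.Def_AlgSpInf
import Groth.Agent.Lib.helper15.AlgSpFormalEt
import Groth.Agent.Lib.helper3.EtaleLiftQuot

/-!
# Descent of formal etaleness along a representable etale surjective morphism
-/

set_option autoImplicit false
universe u
open CategoryTheory CategoryTheory.Limits AlgebraicGeometry Opposite

namespace Groth.Agent.Lib.H15.AS

variable {S : Scheme.{u}}

/-- Lifting an etale algebra over `A ⧸ I` to an etale algebra over `A`, in `CommRingCat` form. -/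
theorem exists_chartLift {A : Type u} [CommRing A] (I : Ideal A) (E : CommRingCat.{u})
    (ψ : CommRingCat.of (A ⧸ I) ⟶ E) (hψ : ψ.hom.Etale) :
    ∃ (R : CommRingCat.{u}) (ρ : CommRingCat.of A ⟶ R) (κ : R ⟶ E), ρ.hom.Etale ∧
      ρ ≫ κ = CommRingCat.ofHom (Ideal.Quotient.mk I) ≫ ψ ∧ Function.Surjective κ.hom ∧
      RingHom.ker κ.hom ≤ I.map ρ.hom := by
  letI : Algebra (A ⧸ I) E := ψ.hom.toAlgebra
  letI : Algebra A E := (ψ.hom.comp (Ideal.Quotient.mk I)).toAlgebra
  haveI : IsScalarTower A (A ⧸ I) E := IsScalarTower.of_algebraMap_eq' rfl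
  haveI : Algebra.Etale (A ⧸ I) E := hψ
  obtain ⟨R, _, _, hR, κ, hκs, hκk⟩ :=
    Groth.Agent.Lib.helper3.EtaleLiftQuot.exists_etale_lift A I E
  refine ⟨.of R, CommRingCat.ofHom (algebraMap A R), CommRingCat.ofHom κ.toRingHom, ?_, ?_, hκs, hκk⟩
  · exact RingHom.etale_algebraMap.2 hR
  · ext x
    exact κ.commutes x

instance mono_infSq_j {F G : AlgSp.Sp S} {f : F ⟶ G} (sq : AlgSp.InfSq f) : Mono sq.j := by
  haveI : Mono ((Over.forget S).map sq.j) := by
    change Mono (Spec.map (CommRingCat.ofHom (Ideal.Quotient.mk sq.I)))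
    haveI : IsClosedImmersion (Spec.map (CommRingCat.ofHom (Ideal.Quotient.mk sq.I))) :=
      IsClosedImmersion.spec_of_surjective _ Ideal.Quotient.mk_surjective
    infer_instance
  exact (Over.forget S).mono_of_mono_map inferInstance

/-- The local lift on one lifted etale chart. -/
theorem exists_local_lift_chart {F G H : AlgSp.Sp S} {a : F ⟶ G} {b : G ⟶ H}
    (hab : AlgSp.IsFormallyEtaleMor (a ≫ b)) (sq : AlgSp.InfSq b)
    {P : Over S} (p : P ⟶ sq.ptT) (q : (AlgSp.yon S).obj P ⟶ F)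
    (hpq : q ≫ a = (AlgSp.yon S).map p ≫ sq.top)
    (E : CommRingCat.{u}) (f : Spec E ⟶ P.left) (hf : Etale (f ≫ p.left)) :
    ∃ (W' : Over S) (e : W' ⟶ sq.ptT') (lam : (AlgSp.yon S).obj W' ⟶ G), Etale e.left ∧
      lam ≫ b = (AlgSp.yon S).map e ≫ sq.bot ∧
      (∀ (B : CommRingCat.{u}) (strB : Spec B ⟶ S) (d : Over.mk strB ⟶ W')
        (t' : Over.mk strB ⟶ sq.ptT), d ≫ e = t' ≫ sq.j →
        (AlgSp.yon S).map d ≫ lam = (AlgSp.yon S).map t' ≫ sq.top) ∧
      ∃ k : (Over.mk (f ≫ P.hom) : Over S) ⟶ W',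
        k ≫ e = (Over.homMk f rfl : Over.mk (f ≫ P.hom) ⟶ P) ≫ p ≫ sq.j := by
  let ψ : CommRingCat.of (sq.A ⧸ sq.I) ⟶ E := Spec.preimage (f ≫ p.left)
  have hψ : Spec.map ψ = f ≫ p.left := Spec.map_preimage _
  have hψE : ψ.hom.Etale := by
    have : Etale (Spec.map ψ) := by rw [hψ]; exact hf
    exact (HasRingHomProperty.Spec_iff (P := @Etale)).1 this
  obtain ⟨R, ρ, κ, hρE, hρκ, hκs, hκk⟩ := exists_chartLift sq.I E ψ hψE
  let J : Ideal R := RingHom.ker κ.hom
  have hJ : J ^ 2 = ⊥ := by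
    have h1 : J ^ 2 ≤ (sq.I.map ρ.hom) ^ 2 := Ideal.pow_right_mono hκk 2
    rw [← Ideal.map_pow, sq.sq_zero, Ideal.map_bot] at h1
    exact le_bot_iff.1 h1
  let ε : R ⧸ J ≃+* E := RingHom.quotientKerEquivOfSurjective hκs
  have hε : CommRingCat.ofHom (Ideal.Quotient.mk J) ≫ CommRingCat.ofHom ε.toRingHom = κ := by
    ext x
    simp [ε, J]
  have hεε : CommRingCat.ofHom ε.toRingHom ≫ CommRingCat.ofHom ε.symm.toRingHom = 𝟙 _ := by
    ext x
    simp
  -- the ring identity (★)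
  have star : CommRingCat.ofHom (Ideal.Quotient.mk sq.I) ≫ ψ ≫ CommRingCat.ofHom ε.symm.toRingHom =
      ρ ≫ CommRingCat.ofHom (Ideal.Quotient.mk J) := by
    rw [← Category.assoc, ← hρκ, ← hε, Category.assoc, Category.assoc, hεε, Category.comp_id]
  have hPhom : P.hom = p.left ≫ Spec.map (CommRingCat.ofHom (Ideal.Quotient.mk sq.I)) ≫ sq.str :=
    (Over.w p).symm
  -- scheme-level version of (★)
  have star' : (Spec.map (CommRingCat.ofHom ε.symm.toRingHom) ≫ f) ≫ p.left ≫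
      Spec.map (CommRingCat.ofHom (Ideal.Quotient.mk sq.I)) =
      Spec.map (CommRingCat.ofHom (Ideal.Quotient.mk J)) ≫ Spec.map ρ := by
    rw [Category.assoc, ← Category.assoc f, ← hψ, ← Spec.map_comp, ← Spec.map_comp, ← Spec.map_comp,
      Category.assoc, star]
  let str' : Spec R ⟶ S := Spec.map ρ ≫ sq.str
  let W' : Over S := Over.mk str'
  let e : W' ⟶ sq.ptT' := Over.homMk (Spec.map ρ) rfl
  let TJ : Over S := Over.mk (Spec.map (CommRingCat.ofHom (Ideal.Quotient.mk J)) ≫ str')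
  let jJ : TJ ⟶ W' := Over.homMk (Spec.map (CommRingCat.ofHom (Ideal.Quotient.mk J))) rfl
  let θ : TJ ⟶ P := Over.homMk (Spec.map (CommRingCat.ofHom ε.symm.toRingHom) ≫ f) (by
    change (Spec.map (CommRingCat.ofHom ε.symm.toRingHom) ≫ f) ≫ P.hom =
      Spec.map (CommRingCat.ofHom (Ideal.Quotient.mk J)) ≫ Spec.map ρ ≫ sq.str
    rw [hPhom, ← Category.assoc p.left, ← Category.assoc, star', Category.assoc])
  have hθ : θ ≫ p ≫ sq.j = jJ ≫ e := by
    ext
    exact star'
  have comm : ((AlgSp.yon S).map θ ≫ q) ≫ a ≫ b =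
      (AlgSp.yon S).map jJ ≫ (AlgSp.yon S).map e ≫ sq.bot := by
    rw [Category.assoc, ← Category.assoc q, hpq, Category.assoc, sq.comm, ← Functor.map_comp_assoc,
      ← Functor.map_comp_assoc, ← Functor.map_comp_assoc, Category.assoc, hθ]
  let sqab : AlgSp.InfSq (a ≫ b) :=
    { A := R, I := J, sq_zero := hJ, str := str',
      top := (AlgSp.yon S).map θ ≫ q
      bot := (AlgSp.yon S).map e ≫ sq.bot
      comm := comm }
  obtain ⟨m, ⟨hm1, hm2⟩, -⟩ := hab sqab
  change (AlgSp.yon S).map jJ ≫ m = (AlgSp.yon S).map θ ≫ q at hm1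
  change m ≫ a ≫ b = (AlgSp.yon S).map e ≫ sq.bot at hm2
  refine ⟨W', e, m ≫ a, ?_, ?_, ?_, ?_⟩
  · change Etale (Spec.map ρ)
    exact (HasRingHomProperty.Spec_iff (P := @Etale)).2 hρE
  · rw [Category.assoc, hm2]
  · intro B strB d t' hdt
    let δ : R ⟶ B := Spec.preimage d.left
    have hδ : Spec.map δ = d.left := Spec.map_preimage _
    let τ : CommRingCat.of (sq.A ⧸ sq.I) ⟶ B := Spec.preimage t'.left
    have hτ : Spec.map τ = t'.left := Spec.map_preimage _
    have h1 : ρ ≫ δ = CommRingCat.ofHom (Ideal.Quotient.mk sq.I) ≫ τ := by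
      apply Spec.map_injective
      rw [Spec.map_comp, Spec.map_comp, hδ, hτ]
      exact congrArg CommaMorphism.left hdt
    have hkill : ∀ r ∈ J, δ.hom r = 0 := by
      intro r hr
      have h2 : r ∈ sq.I.map ρ.hom := hκk hr
      have h3 : (sq.I.map ρ.hom).map δ.hom = ⊥ := by
        rw [Ideal.map_map, ← CommRingCat.hom_comp, h1, CommRingCat.hom_comp, ← Ideal.map_map]
        simp
      have h4 : δ.hom r ∈ (sq.I.map ρ.hom).map δ.hom := Ideal.mem_map_of_mem _ h2
      rw [h3] at h4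
      exact h4
    let δ' : CommRingCat.of (R ⧸ J) ⟶ B := CommRingCat.ofHom (Ideal.Quotient.lift J δ.hom hkill)
    have hδ' : CommRingCat.ofHom (Ideal.Quotient.mk J) ≫ δ' = δ := by
      ext x
      simp [δ']
    have hδ'' : Spec.map δ' ≫ Spec.map (CommRingCat.ofHom (Ideal.Quotient.mk J)) = d.left := by
      rw [← Spec.map_comp, hδ', hδ]
    let d' : (Over.mk strB : Over S) ⟶ TJ := Over.homMk (Spec.map δ') (by
      change Spec.map δ' ≫ Spec.map (CommRingCat.ofHom (Ideal.Quotient.mk J)) ≫ str' = strB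
      rw [← Category.assoc, hδ'']
      exact Over.w d)
    have hd : d = d' ≫ jJ := by
      ext
      exact hδ''.symm
    have ht : d' ≫ θ ≫ p = t' := by
      rw [← cancel_mono sq.j, Category.assoc, Category.assoc, hθ, ← Category.assoc, ← hd, hdt]
    rw [hd, Functor.map_comp, Category.assoc, ← Category.assoc _ m, hm1, Category.assoc, hpq,
      ← Functor.map_comp_assoc, ← Functor.map_comp_assoc, Category.assoc, ht]
  · refine ⟨Over.homMk (Spec.map κ) ?_, ?_⟩
    · change Spec.map κ ≫ Spec.map ρ ≫ sq.str = f ≫ P.hom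
      rw [hPhom, ← Category.assoc, ← Spec.map_comp, hρκ, Spec.map_comp, hψ]
      simp only [Category.assoc]
    · ext
      change Spec.map κ ≫ Spec.map ρ = f ≫ p.left ≫ Spec.map (CommRingCat.ofHom (Ideal.Quotient.mk sq.I))
      rw [← Spec.map_comp, hρκ, Spec.map_comp, hψ, Category.assoc]

/-- Gluing morphisms from a scheme to a sheaf along an fppf covering family. -/
theorem exists_glue_of_family {G : AlgSp.Sp S} {Z : Over S} {κ : Type u} (Tk : κ → Over S)
    (c : ∀ k, Tk k ⟶ Z) (h1 : ∀ k, Flat (c k).left)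
    (h2 : ∀ k, LocallyOfFinitePresentation (c k).left)
    (h3 : ∀ x : Z.left, ∃ k, x ∈ Set.range (c k).left)
    (lam : ∀ k, (AlgSp.yon S).obj (Tk k) ⟶ G)
    (hcompat : ∀ (k k' : κ) (Y : Over S) (g : Y ⟶ Tk k) (g' : Y ⟶ Tk k'), g ≫ c k = g' ≫ c k' →
      (AlgSp.yon S).map g ≫ lam k = (AlgSp.yon S).map g' ≫ lam k') :
    ∃ l : (AlgSp.yon S).obj Z ⟶ G, ∀ k, (AlgSp.yon S).map (c k) ≫ l = lam k := by
  have hsh := (isSheaf_iff_isSheaf_of_type _ _).1 G.property _ (ofArrows_mem_J Tk c h1 h2 h3)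
  have hsh' : Presieve.IsSheafFor G.obj (Presieve.ofArrows Tk c) :=
    (Presieve.isSheafFor_iff_generate _).2 hsh
  rw [Presieve.isSheafFor_arrows_iff] at hsh'
  obtain ⟨t, ht, -⟩ := hsh' (fun k => (AlgSp.J S).uliftYonedaEquiv (lam k)) (by
    intro k k' Y g g' hgg
    rw [GrothendieckTopology.uliftYonedaEquiv_naturality,
      GrothendieckTopology.uliftYonedaEquiv_naturality, hcompat k k' Y g g' hgg])
  refine ⟨(AlgSp.J S).uliftYonedaEquiv.symm t, fun k => ?_⟩
  apply (AlgSp.J S).uliftYonedaEquiv.injective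
  rw [← GrothendieckTopology.uliftYonedaEquiv_naturality, Equiv.apply_symm_apply]
  exact ht k

theorem primeSpectrum_comap_mk_surjective {A : Type u} [CommRing A] (I : Ideal A) (hI : I ^ 2 = ⊥)
    (y : PrimeSpectrum A) : ∃ y0 : PrimeSpectrum (A ⧸ I),
      PrimeSpectrum.comap (Ideal.Quotient.mk I) y0 = y := by
  have hr := range_comap_of_surjective (A ⧸ I) (Ideal.Quotient.mk I)
    Ideal.Quotient.mk_surjective
  have hy : y ∈ PrimeSpectrum.zeroLocus (RingHom.ker (Ideal.Quotient.mk I) : Set A) := by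
    rw [Ideal.mk_ker, PrimeSpectrum.mem_zeroLocus]
    have : I ^ 2 ≤ y.asIdeal := by rw [hI]; exact bot_le
    exact (Ideal.IsPrime.pow_le_iff two_ne_zero).1 this
  rw [← hr] at hy
  exact hy

theorem spec_map_mk_surjective {A : Type u} [CommRing A] (I : Ideal A) (hI : I ^ 2 = ⊥)
    (y : Spec (.of A)) : ∃ y0 : Spec (.of (A ⧸ I)),
      (Spec.map (CommRingCat.ofHom (Ideal.Quotient.mk I))) y0 = y :=
  primeSpectrum_comap_mk_surjective I hI y

/-- Existence of lifts for `b` when `a` is representable etale surjective and `a ≫ b` is formally etale. -/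
theorem hasLift_of_comp_etale_surj {F G H : AlgSp.Sp S} {a : F ⟶ G} {b : G ⟶ H}
    (ha : AlgSp.RepWith @Etale a) (ha' : AlgSp.RepWith @Surjective a)
    (hab : AlgSp.IsFormallyEtaleMor (a ≫ b)) (hb : AlgSp.IsFormallyUnramifiedMor b)
    (sq : AlgSp.InfSq b) : sq.HasLift := by
  have hrep : AlgSp.Representable a := ha.rep
  let P := hrep.pullback sq.top
  let p : P ⟶ sq.ptT := hrep.snd sq.top
  let q : (AlgSp.yon S).obj P ⟶ F := hrep.fst sq.top
  have hpq : q ≫ a = (AlgSp.yon S).map p ≫ sq.top := hrep.w sq.top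
  haveI hpE : Etale p.left := ha.property_snd sq.top
  have hpS : Surjective p.left := ha'.property_snd sq.top
  let 𝒰 := P.left.affineOpenCover
  have hfE : ∀ x, Etale (𝒰.f x ≫ p.left) := fun x => inferInstance
  choose W' e lam heE hlamb hD k hk using fun x =>
    exists_local_lift_chart hab sq p q hpq (𝒰.X x) (𝒰.f x) (hfE x)
  have hsurj : ∀ y : sq.ptT'.left, ∃ x, y ∈ Set.range (e x).left := by
    intro y
    obtain ⟨y0, rfl⟩ := spec_map_mk_surjective sq.I sq.sq_zero y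
    obtain ⟨z, rfl⟩ := hpS.surj y0
    obtain ⟨z', hz'⟩ := 𝒰.covers z
    refine ⟨𝒰.idx z, (k (𝒰.idx z)).left z', ?_⟩
    have h1 : (k (𝒰.idx z)).left ≫ (e (𝒰.idx z)).left = 𝒰.f (𝒰.idx z) ≫ p.left ≫
        Spec.map (CommRingCat.ofHom (Ideal.Quotient.mk sq.I)) :=
      congrArg CommaMorphism.left (hk (𝒰.idx z))
    have h2 := congrArg (fun m : Spec (𝒰.X (𝒰.idx z)) ⟶ Spec (.of sq.A) => m z') h1
    simp only [Scheme.Hom.comp_apply] at h2
    rw [h2, hz']
  have hcompat : ∀ (x x' : 𝒰.I₀) (Y : Over S) (g : Y ⟶ W' x) (g' : Y ⟶ W' x'), g ≫ e x = g' ≫ e x' →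
      (AlgSp.yon S).map g ≫ lam x = (AlgSp.yon S).map g' ≫ lam x' := by
    intro x x' Y g g' hgg
    refine eq_of_isFormallyUnramifiedMor_of_affine_local hb sq.I sq.sq_zero (g ≫ e x).left _ _ ?_ ?_
    · rw [Category.assoc, Category.assoc, hlamb, hlamb, ← Functor.map_comp_assoc,
        ← Functor.map_comp_assoc, hgg]
    · intro B strB c τ hτ
      let t' : (Over.mk strB : Over S) ⟶ sq.ptT := Over.homMk (Spec.map τ) (by
        have := Over.w (c ≫ g ≫ e x)
        change Spec.map τ ≫ Spec.map (CommRingCat.ofHom (Ideal.Quotient.mk sq.I)) ≫ sq.str = strB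
        rw [← Category.assoc, hτ]
        exact this)
      have h1 : (c ≫ g) ≫ e x = t' ≫ sq.j := by
        ext
        exact hτ.symm
      have h2 : (c ≫ g') ≫ e x' = t' ≫ sq.j := by
        rw [Category.assoc, ← hgg, ← Category.assoc, h1]
      rw [← Functor.map_comp_assoc, ← Functor.map_comp_assoc, hD x B strB (c ≫ g) t' h1,
        hD x' B strB (c ≫ g') t' h2]
  obtain ⟨l, hl⟩ := exists_glue_of_family W' e (fun x => inferInstance) (fun x => inferInstance)
    hsurj lam hcompat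
  refine ⟨l, ?_, ?_⟩
  · refine hom_ext_of_family (fun x => Over.mk (𝒰.f x ≫ P.hom))
      (fun x => (Over.homMk (𝒰.f x) rfl : Over.mk (𝒰.f x ≫ P.hom) ⟶ P) ≫ p)
      (fun x => by change Flat (𝒰.f x ≫ p.left); infer_instance)
      (fun x => by change LocallyOfFinitePresentation (𝒰.f x ≫ p.left); infer_instance)
      (fun y0 => ?_) _ _ fun x => ?_
    · obtain ⟨z, rfl⟩ := hpS.surj y0
      obtain ⟨z', hz'⟩ := 𝒰.covers z
      refine ⟨𝒰.idx z, z', ?_⟩
      change (𝒰.f (𝒰.idx z) ≫ p.left) z' = _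
      rw [Scheme.Hom.comp_apply, hz']
    · rw [← Functor.map_comp_assoc, Category.assoc, ← hk x, Functor.map_comp_assoc, hl x]
      exact hD x _ _ (k x) _ (hk x)
  · refine hom_ext_of_family W' e (fun x => inferInstance) (fun x => inferInstance) hsurj _ _
      fun x => ?_
    rw [← Category.assoc, hl x, hlamb x]

/-- If `a` is representable, etale and surjective and `a ≫ b` is formally etale, then `b` is formally etale. -/
theorem isFormallyEtaleMor_of_comp_etale_surj {F G H : AlgSp.Sp S} {a : F ⟶ G} {b : G ⟶ H}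
    (ha : AlgSp.RepWith @Etale a) (ha' : AlgSp.RepWith @Surjective a)
    (hab : AlgSp.IsFormallyEtaleMor (a ≫ b)) : AlgSp.IsFormallyEtaleMor b := by
  have hb := isFormallyUnramifiedMor_of_comp_etale_surj ha ha' ((isFormallyEtaleMor_iff _).1 hab).2
  rw [isFormallyEtaleMor_iff]
  exact ⟨fun sq => hasLift_of_comp_etale_surj ha ha' hab hb sq, hb⟩

theorem isFormallyEtaleMor_comp {F G H : AlgSp.Sp S} {a : F ⟶ G} {b : G ⟶ H}
    (ha : AlgSp.IsFormallyEtaleMor a) (hb : AlgSp.IsFormallyEtaleMor b) :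
    AlgSp.IsFormallyEtaleMor (a ≫ b) := by
  rw [isFormallyEtaleMor_iff] at ha hb ⊢
  exact ⟨isFormallySmoothMor_comp ha.1 hb.1, isFormallyUnramifiedMor_comp ha.2 hb.2⟩

/-- Cancellation: if `a ≫ b` is formally etale and `b` is formally unramified, `a` is formally etale. -/
theorem isFormallyEtaleMor_of_comp {F G H : AlgSp.Sp S} {a : F ⟶ G} {b : G ⟶ H}
    (hb : AlgSp.IsFormallyUnramifiedMor b) (hab : AlgSp.IsFormallyEtaleMor (a ≫ b)) :
    AlgSp.IsFormallyEtaleMor a := by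
  rw [isFormallyEtaleMor_iff] at hab ⊢
  exact ⟨isFormallySmoothMor_of_comp hb hab.1, isFormallyUnramifiedMor_of_comp hab.2⟩

end Groth.Agent.Lib.H15.AS
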