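import Mathlib
import Groth.Prelude.Def_AlgSp
import Groth.Prelude.Def_AlgSp2
import Groth.Prelude.Def_AlgSpInf
import Groth.Agent.Lib.helper15.AlgSpFormalEt2

/-!
# Local lifts for formally smooth composites
-/

set_option autoImplicit false
universe u
open CategoryTheory CategoryTheory.Limits AlgebraicGeometry Opposite

namespace Groth.Agent.Lib.H15.AS

variable {S : Scheme.{u}}

/-- The local lift on one lifted etale chart. -/
theorem exists_local_lift_chart_smooth {F G H : AlgSp.Sp S} {a : F ⟶ G} {b : G ⟶ H}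
    (hab : AlgSp.IsFormallySmoothMor (a ≫ b)) (sq : AlgSp.InfSq b)
    {P : Over S} (p : P ⟶ sq.ptT) (q : (AlgSp.yon S).obj P ⟶ F)
    (hpq : q ≫ a = (AlgSp.yon S).map p ≫ sq.top)
    (E : CommRingCat.{u}) (f : Spec E ⟶ P.left) (hf : Etale (f ≫ p.left)) :
    ∃ (W' : Over S) (e : W' ⟶ sq.ptT') (lam : (AlgSp.yon S).obj W' ⟶ G), IsAffine W'.left ∧ Etale e.left ∧
      lam ≫ b = (AlgSp.yon S).map e ≫ sq.bot ∧
      (∀ (B : CommRingCat.{u}) (strB : Spec B ⟶ S) (d : Over.mk strB ⟶ W')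
        (t' : Over.mk strB ⟶ sq.ptT), d ≫ e = t' ≫ sq.j →
        (AlgSp.yon S).map d ≫ lam = (AlgSp.yon S).map t' ≫ sq.top) ∧
      ∃ k : (Over.mk (f ≫ P.hom) : Over S) ⟶ W',
        k ≫ e = (Over.homMk f rfl : Over.mk (f ≫ P.hom) ⟶ P) ≫ p ≫ sq.j := by
  let ψ : CommRingCat.of (sq.A ⧸ sq.I) ⟶ E := Spec.preimage (f ≫ p.left)
  have hψ : Spec.map ψ = f ≫ p.left := Spec.map_preimage _
  have hψE : ψ.hom.Etale := by
    have : Etale (Spec.map ψ) := by rw [hψ]; exact hf
    exact (HasRingHomProperty.Spec_iff (P := @Etale)).1 this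
  obtain ⟨R, ρ, κ, hρE, hρκ, hκs, hκk⟩ := exists_chartLift sq.I E ψ hψE
  let J : Ideal R := RingHom.ker κ.hom
  have hJ : J ^ 2 = ⊥ := by
    have h1 : J ^ 2 ≤ (sq.I.map ρ.hom) ^ 2 := Ideal.pow_right_mono hκk 2
    rw [← Ideal.map_pow, sq.sq_zero, Ideal.map_bot] at h1
    exact le_bot_iff.1 h1
  let ε : R ⧸ J ≃+* E := RingHom.quotientKerEquivOfSurjective hκs
  have hε : CommRingCat.ofHom (Ideal.Quotient.mk J) ≫ CommRingCat.ofHom ε.toRingHom = κ := by
    ext x
    simp [ε, J]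
  have hεε : CommRingCat.ofHom ε.toRingHom ≫ CommRingCat.ofHom ε.symm.toRingHom = 𝟙 _ := by
    ext x
    simp
  -- the ring identity (★)
  have star : CommRingCat.ofHom (Ideal.Quotient.mk sq.I) ≫ ψ ≫ CommRingCat.ofHom ε.symm.toRingHom =
      ρ ≫ CommRingCat.ofHom (Ideal.Quotient.mk J) := by
    rw [← Category.assoc, ← hρκ, ← hε, Category.assoc, Category.assoc, hεε, Category.comp_id]
  have hPhom : P.hom = p.left ≫ Spec.map (CommRingCat.ofHom (Ideal.Quotient.mk sq.I)) ≫ sq.str :=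
    (Over.w p).symm
  -- scheme-level version of (★)
  have star' : (Spec.map (CommRingCat.ofHom ε.symm.toRingHom) ≫ f) ≫ p.left ≫
      Spec.map (CommRingCat.ofHom (Ideal.Quotient.mk sq.I)) =
      Spec.map (CommRingCat.ofHom (Ideal.Quotient.mk J)) ≫ Spec.map ρ := by
    rw [Category.assoc, ← Category.assoc f, ← hψ, ← Spec.map_comp, ← Spec.map_comp, ← Spec.map_comp,
      Category.assoc, star]
  let str' : Spec R ⟶ S := Spec.map ρ ≫ sq.str
  let W' : Over S := Over.mk str'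
  let e : W' ⟶ sq.ptT' := Over.homMk (Spec.map ρ) rfl
  let TJ : Over S := Over.mk (Spec.map (CommRingCat.ofHom (Ideal.Quotient.mk J)) ≫ str')
  let jJ : TJ ⟶ W' := Over.homMk (Spec.map (CommRingCat.ofHom (Ideal.Quotient.mk J))) rfl
  let θ : TJ ⟶ P := Over.homMk (Spec.map (CommRingCat.ofHom ε.symm.toRingHom) ≫ f) (by
    change (Spec.map (CommRingCat.ofHom ε.symm.toRingHom) ≫ f) ≫ P.hom =
      Spec.map (CommRingCat.ofHom (Ideal.Quotient.mk J)) ≫ Spec.map ρ ≫ sq.str
    rw [hPhom, ← Category.assoc p.left, ← Category.assoc, star', Category.assoc])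
  have hθ : θ ≫ p ≫ sq.j = jJ ≫ e := by
    ext
    exact star'
  have comm : ((AlgSp.yon S).map θ ≫ q) ≫ a ≫ b =
      (AlgSp.yon S).map jJ ≫ (AlgSp.yon S).map e ≫ sq.bot := by
    rw [Category.assoc, ← Category.assoc q, hpq, Category.assoc, sq.comm, ← Functor.map_comp_assoc,
      ← Functor.map_comp_assoc, ← Functor.map_comp_assoc, Category.assoc, hθ]
  let sqab : AlgSp.InfSq (a ≫ b) :=
    { A := R, I := J, sq_zero := hJ, str := str',
      top := (AlgSp.yon S).map θ ≫ q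
      bot := (AlgSp.yon S).map e ≫ sq.bot
      comm := comm }
  obtain ⟨m, hm1, hm2⟩ := hab sqab
  change (AlgSp.yon S).map jJ ≫ m = (AlgSp.yon S).map θ ≫ q at hm1
  change m ≫ a ≫ b = (AlgSp.yon S).map e ≫ sq.bot at hm2
  refine ⟨W', e, m ≫ a, ?_, ?_, ?_, ?_, ?_⟩
  · change IsAffine (Spec R)
    infer_instance
  · change Etale (Spec.map ρ)
    exact (HasRingHomProperty.Spec_iff (P := @Etale)).2 hρE
  · rw [Category.assoc, hm2]
  · intro B strB d t' hdt
    let δ : R ⟶ B := Spec.preimage d.left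
    have hδ : Spec.map δ = d.left := Spec.map_preimage _
    let τ : CommRingCat.of (sq.A ⧸ sq.I) ⟶ B := Spec.preimage t'.left
    have hτ : Spec.map τ = t'.left := Spec.map_preimage _
    have h1 : ρ ≫ δ = CommRingCat.ofHom (Ideal.Quotient.mk sq.I) ≫ τ := by
      apply Spec.map_injective
      rw [Spec.map_comp, Spec.map_comp, hδ, hτ]
      exact congrArg CommaMorphism.left hdt
    have hkill : ∀ r ∈ J, δ.hom r = 0 := by
      intro r hr
      have h2 : r ∈ sq.I.map ρ.hom := hκk hr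
      have h3 : (sq.I.map ρ.hom).map δ.hom = ⊥ := by
        rw [Ideal.map_map, ← CommRingCat.hom_comp, h1, CommRingCat.hom_comp, ← Ideal.map_map]
        simp
      have h4 : δ.hom r ∈ (sq.I.map ρ.hom).map δ.hom := Ideal.mem_map_of_mem _ h2
      rw [h3] at h4
      exact h4
    let δ' : CommRingCat.of (R ⧸ J) ⟶ B := CommRingCat.ofHom (Ideal.Quotient.lift J δ.hom hkill)
    have hδ' : CommRingCat.ofHom (Ideal.Quotient.mk J) ≫ δ' = δ := by
      ext x
      simp [δ']
    have hδ'' : Spec.map δ' ≫ Spec.map (CommRingCat.ofHom (Ideal.Quotient.mk J)) = d.left := by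
      rw [← Spec.map_comp, hδ', hδ]
    let d' : (Over.mk strB : Over S) ⟶ TJ := Over.homMk (Spec.map δ') (by
      change Spec.map δ' ≫ Spec.map (CommRingCat.ofHom (Ideal.Quotient.mk J)) ≫ str' = strB
      rw [← Category.assoc, hδ'']
      exact Over.w d)
    have hd : d = d' ≫ jJ := by
      ext
      exact hδ''.symm
    have ht : d' ≫ θ ≫ p = t' := by
      rw [← cancel_mono sq.j, Category.assoc, Category.assoc, hθ, ← Category.assoc, ← hd, hdt]
    rw [hd, Functor.map_comp, Category.assoc, ← Category.assoc _ m, hm1, Category.assoc, hpq,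
      ← Functor.map_comp_assoc, ← Functor.map_comp_assoc, Category.assoc, ht]
  · refine ⟨Over.homMk (Spec.map κ) ?_, ?_⟩
    · change Spec.map κ ≫ Spec.map ρ ≫ sq.str = f ≫ P.hom
      rw [hPhom, ← Category.assoc, ← Spec.map_comp, hρκ, Spec.map_comp, hψ]
      simp only [Category.assoc]
    · ext
      change Spec.map κ ≫ Spec.map ρ = f ≫ p.left ≫ Spec.map (CommRingCat.ofHom (Ideal.Quotient.mk sq.I))
      rw [← Spec.map_comp, hρκ, Spec.map_comp, hψ, Category.assoc]


end Groth.Agent.Lib.H15.AS
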