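import Mathlib
import Groth.Prelude.Def_AlgSp
import Groth.Prelude.Def_AlgSp2
import Groth.Prelude.Def_AlgSp3
import Groth.Prelude.Def_AlgSp4
import Groth.Prelude.Def_AlgSpCov
import Groth.Agent.Lib.helper15.AlgSpFpqcLocal3
import Groth.Agent.Lib.helper15.AlgSpOpen

set_option autoImplicit false
universe u
open CategoryTheory CategoryTheory.Limits AlgebraicGeometry Opposite Topology

namespace Groth.Agent.Lib.H15

/-- Openness of a subset of an affine scheme can be tested on a finite jointly surjective family of flat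
morphisms from affine schemes. -/
theorem isOpen_of_finite_flat_cover {Z : Scheme.{u}} [IsAffine Z] {m : ℕ} (W : Fin m → Scheme.{u})
    (c : ∀ j, W j ⟶ Z) [∀ j, IsAffine (W j)] (hc : ∀ j, Flat (c j))
    (hs : ∀ z : Z, ∃ j, z ∈ Set.range (c j)) (T : Set Z) (hT : ∀ j, IsOpen ((c j) ⁻¹' T)) :
    IsOpen T := by
  let c' : ∐ W ⟶ Z := Sigma.desc c
  have h1 : Surjective c' := Surjective.sigmaDesc_of_union_range_eq_univ (by
    ext z
    simp only [Set.mem_iUnion, Set.mem_univ, iff_true]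
    exact hs z)
  have h2 : Flat c' := IsZariskiLocalAtSource.sigmaDesc hc
  have h3 : QuasiCompact c' := inferInstance
  have hq : Topology.IsQuotientMap c' := Flat.isQuotientMap_of_surjective c'
  rw [← hq.isOpen_preimage]
  have e : ∀ j (y : W j), c' (Sigma.ι W j y) = c j y := fun j y => by
    rw [← Scheme.Hom.comp_apply, Sigma.ι_desc]
  have : c' ⁻¹' T = ⋃ j, (Sigma.ι W j) '' ((c j) ⁻¹' T) := by
    ext x
    constructor
    · intro hx
      obtain ⟨j, y, rfl⟩ := (sigmaOpenCover W).exists_eq x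
      refine Set.mem_iUnion.2 ⟨j, y, ?_, rfl⟩
      change c j y ∈ T
      rw [← e]
      exact hx
    · intro hx
      obtain ⟨j, y, hy, rfl⟩ := Set.mem_iUnion.1 hx
      change c' (Sigma.ι W j y) ∈ T
      rw [e]
      exact hy
  rw [this]
  exact isOpen_iUnion fun j => (Sigma.ι W j).isOpenEmbedding.isOpenMap _ (hT j)

end Groth.Agent.Lib.H15

namespace Groth.Agent.Lib.H15.AS

variable {S : Scheme.{u}}

/-- The topology on the points of an algebraic space is final for an fpqc covering. -/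
theorem isOpen_of_isFpqcCover {Y : AlgSp.Sp S} (hY : AlgSp.IsAlgSpace Y) {ι : Type u}
    {Yi : ι → AlgSp.Sp S} {g : ∀ i, Yi i ⟶ Y} (hcov : AlgSp.IsFpqcCover Yi g)
    (T : Set (AlgSp.Points Y)) (hT : ∀ i, IsOpen (AlgSp.Points.map (g i) ⁻¹' T)) : IsOpen T := by
  -- affine case
  have key : ∀ (Z : Over S), IsAffine Z.left → ∀ h : (AlgSp.yon S).obj Z ⟶ Y,
      IsOpen (AlgSp.Points.ofPt h ⁻¹' T) := by
    intro Z hZ h
    obtain ⟨m, W, c, hW, hc, hsurj, hl⟩ := hcov.2 Z hZ h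
    haveI : IsAffine Z.left := hZ
    haveI : ∀ j, IsAffine (W j).left := hW
    refine isOpen_of_finite_flat_cover (fun j => (W j).left) (fun j => (c j).left) hc hsurj _ ?_
    intro j
    obtain ⟨i, l, hl⟩ := hl j
    have : (c j).left ⁻¹' (AlgSp.Points.ofPt h ⁻¹' T) =
        AlgSp.Points.ofPt l ⁻¹' (AlgSp.Points.map (g i) ⁻¹' T) := by
      ext w
      simp only [Set.mem_preimage]
      rw [← ofPt_yon_map_comp, ← hl, AlgSp.Points.map_ofPt]
    rw [this]
    exact (AlgSp.Points.continuous_ofPt l).isOpen_preimage _ (hT i)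
  obtain ⟨V, b, hbe, hbs⟩ := hY.atlas
  have hquot := isQuotientMap_ofPt b (repWith_universallyOpen_of_etale hbe) hbs
  rw [← hquot.isOpen_preimage, isOpen_iff_forall_mem_open]
  intro v hv
  obtain ⟨Z₀, hZ₀, hvZ⟩ : ∃ Z₀ : V.left.Opens, IsAffineOpen Z₀ ∧ v ∈ Z₀ := by
    obtain ⟨_, ⟨Z₀, hZ₀, rfl⟩, hx, -⟩ :=
      V.left.isBasis_affineOpens.exists_subset_of_mem_open (Set.mem_univ v) isOpen_univ
    exact ⟨Z₀, hZ₀, hx⟩
  have hopen := key (overOpen V Z₀) hZ₀ ((AlgSp.yon S).map (overOpenι V Z₀) ≫ b)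
  refine ⟨Z₀.ι '' (AlgSp.Points.ofPt ((AlgSp.yon S).map (overOpenι V Z₀) ≫ b) ⁻¹' T), ?_,
    Z₀.ι.isOpenEmbedding.isOpenMap _ hopen, ⟨⟨v, hvZ⟩, ?_, rfl⟩⟩
  · rintro _ ⟨z, hz, rfl⟩
    simp only [Set.mem_preimage] at hz ⊢
    rw [ofPt_yon_map_comp] at hz
    exact hz
  · simp only [Set.mem_preimage]
    rw [ofPt_yon_map_comp]
    exact hv

end Groth.Agent.Lib.H15.AS

namespace Groth.Agent.Lib.H15.AS

variable {S : Scheme.{u}}

/-- The base change of an fpqc-local-on-the-base situation along `gZ : Z ⟶ Y`. -/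
theorem exists_base_change_family {Y : AlgSp.Sp S} (hY : AlgSp.IsAlgSpace Y) {ι : Type u}
    {Yi : ι → AlgSp.Sp S} (hYi : ∀ i, AlgSp.IsAlgSpace (Yi i)) {g : ∀ i, Yi i ⟶ Y}
    (hcov : AlgSp.IsFpqcCover Yi g) {X : AlgSp.Sp S} {f : X ⟶ Y} {Xi : ι → AlgSp.Sp S}
    {p : ∀ i, Xi i ⟶ Yi i} {q : ∀ i, Xi i ⟶ X} (sq : ∀ i, IsPullback (q i) (p i) f (g i))
    {Z Z' : AlgSp.Sp S} (hZ : AlgSp.IsAlgSpace Z) (gZ : Z ⟶ Y) (z1 : Z' ⟶ X) (z2 : Z' ⟶ Z)
    (sqZ : IsPullback z1 z2 f gZ) :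
    (∀ i, AlgSp.IsAlgSpace (pullback gZ (g i))) ∧
    AlgSp.IsFpqcCover (fun i => pullback gZ (g i)) (fun i => pullback.fst gZ (g i)) ∧
    ∀ i, ∃ l : pullback z2 (pullback.fst gZ (g i)) ⟶ Xi i,
      IsPullback l (pullback.snd z2 (pullback.fst gZ (g i))) (p i) (pullback.snd gZ (g i)) := by
  refine ⟨fun i => isAlgSpace_of_isPullback hY.diag hZ (hYi i) (IsPullback.of_hasPullback gZ (g i)),
    ?_, fun i => exists_isPullback_cube (sq i) sqZ⟩
  exact isFpqcCover_of_isPullback hY hZ gZ Yi hYi g (fun i => pullback gZ (g i))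
    (fun i => pullback.fst gZ (g i)) (fun i => pullback.snd gZ (g i))
    (fun i => IsPullback.of_hasPullback gZ (g i)) hcov

theorem isLocalOnBase_fpqc_isUnivOpenMor :
    AlgSp.IsLocalOnBase (AlgSp.IsFpqcCover (S := S)) AlgSp.IsUnivOpenMor := by
  intro ι Y Yi g hY hYi hcov X f hX Xi p q hXi sq
  constructor
  · intro hf i
    exact univSp_of_isPullback _ (sq i) hf
  · intro H Z Z' hZ gZ z1 z2 sqZ
    obtain ⟨hZi, hcovZ, hl⟩ := exists_base_change_family hY hYi hcov sq hZ gZ z1 z2 sqZ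
    intro W hW
    apply isOpen_of_isFpqcCover hZ hcovZ
    intro i
    obtain ⟨l, sqL⟩ := hl i
    have sqQ := IsPullback.of_hasPullback z2 (pullback.fst gZ (g i))
    change IsOpen (AlgSp.Points.map (pullback.fst gZ (g i)) ⁻¹' (AlgSp.Points.map z2 '' W))
    rw [preimage_map_image_map sqQ W]
    exact H i (hZi i) _ _ _ sqL _ ((AlgSp.Points.continuous_map _).isOpen_preimage W hW)

theorem isLocalOnBase_fpqc_isUnivClosedMor :
    AlgSp.IsLocalOnBase (AlgSp.IsFpqcCover (S := S)) AlgSp.IsUnivClosedMor := by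
  intro ι Y Yi g hY hYi hcov X f hX Xi p q hXi sq
  constructor
  · intro hf i
    exact univSp_of_isPullback _ (sq i) hf
  · intro H Z Z' hZ gZ z1 z2 sqZ
    obtain ⟨hZi, hcovZ, hl⟩ := exists_base_change_family hY hYi hcov sq hZ gZ z1 z2 sqZ
    intro W hW
    rw [← isOpen_compl_iff]
    apply isOpen_of_isFpqcCover hZ hcovZ
    intro i
    obtain ⟨l, sqL⟩ := hl i
    have sqQ := IsPullback.of_hasPullback z2 (pullback.fst gZ (g i))
    change IsOpen (AlgSp.Points.map (pullback.fst gZ (g i)) ⁻¹' (AlgSp.Points.map z2 '' W)ᶜ)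
    rw [Set.preimage_compl, preimage_map_image_map sqQ W, isOpen_compl_iff]
    exact H i (hZi i) _ _ _ sqL _ (hW.preimage (AlgSp.Points.continuous_map _))

end Groth.Agent.Lib.H15.AS

namespace Groth.Agent.Lib.H15.AS

variable {S : Scheme.{u}}

/-- Surjectivity of the base change to `Z`, from surjectivity of the base changes of the `p i`. -/
theorem surjective_of_base_change_family {Z Z' : AlgSp.Sp S} {ι : Type u} {Zi : ι → AlgSp.Sp S}
    {k : ∀ i, Zi i ⟶ Z} {z2 : Z' ⟶ Z}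
    (hsurj : ∀ ζ : AlgSp.Points Z, ∃ (i : ι) (η : AlgSp.Points (Zi i)), AlgSp.Points.map (k i) η = ζ)
    (H : ∀ i, Function.Surjective (AlgSp.Points.map (pullback.snd z2 (k i)))) :
    Function.Surjective (AlgSp.Points.map z2) := by
  intro ζ
  obtain ⟨i, η, rfl⟩ := hsurj ζ
  obtain ⟨τ, rfl⟩ := H i η
  refine ⟨AlgSp.Points.map (pullback.fst z2 (k i)) τ, ?_⟩
  rw [← AlgSp.Points.map_comp, ← AlgSp.Points.map_comp, pullback.condition]

theorem isLocalOnBase_fpqc_isUnivSubmersiveMor :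
    AlgSp.IsLocalOnBase (AlgSp.IsFpqcCover (S := S)) AlgSp.IsUnivSubmersiveMor := by
  intro ι Y Yi g hY hYi hcov X f hX Xi p q hXi sq
  constructor
  · intro hf i
    exact univSp_of_isPullback _ (sq i) hf
  · intro H Z Z' hZ gZ z1 z2 sqZ
    obtain ⟨hZi, hcovZ, hl⟩ := exists_base_change_family hY hYi hcov sq hZ gZ z1 z2 sqZ
    have hq : ∀ i, IsQuotientMap (AlgSp.Points.map (pullback.snd z2 (pullback.fst gZ (g i)))) := by
      intro i
      obtain ⟨l, sqL⟩ := hl i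
      exact H i (hZi i) _ _ _ sqL
    change IsQuotientMap (AlgSp.Points.map z2)
    refine ⟨IsCoinducing.of_isOpen_preimage_iff_isOpen fun T =>
      ⟨fun hT => ?_, fun hT => hT.preimage (AlgSp.Points.continuous_map _)⟩,
      surjective_of_base_change_family (exists_point_of_isFpqcCover hcovZ)
      (fun i => (hq i).surjective)⟩
    apply isOpen_of_isFpqcCover hZ hcovZ
    intro i
    change IsOpen (AlgSp.Points.map (pullback.fst gZ (g i)) ⁻¹' T)
    rw [← (hq i).isOpen_preimage, ← Set.preimage_comp, ← points_map_comp_fun, ← pullback.condition,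
      points_map_comp_fun, Set.preimage_comp]
    exact (hT.preimage (AlgSp.Points.continuous_map _))

theorem isLocalOnBase_fpqc_isUnivHomeoMor :
    AlgSp.IsLocalOnBase (AlgSp.IsFpqcCover (S := S)) AlgSp.IsUnivHomeoMor := by
  intro ι Y Yi g hY hYi hcov X f hX Xi p q hXi sq
  constructor
  · intro hf i
    exact univSp_of_isPullback _ (sq i) hf
  · intro H
    have hopen : AlgSp.IsUnivOpenMor f :=
      (isLocalOnBase_fpqc_isUnivOpenMor Yi g hY hYi hcov f hX Xi p q hXi sq).2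
        (fun i Z Z' hZ gZ z1 z2 sqZ => (H i hZ gZ z1 z2 sqZ).isOpenMap)
    have hinj : AlgSp.IsUnivInjectiveMor f :=
      (isLocalOnBase_fpqc_isUnivInjectiveMor Yi g hY hYi hcov f hX Xi p q hXi sq).2
        (fun i Z Z' hZ gZ z1 z2 sqZ => (H i hZ gZ z1 z2 sqZ).injective)
    intro Z Z' hZ gZ z1 z2 sqZ
    obtain ⟨hZi, hcovZ, hl⟩ := exists_base_change_family hY hYi hcov sq hZ gZ z1 z2 sqZ
    have hs : Function.Surjective (AlgSp.Points.map z2) := by
      refine surjective_of_base_change_family (exists_point_of_isFpqcCover hcovZ) (fun i => ?_)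
      obtain ⟨l, sqL⟩ := hl i
      exact (H i (hZi i) _ _ _ sqL).surjective
    exact ⟨AlgSp.Points.continuous_map z2, hopen hZ gZ z1 z2 sqZ, hinj hZ gZ z1 z2 sqZ, hs⟩

end Groth.Agent.Lib.H15.AS
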