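import Mathlib
import Groth.Prelude.Def_AlgSp
import Groth.Prelude.Def_AlgSp2
import Groth.Prelude.Def_AlgSp3
import Groth.Prelude.Def_AlgSp4
import Groth.Prelude.Def_AlgSpCov
import Groth.Agent.Lib.helper15.AlgSpFpqcTop
import Groth.Agent.Lib.helper15.AlgSpSep
import Groth.Agent.Lib.helper15.CatDiag2

set_option autoImplicit false
universe u
open CategoryTheory CategoryTheory.Limits AlgebraicGeometry Opposite Topology

namespace Groth.Agent.Lib.H15.AS

variable {S : Scheme.{u}}

/-- If `P` is fpqc local on the base then so is "the diagonal has `P`". -/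
theorem isLocalOnBase_fpqc_diagonal {P : MorphismProperty (AlgSp.Sp S)}
    (hP : AlgSp.IsLocalOnBase (AlgSp.IsFpqcCover (S := S)) P) :
    AlgSp.IsLocalOnBase (AlgSp.IsFpqcCover (S := S)) (fun _ _ f => P (pullback.diagonal f)) := by
  intro ι Y Yi g hY hYi hcov X f hX Xi p q hXi sq
  have hXX : AlgSp.IsAlgSpace (pullback f f) :=
    isAlgSpace_of_isPullback hY.diag hX hX (IsPullback.of_hasPullback f f)
  have hPP : ∀ i, AlgSp.IsAlgSpace (pullback (p i) (p i)) := fun i =>
    isAlgSpace_of_isPullback (hYi i).diag (hXi i) (hXi i) (IsPullback.of_hasPullback (p i) (p i))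
  have hcov' : AlgSp.IsFpqcCover (fun i => pullback (p i) (p i))
      (fun i => pullback.map (p i) (p i) f f (q i) (q i) (g i) (sq i).w.symm (sq i).w.symm) :=
    isFpqcCover_of_isPullback hY hXX (pullback.fst f f ≫ f) Yi hYi g
      (fun i => pullback (p i) (p i))
      (fun i => pullback.map (p i) (p i) f f (q i) (q i) (g i) (sq i).w.symm (sq i).w.symm)
      (fun i => pullback.fst (p i) (p i) ≫ p i) (fun i => isPullback_map_of_isPullback (sq i)) hcov
  exact hP (fun i => pullback (p i) (p i)) _ hXX hPP hcov' (pullback.diagonal f) hX Xi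
    (fun i => pullback.diagonal (p i)) q hXi (fun i => isPullback_diagonal_of_isPullback (sq i))

theorem isLocalOnBase_fpqc_monomorphisms :
    AlgSp.IsLocalOnBase (AlgSp.IsFpqcCover (S := S)) (MorphismProperty.monomorphisms (AlgSp.Sp S)) := by
  intro ι Y Yi g hY hYi hcov X f hX Xi p q hXi sq
  have key := isLocalOnBase_fpqc_diagonal (S := S) isLocalOnBase_fpqc_isomorphisms Yi g hY hYi hcov f hX
    Xi p q hXi sq
  constructor
  · intro (hf : Mono f) i
    exact (pullback.isIso_diagonal_iff (p i)).1 (key.1 ((pullback.isIso_diagonal_iff f).2 hf) i)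
  · intro H
    exact (pullback.isIso_diagonal_iff f).1
      (key.2 (fun i => (pullback.isIso_diagonal_iff (p i)).2 (H i)))

theorem isLocalOnBase_fpqc_isQuasiSeparatedMor :
    AlgSp.IsLocalOnBase (AlgSp.IsFpqcCover (S := S)) AlgSp.IsQuasiSeparatedMor := by
  intro ι Y Yi g hY hYi hcov X f hX Xi p q hXi sq
  have key := isLocalOnBase_fpqc_diagonal (S := S) isLocalOnBase_fpqc_isQuasiCompactMor Yi g hY hYi
    hcov f hX Xi p q hXi sq
  constructor
  · intro hf i
    exact (isQuasiSeparatedMor_iff_isQuasiCompactMor_diagonal (hXi i) (hYi i) (p i)).2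
      (key.1 ((isQuasiSeparatedMor_iff_isQuasiCompactMor_diagonal hX hY f).1 hf) i)
  · intro H
    exact (isQuasiSeparatedMor_iff_isQuasiCompactMor_diagonal hX hY f).2
      (key.2 (fun i => (isQuasiSeparatedMor_iff_isQuasiCompactMor_diagonal (hXi i) (hYi i) (p i)).1 (H i)))

theorem isLocalOnBase_fpqc_isSeparatedMor :
    AlgSp.IsLocalOnBase (AlgSp.IsFpqcCover (S := S)) AlgSp.IsSeparatedMor := by
  intro ι Y Yi g hY hYi hcov X f hX Xi p q hXi sq
  have key := isLocalOnBase_fpqc_diagonal (S := S) isLocalOnBase_fpqc_isUnivClosedMor Yi g hY hYi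
    hcov f hX Xi p q hXi sq
  constructor
  · intro hf i
    exact (isSeparatedMor_iff_isUnivClosedMor_diagonal (hXi i) (p i)).2
      (key.1 ((isSeparatedMor_iff_isUnivClosedMor_diagonal hX f).1 hf) i)
  · intro H
    exact (isSeparatedMor_iff_isUnivClosedMor_diagonal hX f).2
      (key.2 (fun i => (isSeparatedMor_iff_isUnivClosedMor_diagonal (hXi i) (p i)).1 (H i)))

theorem isLocalOnBase_fpqc_isFiniteTypeMor :
    AlgSp.IsLocalOnBase (AlgSp.IsFpqcCover (S := S)) AlgSp.IsFiniteTypeMor :=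
  isLocalOnBase_and (isLocalOnBase_fpqc_locP goodP_lft) isLocalOnBase_fpqc_isQuasiCompactMor

theorem isLocalOnBase_fpqc_isFinitePresentationMor :
    AlgSp.IsLocalOnBase (AlgSp.IsFpqcCover (S := S)) AlgSp.IsFinitePresentationMor :=
  isLocalOnBase_and (isLocalOnBase_fpqc_locP goodP_lfp)
    (isLocalOnBase_and isLocalOnBase_fpqc_isQuasiCompactMor isLocalOnBase_fpqc_isQuasiSeparatedMor)

theorem isLocalOnBase_fpqc_isProperMor :
    AlgSp.IsLocalOnBase (AlgSp.IsFpqcCover (S := S)) AlgSp.IsProperMor :=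
  isLocalOnBase_and isLocalOnBase_fpqc_isSeparatedMor
    (isLocalOnBase_and isLocalOnBase_fpqc_isFiniteTypeMor isLocalOnBase_fpqc_isUnivClosedMor)

end Groth.Agent.Lib.H15.AS
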