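import Mathlib
import Groth.Prelude.Def_AlgSp
import Groth.Prelude.Def_AlgSp2
import Groth.Prelude.Def_AlgSp3
import Groth.Prelude.Def_AlgSp4
import Groth.Prelude.Def_AlgSpSub
import Groth.Agent.Lib.helper15.AlgSpDimStalk
import Groth.Agent.Lib.helper15.EtaleRedStalk
import Groth.Agent.Lib.helper15.AlgSpEtOpen

set_option autoImplicit false
universe u
open CategoryTheory CategoryTheory.Limits AlgebraicGeometry Opposite Topology

namespace Groth.Agent.Lib.H15.AS

variable {S : Scheme.{u}}

/-- Reducedness of the local ring at a point of an etale chart does not depend on the chart. -/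
theorem isReduced_stalk_iff_of_charts {X : AlgSp.Sp S} {U U' : Over S}
    (a : (AlgSp.yon S).obj U ⟶ X) (a' : (AlgSp.yon S).obj U' ⟶ X) (hae : AlgSp.RepWith @Etale a)
    (ha'e : AlgSp.RepWith @Etale a') (u : ↥U.left) (u' : ↥U'.left)
    (e : AlgSp.Points.ofPt a u = AlgSp.Points.ofPt a' u') :
    _root_.IsReduced ↥(U.left.presheaf.stalk u) ↔ _root_.IsReduced ↥(U'.left.presheaf.stalk u') := by
  have hrep : AlgSp.Representable a := hae.rep
  have sq := hrep.isPullback' a'
  obtain ⟨t, ht1, ht2⟩ := exists_point_of_ofPt_eq sq u u' e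
  have h2 : Etale (hrep.snd a').left := hae.property_snd a'
  have h1 : Etale (hrep.fst' a').left :=
    ((AlgSp.repWith_iff _ _).1 ha'e).2 a ((AlgSp.yon S).map (hrep.snd a')) (hrep.fst' a') sq.flip
  rw [← ht1, ← ht2, ← isReduced_stalk_iff_of_etale, ← isReduced_stalk_iff_of_etale]

/-- If `F` is reduced, every scheme etale over `F` is reduced. -/
theorem isReduced_of_isReducedSp {X : AlgSp.Sp S} (hX : AlgSp.IsReducedSp X) {U : Over S}
    (a : (AlgSp.yon S).obj U ⟶ X) (hae : AlgSp.RepWith @Etale a) : IsReduced U.left := by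
  obtain ⟨V, b, hbe, hbs, hV⟩ := hX
  apply +allowSynthFailures isReduced_of_isReduced_stalk
  intro u
  obtain ⟨v, hv⟩ := surjective_ofPt b hbs (AlgSp.Points.ofPt a u)
  exact (isReduced_stalk_iff_of_charts a b hae hbe u v hv.symm).2 inferInstance

end Groth.Agent.Lib.H15.AS
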