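import Mathlib
import Groth.Prelude.Def_AlgSp
import Groth.Prelude.Def_AlgSp2
import Groth.Prelude.Def_AlgSp3
import Groth.Prelude.Def_AlgSp4
import Groth.Prelude.Def_AlgSpDec
import Groth.Prelude.Def_FDesc
import Groth.Agent.Lib.helper15.EtaleRedStalk
import Groth.Agent.Lib.helper15.AlgSpRedStalk
import Groth.Agent.Lib.helper15.AlgSpFibreChart
import Groth.Agent.Lib.helper15.AlgSpSeven2
import Groth.Agent.Lib.helper15.AlgSpPoints2
import Groth.Agent.Lib.helper15.AlgSpPoints3

set_option autoImplicit false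
universe u
open CategoryTheory CategoryTheory.Limits AlgebraicGeometry Opposite Topology

namespace Groth.Agent.Lib.H15.AS

variable {k : Type u} [Field k]

/-- The base change to a field extension of an etale morphism of `k`-schemes. -/
theorem exists_bc_map {U' U : Over (Spec (CommRingCat.of k))} (h : U' ⟶ U)
    (K : Type u) [Field K] [Algebra k K] :
    ∃ gK : FBase.bc U'.hom K ⟶ FBase.bc U.hom K,
      IsPullback (FBase.bcπ U'.hom K) gK h.left (FBase.bcπ U.hom K) := by
  have w : h.left ≫ U.hom = U'.hom := Over.w h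
  let ι := Spec.map (CommRingCat.ofHom (algebraMap k K))
  let gK : pullback U'.hom ι ⟶ pullback U.hom ι :=
    pullback.lift (pullback.fst U'.hom ι ≫ h.left) (pullback.snd U'.hom ι)
      (by rw [Category.assoc, w, pullback.condition])
  refine ⟨gK, ?_⟩
  have outer : IsPullback (pullback.fst U'.hom ι) (gK ≫ pullback.snd U.hom ι) (h.left ≫ U.hom) ι := by
    rw [pullback.lift_snd, w]; exact IsPullback.of_hasPullback _ _
  exact IsPullback.of_bot outer (pullback.lift_fst _ _ _).symm (IsPullback.of_hasPullback U.hom ι)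

/-- Geometric reducedness at a point is invariant under etale morphisms of `k`-schemes. -/
theorem isGeomReducedAt_iff_of_etale {U' U : Over (Spec (CommRingCat.of k))} (h : U' ⟶ U)
    (hh : Etale h.left) (u' : ↥U'.left) :
    FBase.IsGeomReducedAt U'.hom u' ↔ FBase.IsGeomReducedAt U.hom (h.left u') := by
  constructor
  · intro H K _ _ x hx
    obtain ⟨gK, sq⟩ := exists_bc_map h K
    have : Etale gK := MorphismProperty.of_isPullback sq hh
    obtain ⟨x', hx'1, hx'2⟩ := exists_preimage_of_isPullback sq u' x hx.symm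
    have := H K x' hx'1
    rw [← hx'2]
    exact (isReduced_stalk_iff_of_etale gK x').1 this
  · intro H K _ _ x' hx'
    obtain ⟨gK, sq⟩ := exists_bc_map h K
    have : Etale gK := MorphismProperty.of_isPullback sq hh
    have h1 : (FBase.bcπ U.hom K).base (gK x') = h.left u' := by
      have := congrArg (fun φ => φ x') sq.w
      simp only [Scheme.Hom.comp_apply] at this
      rw [← this, ← hx']
    exact (isReduced_stalk_iff_of_etale gK x').2 (H K (gK x') h1)

variable {X : AlgSp.Sp (Spec (CommRingCat.of k))}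

/-- Geometric reducedness at a point of an etale chart does not depend on the chart. -/
theorem isGeomReducedAt_iff_of_charts {U U' : Over (Spec (CommRingCat.of k))}
    (a : (AlgSp.yon _).obj U ⟶ X) (a' : (AlgSp.yon _).obj U' ⟶ X) (hae : AlgSp.RepWith @Etale a)
    (ha'e : AlgSp.RepWith @Etale a') (u : ↥U.left) (u' : ↥U'.left)
    (e : AlgSp.Points.ofPt a u = AlgSp.Points.ofPt a' u') :
    FBase.IsGeomReducedAt U.hom u ↔ FBase.IsGeomReducedAt U'.hom u' := by
  have hrep : AlgSp.Representable a := hae.rep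
  have sq := hrep.isPullback' a'
  obtain ⟨t, ht1, ht2⟩ := exists_point_of_ofPt_eq sq u u' e
  have h2 : Etale (hrep.snd a').left := hae.property_snd a'
  have h1 : Etale (hrep.fst' a').left :=
    ((AlgSp.repWith_iff _ _).1 ha'e).2 a ((AlgSp.yon _).map (hrep.snd a')) (hrep.fst' a') sq.flip
  rw [← ht1, ← ht2, ← isGeomReducedAt_iff_of_etale _ h1, ← isGeomReducedAt_iff_of_etale _ h2]

/-- "Geometrically reduced at `x`" in the some-chart form. -/
def GeomRedAt (X : AlgSp.Sp (Spec (CommRingCat.of k))) (x : AlgSp.Points X) : Prop :=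
  ∃ (U : Over (Spec (CommRingCat.of k))) (a : (AlgSp.yon (Spec (CommRingCat.of k))).obj U ⟶ X) (u : ↥U.left),
    AlgSp.RepWith @Etale a ∧ AlgSp.Points.ofPt a u = x ∧ FBase.IsGeomReducedAt U.hom u

theorem geomRedAt_iff_forall (hX : AlgSp.IsAlgSpace X) (x : AlgSp.Points X) :
    GeomRedAt X x ↔
      ∀ (U : Over (Spec (CommRingCat.of k))) (a : (AlgSp.yon (Spec (CommRingCat.of k))).obj U ⟶ X) (u : ↥U.left),
        AlgSp.RepWith @Etale a → AlgSp.Points.ofPt a u = x → FBase.IsGeomReducedAt U.hom u := by
  constructor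
  · rintro ⟨U, a, u, ha, hu, hred⟩ V b v hb hv
    exact (isGeomReducedAt_iff_of_charts a b ha hb u v (hu.trans hv.symm)).1 hred
  · intro H
    obtain ⟨U, a, hae, has⟩ := hX.atlas
    obtain ⟨u, hu⟩ := surjective_ofPt a has x
    exact ⟨U, a, u, hae, hu, H U a u hae hu⟩

end Groth.Agent.Lib.H15.AS
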