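import Groth.Agent.Lib.helper15.AlgSpFieldBC
import Groth.Agent.Lib.helper15.AlgSpRedStalk
import Groth.Agent.Lib.helper15.AlgSpGeomRed
import Groth.Agent.Lib.helper15.AlgSpDecent
import Groth.Agent.Lib.helper15.AlgSpDecent5

set_option autoImplicit false
universe u
open CategoryTheory CategoryTheory.Limits AlgebraicGeometry Opposite Topology

namespace Groth.Agent.Lib.H15.AS

/-- Every scheme over `S` is a decent algebraic space. -/
theorem isDecent_yon_obj {S : Scheme.{u}} (T : Over S) : AlgSp.IsDecent ((AlgSp.yon S).obj T) := by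
  intro x
  obtain ⟨t, rfl⟩ := (AlgSp.Points.schemeHomeo T).surjective x
  refine ⟨AlgSp.FieldPt.ofPt (𝟙 _) t, rfl, mono_toHom_ofPt (𝟙 _) inferInstance t, ?_⟩
  rw [AlgSp.FieldPt.toHom_ofPt, Category.comp_id, AlgSp.repWith_yon_map_iff]
  exact quasiCompact_fromSpecResidueField T.left t

variable {k : Type u} [Field k]

/-- `X` is geometrically reduced over `k` iff all base changes `X_K` are reduced. -/
theorem geomRed_iff_forall_bcSp_reduced {X : AlgSp.Sp (Spec (CommRingCat.of k))}
    (hX : AlgSp.IsAlgSpace X) :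
    (∀ x : AlgSp.Points X, GeomRedAt X x) ↔
      ∀ (K : Type u) [Field K] [Algebra k K], AlgSp.IsReducedSp (bcSp X K) := by
  constructor
  · intro H K _ _
    obtain ⟨U, a, hae, has⟩ := hX.atlas
    refine ⟨bcOver U K, bcChart a K, repWith_bcChart @Etale a hae K,
      repWith_bcChart @Surjective a has K, ?_⟩
    change IsReduced (FBase.bc U.hom K)
    apply +allowSynthFailures isReduced_of_isReduced_stalk
    intro x'
    have h1 := (geomRedAt_iff_forall hX _).1
      (H (AlgSp.Points.ofPt a ((FBase.bcπ U.hom K).base x'))) U a _ hae rfl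
    exact h1 K x' rfl
  · intro H x
    obtain ⟨U, a, hae, has⟩ := hX.atlas
    obtain ⟨u, hu⟩ := surjective_ofPt a has x
    refine ⟨U, a, u, hae, hu, ?_⟩
    intro K _ _ x' hx'
    have hred : IsReduced (bcOver U K).left :=
      isReduced_of_isReducedSp (H K) (bcChart a K) (repWith_bcChart @Etale a hae K)
    have : IsReduced (FBase.bc U.hom K) := hred
    infer_instance

theorem isDecent_bcSp {X : AlgSp.Sp (Spec (CommRingCat.of k))} (hX : AlgSp.IsDecent X)
    (K : Type u) [Field K] [Algebra k K] : AlgSp.IsDecent (bcSp X K) :=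
  isDecent_of_isPullback (AlgSp.IsAlgSpace.yon_obj _) (isPullback_bcSp X K) hX (isDecent_yon_obj _)

end Groth.Agent.Lib.H15.AS
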