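import Mathlib
import Groth.Prelude.Def_AlgSp
import Groth.Prelude.Def_AlgSp2
import Groth.Prelude.Def_AlgSpGpd

/-!
# Algebra of `T`-valued arrows of a groupoid in sheaves
-/

set_option autoImplicit false
universe u
open CategoryTheory CategoryTheory.Limits AlgebraicGeometry Opposite

namespace Groth.Agent.Lib.H15.Gpd

variable {S : Scheme.{u}} {B : AlgSp.Sp S} (G : AlgSp.GroupoidSp B)

/-- Composition of `T`-valued arrows. -/
noncomputable def cmp {T : AlgSp.Sp S} (α β : T ⟶ G.R) (h : α ≫ G.s = β ≫ G.t) : T ⟶ G.R :=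
  pullback.lift α β h ≫ G.c

theorem cmp_congr {T : AlgSp.Sp S} {α α' β β' : T ⟶ G.R} (hα : α = α') (hβ : β = β')
    (h : α ≫ G.s = β ≫ G.t) :
    cmp G α β h = cmp G α' β' (by rw [← hα, ← hβ]; exact h) := by
  subst hα hβ; rfl

theorem cmp_s {T : AlgSp.Sp S} (α β : T ⟶ G.R) (h : α ≫ G.s = β ≫ G.t) :
    cmp G α β h ≫ G.s = β ≫ G.s := G.comp_s α β h

theorem cmp_t {T : AlgSp.Sp S} (α β : T ⟶ G.R) (h : α ≫ G.s = β ≫ G.t) :
    cmp G α β h ≫ G.t = α ≫ G.t := G.comp_t α β h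

theorem cmp_assoc {T : AlgSp.Sp S} (α β γ : T ⟶ G.R) (h₁ : α ≫ G.s = β ≫ G.t)
    (h₂ : β ≫ G.s = γ ≫ G.t) :
    cmp G (cmp G α β h₁) γ ((cmp_s G α β h₁).trans h₂) =
      cmp G α (cmp G β γ h₂) (h₁.trans (cmp_t G β γ h₂).symm) := G.assoc α β γ h₁ h₂

theorem precomp_cmp {T T' : AlgSp.Sp S} (m : T' ⟶ T) (α β : T ⟶ G.R) (h : α ≫ G.s = β ≫ G.t) :
    m ≫ cmp G α β h = cmp G (m ≫ α) (m ≫ β) (by rw [Category.assoc, Category.assoc, h]) := by
  unfold cmp
  have hm : m ≫ pullback.lift α β h =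
      pullback.lift (m ≫ α) (m ≫ β) (by rw [Category.assoc, Category.assoc, h]) := by
    apply pullback.hom_ext
    · rw [Category.assoc, pullback.lift_fst, pullback.lift_fst]
    · rw [Category.assoc, pullback.lift_snd, pullback.lift_snd]
  rw [← Category.assoc, hm]

theorem hc {T : AlgSp.Sp S} (m : T ⟶ pullback G.s G.t) :
    m ≫ G.c = cmp G (m ≫ pullback.fst _ _) (m ≫ pullback.snd _ _)
      (by rw [Category.assoc, Category.assoc, pullback.condition]) := by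
  unfold cmp
  have hm : m = pullback.lift (m ≫ pullback.fst G.s G.t) (m ≫ pullback.snd G.s G.t)
      (by rw [Category.assoc, Category.assoc, pullback.condition]) := by
    apply pullback.hom_ext
    · rw [pullback.lift_fst]
    · rw [pullback.lift_snd]
  conv_lhs => rw [hm]

theorem hc1 : G.c = cmp G (pullback.fst G.s G.t) (pullback.snd G.s G.t) pullback.condition := by
  have := hc G (𝟙 (pullback G.s G.t))
  rw [Category.id_comp] at this
  refine this.trans (cmp_congr G (Category.id_comp _) (Category.id_comp _) _)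

theorem cs : G.c ≫ G.s = pullback.snd G.s G.t ≫ G.s := by
  conv_lhs => rw [hc1 G]
  exact cmp_s G _ _ _

theorem ct : G.c ≫ G.t = pullback.fst G.s G.t ≫ G.t := by
  conv_lhs => rw [hc1 G]
  exact cmp_t G _ _ _

theorem K1 {T : AlgSp.Sp S} (γ β : T ⟶ G.R) (w : γ ≫ G.s = β ≫ G.s) :
    cmp G (cmp G γ (β ≫ G.i) (by rw [Category.assoc, G.i_t]; exact w)) β
      (by rw [cmp_s, Category.assoc, G.i_s]) = γ := by
  refine (cmp_assoc G γ (β ≫ G.i) β _ (by rw [Category.assoc, G.i_s])).trans ?_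
  have hmid : cmp G (β ≫ G.i) β (by rw [Category.assoc, G.i_s]) = γ ≫ G.s ≫ G.e :=
    (G.i_comp β).trans (by rw [← Category.assoc, ← w, Category.assoc])
  exact (cmp_congr G rfl hmid _).trans (G.comp_e γ)

theorem K2 {T : AlgSp.Sp S} (α β : T ⟶ G.R) (h : α ≫ G.s = β ≫ G.t) :
    cmp G (cmp G α β h) (β ≫ G.i) (by rw [cmp_s, Category.assoc, G.i_t]) = α := by
  refine (cmp_assoc G α β (β ≫ G.i) h (by rw [Category.assoc, G.i_t])).trans ?_
  have hmid : cmp G β (β ≫ G.i) (by rw [Category.assoc, G.i_t]) = α ≫ G.s ≫ G.e :=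
    (G.comp_i β).trans (by rw [← Category.assoc, ← h, Category.assoc])
  exact (cmp_congr G rfl hmid _).trans (G.comp_e α)

theorem K3 {T : AlgSp.Sp S} (α β : T ⟶ G.R) (h : α ≫ G.t = β ≫ G.t) :
    cmp G α (cmp G (α ≫ G.i) β (by rw [Category.assoc, G.i_s]; exact h))
      (by rw [cmp_t, Category.assoc, G.i_t]) = β := by
  refine (cmp_assoc G α (α ≫ G.i) β (by rw [Category.assoc, G.i_t])
    (by rw [Category.assoc, G.i_s]; exact h)).symm.trans ?_
  have hmid : cmp G α (α ≫ G.i) (by rw [Category.assoc, G.i_t]) = β ≫ G.t ≫ G.e :=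
    (G.comp_i α).trans (by rw [← Category.assoc, h, Category.assoc])
  exact (cmp_congr G hmid rfl _).trans (G.e_comp β)

theorem K4 {T : AlgSp.Sp S} (α β : T ⟶ G.R) (h : α ≫ G.s = β ≫ G.t) :
    cmp G (α ≫ G.i) (cmp G α β h) (by rw [cmp_t, Category.assoc, G.i_s]) = β := by
  refine (cmp_assoc G (α ≫ G.i) α β (by rw [Category.assoc, G.i_s]) h).symm.trans ?_
  have hmid : cmp G (α ≫ G.i) α (by rw [Category.assoc, G.i_s]) = β ≫ G.t ≫ G.e :=
    (G.i_comp α).trans (by rw [← Category.assoc, h, Category.assoc])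
  exact (cmp_congr G hmid rfl _).trans (G.e_comp β)


/-- Translation of an arrow `ρ` with source `s a` along `a⁻¹` then `a'`. -/
noncomputable def tr {T : AlgSp.Sp S} (a a' ρ : T ⟶ G.R) (haa : a ≫ G.t = a' ≫ G.t)
    (hρ : ρ ≫ G.s = a ≫ G.s) : T ⟶ G.R :=
  cmp G (cmp G ρ (a ≫ G.i) (by rw [Category.assoc, G.i_t]; exact hρ)) a'
    (by rw [cmp_s, Category.assoc, G.i_s]; exact haa)

theorem tr_s {T : AlgSp.Sp S} (a a' ρ : T ⟶ G.R) (haa : a ≫ G.t = a' ≫ G.t)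
    (hρ : ρ ≫ G.s = a ≫ G.s) : tr G a a' ρ haa hρ ≫ G.s = a' ≫ G.s := cmp_s G _ _ _

theorem tr_congr {T : AlgSp.Sp S} {a a' ρ b b' σ : T ⟶ G.R} (h1 : a = b) (h2 : a' = b') (h3 : ρ = σ)
    (haa : a ≫ G.t = a' ≫ G.t) (hρ : ρ ≫ G.s = a ≫ G.s) :
    tr G a a' ρ haa hρ = tr G b b' σ (by rw [← h1, ← h2]; exact haa) (by rw [← h1, ← h3]; exact hρ) := by
  subst h1 h2 h3; rfl

theorem precomp_tr {T T' : AlgSp.Sp S} (m : T' ⟶ T) (a a' ρ : T ⟶ G.R) (haa : a ≫ G.t = a' ≫ G.t)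
    (hρ : ρ ≫ G.s = a ≫ G.s) :
    m ≫ tr G a a' ρ haa hρ = tr G (m ≫ a) (m ≫ a') (m ≫ ρ)
      (by rw [Category.assoc, Category.assoc, haa]) (by rw [Category.assoc, Category.assoc, hρ]) := by
  unfold tr
  rw [precomp_cmp]
  refine cmp_congr G ?_ rfl _
  rw [precomp_cmp]
  exact cmp_congr G rfl (Category.assoc _ _ _).symm _

theorem tr_tr {T : AlgSp.Sp S} (a a' ρ : T ⟶ G.R) (haa : a ≫ G.t = a' ≫ G.t)
    (hρ : ρ ≫ G.s = a ≫ G.s) :
    tr G a' a (tr G a a' ρ haa hρ) haa.symm (tr_s G a a' ρ haa hρ) = ρ := by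
  unfold tr
  have h1 := K2 G (cmp G ρ (a ≫ G.i) (by rw [Category.assoc, G.i_t]; exact hρ)) a'
    (by rw [cmp_s, Category.assoc, G.i_s]; exact haa)
  refine (cmp_congr G h1 rfl _).trans ?_
  exact K1 G ρ a hρ

end Groth.Agent.Lib.H15.Gpd
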