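import Mathlib
import Groth.Prelude.Def_AlgSp
import Groth.Prelude.Def_AlgSp2
import Groth.Prelude.Def_AlgSpGpd
import Groth.Agent.Lib.helper15.AlgSpGpd

/-! # The shear isomorphism of a groupoid: `(α, β) ↦ (α ∘ β, β)`. -/

set_option autoImplicit false
universe u
open CategoryTheory CategoryTheory.Limits AlgebraicGeometry Opposite

namespace Groth.Agent.Lib.H15.Gpd

variable {S : Scheme.{u}} {B : AlgSp.Sp S} (G : AlgSp.GroupoidSp B)

/-- `(α, β) ↦ (α ∘ β, β)`. -/
noncomputable def shearHom : pullback G.s G.t ⟶ pullback G.s G.s :=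
  pullback.lift G.c (pullback.snd G.s G.t) (cs G)

theorem shearInv_h1 : pullback.fst G.s G.s ≫ G.s = (pullback.snd G.s G.s ≫ G.i) ≫ G.t := by
  rw [Category.assoc, G.i_t, pullback.condition]

/-- `(γ, β) ↦ (γ ∘ β⁻¹, β)`. -/
noncomputable def shearInv : pullback G.s G.s ⟶ pullback G.s G.t :=
  pullback.lift (cmp G (pullback.fst G.s G.s) (pullback.snd G.s G.s ≫ G.i) (shearInv_h1 G))
    (pullback.snd G.s G.s) (by rw [cmp_s, Category.assoc, G.i_s])

theorem shearHom_fst : shearHom G ≫ pullback.fst G.s G.s = G.c := pullback.lift_fst _ _ _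

theorem shearHom_snd : shearHom G ≫ pullback.snd G.s G.s = pullback.snd G.s G.t :=
  pullback.lift_snd _ _ _

theorem shearHom_inv : shearHom G ≫ shearInv G = 𝟙 _ := by
  apply pullback.hom_ext
  · unfold shearInv
    rw [Category.assoc, pullback.lift_fst, Category.id_comp, precomp_cmp]
    have e1 : shearHom G ≫ pullback.fst G.s G.s =
        cmp G (pullback.fst G.s G.t) (pullback.snd G.s G.t) pullback.condition :=
      (shearHom_fst G).trans (hc1 G)
    have e2 : shearHom G ≫ pullback.snd G.s G.s ≫ G.i = pullback.snd G.s G.t ≫ G.i := by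
      rw [← Category.assoc, shearHom_snd]
    refine (cmp_congr G e1 e2 _).trans ?_
    exact K2 G _ _ _
  · unfold shearInv
    rw [Category.assoc, pullback.lift_snd, Category.id_comp, shearHom_snd]

theorem shearInv_hom : shearInv G ≫ shearHom G = 𝟙 _ := by
  apply pullback.hom_ext
  · unfold shearHom
    rw [Category.assoc, pullback.lift_fst, Category.id_comp, hc]
    have e1 : shearInv G ≫ pullback.fst G.s G.t =
        cmp G (pullback.fst G.s G.s) (pullback.snd G.s G.s ≫ G.i) (shearInv_h1 G) :=
      pullback.lift_fst _ _ _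
    have e2 : shearInv G ≫ pullback.snd G.s G.t = pullback.snd G.s G.s := pullback.lift_snd _ _ _
    refine (cmp_congr G e1 e2 _).trans ?_
    exact K1 G _ _ pullback.condition
  · unfold shearHom
    rw [Category.assoc, pullback.lift_snd, Category.id_comp]
    exact pullback.lift_snd _ _ _

/-- The shear isomorphism. -/
noncomputable def shear : pullback G.s G.t ≅ pullback G.s G.s where
  hom := shearHom G
  inv := shearInv G
  hom_inv_id := shearHom_inv G
  inv_hom_id := shearInv_hom G

theorem c_eq_shear : G.c = (shear G).hom ≫ pullback.fst G.s G.s := (shearHom_fst G).symm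

end Groth.Agent.Lib.H15.Gpd
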