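import Mathlib
import Groth.Prelude.Def_AlgSp
import Groth.Prelude.Def_AlgSp2
import Groth.Prelude.Def_AlgSp3
import Groth.Prelude.Def_AlgSp4
import Groth.Prelude.Def_AlgSpGpd
import Groth.Prelude.Def_AlgSpCov
import Groth.Agent.Lib.helper15.AlgSpGpd
import Groth.Agent.Lib.helper15.AlgSpGpd2
import Groth.Agent.Lib.helper15.AlgSpFibre
import Groth.Agent.Lib.helper15.AlgSpOpenSub3
import Groth.Agent.Lib.helper15.AlgSpPoints
import Groth.Agent.S10228

/-! # Groupoids in sheaves: the translation square used for invariance of largest opens. -/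

set_option autoImplicit false
universe u
open CategoryTheory CategoryTheory.Limits AlgebraicGeometry Opposite

namespace Groth.Agent.Lib.H15.Gpd3

open Groth.Agent.Lib.H15.Gpd

variable {S : Scheme.{u}} {B : AlgSp.Sp S} (G : AlgSp.GroupoidSp B) {W W' : AlgSp.Sp S}
  (w : W ⟶ G.U) (w' : W' ⟶ G.U)

theorem hρ : (pullback.fst (pullback.snd G.s w) (pullback.snd G.s w) ≫ pullback.fst G.s w) ≫ G.s =
    ((pullback.snd (pullback.snd G.s w) (pullback.snd G.s w) ≫ pullback.fst G.s w) ≫ G.i) ≫ G.t := by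
  rw [Category.assoc (pullback.snd (pullback.snd G.s w) (pullback.snd G.s w) ≫ pullback.fst G.s w),
    G.i_t, Category.assoc, Category.assoc, pullback.condition, ← Category.assoc, pullback.condition,
    Category.assoc]

/-- `(r₁, r₂) ↦ r₁ ∘ r₂⁻¹`. -/
noncomputable def ρ : pullback (pullback.snd G.s w) (pullback.snd G.s w) ⟶ G.R :=
  cmp G _ _ (hρ G w)

theorem ρ_s : ρ G w ≫ G.s =
    (pullback.snd (pullback.snd G.s w) (pullback.snd G.s w) ≫ pullback.fst G.s w) ≫ G.t := by
  unfold ρ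
  rw [cmp_s, Category.assoc, G.i_s]

variable (tW : pullback G.s w ⟶ W') (htW : tW ≫ w' = pullback.fst G.s w ≫ G.t)

/-- The map `s⁻¹W ×_W s⁻¹W ⟶ s⁻¹W'`, `(r₁, r₂) ↦ r₁ ∘ r₂⁻¹`. -/
noncomputable def q₂ : pullback (pullback.snd G.s w) (pullback.snd G.s w) ⟶ pullback G.s w' :=
  pullback.lift (ρ G w) (pullback.snd (pullback.snd G.s w) (pullback.snd G.s w) ≫ tW) (by
    rw [ρ_s, Category.assoc, Category.assoc, htW])

include htW in
theorem isPullback_q₂ :
    IsPullback (q₂ G w w' tW htW) (pullback.snd (pullback.snd G.s w) (pullback.snd G.s w))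
      (pullback.snd G.s w') tW := by
  have hq1 : q₂ G w w' tW htW ≫ pullback.fst G.s w' = ρ G w := pullback.lift_fst _ _ _
  have hq2 : q₂ G w w' tW htW ≫ pullback.snd G.s w' =
      pullback.snd (pullback.snd G.s w) (pullback.snd G.s w) ≫ tW := pullback.lift_snd _ _ _
  refine ⟨⟨hq2⟩, ⟨PullbackCone.IsLimit.mk _ ?lift ?fac1 ?fac2 ?uniq⟩⟩
  case lift =>
    intro c
    have h' : (c.fst ≫ pullback.fst G.s w') ≫ G.s = (c.snd ≫ pullback.fst G.s w) ≫ G.t := by
      rw [Category.assoc, pullback.condition, ← Category.assoc, c.condition, Category.assoc,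
        Category.assoc, htW]
    have h'' : cmp G _ _ h' ≫ G.s = (c.snd ≫ pullback.snd G.s w) ≫ w := by
      rw [cmp_s, Category.assoc, Category.assoc, pullback.condition]
    exact pullback.lift (pullback.lift (cmp G _ _ h') (c.snd ≫ pullback.snd G.s w) h'') c.snd
      (pullback.lift_snd _ _ _)
  case fac2 =>
    intro c
    exact pullback.lift_snd _ _ _
  case fac1 =>
    intro c
    have h' : (c.fst ≫ pullback.fst G.s w') ≫ G.s = (c.snd ≫ pullback.fst G.s w) ≫ G.t := by
      rw [Category.assoc, pullback.condition, ← Category.assoc, c.condition, Category.assoc,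
        Category.assoc, htW]
    apply pullback.hom_ext
    · rw [Category.assoc, hq1]
      unfold ρ
      rw [precomp_cmp]
      refine (cmp_congr G ?_ ?_ _).trans (K2 G (c.fst ≫ pullback.fst G.s w')
        (c.snd ≫ pullback.fst G.s w) h')
      · rw [← Category.assoc, pullback.lift_fst, pullback.lift_fst]
      · rw [← Category.assoc, ← Category.assoc, pullback.lift_snd]
    · rw [Category.assoc, hq2, ← Category.assoc, pullback.lift_snd, c.condition]
  case uniq =>
    intro c m hm1 hm2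
    have h' : (c.fst ≫ pullback.fst G.s w') ≫ G.s = (c.snd ≫ pullback.fst G.s w) ≫ G.t := by
      rw [Category.assoc, pullback.condition, ← Category.assoc, c.condition, Category.assoc,
        Category.assoc, htW]
    apply pullback.hom_ext
    · rw [pullback.lift_fst]
      apply pullback.hom_ext
      · rw [pullback.lift_fst]
        have hs : ((m ≫ pullback.fst (pullback.snd G.s w) (pullback.snd G.s w)) ≫
            pullback.fst G.s w) ≫ G.s = (c.snd ≫ pullback.fst G.s w) ≫ G.s := by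
          rw [Category.assoc, pullback.condition, ← Category.assoc, Category.assoc m,
            pullback.condition, ← Category.assoc, hm2, Category.assoc, ← pullback.condition,
            Category.assoc]
        have e1 : c.fst ≫ pullback.fst G.s w' =
            cmp G ((m ≫ pullback.fst (pullback.snd G.s w) (pullback.snd G.s w)) ≫
              pullback.fst G.s w) ((c.snd ≫ pullback.fst G.s w) ≫ G.i)
              (by rw [Category.assoc _ G.i, G.i_t]; exact hs) := by
          rw [← hm1, Category.assoc, hq1]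
          unfold ρ
          rw [precomp_cmp]
          refine cmp_congr G ?_ ?_ _
          · rw [Category.assoc]
          · rw [← Category.assoc, ← Category.assoc, hm2]
        refine ((K1 G _ (c.snd ≫ pullback.fst G.s w) hs).symm.trans ?_)
        exact cmp_congr G e1.symm rfl _
      · rw [pullback.lift_snd, Category.assoc, pullback.condition, ← Category.assoc, hm2]
    · rw [pullback.lift_snd, hm2]

section Main

open Groth.Agent.Lib.H15.AS

variable {S : Scheme.{u}} {B : AlgSp.Sp S}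

/-- Generic form: the largest open over which `s⁻¹(W) → W` has `P` is invariant. -/
theorem isInvariant_of_largest_source {Q : MorphismProperty (AlgSp.Sp S)}
    (hQbc : ∀ {X Y Y' X' : AlgSp.Sp S}, AlgSp.IsAlgSpace X → AlgSp.IsAlgSpace Y → AlgSp.IsAlgSpace Y' →
      ∀ {f : X ⟶ Y} {g : Y' ⟶ Y} {fst : X' ⟶ X} {f' : X' ⟶ Y'}, IsPullback fst f' f g → Q f → Q f')
    (hQopen : ∀ {X' X Y : AlgSp.Sp S}, AlgSp.IsAlgSpace X' → AlgSp.IsAlgSpace X → AlgSp.IsAlgSpace Y →
      ∀ {j : X' ⟶ X} {f : X ⟶ Y}, AlgSp.RepWith @IsOpenImmersion j → Q f → Q (j ≫ f))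
    (hQuo : ∀ {X Y : AlgSp.Sp S}, AlgSp.IsAlgSpace X → AlgSp.IsAlgSpace Y → ∀ {f : X ⟶ Y}, Q f →
      IsOpenMap (AlgSp.Points.map f))
    (G : AlgSp.GroupoidSp B) (hU : AlgSp.IsAlgSpace G.U) (hR : AlgSp.IsAlgSpace G.R)
    (P : MorphismProperty (AlgSp.Sp S))
    (hP : AlgSp.IsLocalOnBase (fun _ _ Y g => AlgSp.IsCover Q Y g) P)
    (hs : AlgSp.IsCover Q (fun _ : PUnit.{u + 1} => G.R) (fun _ => G.s))
    (ht : AlgSp.IsCover Q (fun _ : PUnit.{u + 1} => G.R) (fun _ => G.t))
    {W : AlgSp.Sp S} (hWsp : AlgSp.IsAlgSpace W) (w : W ⟶ G.U) [Mono w]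
    (hw : AlgSp.RepWith @IsOpenImmersion w)
    (hmax : ∀ (W' : AlgSp.Sp S) (w' : W' ⟶ G.U), AlgSp.IsAlgSpace W' →
      AlgSp.RepWith @IsOpenImmersion w' →
      (P (pullback.snd G.s w') ↔ ∃ k : W' ⟶ W, k ≫ w = w')) :
    G.IsInvariant w := by
  have hRW : AlgSp.IsAlgSpace (pullback G.s w) :=
    isAlgSpace_of_isPullback hU.diag hR hWsp (IsPullback.of_hasPullback G.s w)
  have hjW : AlgSp.RepWith @IsOpenImmersion (pullback.fst G.s w) :=
    MorphismProperty.of_isPullback (IsPullback.of_hasPullback G.s w).flip hw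
  have hPsW : P (pullback.snd G.s w) := (hmax W w hWsp hw).2 ⟨𝟙 W, Category.id_comp w⟩
  have hQs : Q G.s := hs.1 PUnit.unit
  have hQt : Q G.t := ht.1 PUnit.unit
  have hQsW : Q (pullback.snd G.s w) := hQbc hR hU hWsp (IsPullback.of_hasPullback G.s w) hQs
  have hQjt : Q (pullback.fst G.s w ≫ G.t) := hQopen hRW hR hU hjW hQt
  obtain ⟨Ω, hΩdef⟩ : ∃ Ω, Ω = Set.range (AlgSp.Points.map (pullback.fst G.s w ≫ G.t)) := ⟨_, rfl⟩
  have hΩ : IsOpen Ω := by rw [hΩdef]; exact (hQuo hRW hU hQjt).isOpen_range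
  have hW' := isAlgSpace_openSub hU hΩ
  have hw' := repWith_isOpenImmersion_openSubι G.U hΩ
  obtain ⟨tW, htW⟩ := Groth.Agent.S10228.exists_factor_sub Ω (pullback.fst G.s w ≫ G.t)
    (by rw [hΩdef])
  have sqid : IsPullback (𝟙 (pullback G.s w)) tW (tW ≫ openSubι G.U Ω) (openSubι G.U Ω) :=
    IsPullback.of_horiz_isIso_mono ⟨by rw [Category.id_comp]⟩
  have hQtW : Q tW := hQbc hRW hU hW' sqid (by rw [htW]; exact hQjt)
  -- the two coverings
  have covS : AlgSp.IsCover Q (fun _ : PUnit.{u + 1} => pullback G.s w)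
      (fun _ => pullback.snd G.s w) := by
    refine ⟨fun _ => hQsW, fun p => ⟨PUnit.unit, ?_⟩⟩
    obtain ⟨_, r, hr⟩ := hs.2 (AlgSp.Points.map w p)
    obtain ⟨z, -, hz⟩ := points_exists_of_isPullback (IsPullback.of_hasPullback G.s w) r p hr
    exact ⟨z, hz⟩
  have covT : AlgSp.IsCover Q (fun _ : PUnit.{u + 1} => pullback G.s w) (fun _ => tW) := by
    refine ⟨fun _ => hQtW, fun p => ⟨PUnit.unit, ?_⟩⟩
    have h2 : AlgSp.Points.map (openSubι G.U Ω) p ∈
        Set.range (AlgSp.Points.map (openSubι G.U Ω)) := ⟨p, rfl⟩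
    rw [range_map_openSubι] at h2
    have h3 : AlgSp.Points.map (openSubι G.U Ω) p ∈
        Set.range (AlgSp.Points.map (pullback.fst G.s w ≫ G.t)) := hΩdef ▸ h2
    obtain ⟨r, hr⟩ := h3
    refine ⟨r, ?_⟩
    apply injective_points_map_of_mono (openSubι G.U Ω)
    rw [← hr, ← htW, AlgSp.Points.map_comp]
  -- step A
  have hX₁ : AlgSp.IsAlgSpace (pullback (pullback.snd G.s w) (pullback.snd G.s w)) :=
    isAlgSpace_of_isPullback hWsp.diag hRW hRW (IsPullback.of_hasPullback _ _)
  have hA : P (pullback.snd (pullback.snd G.s w) (pullback.snd G.s w)) :=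
    (hP (fun _ : PUnit.{u + 1} => pullback G.s w) (fun _ => pullback.snd G.s w) hWsp (fun _ => hRW)
      covS (pullback.snd G.s w) hRW (fun _ => pullback (pullback.snd G.s w) (pullback.snd G.s w))
      (fun _ => pullback.snd _ _) (fun _ => pullback.fst _ _) (fun _ => hX₁)
      (fun _ => IsPullback.of_hasPullback _ _)).1 hPsW PUnit.unit
  -- step B
  have hRW' : AlgSp.IsAlgSpace (pullback G.s (openSubι G.U Ω)) :=
    isAlgSpace_of_isPullback hU.diag hR hW' (IsPullback.of_hasPullback _ _)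
  have hB : P (pullback.snd G.s (openSubι G.U Ω)) :=
    (hP (fun _ : PUnit.{u + 1} => pullback G.s w) (fun _ => tW) hW' (fun _ => hRW)
      covT (pullback.snd G.s _) hRW' (fun _ => pullback (pullback.snd G.s w) (pullback.snd G.s w))
      (fun _ => pullback.snd _ _) (fun _ => q₂ G w _ tW htW) (fun _ => hX₁)
      (fun _ => isPullback_q₂ G w _ tW htW)).2 (fun _ => hA)
  obtain ⟨k, hk⟩ := (hmax _ _ hW' hw').1 hB
  -- invariance
  have key : ∀ ⦃T : Over S⦄ (r : (AlgSp.yon S).obj T ⟶ G.R),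
      (∃ a : (AlgSp.yon S).obj T ⟶ W, a ≫ w = r ≫ G.s) →
      ∃ a : (AlgSp.yon S).obj T ⟶ W, a ≫ w = r ≫ G.t := by
    rintro T r ⟨a, ha⟩
    refine ⟨pullback.lift r a ha.symm ≫ tW ≫ k, ?_⟩
    rw [Category.assoc, Category.assoc, hk, htW, pullback.lift_fst_assoc]
  intro T r
  constructor
  · rintro ⟨a, ha⟩
    obtain ⟨a', ha'⟩ := key (r ≫ G.i) ⟨a, by rw [Category.assoc, G.i_s]; exact ha⟩
    exact ⟨a', by rw [ha', Category.assoc, G.i_t]⟩
  · exact fun h => key r h

end Main

end Groth.Agent.Lib.H15.Gpd3
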