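import Mathlib
import Groth.Prelude.Def_AlgSp
import Groth.Prelude.Def_AlgSp2
import Groth.Prelude.Def_AlgSp3
import Groth.Prelude.Def_AlgSp4
import Groth.Agent.Lib.helper15.AlgSpOpenSub3

set_option autoImplicit false
universe u
open CategoryTheory CategoryTheory.Limits AlgebraicGeometry Opposite Topology

namespace Groth.Agent.Lib.H15.AS

variable {S : Scheme.{u}}

/-- A representable immersion into an algebraic space is an embedding on points with locally closed image. -/
theorem isEmbedding_points_map_of_immersion {Z X : AlgSp.Sp S} (hX : AlgSp.IsAlgSpace X) (i : Z ⟶ X)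
    (hi : AlgSp.RepWith @IsImmersion i) :
    IsEmbedding (AlgSp.Points.map i) ∧ IsLocallyClosed (Set.range (AlgSp.Points.map i)) := by
  have hmono : Mono i := mono_of_repWith (P := @IsImmersion)
    (fun _ _ g (hg : IsImmersion g) => (inferInstance : Mono g)) i hi
  obtain ⟨T, p, hpe, hps⟩ := hX.atlas
  have hrep : AlgSp.Representable i := hi.rep
  have sq := hrep.isPullback p
  have hs : IsImmersion (hrep.snd p).left := hi.property_snd p
  have hfe : AlgSp.RepWith @Etale (hrep.fst p) := MorphismProperty.of_isPullback sq.flip hpe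
  have hfs : AlgSp.RepWith @Surjective (hrep.fst p) := MorphismProperty.of_isPullback sq.flip hps
  have hq := isQuotientMap_ofPt p (repWith_universallyOpen_of_etale hpe) hps
  have hqo := isOpenMap_ofPt p (repWith_universallyOpen_of_etale hpe)
  have hq's := surjective_ofPt (hrep.fst p) hfs
  have hcomm : ∀ w, AlgSp.Points.map i (AlgSp.Points.ofPt (hrep.fst p) w) =
      AlgSp.Points.ofPt p ((hrep.snd p).left w) := by
    intro w
    rw [AlgSp.Points.map_ofPt, sq.w, ofPt_yon_map_comp]
  have hcart : ∀ (z : AlgSp.Points Z) (t : ↥T.left), AlgSp.Points.map i z = AlgSp.Points.ofPt p t →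
      ∃ w, AlgSp.Points.ofPt (hrep.fst p) w = z ∧ (hrep.snd p).left w = t := by
    intro z t e
    have ht : t ∈ AlgSp.Points.ofPt p ⁻¹' (AlgSp.Points.map i '' {z}) := ⟨z, rfl, e⟩
    rw [preimage_ofPt_image_map sq] at ht
    obtain ⟨w, hw, hwt⟩ := ht
    exact ⟨w, hw, hwt⟩
  constructor
  · refine ⟨⟨le_antisymm (continuous_iff_le_induced.1 (AlgSp.Points.continuous_map i)) ?_⟩,
      injective_points_map_of_mono i⟩
    intro V hV
    have hVW : IsOpen (AlgSp.Points.ofPt (hrep.fst p) ⁻¹' V) :=
      (AlgSp.Points.continuous_ofPt _).isOpen_preimage V hV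
    obtain ⟨O, hO, hOV⟩ := (hs.isEmbedding.isInducing.isOpen_iff).1 hVW
    rw [isOpen_induced_iff]
    refine ⟨AlgSp.Points.ofPt p '' O, hqo O hO, ?_⟩
    ext z
    constructor
    · rintro ⟨t, htO, ht⟩
      obtain ⟨w, rfl, rfl⟩ := hcart z t ht.symm
      have : w ∈ (hrep.snd p).left ⁻¹' O := htO
      rw [hOV] at this
      exact this
    · intro hz
      obtain ⟨w, rfl⟩ := hq's z
      have hw : w ∈ (hrep.snd p).left ⁻¹' O := by rw [hOV]; exact hz
      exact ⟨(hrep.snd p).left w, hw, (hcomm w).symm⟩
  · rw [isLocallyClosed_iff_isOpen_coborder, ← hq.isOpen_preimage,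
      ← coborder_preimage hqo hq.continuous, ← isLocallyClosed_iff_isOpen_coborder]
    have : AlgSp.Points.ofPt p ⁻¹' Set.range (AlgSp.Points.map i) = Set.range (hrep.snd p).left := by
      rw [← Set.image_univ, preimage_ofPt_image_map sq, Set.preimage_univ, Set.image_univ]
    rw [this]
    exact (hrep.snd p).left.isLocallyClosed_range

end Groth.Agent.Lib.H15.AS
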