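import Mathlib
import Groth.Prelude.Def_AlgSp
import Groth.Prelude.Def_AlgSp2
import Groth.Prelude.Def_AlgSp3
import Groth.Prelude.Def_AlgSp4
import Groth.Prelude.Def_AlgSpInf
import Groth.Agent.Lib.helper15.AlgSpProper
import Groth.Agent.Lib.helper15.AlgSpOpenSub3
import Groth.Agent.Lib.helper15.AlgSpFibre
import Groth.Agent.Lib.helper15.AlgSpRepIff
import Groth.Agent.Lib.helper15.AlgSpBasic
import Groth.Agent.Lib.helper15.AlgSpQC
import Groth.Agent.Lib.helper15.AlgSpOpenSub
import Groth.Agent.Lib.helper15.AlgSpOpenSub2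
import Groth.Agent.Lib.helper15.AlgSpPoints2
import Groth.Agent.Lib.helper15.AlgSpSep

/-!
# Thickenings of algebraic spaces: topological invariance

A thickening `i : X ⟶ X'` of algebraic spaces is a universal homeomorphism on points, and for a morphism of thickenings
`(f, f') : (X ⊂ X') ⟶ (Y ⊂ Y')` base changes of `f` and `f'` are related by thickenings ("cube lemmas").
-/

set_option autoImplicit false
universe u
open CategoryTheory CategoryTheory.Limits AlgebraicGeometry Opposite Topology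

namespace Groth.Agent.Lib.H15.AS

variable {S : Scheme.{u}}

/-- A pullback square stays a pullback square after composing both legs with a monomorphism. -/
theorem isPullback_comp_mono {C : Type*} [Category C] {P X Z Y Y' : C} {fst : P ⟶ X} {snd : P ⟶ Z}
    {f : X ⟶ Y} {g : Z ⟶ Y} (sq : IsPullback fst snd f g) (j : Y ⟶ Y') [Mono j] :
    IsPullback fst snd (f ≫ j) (g ≫ j) := by
  refine ⟨⟨by rw [reassoc_of% sq.w]⟩, ⟨PullbackCone.IsLimit.mk _
    (fun s => sq.lift s.fst s.snd (by
      rw [← cancel_mono j]; simpa only [Category.assoc] using s.condition))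
    (fun s => sq.lift_fst _ _ _) (fun s => sq.lift_snd _ _ _)
    (fun s m h1 h2 => sq.hom_ext (by simpa using h1) (by simpa using h2))⟩⟩

/-- Thickenings are stable under base change. -/
theorem isThickMor_of_isPullback {X Y X' Y' : AlgSp.Sp S} {f : X ⟶ Y} {k : Y' ⟶ Y} {k' : X' ⟶ X}
    {f' : X' ⟶ Y'} (sq : IsPullback k' f' f k) (hf : AlgSp.IsThickMor f) : AlgSp.IsThickMor f' :=
  MorphismProperty.of_isPullback (P := AlgSp.RepWith AlgSp.thick) sq hf

/-- A thickening is a monomorphism. -/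
theorem mono_of_isThickMor {X X' : AlgSp.Sp S} {i : X ⟶ X'} (hi : AlgSp.IsThickMor i) : Mono i :=
  mono_of_repWith (P := AlgSp.thick) (fun _ _ g hg => by
    have : IsClosedImmersion g := hg.1
    exact (inferInstance : Mono g)) i hi

theorem isThickMor_closedImm {X X' : AlgSp.Sp S} {i : X ⟶ X'} (hi : AlgSp.IsThickMor i) :
    AlgSp.RepWith @IsClosedImmersion i :=
  repWith_mono (fun _ _ _ hg => hg.1) hi

theorem isThickMor_surj {X X' : AlgSp.Sp S} {i : X ⟶ X'} (hi : AlgSp.IsThickMor i) :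
    AlgSp.IsSurjectiveMor i :=
  isSurjectiveMor_of_repWith (repWith_mono (fun _ _ _ hg => hg.2) hi)

/-- A thickening of algebraic spaces is a homeomorphism on points. -/
theorem isHomeomorph_of_isThickMor {X X' : AlgSp.Sp S} (hX' : AlgSp.IsAlgSpace X') {i : X ⟶ X'}
    (hi : AlgSp.IsThickMor i) : IsHomeomorph (AlgSp.Points.map i) := by
  have := mono_of_isThickMor hi
  rw [isHomeomorph_iff_continuous_isClosedMap_bijective]
  refine ⟨AlgSp.Points.continuous_map i, ?_, injective_points_map_of_mono i, isThickMor_surj hi⟩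
  have huc : AlgSp.IsUnivClosedMor i :=
    (repWith_universallyClosed_iff hi.rep).1
      (repWith_mono (fun _ _ g (hg : AlgSp.thick g) => by
        have : IsClosedImmersion g := hg.1
        exact (inferInstance : UniversallyClosed g)) hi)
  exact huc hX' (𝟙 X') (𝟙 X) i (IsPullback.of_horiz_isIso ⟨by simp⟩)

/-- The source of a thickening of a quasi-compact algebraic space is quasi-compact. -/
theorem isQuasiCompactSp_of_isThickMor {X X' : AlgSp.Sp S} (hX : AlgSp.IsAlgSpace X)
    (hX' : AlgSp.IsAlgSpace X') {i : X ⟶ X'} (hi : AlgSp.IsThickMor i)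
    (hq : AlgSp.IsQuasiCompactSp X') : AlgSp.IsQuasiCompactSp X := by
  have hqc : AlgSp.IsQuasiCompactMor i :=
    (repWith_quasiCompact_iff hX hX' hi.rep).1
      (repWith_mono (fun _ _ g (hg : AlgSp.thick g) => by
        have : IsClosedImmersion g := hg.1
        exact (inferInstance : QuasiCompact g)) hi)
  exact hqc hX' hq (𝟙 X') (𝟙 X) i (IsPullback.of_horiz_isIso ⟨by simp⟩)

/-- Cube lemma A: for a morphism of thickenings `(f, f')`, a base change of `f` along `g : Z ⟶ Y` is a thickening of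
the base change of `f'` along `g ≫ j`. -/
theorem thick_cubeA {X X' Y Y' Z P : AlgSp.Sp S} {i : X ⟶ X'} {j : Y ⟶ Y'} {f : X ⟶ Y} {f' : X' ⟶ Y'}
    [Mono j] (w : i ≫ f' = f ≫ j) {g : Z ⟶ Y} {fst : P ⟶ X} {snd : P ⟶ Z}
    (sq : IsPullback fst snd f g) :
    ∃ m : P ⟶ pullback f' (g ≫ j), m ≫ pullback.snd f' (g ≫ j) = snd ∧
      IsPullback m fst (pullback.fst f' (g ≫ j)) i := by
  have sq1 : IsPullback fst snd (i ≫ f') (g ≫ j) := by
    rw [w]; exact isPullback_comp_mono sq j
  have hw : (fst ≫ i) ≫ f' = snd ≫ g ≫ j := by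
    rw [Category.assoc]; exact sq1.w
  refine ⟨pullback.lift (fst ≫ i) snd hw, pullback.lift_snd _ _ _, ?_⟩
  have sqR : IsPullback (pullback.snd f' (g ≫ j)) (pullback.fst f' (g ≫ j)) (g ≫ j) f' :=
    (IsPullback.of_hasPullback f' (g ≫ j)).flip
  refine IsPullback.of_right ?_ (pullback.lift_fst _ _ _) sqR
  rw [pullback.lift_snd]
  exact sq1.flip

/-- Cube lemma B: for a morphism of thickenings `(f, f')`, a base change of `f'` along `g : Z ⟶ Y'` is thickened by
the base change of `f` along `Y ×_{Y'} Z ⟶ Y`. -/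
theorem thick_cubeB {X X' Y Y' Z P' : AlgSp.Sp S} {i : X ⟶ X'} {j : Y ⟶ Y'} {f : X ⟶ Y} {f' : X' ⟶ Y'}
    (w : i ≫ f' = f ≫ j) {g : Z ⟶ Y'} {fst' : P' ⟶ X'} {snd' : P' ⟶ Z}
    (sq' : IsPullback fst' snd' f' g) :
    ∃ m : pullback f (pullback.fst j g) ⟶ P',
      m ≫ snd' = pullback.snd f (pullback.fst j g) ≫ pullback.snd j g ∧
      IsPullback m (pullback.fst f (pullback.fst j g)) fst' i := by
  have sqT := IsPullback.of_hasPullback j g
  have sqP := IsPullback.of_hasPullback f (pullback.fst j g)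
  have sq1 : IsPullback (pullback.fst f (pullback.fst j g))
      (pullback.snd f (pullback.fst j g) ≫ pullback.snd j g) (i ≫ f') g := by
    rw [w]; exact sqP.paste_vert sqT
  have hw : (pullback.fst f (pullback.fst j g) ≫ i) ≫ f' =
      (pullback.snd f (pullback.fst j g) ≫ pullback.snd j g) ≫ g := by
    rw [Category.assoc]; exact sq1.w
  refine ⟨sq'.lift _ _ hw, sq'.lift_snd _ _ _, ?_⟩
  refine IsPullback.of_right ?_ (sq'.lift_fst _ _ _) sq'.flip
  rw [sq'.lift_snd]
  exact sq1.flip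

/-- Transfer of a universal property along a morphism of thickenings. -/
theorem univSp_iff_of_thick (Q : MorphismProperty (AlgSp.Sp S))
    (hQ1 : ∀ ⦃A B C : AlgSp.Sp S⦄ (x : A ⟶ B) (y : B ⟶ C), AlgSp.IsAlgSpace B → AlgSp.IsThickMor x →
      Q y → Q (x ≫ y))
    (hQ2 : ∀ ⦃A B C : AlgSp.Sp S⦄ (x : A ⟶ B) (y : B ⟶ C), AlgSp.IsAlgSpace B → AlgSp.IsThickMor x →
      Q (x ≫ y) → Q y)
    (hQ3 : ∀ ⦃A B C : AlgSp.Sp S⦄ (x : A ⟶ B) (y : B ⟶ C), AlgSp.IsAlgSpace C → AlgSp.IsThickMor y →
      Q x → Q (x ≫ y))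
    {X X' Y Y' : AlgSp.Sp S} (hX' : AlgSp.IsAlgSpace X') (hY : AlgSp.IsAlgSpace Y)
    (hY' : AlgSp.IsAlgSpace Y')
    {i : X ⟶ X'} {j : Y ⟶ Y'} {f : X ⟶ Y} {f' : X' ⟶ Y'}
    (hi : AlgSp.IsThickMor i) (hj : AlgSp.IsThickMor j) (w : i ≫ f' = f ≫ j) :
    AlgSp.UnivSp Q f ↔ AlgSp.UnivSp Q f' := by
  have := mono_of_isThickMor hj
  constructor
  · intro h Z P' hZ g fst' snd' sq'
    obtain ⟨m, hm, sqm⟩ := thick_cubeB w sq'
    have hP' : AlgSp.IsAlgSpace P' := isAlgSpace_of_isPullback hY'.diag hX' hZ sq'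
    have hm' : AlgSp.IsThickMor m := isThickMor_of_isPullback sqm.flip hi
    have ht : AlgSp.IsThickMor (pullback.snd j g) :=
      isThickMor_of_isPullback (IsPullback.of_hasPullback j g) hj
    have hT : AlgSp.IsAlgSpace (pullback j g) :=
      isAlgSpace_of_isPullback hY'.diag hY hZ (IsPullback.of_hasPullback j g)
    have h1 : Q (pullback.snd f (pullback.fst j g)) :=
      h hT _ _ _ (IsPullback.of_hasPullback f (pullback.fst j g))
    have h2 := hQ3 _ _ hZ ht h1
    rw [← hm] at h2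
    exact hQ2 _ _ hP' hm' h2
  · intro h Z P hZ g fst snd sq
    obtain ⟨m, hm, sqm⟩ := thick_cubeA w sq
    have hm' : AlgSp.IsThickMor m := isThickMor_of_isPullback sqm.flip hi
    have hP' : AlgSp.IsAlgSpace (pullback f' (g ≫ j)) :=
      isAlgSpace_of_isPullback hY'.diag hX' hZ (IsPullback.of_hasPullback f' (g ≫ j))
    have h1 : Q (pullback.snd f' (g ≫ j)) := h hZ _ _ _ (IsPullback.of_hasPullback f' (g ≫ j))
    rw [← hm]
    exact hQ1 _ _ hP' hm' h1

/-- Quasi-compactness transfers along a morphism of thickenings. -/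
theorem isQuasiCompactMor_iff_of_thick
    {X X' Y Y' : AlgSp.Sp S} (hX : AlgSp.IsAlgSpace X) (hX' : AlgSp.IsAlgSpace X')
    (hY : AlgSp.IsAlgSpace Y) (hY' : AlgSp.IsAlgSpace Y')
    {i : X ⟶ X'} {j : Y ⟶ Y'} {f : X ⟶ Y} {f' : X' ⟶ Y'}
    (hi : AlgSp.IsThickMor i) (hj : AlgSp.IsThickMor j) (w : i ≫ f' = f ≫ j) :
    AlgSp.IsQuasiCompactMor f ↔ AlgSp.IsQuasiCompactMor f' := by
  have := mono_of_isThickMor hj
  constructor
  · intro h Z P' hZ hZq g fst' snd' sq'
    obtain ⟨m, hm, sqm⟩ := thick_cubeB w sq'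
    have hP' : AlgSp.IsAlgSpace P' := isAlgSpace_of_isPullback hY'.diag hX' hZ sq'
    have hm' : AlgSp.IsThickMor m := isThickMor_of_isPullback sqm.flip hi
    have ht : AlgSp.IsThickMor (pullback.snd j g) :=
      isThickMor_of_isPullback (IsPullback.of_hasPullback j g) hj
    have hT : AlgSp.IsAlgSpace (pullback j g) :=
      isAlgSpace_of_isPullback hY'.diag hY hZ (IsPullback.of_hasPullback j g)
    have hTq : AlgSp.IsQuasiCompactSp (pullback j g) := isQuasiCompactSp_of_isThickMor hT hZ ht hZq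
    have h1 : AlgSp.IsQuasiCompactSp (pullback f (pullback.fst j g)) :=
      h hT hTq _ _ _ (IsPullback.of_hasPullback f (pullback.fst j g))
    exact isQuasiCompactSp_of_isSurjectiveMor hP'.atlas (isThickMor_surj hm') h1
  · intro h Z P hZ hZq g fst snd sq
    obtain ⟨m, hm, sqm⟩ := thick_cubeA w sq
    have hm' : AlgSp.IsThickMor m := isThickMor_of_isPullback sqm.flip hi
    have hP : AlgSp.IsAlgSpace P := isAlgSpace_of_isPullback hY.diag hX hZ sq
    have hP' : AlgSp.IsAlgSpace (pullback f' (g ≫ j)) :=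
      isAlgSpace_of_isPullback hY'.diag hX' hZ (IsPullback.of_hasPullback f' (g ≫ j))
    have h1 : AlgSp.IsQuasiCompactSp (pullback f' (g ≫ j)) :=
      h hZ hZq _ _ _ (IsPullback.of_hasPullback f' (g ≫ j))
    exact isQuasiCompactSp_of_isThickMor hP hP' hm' h1

/-- Surjectivity transfers along a morphism of thickenings. -/
theorem isSurjectiveMor_iff_of_thick
    {X X' Y Y' : AlgSp.Sp S} (hX' : AlgSp.IsAlgSpace X') (hY' : AlgSp.IsAlgSpace Y')
    {i : X ⟶ X'} {j : Y ⟶ Y'} {f : X ⟶ Y} {f' : X' ⟶ Y'}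
    (hi : AlgSp.IsThickMor i) (hj : AlgSp.IsThickMor j) (w : i ≫ f' = f ≫ j) :
    AlgSp.IsSurjectiveMor f ↔ AlgSp.IsSurjectiveMor f' := by
  have h1 := (isHomeomorph_of_isThickMor hX' hi).bijective
  have h2 := (isHomeomorph_of_isThickMor hY' hj).bijective
  have hc : AlgSp.Points.map f' ∘ AlgSp.Points.map i = AlgSp.Points.map j ∘ AlgSp.Points.map f := by
    rw [← points_map_comp_fun, ← points_map_comp_fun, w]
  change Function.Surjective _ ↔ Function.Surjective _
  constructor
  · intro h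
    have : Function.Surjective (AlgSp.Points.map f' ∘ AlgSp.Points.map i) := by
      rw [hc]; exact h2.2.comp h
    exact Function.Surjective.of_comp this
  · intro h
    have : Function.Surjective (AlgSp.Points.map j ∘ AlgSp.Points.map f) := by
      rw [← hc]; exact h.comp h1.2
    exact Function.Surjective.of_comp_left this h2.1

theorem isUnivClosedMor_iff_of_thick
    {X X' Y Y' : AlgSp.Sp S} (hX' : AlgSp.IsAlgSpace X') (hY : AlgSp.IsAlgSpace Y)
    (hY' : AlgSp.IsAlgSpace Y')
    {i : X ⟶ X'} {j : Y ⟶ Y'} {f : X ⟶ Y} {f' : X' ⟶ Y'}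
    (hi : AlgSp.IsThickMor i) (hj : AlgSp.IsThickMor j) (w : i ≫ f' = f ≫ j) :
    AlgSp.IsUnivClosedMor f ↔ AlgSp.IsUnivClosedMor f' := by
  refine univSp_iff_of_thick _ ?_ ?_ ?_ hX' hY hY' hi hj w
  · intro A B C x y hB hx hy
    change IsClosedMap (AlgSp.Points.map (x ≫ y))
    rw [points_map_comp_fun]
    exact IsClosedMap.comp hy (isHomeomorph_of_isThickMor hB hx).isClosedMap
  · intro A B C x y hB hx hxy
    change IsClosedMap (AlgSp.Points.map (x ≫ y)) at hxy
    rw [points_map_comp_fun] at hxy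
    exact IsClosedMap.of_comp_surjective (isHomeomorph_of_isThickMor hB hx).surjective
      (AlgSp.Points.continuous_map x) hxy
  · intro A B C x y hC hy hx
    change IsClosedMap (AlgSp.Points.map (x ≫ y))
    rw [points_map_comp_fun]
    exact IsClosedMap.comp (isHomeomorph_of_isThickMor hC hy).isClosedMap hx

theorem isUnivOpenMor_iff_of_thick
    {X X' Y Y' : AlgSp.Sp S} (hX' : AlgSp.IsAlgSpace X') (hY : AlgSp.IsAlgSpace Y)
    (hY' : AlgSp.IsAlgSpace Y')
    {i : X ⟶ X'} {j : Y ⟶ Y'} {f : X ⟶ Y} {f' : X' ⟶ Y'}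
    (hi : AlgSp.IsThickMor i) (hj : AlgSp.IsThickMor j) (w : i ≫ f' = f ≫ j) :
    AlgSp.IsUnivOpenMor f ↔ AlgSp.IsUnivOpenMor f' := by
  refine univSp_iff_of_thick _ ?_ ?_ ?_ hX' hY hY' hi hj w
  · intro A B C x y hB hx hy
    change IsOpenMap (AlgSp.Points.map (x ≫ y))
    rw [points_map_comp_fun]
    exact IsOpenMap.comp hy (isHomeomorph_of_isThickMor hB hx).isOpenMap
  · intro A B C x y hB hx hxy
    change IsOpenMap (AlgSp.Points.map (x ≫ y)) at hxy
    rw [points_map_comp_fun] at hxy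
    exact isOpenMap_of_comp_surjective (isHomeomorph_of_isThickMor hB hx).surjective
      (AlgSp.Points.continuous_map x) hxy
  · intro A B C x y hC hy hx
    change IsOpenMap (AlgSp.Points.map (x ≫ y))
    rw [points_map_comp_fun]
    exact IsOpenMap.comp (isHomeomorph_of_isThickMor hC hy).isOpenMap hx

theorem isUnivInjectiveMor_iff_of_thick
    {X X' Y Y' : AlgSp.Sp S} (hX' : AlgSp.IsAlgSpace X') (hY : AlgSp.IsAlgSpace Y)
    (hY' : AlgSp.IsAlgSpace Y')
    {i : X ⟶ X'} {j : Y ⟶ Y'} {f : X ⟶ Y} {f' : X' ⟶ Y'}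
    (hi : AlgSp.IsThickMor i) (hj : AlgSp.IsThickMor j) (w : i ≫ f' = f ≫ j) :
    AlgSp.IsUnivInjectiveMor f ↔ AlgSp.IsUnivInjectiveMor f' := by
  refine univSp_iff_of_thick _ ?_ ?_ ?_ hX' hY hY' hi hj w
  · intro A B C x y hB hx hy
    change Function.Injective (AlgSp.Points.map (x ≫ y))
    rw [points_map_comp_fun]
    exact Function.Injective.comp hy (isHomeomorph_of_isThickMor hB hx).injective
  · intro A B C x y hB hx hxy
    change Function.Injective (AlgSp.Points.map (x ≫ y)) at hxy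
    rw [points_map_comp_fun] at hxy
    exact Function.Injective.of_comp_right hxy (isHomeomorph_of_isThickMor hB hx).surjective
  · intro A B C x y hC hy hx
    change Function.Injective (AlgSp.Points.map (x ≫ y))
    rw [points_map_comp_fun]
    exact Function.Injective.comp (isHomeomorph_of_isThickMor hC hy).injective hx

instance thick_isMultiplicative : (AlgSp.thick.{u}).IsMultiplicative := by
  unfold AlgSp.thick; infer_instance

/-- Thickenings are stable under composition. -/
theorem isThickMor_comp {A B C : AlgSp.Sp S} {x : A ⟶ B} {y : B ⟶ C} (hx : AlgSp.IsThickMor x)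
    (hy : AlgSp.IsThickMor y) : AlgSp.IsThickMor (x ≫ y) :=
  (AlgSp.RepWith (S := S) AlgSp.thick).comp_mem _ _ hx hy

/-- For a morphism of thickenings `(f, f')`, the induced map `X ×_Y X ⟶ X' ×_{Y'} X'` is a thickening. -/
theorem isThickMor_pullback_map {X X' Y Y' : AlgSp.Sp S}
    {i : X ⟶ X'} {j : Y ⟶ Y'} {f : X ⟶ Y} {f' : X' ⟶ Y'}
    (hi : AlgSp.IsThickMor i) (hj : AlgSp.IsThickMor j) (w : i ≫ f' = f ≫ j) :
    AlgSp.IsThickMor (pullback.map f f f' f' i i j w.symm w.symm) := by
  have := mono_of_isThickMor hj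
  have sq1 : IsPullback (pullback.fst f f) (pullback.snd f f) (i ≫ f') (i ≫ f') := by
    rw [w]; exact isPullback_comp_mono (IsPullback.of_hasPullback f f) j
  -- M = X' ×_{Y'} X
  have hw1 : (pullback.fst f f ≫ i) ≫ f' = pullback.snd f f ≫ i ≫ f' := by
    rw [Category.assoc]; exact sq1.w
  let m1 : pullback f f ⟶ pullback f' (i ≫ f') := pullback.lift (pullback.fst f f ≫ i) (pullback.snd f f) hw1
  have sqm1 : IsPullback m1 (pullback.fst f f) (pullback.fst f' (i ≫ f')) i := by
    refine IsPullback.of_right ?_ (pullback.lift_fst _ _ _)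
      (IsPullback.of_hasPullback f' (i ≫ f')).flip
    rw [pullback.lift_snd]
    exact sq1.flip
  have hw2 : pullback.fst f' (i ≫ f') ≫ f' = (pullback.snd f' (i ≫ f') ≫ i) ≫ f' := by
    rw [Category.assoc]; exact pullback.condition
  let m2 : pullback f' (i ≫ f') ⟶ pullback f' f' :=
    pullback.lift (pullback.fst f' (i ≫ f')) (pullback.snd f' (i ≫ f') ≫ i) hw2
  have sqm2 : IsPullback m2 (pullback.snd f' (i ≫ f')) (pullback.snd f' f') i := by
    refine IsPullback.of_right ?_ (pullback.lift_snd _ _ _) (IsPullback.of_hasPullback f' f')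
    rw [pullback.lift_fst]
    exact IsPullback.of_hasPullback f' (i ≫ f')
  have hk : pullback.map f f f' f' i i j w.symm w.symm = m1 ≫ m2 := by
    apply pullback.hom_ext
    · rw [Category.assoc, pullback.lift_fst, pullback.lift_fst, pullback.lift_fst]
    · rw [Category.assoc, pullback.lift_snd, pullback.lift_snd, pullback.lift_snd_assoc]
  rw [hk]
  exact isThickMor_comp (isThickMor_of_isPullback sqm1.flip hi) (isThickMor_of_isPullback sqm2.flip hi)

/-- Separatedness transfers along a morphism of thickenings. -/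
theorem isSeparatedMor_iff_of_thick
    {X X' Y Y' : AlgSp.Sp S} (hX : AlgSp.IsAlgSpace X) (hX' : AlgSp.IsAlgSpace X')
    (hY : AlgSp.IsAlgSpace Y) (hY' : AlgSp.IsAlgSpace Y')
    {i : X ⟶ X'} {j : Y ⟶ Y'} {f : X ⟶ Y} {f' : X' ⟶ Y'}
    (hi : AlgSp.IsThickMor i) (hj : AlgSp.IsThickMor j) (w : i ≫ f' = f ≫ j) :
    AlgSp.IsSeparatedMor f ↔ AlgSp.IsSeparatedMor f' := by
  rw [isSeparatedMor_iff_isUnivClosedMor_diagonal hX, isSeparatedMor_iff_isUnivClosedMor_diagonal hX']
  have hP : AlgSp.IsAlgSpace (pullback f f) :=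
    isAlgSpace_of_isPullback hY.diag hX hX (IsPullback.of_hasPullback f f)
  have hP' : AlgSp.IsAlgSpace (pullback f' f') :=
    isAlgSpace_of_isPullback hY'.diag hX' hX' (IsPullback.of_hasPullback f' f')
  refine isUnivClosedMor_iff_of_thick hX' hP hP' hi (isThickMor_pullback_map hi hj w) ?_
  apply pullback.hom_ext
  · rw [Category.assoc, Category.assoc, pullback.lift_fst, pullback.diagonal_fst,
      pullback.diagonal_fst_assoc, Category.comp_id]
  · rw [Category.assoc, Category.assoc, pullback.lift_snd, pullback.diagonal_snd,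
      pullback.diagonal_snd_assoc, Category.comp_id]

/-- Quasi-separatedness transfers along a morphism of thickenings. -/
theorem isQuasiSeparatedMor_iff_of_thick
    {X X' Y Y' : AlgSp.Sp S} (hX : AlgSp.IsAlgSpace X) (hX' : AlgSp.IsAlgSpace X')
    (hY : AlgSp.IsAlgSpace Y) (hY' : AlgSp.IsAlgSpace Y')
    {i : X ⟶ X'} {j : Y ⟶ Y'} {f : X ⟶ Y} {f' : X' ⟶ Y'}
    (hi : AlgSp.IsThickMor i) (hj : AlgSp.IsThickMor j) (w : i ≫ f' = f ≫ j) :
    AlgSp.IsQuasiSeparatedMor f ↔ AlgSp.IsQuasiSeparatedMor f' := by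
  rw [isQuasiSeparatedMor_iff_isQuasiCompactMor_diagonal hX hY,
    isQuasiSeparatedMor_iff_isQuasiCompactMor_diagonal hX' hY']
  have hP : AlgSp.IsAlgSpace (pullback f f) :=
    isAlgSpace_of_isPullback hY.diag hX hX (IsPullback.of_hasPullback f f)
  have hP' : AlgSp.IsAlgSpace (pullback f' f') :=
    isAlgSpace_of_isPullback hY'.diag hX' hX' (IsPullback.of_hasPullback f' f')
  refine isQuasiCompactMor_iff_of_thick hX hX' hP hP' hi (isThickMor_pullback_map hi hj w) ?_
  apply pullback.hom_ext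
  · rw [Category.assoc, Category.assoc, pullback.lift_fst, pullback.diagonal_fst,
      pullback.diagonal_fst_assoc, Category.comp_id]
  · rw [Category.assoc, Category.assoc, pullback.lift_snd, pullback.diagonal_snd,
      pullback.diagonal_snd_assoc, Category.comp_id]

/-- The range of an open immersion of sheaves is open. -/
theorem isOpen_range_of_isOpenImmersion {F G : AlgSp.Sp S} {u : F ⟶ G}
    (hu : AlgSp.RepWith @IsOpenImmersion u) : IsOpen (Set.range (AlgSp.Points.map u)) :=
  (isOpenMap_points_map_of_repWith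
    (repWith_mono (fun _ _ g (_ : IsOpenImmersion g) => (inferInstance : UniversallyOpen g)) hu)).isOpen_range

/-- A morphism between open subspaces over the ambient space is an isomorphism once the target's points lie in the
source's. -/
theorem isIso_of_openImm_range_subset {A B X : AlgSp.Sp S} {a : A ⟶ X} {b : B ⟶ X}
    (ha : AlgSp.RepWith @IsOpenImmersion a) (hb : AlgSp.RepWith @IsOpenImmersion b) (l : A ⟶ B)
    (hl : l ≫ b = a)
    (hr : Set.range (AlgSp.Points.map b) ⊆ Set.range (AlgSp.Points.map a)) : IsIso l := by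
  have hma : Mono a := mono_of_repWith (P := @IsOpenImmersion)
    (fun _ _ g (hg : IsOpenImmersion g) => (inferInstance : Mono g)) a ha
  have hmb : Mono b := mono_of_repWith (P := @IsOpenImmersion)
    (fun _ _ g (hg : IsOpenImmersion g) => (inferInstance : Mono g)) b hb
  obtain ⟨l', hl'⟩ := exists_factor_of_range_subset a ha b hr
  refine ⟨l', ?_, ?_⟩
  · rw [← cancel_mono a, Category.assoc, hl', hl, Category.id_comp]
  · rw [← cancel_mono b, Category.assoc, hl, hl', Category.id_comp]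

/-- Open subspaces lift uniquely along thickenings: existence. -/
theorem exists_open_of_thick {X X' U : AlgSp.Sp S} (hX' : AlgSp.IsAlgSpace X') {i : X ⟶ X'}
    (hi : AlgSp.IsThickMor i) {u : U ⟶ X} (hu : AlgSp.RepWith @IsOpenImmersion u) :
    ∃ (U' : AlgSp.Sp S) (u' : U' ⟶ X') (k : U ⟶ U'), AlgSp.IsAlgSpace U' ∧
      AlgSp.RepWith @IsOpenImmersion u' ∧ IsPullback u k i u' := by
  have hh := isHomeomorph_of_isThickMor hX' hi
  have hΩ' : IsOpen (AlgSp.Points.map i '' Set.range (AlgSp.Points.map u)) :=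
    hh.isOpenMap _ (isOpen_range_of_isOpenImmersion hu)
  set Ω' := AlgSp.Points.map i '' Set.range (AlgSp.Points.map u) with hΩ'def
  have hu' := repWith_isOpenImmersion_openSubι X' hΩ'
  have hr : Set.range (AlgSp.Points.map (u ≫ i)) ⊆ Set.range (AlgSp.Points.map (openSubι X' Ω')) := by
    rw [range_map_openSubι, points_map_comp_fun, Set.range_comp]
  obtain ⟨k, hk⟩ := exists_factor_of_range_subset (openSubι X' Ω') hu' (u ≫ i) hr
  refine ⟨openSub X' Ω', openSubι X' Ω', k, isAlgSpace_openSub hX' hΩ', hu', ?_⟩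
  -- compare with the pullback
  have sqP := IsPullback.of_hasPullback i (openSubι X' Ω')
  have hp1 : AlgSp.RepWith @IsOpenImmersion (pullback.fst i (openSubι X' Ω')) :=
    MorphismProperty.of_isPullback (P := AlgSp.RepWith @IsOpenImmersion) sqP.flip hu'
  let l : U ⟶ pullback i (openSubι X' Ω') := pullback.lift u k hk.symm
  have hl1 : l ≫ pullback.fst i (openSubι X' Ω') = u := pullback.lift_fst _ _ _
  have hl2 : l ≫ pullback.snd i (openSubι X' Ω') = k := pullback.lift_snd _ _ _
  have hiso : IsIso l := by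
    refine isIso_of_openImm_range_subset hu hp1 l hl1 ?_
    rintro _ ⟨p, rfl⟩
    -- the image of `p` in `X'` lies in `Ω'`
    have h1 : AlgSp.Points.map i (AlgSp.Points.map (pullback.fst i (openSubι X' Ω')) p) ∈ Ω' := by
      have : AlgSp.Points.map i (AlgSp.Points.map (pullback.fst i (openSubι X' Ω')) p) =
          AlgSp.Points.map (openSubι X' Ω') (AlgSp.Points.map (pullback.snd i (openSubι X' Ω')) p) := by
        have h := congrFun (points_map_comp_fun (pullback.fst i (openSubι X' Ω')) i) p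
        have h' := congrFun (points_map_comp_fun (pullback.snd i (openSubι X' Ω')) (openSubι X' Ω')) p
        simp only [Function.comp] at h h'
        rw [← h, ← h', pullback.condition]
      rw [this]
      have hmem : AlgSp.Points.map (openSubι X' Ω')
          (AlgSp.Points.map (pullback.snd i (openSubι X' Ω')) p) ∈
          Set.range (AlgSp.Points.map (openSubι X' Ω')) := ⟨_, rfl⟩
      rwa [range_map_openSubι X' Ω'] at hmem
    obtain ⟨x, hx, hxe⟩ := h1
    rw [← hh.injective hxe]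
    exact hx
  exact IsPullback.of_iso_pullback ⟨hk.symm⟩ (asIso l) hl1 hl2

/-- Open subspaces lift uniquely along thickenings: the range of a lift. -/
theorem range_of_open_of_thick {X X' U U₁ : AlgSp.Sp S} (hX' : AlgSp.IsAlgSpace X') {i : X ⟶ X'}
    (hi : AlgSp.IsThickMor i) {u : U ⟶ X} {u₁ : U₁ ⟶ X'} {k₁ : U ⟶ U₁}
    (sq : IsPullback u k₁ i u₁) :
    Set.range (AlgSp.Points.map u₁) = AlgSp.Points.map i '' Set.range (AlgSp.Points.map u) := by
  have hh := isHomeomorph_of_isThickMor hX' hi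
  ext y
  constructor
  · rintro ⟨z, rfl⟩
    obtain ⟨x, hx⟩ := hh.surjective (AlgSp.Points.map u₁ z)
    obtain ⟨p, hp, -⟩ := points_exists_of_isPullback sq x z hx
    exact ⟨x, ⟨p, hp⟩, hx⟩
  · rintro ⟨_, ⟨p, rfl⟩, rfl⟩
    refine ⟨AlgSp.Points.map k₁ p, ?_⟩
    have h := congrFun (points_map_comp_fun k₁ u₁) p
    have h' := congrFun (points_map_comp_fun u i) p
    simp only [Function.comp] at h h'
    rw [← h, ← h', sq.w]

end Groth.Agent.Lib.H15.AS
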