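import Mathlib
import Groth.Prelude.Def_AlgSp
import Groth.Prelude.Def_AlgSp2
import Groth.Prelude.Def_AlgSpInf
import Groth.Agent.Lib.helper15.AlgSpZarGlue

/-!
# Infinitesimal lifting on affine charts: from square-zero closed immersions of schemes to `AlgSp.InfSq`
-/

set_option autoImplicit false
universe u
open CategoryTheory CategoryTheory.Limits AlgebraicGeometry Opposite

namespace Groth.Agent.Lib.H15.AS

variable {S : Scheme.{u}} {X Y T T' : AlgSp.Sp S}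

/-- `ℓ : E ⟶ X` solves the lifting problem `(a, b)` along `j : T ⟶ T'` over `e : E ⟶ T'`. -/
def IsLiftOn (f : X ⟶ Y) (j : T ⟶ T') (a : T ⟶ X) (b : T' ⟶ Y) {E : AlgSp.Sp S} (e : E ⟶ T')
    (ℓ : E ⟶ X) : Prop :=
  ℓ ≫ f = e ≫ b ∧ ∀ (W₀ : AlgSp.Sp S) (s : W₀ ⟶ T) (r : W₀ ⟶ E), s ≫ j = r ≫ e → r ≫ ℓ = s ≫ a

theorem isLiftOn_id_iff (f : X ⟶ Y) (j : T ⟶ T') (a : T ⟶ X) (b : T' ⟶ Y) (l : T' ⟶ X) :
    IsLiftOn f j a b (𝟙 T') l ↔ j ≫ l = a ∧ l ≫ f = b := by
  constructor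
  · rintro ⟨h1, h2⟩
    refine ⟨?_, by rw [h1, Category.id_comp]⟩
    have := h2 T (𝟙 T) j (by simp)
    rwa [Category.id_comp] at this
  · rintro ⟨h1, h2⟩
    refine ⟨by rw [h2, Category.id_comp], fun W₀ s r hsr => ?_⟩
    rw [Category.comp_id] at hsr
    rw [← hsr, Category.assoc, h1]

theorem IsLiftOn.comp {f : X ⟶ Y} {j : T ⟶ T'} {a : T ⟶ X} {b : T' ⟶ Y} {E E₀ : AlgSp.Sp S}
    {e : E ⟶ T'} {ℓ : E ⟶ X} (h : IsLiftOn f j a b e ℓ) (m : E₀ ⟶ E) :
    IsLiftOn f j a b (m ≫ e) (m ≫ ℓ) := by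
  refine ⟨by rw [Category.assoc, h.1, Category.assoc], fun W₀ s r hsr => ?_⟩
  rw [← Category.assoc]
  exact h.2 W₀ s (r ≫ m) (by rw [hsr, Category.assoc])

theorem isLiftOn_iff_of_isPullback (f : X ⟶ Y) {j : T ⟶ T'} (a : T ⟶ X) (b : T' ⟶ Y)
    {E V : AlgSp.Sp S} {e : E ⟶ T'} {fst : V ⟶ T} {snd : V ⟶ E} (sq : IsPullback fst snd j e)
    (ℓ : E ⟶ X) : IsLiftOn f j a b e ℓ ↔ ℓ ≫ f = e ≫ b ∧ snd ≫ ℓ = fst ≫ a := by
  constructor
  · rintro ⟨h1, h2⟩
    exact ⟨h1, h2 V fst snd sq.w⟩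
  · rintro ⟨h1, h2⟩
    refine ⟨h1, fun W₀ s r hsr => ?_⟩
    have e1 : sq.lift s r hsr ≫ snd = r := sq.lift_snd _ _ _
    have e2 : sq.lift s r hsr ≫ fst = s := sq.lift_fst _ _ _
    rw [← e1, Category.assoc, h2, ← Category.assoc, e2]

/-- The infinitesimal lifting square attached to a square-zero closed immersion into an affine scheme over `S`. -/
theorem exists_infSq_of_chart (f : X ⟶ Y) {V V' : Over S} [IsAffine V'.left] (jV : V ⟶ V')
    [IsClosedImmersion jV.left] (hsq : AlgSp.sqZero jV.left)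
    (top : (AlgSp.yon S).obj V ⟶ X) (bot : (AlgSp.yon S).obj V' ⟶ Y)
    (comm : top ≫ f = (AlgSp.yon S).map jV ≫ bot) :
    ∃ (sq : AlgSp.InfSq f) (φ : sq.ptT ≅ V) (ψ : sq.ptT' ≅ V'), φ.hom ≫ jV = sq.j ≫ ψ.hom ∧
      sq.top = (AlgSp.yon S).map φ.hom ≫ top ∧ sq.bot = (AlgSp.yon S).map ψ.hom ≫ bot := by
  have hV : IsAffine V.left := isAffine_of_isAffineHom jV.left
  let A := Γ(V'.left, ⊤)
  let I : Ideal A := RingHom.ker (jV.left.appTop).hom
  have hI : I ^ 2 = ⊥ := by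
    have := congr(($hsq).ideal ⟨⊤, isAffineOpen_top V'.left⟩)
    rw [pow_two]
    have h2 : RingHom.ker (jV.left.app ⊤).hom * RingHom.ker (jV.left.app ⊤).hom = ⊥ := by
      simpa using this
    exact h2
  have hsurj : Function.Surjective (jV.left.appTop).hom :=
    (IsClosedImmersion.isAffine_surjective_of_isAffine jV.left).2
  let ε : A ⧸ I ≃+* Γ(V.left, ⊤) := RingHom.quotientKerEquivOfSurjective hsurj
  have he : jV.left.appTop =
      CommRingCat.ofHom (Ideal.Quotient.mk I) ≫ CommRingCat.ofHom ε.toRingHom := by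
    ext x
    simp [ε, I]
  have hee : CommRingCat.ofHom ε.toRingHom ≫ CommRingCat.ofHom ε.symm.toRingHom = 𝟙 _ := by
    ext x
    simp
  have hee' : CommRingCat.ofHom ε.symm.toRingHom ≫ CommRingCat.ofHom ε.toRingHom = 𝟙 _ := by
    ext x
    simp
  let str : Spec (.of A) ⟶ S := V'.left.isoSpec.inv ≫ V'.hom
  -- the isomorphism of schemes `Spec (A ⧸ I) ≅ V`
  let φs : Spec (.of (A ⧸ I)) ≅ V.left :=
    { hom := Spec.map (CommRingCat.ofHom ε.symm.toRingHom) ≫ V.left.isoSpec.inv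
      inv := V.left.isoSpec.hom ≫ Spec.map (CommRingCat.ofHom ε.toRingHom)
      hom_inv_id := by
        rw [Category.assoc, Iso.inv_hom_id_assoc, ← Spec.map_comp, hee, Spec.map_id]
      inv_hom_id := by
        rw [Category.assoc, ← Spec.map_comp_assoc, hee', Spec.map_id]
        erw [Category.id_comp]
        rw [Iso.hom_inv_id] }
  have hφj : φs.hom ≫ jV.left =
      Spec.map (CommRingCat.ofHom (Ideal.Quotient.mk I)) ≫ V'.left.isoSpec.inv := by
    change (Spec.map (CommRingCat.ofHom ε.symm.toRingHom) ≫ V.left.isoSpec.inv) ≫ jV.left = _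
    rw [Category.assoc, ← Scheme.isoSpec_inv_naturality, ← Spec.map_comp_assoc, he, Category.assoc,
      hee, Category.comp_id]
  let φ : (Over.mk (Spec.map (CommRingCat.ofHom (Ideal.Quotient.mk I)) ≫ str) : Over S) ≅ V :=
    Over.isoMk φs (by
      change φs.hom ≫ V.hom = Spec.map (CommRingCat.ofHom (Ideal.Quotient.mk I)) ≫ str
      rw [← Over.w jV, ← Category.assoc, hφj, Category.assoc])
  let ψ : (Over.mk str : Over S) ≅ V' :=
    Over.isoMk V'.left.isoSpec.symm (by simp [str])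
  have hφψ : φ.hom ≫ jV =
      (Over.homMk (Spec.map (CommRingCat.ofHom (Ideal.Quotient.mk I))) rfl :
        Over.mk (Spec.map (CommRingCat.ofHom (Ideal.Quotient.mk I)) ≫ str) ⟶ Over.mk str) ≫ ψ.hom := by
    ext
    exact hφj
  refine ⟨{ A := A, I := I, sq_zero := hI, str := str,
            top := (AlgSp.yon S).map φ.hom ≫ top, bot := (AlgSp.yon S).map ψ.hom ≫ bot,
            comm := ?_ }, φ, ψ, hφψ, rfl, rfl⟩
  rw [Category.assoc, comm, ← Functor.map_comp_assoc, hφψ, Functor.map_comp_assoc]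

end Groth.Agent.Lib.H15.AS
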