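import Mathlib
import Groth.Prelude.Def_AlgSp
import Groth.Prelude.Def_AlgSp2
import Groth.Prelude.Def_AlgSpInf
import Groth.Agent.Lib.helper15.AlgSpLiftCore
import Groth.Agent.Lib.helper15.AlgSpFormal
import Groth.Agent.Lib.helper15.AlgSpPres
import Groth.Agent.Lib.helper15.AlgSpMono

/-!
# Infinitesimal lifting along first order thickenings of algebraic spaces
-/

set_option autoImplicit false
universe u
open CategoryTheory CategoryTheory.Limits AlgebraicGeometry Opposite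

namespace Groth.Agent.Lib.H15.AS

variable {S : Scheme.{u}} {X Y T T' : AlgSp.Sp S}

/-- Uniqueness of lifts on an affine chart with a square-zero closed immersion, for a formally unramified morphism. -/
theorem uniq_lift_of_chart {f : X ⟶ Y} (hf : AlgSp.IsFormallyUnramifiedMor f) {V V' : Over S}
    [IsAffine V'.left] (jV : V ⟶ V') [IsClosedImmersion jV.left] (hsq : AlgSp.sqZero jV.left)
    (l l' : (AlgSp.yon S).obj V' ⟶ X)
    (h1 : (AlgSp.yon S).map jV ≫ l = (AlgSp.yon S).map jV ≫ l') (h2 : l ≫ f = l' ≫ f) : l = l' := by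
  obtain ⟨sq, φ, ψ, hφψ, htop, hbot⟩ := exists_infSq_of_chart f jV hsq ((AlgSp.yon S).map jV ≫ l)
    (l ≫ f) (by rw [Category.assoc])
  have key := hf sq ((AlgSp.yon S).map ψ.hom ≫ l) ((AlgSp.yon S).map ψ.hom ≫ l') ?_ ?_ ?_ ?_
  · exact (cancel_epi ((AlgSp.yon S).map ψ.hom)).1 key
  · rw [htop, ← Functor.map_comp_assoc, ← hφψ, Functor.map_comp_assoc]
  · rw [hbot, Category.assoc]
  · rw [htop, ← Functor.map_comp_assoc, ← hφψ, Functor.map_comp_assoc, h1]
  · rw [hbot, Category.assoc, h2]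

/-- Existence of lifts on an affine chart with a square-zero closed immersion, for a formally smooth morphism. -/
theorem exists_lift_of_chart {f : X ⟶ Y} (hf : AlgSp.IsFormallySmoothMor f) {V V' : Over S}
    [IsAffine V'.left] (jV : V ⟶ V') [IsClosedImmersion jV.left] (hsq : AlgSp.sqZero jV.left)
    (top : (AlgSp.yon S).obj V ⟶ X) (bot : (AlgSp.yon S).obj V' ⟶ Y)
    (comm : top ≫ f = (AlgSp.yon S).map jV ≫ bot) :
    ∃ l : (AlgSp.yon S).obj V' ⟶ X, (AlgSp.yon S).map jV ≫ l = top ∧ l ≫ f = bot := by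
  obtain ⟨sq, φ, ψ, hφψ, htop, hbot⟩ := exists_infSq_of_chart f jV hsq top bot comm
  obtain ⟨l₀, hl1, hl2⟩ := hf sq
  have hjψ : jV ≫ ψ.inv = φ.inv ≫ sq.j := by
    rw [Iso.eq_inv_comp, ← Category.assoc, hφψ, Category.assoc, Iso.hom_inv_id, Category.comp_id]
  refine ⟨(AlgSp.yon S).map ψ.inv ≫ l₀, ?_, ?_⟩
  · rw [← Functor.map_comp_assoc, hjψ, Functor.map_comp_assoc, hl1, htop, ← Functor.map_comp_assoc,
      Iso.inv_hom_id, CategoryTheory.Functor.map_id, Category.id_comp]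
  · rw [Category.assoc, hl2, hbot, ← Functor.map_comp_assoc, Iso.inv_hom_id, CategoryTheory.Functor.map_id,
      Category.id_comp]

section

variable {f : X ⟶ Y} {j : T ⟶ T'} {a : T ⟶ X} {b : T' ⟶ Y}

/-- Uniqueness of local lifts on an affine etale chart of `T'`. -/
theorem isLiftOn_unique_affine (hf : AlgSp.IsFormallyUnramifiedMor f) (hj : AlgSp.IsFOThickMor j)
    {V' : Over S} (hV' : IsAffine V'.left) (e : (AlgSp.yon S).obj V' ⟶ T') (he : AlgSp.RepWith @Etale e)
    {ℓ ℓ' : (AlgSp.yon S).obj V' ⟶ X} (h : IsLiftOn f j a b e ℓ) (h' : IsLiftOn f j a b e ℓ') :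
    ℓ = ℓ' := by
  have hrep : AlgSp.Representable j := hj.1.rep
  have sq := hrep.isPullback e
  have hthick : AlgSp.thick (hrep.snd e).left := hj.1.property_snd e
  have : IsClosedImmersion (hrep.snd e).left := hthick.1
  have hsq : AlgSp.sqZero (hrep.snd e).left := hj.2 e (hrep.fst e) (hrep.snd e) hV' he sq
  rw [isLiftOn_iff_of_isPullback f a b sq] at h h'
  exact uniq_lift_of_chart hf (hrep.snd e) hsq ℓ ℓ' (h.2.trans h'.2.symm) (h.1.trans h'.1.symm)

/-- Existence of local lifts on an affine etale chart of `T'`. -/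
theorem isLiftOn_exists_affine (hf : AlgSp.IsFormallySmoothMor f) (hj : AlgSp.IsFOThickMor j)
    (w : a ≫ f = j ≫ b)
    {V' : Over S} (hV' : IsAffine V'.left) (e : (AlgSp.yon S).obj V' ⟶ T') (he : AlgSp.RepWith @Etale e) :
    ∃ ℓ : (AlgSp.yon S).obj V' ⟶ X, IsLiftOn f j a b e ℓ := by
  have hrep : AlgSp.Representable j := hj.1.rep
  have sq := hrep.isPullback e
  have hthick : AlgSp.thick (hrep.snd e).left := hj.1.property_snd e
  have : IsClosedImmersion (hrep.snd e).left := hthick.1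
  have hsq : AlgSp.sqZero (hrep.snd e).left := hj.2 e (hrep.fst e) (hrep.snd e) hV' he sq
  obtain ⟨ℓ, h1, h2⟩ := exists_lift_of_chart hf (hrep.snd e) hsq (hrep.fst e ≫ a) (e ≫ b)
    (by rw [Category.assoc, w, ← Category.assoc, sq.w, Category.assoc])
  exact ⟨ℓ, (isLiftOn_iff_of_isPullback f a b sq ℓ).2 ⟨h2, h1⟩⟩

theorem repWith_etale_overOpen {U' : Over S} (e : (AlgSp.yon S).obj U' ⟶ T') (he : AlgSp.RepWith @Etale e)
    (V : U'.left.Opens) : AlgSp.RepWith @Etale ((AlgSp.yon S).map (overOpenι U' V) ≫ e) :=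
  repWith_yon_map_comp @Etale (overOpenι U' V) e
    (by change Etale V.ι; infer_instance) he

theorem exists_affineOpen_mem' (U' : Over S) (z : U'.left) : ∃ V : U'.left.affineOpens, z ∈ V.1 := by
  obtain ⟨_, ⟨V, hV, rfl⟩, hz, -⟩ := U'.left.isBasis_affineOpens.exists_subset_of_mem_open
    (Set.mem_univ z) isOpen_univ
  exact ⟨⟨V, hV⟩, hz⟩

/-- Uniqueness of local lifts on a scheme etale over `T'`. -/
theorem isLiftOn_unique_scheme (hf : AlgSp.IsFormallyUnramifiedMor f) (hj : AlgSp.IsFOThickMor j)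
    {U' : Over S} (e : (AlgSp.yon S).obj U' ⟶ T') (he : AlgSp.RepWith @Etale e)
    {ℓ ℓ' : (AlgSp.yon S).obj U' ⟶ X} (h : IsLiftOn f j a b e ℓ) (h' : IsLiftOn f j a b e ℓ') :
    ℓ = ℓ' := by
  refine hom_ext_of_openCover (fun V : U'.left.affineOpens => V.1) (exists_affineOpen_mem' U') _ _
    fun V => ?_
  exact isLiftOn_unique_affine hf hj (V' := overOpen U' V.1) V.2 _ (repWith_etale_overOpen e he V.1)
    (h.comp ((AlgSp.yon S).map (overOpenι U' V.1))) (h'.comp ((AlgSp.yon S).map (overOpenι U' V.1)))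

/-- Existence of local lifts on a scheme etale over `T'`. -/
theorem isLiftOn_exists_scheme (hf : AlgSp.IsFormallyEtaleMor f) (hj : AlgSp.IsFOThickMor j)
    (w : a ≫ f = j ≫ b)
    {U' : Over S} (e : (AlgSp.yon S).obj U' ⟶ T') (he : AlgSp.RepWith @Etale e) :
    ∃ ℓ : (AlgSp.yon S).obj U' ⟶ X, IsLiftOn f j a b e ℓ := by
  obtain ⟨hsm, hun⟩ := (isFormallyEtaleMor_iff f).1 hf
  choose ℓ hℓ using fun V : U'.left.affineOpens =>
    isLiftOn_exists_affine (a := a) (b := b) hsm hj w (V' := overOpen U' V.1) V.2 _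
      (repWith_etale_overOpen e he V.1)
  obtain ⟨ξ, hξ⟩ := exists_glue_affineOpens ℓ (fun V V' hle => by
    refine isLiftOn_unique_affine hun hj (V' := overOpen U' V'.1) V'.2 _
      (repWith_etale_overOpen e he V'.1) ?_ (hℓ V')
    have := (hℓ V).comp ((AlgSp.yon S).map (overOpenLE U' hle))
    rwa [← Functor.map_comp_assoc, overOpenLE_ι] at this)
  refine ⟨ξ, ?_, ?_⟩
  · refine hom_ext_of_openCover (fun V : U'.left.affineOpens => V.1) (exists_affineOpen_mem' U') _ _
      fun V => ?_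
    rw [← Category.assoc, hξ V, (hℓ V).1, Category.assoc]
  · intro W₀ s r hsr
    refine GrothendieckTopology.hom_ext_uliftYoneda.{u+1} (AlgSp.J S) fun W p => ?_
    obtain ⟨g, hg⟩ := (AlgSp.yon S).map_surjective (p ≫ r)
    refine hom_ext_of_openCover (fun V : U'.left.affineOpens => g.left ⁻¹ᵁ V.1) (fun z => ?_) _ _
      fun V => ?_
    · obtain ⟨V, hV⟩ := exists_affineOpen_mem' U' (g.left z)
      exact ⟨V, hV⟩
    · have h1 : (AlgSp.yon S).map (overOpenι W (g.left ⁻¹ᵁ V.1)) ≫ p ≫ r =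
          (AlgSp.yon S).map (overOpenRes g V.1) ≫ (AlgSp.yon S).map (overOpenι U' V.1) := by
        rw [← hg, ← Functor.map_comp, ← Functor.map_comp, overOpenRes_ι]
      have h2 := (hℓ V).2 _ ((AlgSp.yon S).map (overOpenι W (g.left ⁻¹ᵁ V.1)) ≫ p ≫ s)
        ((AlgSp.yon S).map (overOpenRes g V.1)) (by
          rw [Category.assoc, Category.assoc, hsr, ← Category.assoc p, ← Category.assoc, h1,
            Category.assoc])
      rw [← hξ V, ← Category.assoc, ← h1] at h2
      simpa only [Category.assoc] using h2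

end

section

variable {f : X ⟶ Y} {j : T ⟶ T'}

/-- Lifts along a first order thickening of algebraic spaces against a formally unramified morphism are unique. -/
theorem lift_unique_of_isFOThickMor (hT' : AlgSp.IsAlgSpace T') (hf : AlgSp.IsFormallyUnramifiedMor f)
    (hj : AlgSp.IsFOThickMor j) {l l' : T' ⟶ X} (h1 : j ≫ l = j ≫ l') (h2 : l ≫ f = l' ≫ f) :
    l = l' := by
  obtain ⟨U', p, he, hs⟩ := hT'.atlas
  have : Epi p := epi_of_repWith_etale_surjective p he hs
  have hl : IsLiftOn f j (j ≫ l) (l ≫ f) (𝟙 T') l := (isLiftOn_id_iff _ _ _ _ _).2 ⟨rfl, rfl⟩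
  have hl' : IsLiftOn f j (j ≫ l) (l ≫ f) (𝟙 T') l' := (isLiftOn_id_iff _ _ _ _ _).2 ⟨h1.symm, h2.symm⟩
  have k := hl.comp p
  have k' := hl'.comp p
  rw [Category.comp_id] at k k'
  exact (cancel_epi p).1 (isLiftOn_unique_scheme hf hj p he k k')

/-- Lifts along a first order thickening of algebraic spaces against a formally etale morphism exist. -/
theorem lift_exists_of_isFOThickMor (hT' : AlgSp.IsAlgSpace T') (hf : AlgSp.IsFormallyEtaleMor f)
    (hj : AlgSp.IsFOThickMor j) {a : T ⟶ X} {b : T' ⟶ Y} (w : a ≫ f = j ≫ b) :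
    ∃ l : T' ⟶ X, j ≫ l = a ∧ l ≫ f = b := by
  obtain ⟨hsm, hun⟩ := (isFormallyEtaleMor_iff f).1 hf
  obtain ⟨U', p, he, hs⟩ := hT'.atlas
  have : Epi p := epi_of_repWith_etale_surjective p he hs
  have hrep : AlgSp.Representable p := he.rep
  have sqR := hrep.isPullback' p
  obtain ⟨hc⟩ := nonempty_isColimit_of_isPullback p he hs (hrep.snd p) (hrep.fst' p) sqR
  obtain ⟨ℓ, hℓ⟩ := isLiftOn_exists_scheme (a := a) (b := b) hf hj w p he
  have hsE : Etale (hrep.snd p).left := he.property_snd p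
  have heq : (AlgSp.yon S).map (hrep.fst' p) ≫ ℓ = (AlgSp.yon S).map (hrep.snd p) ≫ ℓ := by
    refine isLiftOn_unique_scheme hun hj ((AlgSp.yon S).map (hrep.snd p) ≫ p)
      (repWith_yon_map_comp @Etale (hrep.snd p) p hsE he) ?_ (hℓ.comp _)
    have := hℓ.comp ((AlgSp.yon S).map (hrep.fst' p))
    rwa [sqR.w] at this
  let l : T' ⟶ X := Cofork.IsColimit.desc hc ℓ heq
  have hpl : p ≫ l = ℓ := Cofork.IsColimit.π_desc hc
  refine ⟨l, (isLiftOn_id_iff f j a b l).1 ⟨?_, ?_⟩⟩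
  · rw [← cancel_epi p, ← Category.assoc, hpl, hℓ.1, Category.id_comp]
  · intro W₀ s' r hsr
    rw [Category.comp_id] at hsr
    refine GrothendieckTopology.hom_ext_uliftYoneda.{u+1} (AlgSp.J S) fun W q => ?_
    have sq₁ := hrep.isPullback' (q ≫ r)
    have h1E : Etale (hrep.snd (q ≫ r)).left := he.property_snd (q ≫ r)
    have h1S : Surjective (hrep.snd (q ≫ r)).left := hs.property_snd (q ≫ r)
    have : Epi ((AlgSp.yon S).map (hrep.snd (q ≫ r))) :=
      epi_of_repWith_etale_surjective _ ((AlgSp.repWith_yon_map_iff @Etale _).2 h1E)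
        ((AlgSp.repWith_yon_map_iff @Surjective _).2 h1S)
    rw [← cancel_epi ((AlgSp.yon S).map (hrep.snd (q ≫ r)))]
    have h2 := hℓ.2 _ ((AlgSp.yon S).map (hrep.snd (q ≫ r)) ≫ q ≫ s')
      ((AlgSp.yon S).map (hrep.fst' (q ≫ r))) (by
        rw [Category.assoc, Category.assoc, hsr, sq₁.w])
    rw [← hpl, ← Category.assoc, sq₁.w] at h2
    simpa only [Category.assoc] using h2

/-- Unique lifting along a first order thickening of algebraic spaces against a formally etale morphism. -/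
theorem lift_existsUnique_of_isFOThickMor (hT' : AlgSp.IsAlgSpace T') (hf : AlgSp.IsFormallyEtaleMor f)
    (hj : AlgSp.IsFOThickMor j) {a : T ⟶ X} {b : T' ⟶ Y} (w : a ≫ f = j ≫ b) :
    ∃! l : T' ⟶ X, j ≫ l = a ∧ l ≫ f = b := by
  obtain ⟨l, h1, h2⟩ := lift_exists_of_isFOThickMor hT' hf hj w
  refine ⟨l, ⟨h1, h2⟩, fun l' ⟨h1', h2'⟩ => ?_⟩
  exact lift_unique_of_isFOThickMor hT' ((isFormallyEtaleMor_iff f).1 hf).2 hj (h1'.trans h1.symm)
    (h2'.trans h2.symm)

end

/-! ## Abstract version: gluing from local uniqueness and existence on affine etale charts -/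

section

variable {f : X ⟶ Y} {j : T ⟶ T'} {a : T ⟶ X} {b : T' ⟶ Y}

/-- Local uniqueness of lifts on affine etale charts of `T'`. -/
def LocUniqLift (f : X ⟶ Y) (j : T ⟶ T') (a : T ⟶ X) (b : T' ⟶ Y) : Prop :=
  ∀ ⦃V' : Over S⦄, IsAffine V'.left → ∀ (e : (AlgSp.yon S).obj V' ⟶ T'), AlgSp.RepWith @Etale e →
    ∀ ⦃ℓ ℓ' : (AlgSp.yon S).obj V' ⟶ X⦄, IsLiftOn f j a b e ℓ → IsLiftOn f j a b e ℓ' → ℓ = ℓ'

/-- Local existence of lifts on affine etale charts of `T'`. -/
def LocExistsLift (f : X ⟶ Y) (j : T ⟶ T') (a : T ⟶ X) (b : T' ⟶ Y) : Prop :=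
  ∀ ⦃V' : Over S⦄, IsAffine V'.left → ∀ (e : (AlgSp.yon S).obj V' ⟶ T'), AlgSp.RepWith @Etale e →
    ∃ ℓ : (AlgSp.yon S).obj V' ⟶ X, IsLiftOn f j a b e ℓ

theorem isLiftOn_unique_scheme' (hU : LocUniqLift f j a b)
    {U' : Over S} (e : (AlgSp.yon S).obj U' ⟶ T') (he : AlgSp.RepWith @Etale e)
    {ℓ ℓ' : (AlgSp.yon S).obj U' ⟶ X} (h : IsLiftOn f j a b e ℓ) (h' : IsLiftOn f j a b e ℓ') :
    ℓ = ℓ' := by
  refine hom_ext_of_openCover (fun V : U'.left.affineOpens => V.1) (exists_affineOpen_mem' U') _ _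
    fun V => ?_
  exact hU (V' := overOpen U' V.1) V.2 _ (repWith_etale_overOpen e he V.1)
    (h.comp ((AlgSp.yon S).map (overOpenι U' V.1))) (h'.comp ((AlgSp.yon S).map (overOpenι U' V.1)))

theorem isLiftOn_exists_scheme' (hU : LocUniqLift f j a b) (hE : LocExistsLift f j a b)
    {U' : Over S} (e : (AlgSp.yon S).obj U' ⟶ T') (he : AlgSp.RepWith @Etale e) :
    ∃ ℓ : (AlgSp.yon S).obj U' ⟶ X, IsLiftOn f j a b e ℓ := by
  choose ℓ hℓ using fun V : U'.left.affineOpens =>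
    hE (V' := overOpen U' V.1) V.2 _ (repWith_etale_overOpen e he V.1)
  obtain ⟨ξ, hξ⟩ := exists_glue_affineOpens ℓ (fun V V' hle => by
    refine hU (V' := overOpen U' V'.1) V'.2 _ (repWith_etale_overOpen e he V'.1) ?_ (hℓ V')
    have := (hℓ V).comp ((AlgSp.yon S).map (overOpenLE U' hle))
    rwa [← Functor.map_comp_assoc, overOpenLE_ι] at this)
  refine ⟨ξ, ?_, ?_⟩
  · refine hom_ext_of_openCover (fun V : U'.left.affineOpens => V.1) (exists_affineOpen_mem' U') _ _
      fun V => ?_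
    rw [← Category.assoc, hξ V, (hℓ V).1, Category.assoc]
  · intro W₀ s r hsr
    refine GrothendieckTopology.hom_ext_uliftYoneda.{u+1} (AlgSp.J S) fun W p => ?_
    obtain ⟨g, hg⟩ := (AlgSp.yon S).map_surjective (p ≫ r)
    refine hom_ext_of_openCover (fun V : U'.left.affineOpens => g.left ⁻¹ᵁ V.1) (fun z => ?_) _ _
      fun V => ?_
    · obtain ⟨V, hV⟩ := exists_affineOpen_mem' U' (g.left z)
      exact ⟨V, hV⟩
    · have h1 : (AlgSp.yon S).map (overOpenι W (g.left ⁻¹ᵁ V.1)) ≫ p ≫ r =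
          (AlgSp.yon S).map (overOpenRes g V.1) ≫ (AlgSp.yon S).map (overOpenι U' V.1) := by
        rw [← hg, ← Functor.map_comp, ← Functor.map_comp, overOpenRes_ι]
      have h2 := (hℓ V).2 _ ((AlgSp.yon S).map (overOpenι W (g.left ⁻¹ᵁ V.1)) ≫ p ≫ s)
        ((AlgSp.yon S).map (overOpenRes g V.1)) (by
          rw [Category.assoc, Category.assoc, hsr, ← Category.assoc p, ← Category.assoc, h1,
            Category.assoc])
      rw [← hξ V, ← Category.assoc, ← h1] at h2
      simpa only [Category.assoc] using h2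

theorem lift_unique' (hT' : AlgSp.IsAlgSpace T') (hU : LocUniqLift f j a b)
    {l l' : T' ⟶ X} (h1 : j ≫ l = a) (h2 : l ≫ f = b) (h1' : j ≫ l' = a) (h2' : l' ≫ f = b) :
    l = l' := by
  obtain ⟨U', p, he, hs⟩ := hT'.atlas
  have : Epi p := epi_of_repWith_etale_surjective p he hs
  have hl : IsLiftOn f j a b (𝟙 T') l := (isLiftOn_id_iff _ _ _ _ _).2 ⟨h1, h2⟩
  have hl' : IsLiftOn f j a b (𝟙 T') l' := (isLiftOn_id_iff _ _ _ _ _).2 ⟨h1', h2'⟩
  have k := hl.comp p
  have k' := hl'.comp p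
  rw [Category.comp_id] at k k'
  exact (cancel_epi p).1 (isLiftOn_unique_scheme' hU p he k k')

theorem lift_exists' (hT' : AlgSp.IsAlgSpace T') (hU : LocUniqLift f j a b)
    (hE : LocExistsLift f j a b) :
    ∃ l : T' ⟶ X, j ≫ l = a ∧ l ≫ f = b := by
  obtain ⟨U', p, he, hs⟩ := hT'.atlas
  have : Epi p := epi_of_repWith_etale_surjective p he hs
  have hrep : AlgSp.Representable p := he.rep
  have sqR := hrep.isPullback' p
  obtain ⟨hc⟩ := nonempty_isColimit_of_isPullback p he hs (hrep.snd p) (hrep.fst' p) sqR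
  obtain ⟨ℓ, hℓ⟩ := isLiftOn_exists_scheme' hU hE p he
  have hsE : Etale (hrep.snd p).left := he.property_snd p
  have heq : (AlgSp.yon S).map (hrep.fst' p) ≫ ℓ = (AlgSp.yon S).map (hrep.snd p) ≫ ℓ := by
    refine isLiftOn_unique_scheme' hU ((AlgSp.yon S).map (hrep.snd p) ≫ p)
      (repWith_yon_map_comp @Etale (hrep.snd p) p hsE he) ?_ (hℓ.comp _)
    have := hℓ.comp ((AlgSp.yon S).map (hrep.fst' p))
    rwa [sqR.w] at this
  let l : T' ⟶ X := Cofork.IsColimit.desc hc ℓ heq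
  have hpl : p ≫ l = ℓ := Cofork.IsColimit.π_desc hc
  refine ⟨l, (isLiftOn_id_iff f j a b l).1 ⟨?_, ?_⟩⟩
  · rw [← cancel_epi p, ← Category.assoc, hpl, hℓ.1, Category.id_comp]
  · intro W₀ s' r hsr
    rw [Category.comp_id] at hsr
    refine GrothendieckTopology.hom_ext_uliftYoneda.{u+1} (AlgSp.J S) fun W q => ?_
    have sq₁ := hrep.isPullback' (q ≫ r)
    have h1E : Etale (hrep.snd (q ≫ r)).left := he.property_snd (q ≫ r)
    have h1S : Surjective (hrep.snd (q ≫ r)).left := hs.property_snd (q ≫ r)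
    have : Epi ((AlgSp.yon S).map (hrep.snd (q ≫ r))) :=
      epi_of_repWith_etale_surjective _ ((AlgSp.repWith_yon_map_iff @Etale _).2 h1E)
        ((AlgSp.repWith_yon_map_iff @Surjective _).2 h1S)
    rw [← cancel_epi ((AlgSp.yon S).map (hrep.snd (q ≫ r)))]
    have h2 := hℓ.2 _ ((AlgSp.yon S).map (hrep.snd (q ≫ r)) ≫ q ≫ s')
      ((AlgSp.yon S).map (hrep.fst' (q ≫ r))) (by
        rw [Category.assoc, Category.assoc, hsr, sq₁.w])
    rw [← hpl, ← Category.assoc, sq₁.w] at h2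
    simpa only [Category.assoc] using h2

/-- The restriction of a first order thickening of algebraic spaces to an etale scheme chart is a first order
thickening. -/
theorem isFOThickMor_chart (hj : AlgSp.IsFOThickMor j) {V' : Over S}
    (e : (AlgSp.yon S).obj V' ⟶ T') (he : AlgSp.RepWith @Etale e) :
    AlgSp.IsFOThickMor ((AlgSp.yon S).map (hj.1.rep.snd e)) := by
  have hrep : AlgSp.Representable j := hj.1.rep
  have sq := hrep.isPullback e
  have hth : AlgSp.IsThickMor ((AlgSp.yon S).map (hrep.snd e)) :=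
    MorphismProperty.of_isPullback (P := AlgSp.RepWith AlgSp.thick) sq hj.1
  refine ⟨hth, ?_⟩
  intro W' W c fst snd hW' hc sqW
  have hce : AlgSp.RepWith @Etale (c ≫ e) :=
    (AlgSp.RepWith (S := S) @Etale).comp_mem _ _ hc he
  exact hj.2 (c ≫ e) (fst ≫ hrep.fst e) snd hW' hce (sqW.paste_horiz sq)

end

end Groth.Agent.Lib.H15.AS
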