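import Mathlib
import Groth.Prelude.Def_AlgSp
import Groth.Prelude.Def_AlgSp2
import Groth.Prelude.Def_AlgSpInf
import Groth.Agent.Lib.helper15.AlgSpFormalEt2
import Groth.Agent.Lib.helper15.AlgSpLiftSpace

/-!
# Universal first order thickenings: descent along etale surjective morphisms (local part)
-/

set_option autoImplicit false
universe u
open CategoryTheory CategoryTheory.Limits AlgebraicGeometry Opposite

namespace Groth.Agent.Lib.H15.AS

variable {S : Scheme.{u}}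

/-- A pullback of a first order thickening along a representable etale chart is a first order thickening. -/
theorem isFOThickMor_of_isPullback_chart {T T' : AlgSp.Sp S} {j : T ⟶ T'} (hj : AlgSp.IsFOThickMor j)
    {V V' : Over S} (e : (AlgSp.yon S).obj V' ⟶ T') (he : AlgSp.RepWith @Etale e)
    (fst : (AlgSp.yon S).obj V ⟶ T) (jV : V ⟶ V')
    (sq : IsPullback fst ((AlgSp.yon S).map jV) j e) : AlgSp.IsFOThickMor ((AlgSp.yon S).map jV) := by
  have hth : AlgSp.IsThickMor ((AlgSp.yon S).map jV) :=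
    MorphismProperty.of_isPullback (P := AlgSp.RepWith AlgSp.thick) sq hj.1
  refine ⟨hth, ?_⟩
  intro W' W c fst' snd hW' hc sqW
  have hce : AlgSp.RepWith @Etale (c ≫ e) :=
    (AlgSp.RepWith (S := S) @Etale).comp_mem _ _ hc he
  exact hj.2 (c ≫ e) (fst' ≫ fst) snd hW' hce (sqW.paste_horiz sq)

/-- The quotient of `R` by the extension of `I` is the pushout of `A ⧸ I` along `A ⟶ R`. -/
theorem isPushout_quotient {A : Type u} [CommRing A] (I : Ideal A) (R : CommRingCat.{u})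
    (ρ : CommRingCat.of A ⟶ R) (J : Ideal R) (hJ : J = I.map ρ.hom)
    (ψ' : CommRingCat.of (A ⧸ I) ⟶ CommRingCat.of (R ⧸ J))
    (hψ' : CommRingCat.ofHom (Ideal.Quotient.mk I) ≫ ψ' = ρ ≫ CommRingCat.ofHom (Ideal.Quotient.mk J)) :
    IsPushout ρ (CommRingCat.ofHom (Ideal.Quotient.mk I)) (CommRingCat.ofHom (Ideal.Quotient.mk J)) ψ' := by
  have hkill : ∀ (s : PushoutCocone ρ (CommRingCat.ofHom (Ideal.Quotient.mk I))),
      ∀ r ∈ J, s.inl.hom r = 0 := by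
    intro s r hr
    have h1 : I.map ρ.hom ≤ RingHom.ker s.inl.hom := by
      rw [Ideal.map_le_iff_le_comap]
      intro i hi
      change s.inl.hom (ρ.hom i) = 0
      have := congrArg (fun φ => φ.hom i) s.condition
      simp only [CommRingCat.hom_comp, RingHom.coe_comp, Function.comp_apply, CommRingCat.hom_ofHom]
        at this
      rw [this, Ideal.Quotient.eq_zero_iff_mem.2 hi, map_zero]
    exact h1 (hJ ▸ hr)
  refine ⟨⟨hψ'.symm⟩, ⟨PushoutCocone.IsColimit.mk _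
    (fun s => CommRingCat.ofHom (Ideal.Quotient.lift J s.inl.hom (hkill s)))
    (fun s => ?_) (fun s => ?_) (fun s m h1 h2 => ?_)⟩⟩
  · ext x
    simp
  · apply CommRingCat.hom_ext
    apply Ideal.Quotient.ringHom_ext
    have e1 : (CommRingCat.ofHom (Ideal.Quotient.mk I) ≫ ψ') ≫
        CommRingCat.ofHom (Ideal.Quotient.lift J s.inl.hom (hkill s)) =
        CommRingCat.ofHom (Ideal.Quotient.mk I) ≫ s.inr := by
      rw [hψ', Category.assoc, ← s.condition]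
      congr 1
    exact congrArg (fun φ => φ.hom) e1
  · apply CommRingCat.hom_ext
    apply Ideal.Quotient.ringHom_ext
    ext x
    have := congrArg (fun φ => φ.hom x) h1
    simpa using this

/-- Lifting an affine etale chart of `T = Spec (A ⧸ I)` to an affine etale chart of `T' = Spec A`, with the
cartesian square. -/
theorem exists_lifted_chart {F G : AlgSp.Sp S} {f : F ⟶ G} (sq : AlgSp.InfSq f) (E : CommRingCat.{u})
    (c : Spec E ⟶ sq.ptT.left) (hc : Etale c) :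
    ∃ (W' TJ : Over S) (e : W' ⟶ sq.ptT') (jJ : TJ ⟶ W') (θ₀ : TJ ⟶ sq.ptT)
      (k : (Over.mk (c ≫ sq.ptT.hom) : Over S) ⟶ TJ),
      IsAffine W'.left ∧ Etale e.left ∧ IsPullback jJ θ₀ e sq.j ∧ IsIso k ∧
        k ≫ θ₀ = (Over.homMk c rfl : (Over.mk (c ≫ sq.ptT.hom) : Over S) ⟶ sq.ptT) := by
  let ψ : CommRingCat.of (sq.A ⧸ sq.I) ⟶ E := Spec.preimage c
  have hψ : Spec.map ψ = c := Spec.map_preimage _
  have hψE : ψ.hom.Etale := by
    have : Etale (Spec.map ψ) := by rw [hψ]; exact hc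
    exact (HasRingHomProperty.Spec_iff (P := @Etale)).1 this
  obtain ⟨R, ρ, κ, hρE, hρκ, hκs, hκk⟩ := exists_chartLift sq.I E ψ hψE
  obtain ⟨J, hJdef⟩ : ∃ J : Ideal R, J = RingHom.ker κ.hom := ⟨_, rfl⟩
  have hJ : J = sq.I.map ρ.hom := by
    refine le_antisymm (hJdef ▸ hκk) ?_
    rw [Ideal.map_le_iff_le_comap]
    intro i hi
    rw [hJdef]
    change κ.hom (ρ.hom i) = 0
    have := congrArg (fun φ => φ.hom i) hρκ
    simp only [CommRingCat.hom_comp, RingHom.coe_comp, Function.comp_apply, CommRingCat.hom_ofHom]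
      at this
    rw [this, Ideal.Quotient.eq_zero_iff_mem.2 hi, map_zero]
  have hIJ : sq.I ≤ J.comap ρ.hom := by
    rw [← Ideal.map_le_iff_le_comap, hJ]
  let ψ' : CommRingCat.of (sq.A ⧸ sq.I) ⟶ CommRingCat.of (R ⧸ J) :=
    CommRingCat.ofHom (Ideal.quotientMap J ρ.hom hIJ)
  have hψ' : CommRingCat.ofHom (Ideal.Quotient.mk sq.I) ≫ ψ' =
      ρ ≫ CommRingCat.ofHom (Ideal.Quotient.mk J) := by
    ext x
    simp [ψ']
  have hpush := isPushout_quotient sq.I R ρ J hJ ψ' hψ'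
  have hkerJ : ∀ r ∈ J, κ.hom r = 0 := fun r hr => by rw [hJdef] at hr; exact hr
  let ε₀ : CommRingCat.of (R ⧸ J) ⟶ E := CommRingCat.ofHom (Ideal.Quotient.lift J κ.hom hkerJ)
  have hε₀ : CommRingCat.ofHom (Ideal.Quotient.mk J) ≫ ε₀ = κ := by
    ext x
    simp [ε₀]
  have hε₀bij : Function.Bijective ε₀.hom := by
    constructor
    · rw [injective_iff_map_eq_zero]
      intro y hy
      obtain ⟨r, rfl⟩ := Ideal.Quotient.mk_surjective y
      have : κ.hom r = 0 := by simpa [ε₀] using hy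
      rw [Ideal.Quotient.eq_zero_iff_mem, hJdef]
      exact this
    · intro y
      obtain ⟨r, rfl⟩ := hκs y
      exact ⟨Ideal.Quotient.mk J r, by simp [ε₀]⟩
  haveI : IsIso ε₀ := (ConcreteCategory.isIso_iff_bijective ε₀).2 hε₀bij
  have hψ'ε : ψ' ≫ ε₀ = ψ := by
    apply CommRingCat.hom_ext
    apply Ideal.Quotient.ringHom_ext
    have e1 : CommRingCat.ofHom (Ideal.Quotient.mk sq.I) ≫ ψ' ≫ ε₀ =
        CommRingCat.ofHom (Ideal.Quotient.mk sq.I) ≫ ψ := by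
      rw [← Category.assoc, hψ', Category.assoc, hε₀, hρκ]
    exact congrArg (fun φ => φ.hom) e1
  let str' : Spec R ⟶ S := Spec.map ρ ≫ sq.str
  let W' : Over S := Over.mk str'
  let TJ : Over S := Over.mk (Spec.map (CommRingCat.ofHom (Ideal.Quotient.mk J)) ≫ str')
  let e : W' ⟶ sq.ptT' := Over.homMk (Spec.map ρ) rfl
  let jJ : TJ ⟶ W' := Over.homMk (Spec.map (CommRingCat.ofHom (Ideal.Quotient.mk J))) rfl
  have hθw : Spec.map ψ' ≫ Spec.map (CommRingCat.ofHom (Ideal.Quotient.mk sq.I)) =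
      Spec.map (CommRingCat.ofHom (Ideal.Quotient.mk J)) ≫ Spec.map ρ := by
    rw [← Spec.map_comp, ← Spec.map_comp, hψ']
  let θ₀ : TJ ⟶ sq.ptT := Over.homMk (Spec.map ψ') (by
    change Spec.map ψ' ≫ Spec.map (CommRingCat.ofHom (Ideal.Quotient.mk sq.I)) ≫ sq.str =
      Spec.map (CommRingCat.ofHom (Ideal.Quotient.mk J)) ≫ Spec.map ρ ≫ sq.str
    rw [← Category.assoc, hθw, Category.assoc])
  have hkθ : Spec.map ε₀ ≫ Spec.map ψ' = c := by
    rw [← Spec.map_comp, hψ'ε, hψ]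
  let k : (Over.mk (c ≫ sq.ptT.hom) : Over S) ⟶ TJ := Over.homMk (Spec.map ε₀) (by
    change Spec.map ε₀ ≫ Spec.map (CommRingCat.ofHom (Ideal.Quotient.mk J)) ≫ Spec.map ρ ≫ sq.str =
      c ≫ Spec.map (CommRingCat.ofHom (Ideal.Quotient.mk sq.I)) ≫ sq.str
    rw [← Category.assoc (Spec.map (CommRingCat.ofHom (Ideal.Quotient.mk J))), ← hθw,
      ← Category.assoc, ← Category.assoc, hkθ, Category.assoc])
  have comm : jJ ≫ e = θ₀ ≫ sq.j := by
    ext
    exact hθw.symm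
  refine ⟨W', TJ, e, jJ, θ₀, k, ?_, ?_, ?_, ?_, ?_⟩
  · change IsAffine (Spec R); infer_instance
  · change Etale (Spec.map ρ)
    exact (HasRingHomProperty.Spec_iff (P := @Etale)).2 hρE
  · exact IsPullback.of_map (Over.forget S) comm
      (isPullback_SpecMap_of_isPushout ρ (CommRingCat.ofHom (Ideal.Quotient.mk sq.I))
        (CommRingCat.ofHom (Ideal.Quotient.mk J)) ψ' hpush)
  · haveI : IsIso ((Over.forget S).map k) := by
      change IsIso (Spec.map ε₀); infer_instance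
    exact isIso_of_reflects_iso k (Over.forget S)
  · ext
    exact hkθ

section Univ

variable {Z Y Z' Y' X : AlgSp.Sp S} {e : Z ⟶ Y} {hY : Y ⟶ X} {iZ : Z ⟶ Z'} {iY : Y ⟶ Y'}
  {f' : Z' ⟶ Y'} {hY' : Y' ⟶ X}

/-- Uniqueness of a local solution on an affine chart on which the top arrow lifts to `Z`. -/
theorem univ_uniq_on_chart (w : iZ ≫ f' = e ≫ iY) (w' : iY ≫ hY' = hY)
    (HU : AlgSp.IsUnivFOThick (e ≫ hY) iZ (f' ≫ hY')) (hf' : AlgSp.IsFormallyEtaleMor f')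
    (sq : AlgSp.InfSq hY') (t : (AlgSp.yon S).obj sq.ptT ⟶ Y) (ht : sq.top = t ≫ iY)
    {W' TJ : Over S} (hW' : IsAffine W'.left) (ec : W' ⟶ sq.ptT') (jJ : TJ ⟶ W') (θ₀ : TJ ⟶ sq.ptT)
    (hFO : AlgSp.IsFOThickMor ((AlgSp.yon S).map jJ)) (comm : jJ ≫ ec = θ₀ ≫ sq.j)
    (α : (AlgSp.yon S).obj TJ ⟶ Z) (hα : α ≫ e = (AlgSp.yon S).map θ₀ ≫ t)
    (ℓ₁ ℓ₂ : (AlgSp.yon S).obj W' ⟶ Y')
    (h1 : ℓ₁ ≫ hY' = (AlgSp.yon S).map ec ≫ sq.bot)
    (h1' : (AlgSp.yon S).map jJ ≫ ℓ₁ = (AlgSp.yon S).map θ₀ ≫ sq.top)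
    (h2 : ℓ₂ ≫ hY' = (AlgSp.yon S).map ec ≫ sq.bot)
    (h2' : (AlgSp.yon S).map jJ ≫ ℓ₂ = (AlgSp.yon S).map θ₀ ≫ sq.top) : ℓ₁ = ℓ₂ := by
  haveI := hW'
  haveI : IsClosedImmersion jJ.left := ((AlgSp.isThickMor_yon_map_iff jJ).1 hFO.1).1
  have hsq : AlgSp.sqZero jJ.left := AlgSp.AffLocT.yon_map hW' hFO.2
  have hsm : AlgSp.IsFormallySmoothMor f' := ((isFormallyEtaleMor_iff _).1 hf').1
  have hαtop : (α ≫ iZ) ≫ f' = (AlgSp.yon S).map θ₀ ≫ sq.top := by
    rw [Category.assoc, w, ← Category.assoc, hα, Category.assoc, ← ht]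
  obtain ⟨c₁, hc1, hc1'⟩ := exists_lift_of_chart hsm jJ hsq (α ≫ iZ) ℓ₁ (by rw [hαtop, h1'])
  obtain ⟨c₂, hc2, hc2'⟩ := exists_lift_of_chart hsm jJ hsq (α ≫ iZ) ℓ₂ (by rw [hαtop, h2'])
  have commU : (AlgSp.yon S).map jJ ≫ (AlgSp.yon S).map ec ≫ sq.bot = α ≫ e ≫ hY := by
    rw [← Category.assoc α, hα, ← w', Category.assoc, ← Category.assoc t, ← ht, sq.comm,
      ← Functor.map_comp_assoc, ← Functor.map_comp_assoc, comm]
  have hu := HU.2.2 (AlgSp.IsAlgSpace.yon_obj TJ) (AlgSp.IsAlgSpace.yon_obj W')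
    ((AlgSp.yon S).map jJ) α ((AlgSp.yon S).map ec ≫ sq.bot) hFO commU
  have e12 : c₁ = c₂ := hu.unique ⟨hc1, by rw [← Category.assoc, hc1', h1]⟩
    ⟨hc2, by rw [← Category.assoc, hc2', h2]⟩
  rw [← hc1', ← hc2', e12]

/-- Existence of a local solution on a chart on which the top arrow lifts to `Z`. -/
theorem univ_exists_on_chart (w : iZ ≫ f' = e ≫ iY) (w' : iY ≫ hY' = hY)
    (HU : AlgSp.IsUnivFOThick (e ≫ hY) iZ (f' ≫ hY'))
    (sq : AlgSp.InfSq hY') (t : (AlgSp.yon S).obj sq.ptT ⟶ Y) (ht : sq.top = t ≫ iY)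
    {W' TJ : Over S} (ec : W' ⟶ sq.ptT') (jJ : TJ ⟶ W') (θ₀ : TJ ⟶ sq.ptT)
    (hFO : AlgSp.IsFOThickMor ((AlgSp.yon S).map jJ)) (comm : jJ ≫ ec = θ₀ ≫ sq.j)
    (α : (AlgSp.yon S).obj TJ ⟶ Z) (hα : α ≫ e = (AlgSp.yon S).map θ₀ ≫ t) :
    ∃ lam : (AlgSp.yon S).obj W' ⟶ Y', lam ≫ hY' = (AlgSp.yon S).map ec ≫ sq.bot ∧
      (AlgSp.yon S).map jJ ≫ lam = (AlgSp.yon S).map θ₀ ≫ sq.top := by
  have commU : (AlgSp.yon S).map jJ ≫ (AlgSp.yon S).map ec ≫ sq.bot = α ≫ e ≫ hY := by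
    rw [← Category.assoc α, hα, ← w', Category.assoc, ← Category.assoc t, ← ht, sq.comm,
      ← Functor.map_comp_assoc, ← Functor.map_comp_assoc, comm]
  obtain ⟨a', ⟨ha1, ha2⟩, -⟩ := HU.2.2 (AlgSp.IsAlgSpace.yon_obj TJ) (AlgSp.IsAlgSpace.yon_obj W')
    ((AlgSp.yon S).map jJ) α ((AlgSp.yon S).map ec ≫ sq.bot) hFO commU
  refine ⟨a' ≫ f', by rw [Category.assoc, ha2], ?_⟩
  rw [← Category.assoc, ha1, Category.assoc, w, ← Category.assoc, hα, Category.assoc, ← ht]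

/-- The infinitesimal lifting problem for `Y' ⟶ X` whose top arrow factors through `Y` has exactly one
solution, when `(Z ⊂ Z')` is a universal first order thickening over `X` lying etale surjectively over
`(Y ⊂ Y')`. -/
theorem univ_hasUniqLift (w : iZ ≫ f' = e ≫ iY) (w' : iY ≫ hY' = hY)
    (HU : AlgSp.IsUnivFOThick (e ≫ hY) iZ (f' ≫ hY')) (hf' : AlgSp.IsFormallyEtaleMor f')
    {Z₀ : Over S} (a₀ : (AlgSp.yon S).obj Z₀ ⟶ Z) (hē : AlgSp.RepWith @Etale (a₀ ≫ e))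
    (hēs : AlgSp.RepWith @Surjective (a₀ ≫ e))
    (sq : AlgSp.InfSq hY') (t : (AlgSp.yon S).obj sq.ptT ⟶ Y) (ht : sq.top = t ≫ iY)
    (hFO : ∀ (W' TJ : Over S) (ec : W' ⟶ sq.ptT') (jJ : TJ ⟶ W') (θ₀ : TJ ⟶ sq.ptT),
      IsAffine W'.left → Etale ec.left → IsPullback jJ θ₀ ec sq.j →
        AlgSp.IsFOThickMor ((AlgSp.yon S).map jJ)) :
    sq.HasUniqLift := by
  have hrep : AlgSp.Representable (a₀ ≫ e) := hē.rep
  let P := hrep.pullback t
  let p : P ⟶ sq.ptT := hrep.snd t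
  let q : (AlgSp.yon S).obj P ⟶ (AlgSp.yon S).obj Z₀ := hrep.fst t
  have hpq : q ≫ a₀ ≫ e = (AlgSp.yon S).map p ≫ t := hrep.w t
  haveI hpE : Etale p.left := hē.property_snd t
  have hpS : Surjective p.left := hēs.property_snd t
  let 𝒰 := P.left.affineOpenCover
  obtain ⟨c, hc⟩ : ∃ c : ∀ x, Spec (𝒰.X x) ⟶ sq.ptT.left, ∀ x, c x = 𝒰.f x ≫ p.left :=
    ⟨_, fun _ => rfl⟩
  have hcE : ∀ x, Etale (c x) := fun x => by rw [hc x]; infer_instance
  choose W' TJ ec jJ θ₀ k hW'aff hecE hpb hkiso hkθ using fun x =>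
    exists_lifted_chart sq (𝒰.X x) (c x) (hcE x)
  have hPhom : ∀ x, 𝒰.f x ≫ P.hom = c x ≫ sq.ptT.hom := fun x => by
    rw [hc x, Category.assoc, Over.w p]
  let fx : ∀ x, (Over.mk (c x ≫ sq.ptT.hom) : Over S) ⟶ P := fun x =>
    Over.homMk (𝒰.f x) (hPhom x)
  have hfxp : ∀ x, fx x ≫ p = k x ≫ θ₀ x := fun x => by
    rw [hkθ x]
    ext
    exact (hc x).symm
  haveI := hkiso
  let α : ∀ x, (AlgSp.yon S).obj (TJ x) ⟶ Z := fun x =>
    (AlgSp.yon S).map (inv (k x)) ≫ (AlgSp.yon S).map (fx x) ≫ q ≫ a₀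
  have hα : ∀ x, α x ≫ e = (AlgSp.yon S).map (θ₀ x) ≫ t := fun x => by
    change ((AlgSp.yon S).map (inv (k x)) ≫ (AlgSp.yon S).map (fx x) ≫ q ≫ a₀) ≫ e = _
    rw [Category.assoc, Category.assoc, Category.assoc, hpq, ← Functor.map_comp_assoc,
      ← Functor.map_comp_assoc, Category.assoc, hfxp x, IsIso.inv_hom_id_assoc]
  have hFOx : ∀ x, AlgSp.IsFOThickMor ((AlgSp.yon S).map (jJ x)) := fun x =>
    hFO _ _ _ _ _ (hW'aff x) (hecE x) (hpb x)
  -- joint surjectivity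
  have hsurjθ : ∀ y0 : sq.ptT.left, ∃ x, y0 ∈ Set.range (θ₀ x).left := by
    intro y0
    obtain ⟨z, rfl⟩ := hpS.surj y0
    obtain ⟨z', hz'⟩ := 𝒰.covers z
    refine ⟨𝒰.idx z, (k (𝒰.idx z)).left z', ?_⟩
    have h1 : (k (𝒰.idx z)).left ≫ (θ₀ (𝒰.idx z)).left = 𝒰.f (𝒰.idx z) ≫ p.left :=
      (congrArg CommaMorphism.left (hkθ (𝒰.idx z))).trans (hc _)
    have h2 := congrArg (fun m : Spec (𝒰.X (𝒰.idx z)) ⟶ sq.ptT.left => m z') h1
    simp only [Scheme.Hom.comp_apply] at h2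
    rw [h2, hz']
  have hsurj : ∀ y : sq.ptT'.left, ∃ x, y ∈ Set.range (ec x).left := by
    intro y
    obtain ⟨y0, rfl⟩ := spec_map_mk_surjective sq.I sq.sq_zero y
    obtain ⟨x, z, rfl⟩ := hsurjθ y0
    refine ⟨x, (jJ x).left z, ?_⟩
    have h1 : (jJ x).left ≫ (ec x).left = (θ₀ x).left ≫ sq.j.left :=
      congrArg CommaMorphism.left (hpb x).w
    have h2 := congrArg (fun m : (TJ x).left ⟶ sq.ptT'.left => m z) h1
    simp only [Scheme.Hom.comp_apply] at h2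
    exact h2
  -- local uniqueness for two global solutions
  have huniq : ∀ l l' : (AlgSp.yon S).obj sq.ptT' ⟶ Y',
      (AlgSp.yon S).map sq.j ≫ l = sq.top → l ≫ hY' = sq.bot →
      (AlgSp.yon S).map sq.j ≫ l' = sq.top → l' ≫ hY' = sq.bot → l = l' := by
    intro l l' a1 a2 b1 b2
    refine hom_ext_of_family W' ec (fun x => inferInstance) (fun x => inferInstance) hsurj _ _
      fun x => ?_
    refine univ_uniq_on_chart w w' HU hf' sq t ht (hW'aff x) (ec x) (jJ x) (θ₀ x) (hFOx x) (hpb x).w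
      (α x) (hα x) _ _ ?_ ?_ ?_ ?_
    · rw [Category.assoc, a2]
    · rw [← Functor.map_comp_assoc, (hpb x).w, Functor.map_comp_assoc, a1]
    · rw [Category.assoc, b2]
    · rw [← Functor.map_comp_assoc, (hpb x).w, Functor.map_comp_assoc, b1]
  -- local existence
  choose lam hlam1 hlam2 using fun x =>
    univ_exists_on_chart w w' HU sq t ht (ec x) (jJ x) (θ₀ x) (hFOx x) (hpb x).w (α x) (hα x)
  have hcompat : ∀ (x x' : 𝒰.I₀) (Y₀ : Over S) (g : Y₀ ⟶ W' x) (g' : Y₀ ⟶ W' x'),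
      g ≫ ec x = g' ≫ ec x' →
      (AlgSp.yon S).map g ≫ lam x = (AlgSp.yon S).map g' ≫ lam x' := by
    intro x x' Y₀ g g' hgg
    -- reduce to the fibre product
    let O : Over S := pullback (ec x) (ec x')
    let pr₁ : O ⟶ W' x := pullback.fst (ec x) (ec x')
    let pr₂ : O ⟶ W' x' := pullback.snd (ec x) (ec x')
    have hO : pr₁ ≫ ec x = pr₂ ≫ ec x' := pullback.condition
    suffices hkey : (AlgSp.yon S).map pr₁ ≫ lam x = (AlgSp.yon S).map pr₂ ≫ lam x' by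
      have e1 : (AlgSp.yon S).map g =
          (AlgSp.yon S).map (pullback.lift g g' hgg) ≫ (AlgSp.yon S).map pr₁ := by
        rw [← Functor.map_comp]; congr 1; exact (pullback.lift_fst _ _ _).symm
      have e2 : (AlgSp.yon S).map g' =
          (AlgSp.yon S).map (pullback.lift g g' hgg) ≫ (AlgSp.yon S).map pr₂ := by
        rw [← Functor.map_comp]; congr 1; exact (pullback.lift_snd _ _ _).symm
      rw [e1, e2, Category.assoc, Category.assoc, hkey]
    have sqO : IsPullback pr₁ pr₂ (ec x) (ec x') := IsPullback.of_hasPullback _ _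
    have sqOs := sqO.map (Over.forget S)
    haveI := hecE x
    haveI := hecE x'
    have hpr₁E : Etale pr₁.left :=
      MorphismProperty.of_isPullback (P := @Etale) sqOs.flip (hecE x')
    haveI := hW'aff x
    haveI := hW'aff x'
    haveI : IsAffine sq.ptT'.left := by
      change IsAffine (Spec (CommRingCat.of sq.A)); infer_instance
    have haffx' : IsAffineHom (ec x').left := inferInstance
    have hpr₁A : IsAffineHom pr₁.left :=
      MorphismProperty.of_isPullback (P := @IsAffineHom) sqOs.flip haffx'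
    have hOaff : IsAffine O.left := isAffine_of_isAffineHom pr₁.left
    let ecO : O ⟶ sq.ptT' := pr₁ ≫ ec x
    have hecOE : Etale ecO.left := by
      change Etale (pr₁.left ≫ (ec x).left); infer_instance
    let TO : Over S := pullback ecO sq.j
    let jO : TO ⟶ O := pullback.fst ecO sq.j
    let θO : TO ⟶ sq.ptT := pullback.snd ecO sq.j
    have sqTO : IsPullback jO θO ecO sq.j := IsPullback.of_hasPullback _ _
    have hFOO := hFO _ _ _ _ _ hOaff hecOE sqTO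
    have wm : (jO ≫ pr₁) ≫ ec x = θO ≫ sq.j := by rw [Category.assoc]; exact sqTO.w
    have wm' : (jO ≫ pr₂) ≫ ec x' = θO ≫ sq.j := by rw [Category.assoc, ← hO]; exact sqTO.w
    obtain ⟨m, hm1, hm2⟩ : ∃ m : TO ⟶ TJ x, m ≫ jJ x = jO ≫ pr₁ ∧ m ≫ θ₀ x = θO :=
      ⟨(hpb x).lift _ _ wm, (hpb x).lift_fst _ _ _, (hpb x).lift_snd _ _ _⟩
    obtain ⟨m', hm1', hm2'⟩ : ∃ m' : TO ⟶ TJ x', m' ≫ jJ x' = jO ≫ pr₂ ∧ m' ≫ θ₀ x' = θO :=
      ⟨(hpb x').lift _ _ wm', (hpb x').lift_fst _ _ _, (hpb x').lift_snd _ _ _⟩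
    refine univ_uniq_on_chart w w' HU hf' sq t ht hOaff ecO jO θO hFOO sqTO.w
      ((AlgSp.yon S).map m ≫ α x) ?_ _ _ ?_ ?_ ?_ ?_
    · rw [Category.assoc, hα x, ← Functor.map_comp_assoc, hm2]
    · rw [Category.assoc, hlam1 x, ← Functor.map_comp_assoc]
    · rw [← Functor.map_comp_assoc, ← hm1, Functor.map_comp_assoc, hlam2 x,
        ← Functor.map_comp_assoc, hm2]
    · rw [Category.assoc, hlam1 x', ← Functor.map_comp_assoc, ← hO]
    · rw [← Functor.map_comp_assoc, ← hm1', Functor.map_comp_assoc, hlam2 x',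
        ← Functor.map_comp_assoc, hm2']
  obtain ⟨l, hl⟩ := exists_glue_of_family W' ec (fun x => inferInstance) (fun x => inferInstance)
    hsurj lam hcompat
  have hθE : ∀ x, Etale (θ₀ x).left := fun x => by
    haveI : IsIso (k x).left := by
      change IsIso ((Over.forget S).map (k x)); infer_instance
    have h1 : (k x).left ≫ (θ₀ x).left = 𝒰.f x ≫ p.left :=
      (congrArg CommaMorphism.left (hkθ x)).trans (hc x)
    have h2 : (θ₀ x).left = inv (k x).left ≫ 𝒰.f x ≫ p.left := by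
      rw [← h1, IsIso.inv_hom_id_assoc]
    rw [h2]; infer_instance
  have hl1 : (AlgSp.yon S).map sq.j ≫ l = sq.top := by
    refine hom_ext_of_family TJ θ₀ (fun x => ?_) (fun x => ?_) hsurjθ _ _ fun x => ?_
    · haveI := hθE x; infer_instance
    · haveI := hθE x; infer_instance
    · rw [← Functor.map_comp_assoc, ← (hpb x).w, Functor.map_comp_assoc, hl x, hlam2 x]
  have hl2 : l ≫ hY' = sq.bot := by
    refine hom_ext_of_family W' ec (fun x => inferInstance) (fun x => inferInstance) hsurj _ _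
      fun x => ?_
    rw [← Category.assoc, hl x, hlam1 x]
  exact ⟨l, ⟨hl1, hl2⟩, fun l' ⟨b1, b2⟩ => huniq l' l b1 b2 hl1 hl2⟩

end Univ

end Groth.Agent.Lib.H15.AS
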