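import Mathlib
import Groth.Prelude.Def_AlgSp
import Groth.Prelude.Def_AlgSp2
import Groth.Prelude.Def_AlgSpInf
import Groth.Agent.Lib.helper15.AlgSpUnivThick

/-!
# First order thickenings are stable under arbitrary base change
-/

set_option autoImplicit false
universe u
open CategoryTheory CategoryTheory.Limits AlgebraicGeometry Opposite

namespace Groth.Agent.Lib.H15.AS

/-- For a cartesian square of affine schemes with `f` inducing a surjection on global sections, the kernel of
the base change is the extension of the kernel. -/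
theorem ker_appTop_of_isPullback {X Y Z P : Scheme.{u}} {fst : P ⟶ X} {snd : P ⟶ Y} {f : X ⟶ Z}
    {g : Y ⟶ Z} [IsAffine X] [IsAffine Y] [IsAffine Z] (h : IsPullback fst snd f g)
    (hf : Function.Surjective f.appTop.hom) :
    RingHom.ker snd.appTop.hom = (RingHom.ker f.appTop.hom).map g.appTop.hom := by
  have hpo := isPushout_appTop_of_isPullback h
  apply le_antisymm
  · set J : Ideal Γ(Y, ⊤) := (RingHom.ker f.appTop.hom).map g.appTop.hom with hJ
    have hker : RingHom.ker f.appTop.hom ≤ RingHom.ker ((Ideal.Quotient.mk J).comp g.appTop.hom) := by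
      intro x hx
      rw [RingHom.mem_ker, RingHom.comp_apply, Ideal.Quotient.eq_zero_iff_mem]
      exact Ideal.mem_map_of_mem _ hx
    let l : Γ(X, ⊤) →+* Γ(Y, ⊤) ⧸ J := RingHom.liftOfSurjective f.appTop.hom hf ⟨_, hker⟩
    have hl : l.comp f.appTop.hom = (Ideal.Quotient.mk J).comp g.appTop.hom :=
      RingHom.liftOfRightInverse_comp _ _ _ _
    have w : f.appTop ≫ CommRingCat.ofHom l = g.appTop ≫ CommRingCat.ofHom (Ideal.Quotient.mk J) := by
      apply CommRingCat.hom_ext
      simpa using hl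
    have hd : snd.appTop ≫ hpo.desc _ _ w = CommRingCat.ofHom (Ideal.Quotient.mk J) := hpo.inr_desc _ _ w
    intro y hy
    rw [RingHom.mem_ker] at hy
    have := congrArg (fun φ => φ.hom y) hd
    simp only [CommRingCat.hom_comp, RingHom.coe_comp, Function.comp_apply, CommRingCat.hom_ofHom] at this
    rw [hy, map_zero] at this
    exact Ideal.Quotient.eq_zero_iff_mem.1 this.symm
  · rw [Ideal.map_le_iff_le_comap]
    intro x hx
    rw [RingHom.mem_ker] at hx
    rw [Ideal.mem_comap, RingHom.mem_ker]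
    have := congrArg (fun φ => φ.hom x) hpo.w
    simp only [CommRingCat.hom_comp, RingHom.coe_comp, Function.comp_apply] at this
    rw [← this, hx, map_zero]

/-- Over an affine target, square-zero kernel is a statement about global sections. -/
theorem sqZero_iff_of_isAffine {W V : Scheme.{u}} (i : W ⟶ V) [IsAffine V] [QuasiCompact i] :
    AlgSp.sqZero i ↔ RingHom.ker i.appTop.hom * RingHom.ker i.appTop.hom = ⊥ := by
  change i.ker * i.ker = ⊥ ↔ _
  constructor
  · intro h
    have := congrArg (fun I : Scheme.IdealSheafData V => I.ideal ⟨⊤, isAffineOpen_top V⟩) h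
    simp only [Scheme.IdealSheafData.ideal_mul, Pi.mul_apply, Scheme.Hom.ker_apply,
      Scheme.IdealSheafData.ideal_bot, Pi.bot_apply] at this
    exact this
  · intro h
    apply Scheme.IdealSheafData.ext_of_isAffine
    simp only [Scheme.IdealSheafData.ideal_mul, Pi.mul_apply, Scheme.Hom.ker_apply,
      Scheme.IdealSheafData.ideal_bot, Pi.bot_apply]
    exact h

/-- Square-zero closed immersions of affine schemes are stable under base change to an affine scheme. -/
theorem sqZero_of_isPullback_affine {X Y Z P : Scheme.{u}} {fst : P ⟶ X} {snd : P ⟶ Y} {f : X ⟶ Z}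
    {g : Y ⟶ Z} [IsAffine Y] [IsAffine Z] [IsClosedImmersion f] (h : IsPullback fst snd f g)
    (hf : AlgSp.sqZero f) : AlgSp.sqZero snd := by
  obtain ⟨hX, hsurj⟩ := IsClosedImmersion.isAffine_surjective_of_isAffine f
  have : IsClosedImmersion snd := MorphismProperty.of_isPullback (P := @IsClosedImmersion) h inferInstance
  rw [sqZero_iff_of_isAffine] at hf ⊢
  rw [ker_appTop_of_isPullback h hsurj, ← Ideal.map_mul, hf, Ideal.map_bot]

/-- A global section of a scheme vanishing on a jointly surjective flat family vanishes. -/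
theorem eq_zero_of_flat_family {V : Scheme.{u}} {ι : Type*} (A : ι → Scheme.{u}) (e : ∀ k, A k ⟶ V)
    (he : ∀ k, Flat (e k)) (hsurj : ∀ v : V, ∃ k, ∃ a : A k, e k a = v) (s : Γ(V, ⊤))
    (hs : ∀ k, (e k).appTop.hom s = 0) : s = 0 := by
  refine TopCat.Presheaf.section_ext V.sheaf ⊤ s 0 fun v hv => ?_
  obtain ⟨k, a, rfl⟩ := hsurj v
  have hinj : Function.Injective ((e k).stalkMap a) := by
    algebraize [((e k).stalkMap a).hom]
    have : Module.FaithfullyFlat (V.presheaf.stalk (e k a)) ((A k).presheaf.stalk a) :=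
      @Module.FaithfullyFlat.of_flat_of_isLocalHom _ _ _ _ _ _ _
        (Flat.stalkMap (e k) a) ((e k).toLRSHom.prop a)
    exact ‹RingHom.FaithfullyFlat _›.injective
  apply hinj
  refine (Scheme.Hom.germ_stalkMap_apply (e k) ⊤ a hv s).trans ?_
  have h0 : (e k).app ⊤ s = 0 := hs k
  rw [h0]
  simp only [map_zero]
  exact (map_zero _).symm

/-- Square-zero descends along a jointly surjective flat family of affine schemes. -/
theorem sqZero_of_flat_family {W V : Scheme.{u}} (i : W ⟶ V) [IsAffine V] [IsClosedImmersion i]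
    {ι : Type*} (A : ι → Scheme.{u}) [∀ k, IsAffine (A k)] (e : ∀ k, A k ⟶ V)
    (he : ∀ k, Flat (e k)) (hsurj : ∀ v : V, ∃ k, ∃ a : A k, e k a = v)
    (P : ι → Scheme.{u}) (fst : ∀ k, P k ⟶ W) (snd : ∀ k, P k ⟶ A k)
    (sq : ∀ k, IsPullback (fst k) (snd k) i (e k)) (h : ∀ k, AlgSp.sqZero (snd k)) :
    AlgSp.sqZero i := by
  obtain ⟨hW, hsj⟩ := IsClosedImmersion.isAffine_surjective_of_isAffine i
  rw [sqZero_iff_of_isAffine, eq_bot_iff]
  intro s hs
  rw [Ideal.mem_bot]
  refine eq_zero_of_flat_family A e he hsurj s fun k => ?_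
  have : IsClosedImmersion (snd k) :=
    MorphismProperty.of_isPullback (P := @IsClosedImmersion) (sq k) inferInstance
  have hk := h k
  rw [sqZero_iff_of_isAffine, ker_appTop_of_isPullback (sq k) hsj, ← Ideal.map_mul] at hk
  have := Ideal.mem_map_of_mem (e k).appTop.hom hs
  rw [hk] at this
  exact this

variable {S : Scheme.{u}}

/-- Local step: the base change of a first order thickening to an affine scheme mapping to an affine etale
chart has square-zero kernel. -/
theorem sqZero_local_step {T T' : AlgSp.Sp S} {j : T ⟶ T'} (hj : AlgSp.IsFOThickMor j)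
    {V W : Over S} (ψ : (AlgSp.yon S).obj V ⟶ T') (fstV : (AlgSp.yon S).obj W ⟶ T) (snd : W ⟶ V)
    (sqV : IsPullback fstV ((AlgSp.yon S).map snd) j ψ)
    {A B : Over S} (hA : IsAffine A.left) (hB : IsAffine B.left) (eA : A ⟶ V) (r : A ⟶ B)
    (eB : (AlgSp.yon S).obj B ⟶ T') (heB : AlgSp.RepWith @Etale eB)
    (comm : (AlgSp.yon S).map eA ≫ ψ = (AlgSp.yon S).map r ≫ eB)
    {Q : Over S} {q₁ : Q ⟶ W} {q₂ : Q ⟶ A} (sqQ : IsPullback q₁ q₂ snd eA) :
    AlgSp.sqZero q₂.left := by
  have hrep : AlgSp.Representable j := hj.1.rep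
  have sqB := hrep.isPullback eB
  have hFO := isFOThickMor_chart hj eB heB
  have hsq0 : AlgSp.sqZero (hrep.snd eB).left := AlgSp.AffLocT.yon_map hB hFO.2
  have hci : IsClosedImmersion (hrep.snd eB).left := ((AlgSp.isThickMor_yon_map_iff _).1 hFO.1).1
  have big := (sqQ.map (AlgSp.yon S)).paste_horiz sqV
  have w : ((AlgSp.yon S).map q₁ ≫ fstV) ≫ j =
      ((AlgSp.yon S).map q₂ ≫ (AlgSp.yon S).map r) ≫ eB := by
    rw [Category.assoc _ _ eB, ← comm]; exact big.w
  let t := sqB.lift _ _ w
  have ht1 : t ≫ hrep.fst eB = (AlgSp.yon S).map q₁ ≫ fstV := sqB.lift_fst _ _ w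
  have ht2 : t ≫ (AlgSp.yon S).map (hrep.snd eB) = (AlgSp.yon S).map q₂ ≫ (AlgSp.yon S).map r :=
    sqB.lift_snd _ _ w
  have big' : IsPullback (t ≫ hrep.fst eB) ((AlgSp.yon S).map q₂) j ((AlgSp.yon S).map r ≫ eB) := by
    rw [ht1, ← comm]; exact big
  have left := IsPullback.of_right big' ht2 sqB
  obtain ⟨t₀, ht₀⟩ := (AlgSp.yon S).map_surjective t
  rw [← ht₀] at left
  have leftS : IsPullback t₀ q₂ (hrep.snd eB) r := IsPullback.of_map_of_faithful (AlgSp.yon S) left
  have leftSch := leftS.map (Over.forget S)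
  haveI := hA
  haveI := hB
  exact sqZero_of_isPullback_affine (f := (hrep.snd eB).left) leftSch hsq0

/-- The base change of a first order thickening of algebraic spaces to an affine scheme has square-zero
kernel. -/
theorem sqZero_of_isPullback_space {T T' : AlgSp.Sp S} (hT' : AlgSp.IsAlgSpace T') {j : T ⟶ T'}
    (hj : AlgSp.IsFOThickMor j) {V W : Over S} (hV : IsAffine V.left) (ψ : (AlgSp.yon S).obj V ⟶ T')
    (fstV : (AlgSp.yon S).obj W ⟶ T) (snd : W ⟶ V)
    (sqV : IsPullback fstV ((AlgSp.yon S).map snd) j ψ) : AlgSp.sqZero snd.left := by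
  obtain ⟨U, c, hce, hcs⟩ := hT'.atlas
  have hc : AlgSp.Representable c := hce.rep
  have sqc := hc.isPullback' ψ
  have hsndE : Etale (hc.snd ψ).left := hce.property_snd ψ
  have hsndS : Surjective (hc.snd ψ).left := hcs.property_snd ψ
  have hthick : AlgSp.thick snd.left := (AlgSp.isThickMor_yon_map_iff snd).1
    (MorphismProperty.of_isPullback (P := AlgSp.RepWith AlgSp.thick) sqV hj.1)
  haveI : IsClosedImmersion snd.left := hthick.1
  haveI := hV
  choose B hB using fun p : (hc.pullback ψ).left => exists_affineOpen_mem' U ((hc.fst' ψ).left p)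
  have hex : ∀ p : (hc.pullback ψ).left, ∃ A : (hc.pullback ψ).left.affineOpens,
      p ∈ A.1 ∧ A.1 ≤ (hc.fst' ψ).left ⁻¹ᵁ (B p).1 := by
    intro p
    obtain ⟨_, ⟨A, hA, rfl⟩, hpA, hle⟩ :=
      (hc.pullback ψ).left.isBasis_affineOpens.exists_subset_of_mem_open
        (hB p : p ∈ (((hc.fst' ψ).left ⁻¹ᵁ (B p).1 : (hc.pullback ψ).left.Opens) : Set _))
        ((hc.fst' ψ).left ⁻¹ᵁ (B p).1).isOpen
    exact ⟨⟨A, hA⟩, hpA, hle⟩
  choose A hpA hAB using hex
  let eA : ∀ p, overOpen (hc.pullback ψ) (A p).1 ⟶ V :=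
    fun p => overOpenι (hc.pullback ψ) (A p).1 ≫ hc.snd ψ
  let r : ∀ p, overOpen (hc.pullback ψ) (A p).1 ⟶ overOpen U (B p).1 :=
    fun p => overOpenLE (hc.pullback ψ) (hAB p) ≫ overOpenRes (hc.fst' ψ) (B p).1
  haveI : ∀ p, IsAffine (overOpen (hc.pullback ψ) (A p).1).left := fun p => (A p).2
  refine sqZero_of_flat_family snd.left (fun p => (overOpen (hc.pullback ψ) (A p).1).left)
    (fun p => (eA p).left) (fun p => ?_) (fun v => ?_) (fun p => (pullback snd (eA p)).left)
    (fun p => (pullback.fst snd (eA p)).left) (fun p => (pullback.snd snd (eA p)).left)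
    (fun p => (IsPullback.of_hasPullback snd (eA p)).map (Over.forget S)) (fun p => ?_)
  · change Flat ((A p).1.ι ≫ (hc.snd ψ).left)
    infer_instance
  · obtain ⟨p, rfl⟩ := hsndS.surj v
    exact ⟨p, ⟨p, hpA p⟩, rfl⟩
  · have e1 : r p ≫ overOpenι U (B p).1 = overOpenι (hc.pullback ψ) (A p).1 ≫ hc.fst' ψ := by
      simp only [r, Category.assoc]
      rw [overOpenRes_ι, ← Category.assoc, overOpenLE_ι]
    have comm : (AlgSp.yon S).map (eA p) ≫ ψ =
        (AlgSp.yon S).map (r p) ≫ ((AlgSp.yon S).map (overOpenι U (B p).1) ≫ c) := by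
      calc (AlgSp.yon S).map (eA p) ≫ ψ
          = (AlgSp.yon S).map (overOpenι (hc.pullback ψ) (A p).1) ≫
              (AlgSp.yon S).map (hc.snd ψ) ≫ ψ := by
            rw [← Category.assoc, ← Functor.map_comp]
        _ = (AlgSp.yon S).map (overOpenι (hc.pullback ψ) (A p).1) ≫
              (AlgSp.yon S).map (hc.fst' ψ) ≫ c := by rw [sqc.w]
        _ = (AlgSp.yon S).map (r p ≫ overOpenι U (B p).1) ≫ c := by
            rw [e1, Functor.map_comp, Category.assoc]
        _ = _ := by rw [Functor.map_comp, Category.assoc]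
    exact sqZero_local_step hj ψ fstV snd sqV (this p)
      (show IsAffine (overOpen U (B p).1).left from (B p).2) (eA p) (r p) _
      (repWith_etale_overOpen c hce (B p).1) comm (IsPullback.of_hasPullback snd (eA p))

/-- First order thickenings of algebraic spaces are stable under arbitrary base change. -/
theorem isFOThickMor_of_isPullback {T T' Q Q' : AlgSp.Sp S} (hT' : AlgSp.IsAlgSpace T') {j : T ⟶ T'}
    (hj : AlgSp.IsFOThickMor j) {fst : Q ⟶ T} {j' : Q ⟶ Q'} {φ : Q' ⟶ T'}
    (sq : IsPullback fst j' j φ) : AlgSp.IsFOThickMor j' := by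
  refine ⟨MorphismProperty.of_isPullback (P := AlgSp.RepWith AlgSp.thick) sq hj.1, ?_⟩
  intro V W b fstV snd hV hb sqV
  exact sqZero_of_isPullback_space hT' hj hV (b ≫ φ) (fstV ≫ fst) snd (sqV.paste_horiz sq)

end Groth.Agent.Lib.H15.AS
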