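import Mathlib
import Groth.Prelude.Def_AlgSp
import Groth.Prelude.Def_AlgSp2
import Groth.Prelude.Def_AlgSpInf
import Groth.Agent.Lib.helper15.AlgSpThickBC

/-!
# First order thickenings of affine schemes as morphisms of sheaves; the universal first order thickening is
formally unramified
-/

set_option autoImplicit false
universe u
open CategoryTheory CategoryTheory.Limits AlgebraicGeometry Opposite

namespace Groth.Agent.Lib.H15.AS

/-- The closed immersion `Spec (A ⧸ I) ⟶ Spec A` for `I ^ 2 = 0` has square-zero kernel. -/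
theorem sqZero_Spec_map_mk {A : Type u} [CommRing A] (I : Ideal A) (hI : I ^ 2 = ⊥) :
    AlgSp.sqZero (Spec.map (CommRingCat.ofHom (Ideal.Quotient.mk I))) := by
  haveI : IsClosedImmersion (Spec.map (CommRingCat.ofHom (Ideal.Quotient.mk I))) :=
    IsClosedImmersion.spec_of_surjective _ Ideal.Quotient.mk_surjective
  rw [sqZero_iff_of_isAffine, eq_bot_iff]
  have hK : RingHom.ker (Spec.map (CommRingCat.ofHom (Ideal.Quotient.mk I))).appTop.hom ≤
      I.comap (Scheme.ΓSpecIso (.of A)).hom.hom := by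
    intro x hx
    rw [RingHom.mem_ker] at hx
    rw [Ideal.mem_comap]
    have := congrArg (fun ψ => ψ.hom x)
      (Scheme.ΓSpecIso_naturality (CommRingCat.ofHom (Ideal.Quotient.mk I)))
    simp only [CommRingCat.hom_comp, RingHom.coe_comp, Function.comp_apply, CommRingCat.hom_ofHom]
      at this
    rw [hx, map_zero] at this
    exact Ideal.Quotient.eq_zero_iff_mem.1 this.symm
  refine (Ideal.mul_mono hK hK).trans ((Ideal.le_comap_mul _).trans ?_)
  rw [← pow_two, hI]
  intro x hx
  rw [Ideal.mem_comap, Ideal.mem_bot] at hx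
  have hinj : Function.Injective (Scheme.ΓSpecIso (.of A)).hom.hom :=
    (ConcreteCategory.bijective_of_isIso (Scheme.ΓSpecIso (.of A)).hom).1
  rw [Ideal.mem_bot]
  exact hinj (by rw [hx, map_zero])

variable {S : Scheme.{u}}

/-- A square-zero surjective closed immersion into an affine scheme over `S` is a first order thickening of
sheaves. -/
theorem isFOThickMor_yon_map_of_affine {U V : Over S} (g : U ⟶ V) (hV : IsAffine V.left)
    (hth : AlgSp.thick g.left) (hsq : AlgSp.sqZero g.left) :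
    AlgSp.IsFOThickMor ((AlgSp.yon S).map g) := by
  refine ⟨(AlgSp.isThickMor_yon_map_iff g).2 hth, ?_⟩
  intro V₁ W b fst snd hV₁ hb sqW
  obtain ⟨b₀, rfl⟩ := (AlgSp.yon S).map_surjective b
  obtain ⟨fst₀, rfl⟩ := (AlgSp.yon S).map_surjective fst
  have sq0 : IsPullback fst₀ snd g b₀ := IsPullback.of_map_of_faithful (AlgSp.yon S) sqW
  have sqSch : IsPullback fst₀.left snd.left g.left b₀.left := sq0.map (Over.forget S)
  haveI := hV
  haveI := hV₁
  haveI : IsClosedImmersion g.left := hth.1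
  exact sqZero_of_isPullback_affine sqSch hsq

/-- The thickening of an infinitesimal lifting square is a first order thickening of sheaves. -/
theorem isFOThickMor_infSq_j {F G : AlgSp.Sp S} {f : F ⟶ G} (sq : AlgSp.InfSq f) :
    AlgSp.IsFOThickMor ((AlgSp.yon S).map sq.j) := by
  refine isFOThickMor_yon_map_of_affine sq.j ?_ ⟨?_, ?_⟩ ?_
  · change IsAffine (Spec (.of sq.A)); infer_instance
  · exact IsClosedImmersion.spec_of_surjective _ Ideal.Quotient.mk_surjective
  · exact ⟨fun y => spec_map_mk_surjective sq.I sq.sq_zero y⟩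
  · exact sqZero_Spec_map_mk sq.I sq.sq_zero

/-- The structure morphism of a universal first order thickening is formally unramified. -/
theorem isFormallyUnramifiedMor_of_isUnivFOThick {Z Z' X : AlgSp.Sp S} (hZ' : AlgSp.IsAlgSpace Z')
    {h : Z ⟶ X} {i : Z ⟶ Z'} {h' : Z' ⟶ X} (HU : AlgSp.IsUnivFOThick h i h') :
    AlgSp.IsFormallyUnramifiedMor h' := by
  obtain ⟨hi, hcomp, huniv⟩ := HU
  intro sq l l' hl1 hl2 hl1' hl2'
  have hrep : AlgSp.Representable i := hi.1.rep
  have sqR := hrep.isPullback l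
  have hFOρ : AlgSp.IsFOThickMor ((AlgSp.yon S).map (hrep.snd l)) :=
    isFOThickMor_of_isPullback hZ' hi sqR
  have sqT := (IsPullback.of_hasPullback sq.j (hrep.snd l)).map (AlgSp.yon S)
  have hFOt : AlgSp.IsFOThickMor ((AlgSp.yon S).map (pullback.snd sq.j (hrep.snd l))) :=
    isFOThickMor_of_isPullback (AlgSp.IsAlgSpace.yon_obj _) (isFOThickMor_infSq_j sq) sqT
  have hαh : hrep.fst l ≫ h = (AlgSp.yon S).map (hrep.snd l) ≫ sq.bot := by
    rw [← hcomp, ← Category.assoc, sqR.w, Category.assoc, hl2]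
  -- first application
  have E1 : (AlgSp.yon S).map (hrep.snd l) ≫ l = (AlgSp.yon S).map (hrep.snd l) ≫ l' := by
    have w0 : (AlgSp.yon S).map (pullback.snd sq.j (hrep.snd l)) ≫
        ((AlgSp.yon S).map (hrep.snd l) ≫ sq.bot) =
        ((AlgSp.yon S).map (pullback.snd sq.j (hrep.snd l)) ≫ hrep.fst l) ≫ h := by
      rw [Category.assoc, hαh]
    obtain ⟨a', _, hu⟩ := huniv (AlgSp.IsAlgSpace.yon_obj _) (AlgSp.IsAlgSpace.yon_obj _) _ _ _ hFOt w0
    have h1 := hu ((AlgSp.yon S).map (hrep.snd l) ≫ l) ⟨by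
      rw [Category.assoc, sqR.w], by rw [Category.assoc, hl2]⟩
    have h2 := hu ((AlgSp.yon S).map (hrep.snd l) ≫ l') ⟨by
      rw [Category.assoc, sqR.w, ← Category.assoc, ← Category.assoc, ← sqT.w, Category.assoc,
        Category.assoc, hl1, hl1'], by rw [Category.assoc, hl2']⟩
    rw [h1, h2]
  obtain ⟨a', _, hu⟩ := huniv (AlgSp.IsAlgSpace.yon_obj _) (AlgSp.IsAlgSpace.yon_obj _) _ _ _ hFOρ
    hαh.symm
  have h1 := hu l ⟨sqR.w.symm, hl2⟩
  have h2 := hu l' ⟨by rw [← E1, sqR.w], hl2'⟩
  rw [h1, h2]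

end Groth.Agent.Lib.H15.AS
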