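import Mathlib
import Groth.Prelude.Def_AlgSp
import Groth.Prelude.Def_AlgSp2
import Groth.Prelude.Def_AlgSpInf
import Groth.Agent.Lib.helper15.AlgSpThickBC2

/-!
# Local structure of base changes of representable morphisms; first order thickenings from charts
-/

set_option autoImplicit false
universe u
open CategoryTheory CategoryTheory.Limits AlgebraicGeometry Opposite

namespace Groth.Agent.Lib.H15.AS

/-- Cancelling a monomorphism from both legs of a pullback square. -/
theorem isPullback_of_comp_mono {C : Type*} [Category C] {P X Z Y Y' : C} {fst : P ⟶ X} {snd : P ⟶ Z}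
    {f : X ⟶ Y} {g : Z ⟶ Y} (m : Y ⟶ Y') [Mono m] (sq : IsPullback fst snd (f ≫ m) (g ≫ m)) :
    IsPullback fst snd f g := by
  refine ⟨⟨by rw [← cancel_mono m, Category.assoc, Category.assoc, sq.w]⟩, ⟨PullbackCone.IsLimit.mk _
    (fun s => sq.lift s.fst s.snd (by
      rw [← Category.assoc, s.condition, Category.assoc]))
    (fun s => sq.lift_fst _ _ _) (fun s => sq.lift_snd _ _ _)
    (fun s m' h1 h2 => sq.hom_ext (by simpa using h1) (by simpa using h2))⟩⟩

variable {S : Scheme.{u}}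

/-- Local structure of a base change of a representable morphism `j : T ⟶ T'`: etale locally on the base `V`,
the base change is a base change of the pullback of `j` to a member of a given open cover of an atlas of `T'`. -/
theorem exists_local_chart {T T' : AlgSp.Sp S} {j : T ⟶ T'} (hrep : AlgSp.Representable j)
    {U₁ : Over S} (c : (AlgSp.yon S).obj U₁ ⟶ T') (hce : AlgSp.RepWith @Etale c)
    (hcs : AlgSp.RepWith @Surjective c) {κ : Type*} (B : κ → U₁.left.Opens)
    (hB : ∀ x : U₁.left, ∃ k, x ∈ B k)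
    {V W : Over S} (ψ : (AlgSp.yon S).obj V ⟶ T') (fstV : (AlgSp.yon S).obj W ⟶ T) (snd : W ⟶ V)
    (sqV : IsPullback fstV ((AlgSp.yon S).map snd) j ψ) (v : V.left) :
    ∃ (k : κ) (A : Over S) (_ : IsAffine A.left) (eA : A ⟶ V) (_ : Etale eA.left) (a : A.left)
      (_ : eA.left a = v) (r : A ⟶ overOpen U₁ (B k))
      (_ : (AlgSp.yon S).map eA ≫ ψ =
        (AlgSp.yon S).map r ≫ (AlgSp.yon S).map (overOpenι U₁ (B k)) ≫ c)
      (t₀ : pullback snd eA ⟶ hrep.pullback ((AlgSp.yon S).map (overOpenι U₁ (B k)) ≫ c)),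
      IsPullback t₀ (pullback.snd snd eA)
        (hrep.snd ((AlgSp.yon S).map (overOpenι U₁ (B k)) ≫ c)) r := by
  have hc : AlgSp.Representable c := hce.rep
  have sqc := hc.isPullback' ψ
  have hsndE : Etale (hc.snd ψ).left := hce.property_snd ψ
  have hsndS : Surjective (hc.snd ψ).left := hcs.property_snd ψ
  obtain ⟨p, rfl⟩ := hsndS.surj v
  obtain ⟨k, hk⟩ := hB ((hc.fst' ψ).left p)
  obtain ⟨_, ⟨A, hA, rfl⟩, hpA, hle⟩ :=
    (hc.pullback ψ).left.isBasis_affineOpens.exists_subset_of_mem_open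
      (hk : p ∈ (((hc.fst' ψ).left ⁻¹ᵁ (B k) : (hc.pullback ψ).left.Opens) : Set _))
      ((hc.fst' ψ).left ⁻¹ᵁ (B k)).isOpen
  have hle' : A ≤ (hc.fst' ψ).left ⁻¹ᵁ (B k) := hle
  obtain ⟨eA, heA⟩ : ∃ eA : overOpen (hc.pullback ψ) A ⟶ V,
      eA = overOpenι (hc.pullback ψ) A ≫ hc.snd ψ := ⟨_, rfl⟩
  obtain ⟨r, hr⟩ : ∃ r : overOpen (hc.pullback ψ) A ⟶ overOpen U₁ (B k),
      r = overOpenLE (hc.pullback ψ) hle' ≫ overOpenRes (hc.fst' ψ) (B k) := ⟨_, rfl⟩
  have e1 : r ≫ overOpenι U₁ (B k) = overOpenι (hc.pullback ψ) A ≫ hc.fst' ψ := by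
    rw [hr, Category.assoc, overOpenRes_ι, ← Category.assoc, overOpenLE_ι]
  have comm : (AlgSp.yon S).map eA ≫ ψ =
      (AlgSp.yon S).map r ≫ ((AlgSp.yon S).map (overOpenι U₁ (B k)) ≫ c) := by
    calc (AlgSp.yon S).map eA ≫ ψ
        = (AlgSp.yon S).map (overOpenι (hc.pullback ψ) A) ≫
            (AlgSp.yon S).map (hc.snd ψ) ≫ ψ := by
          rw [heA, ← Category.assoc, ← Functor.map_comp]
      _ = (AlgSp.yon S).map (overOpenι (hc.pullback ψ) A) ≫
            (AlgSp.yon S).map (hc.fst' ψ) ≫ c := by rw [sqc.w]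
      _ = (AlgSp.yon S).map (r ≫ overOpenι U₁ (B k)) ≫ c := by
          rw [e1, Functor.map_comp, Category.assoc]
      _ = _ := by rw [Functor.map_comp, Category.assoc]
  obtain ⟨eB, heB⟩ : ∃ eB : (AlgSp.yon S).obj (overOpen U₁ (B k)) ⟶ T',
      eB = (AlgSp.yon S).map (overOpenι U₁ (B k)) ≫ c := ⟨_, rfl⟩
  rw [← heB] at comm
  have sqB := hrep.isPullback eB
  have sqQ := IsPullback.of_hasPullback snd eA
  have big := (sqQ.map (AlgSp.yon S)).paste_horiz sqV
  have w : ((AlgSp.yon S).map (pullback.fst snd eA) ≫ fstV) ≫ j =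
      ((AlgSp.yon S).map (pullback.snd snd eA) ≫ (AlgSp.yon S).map r) ≫ eB := by
    rw [Category.assoc _ _ eB, ← comm]; exact big.w
  let t := sqB.lift _ _ w
  have ht1 : t ≫ hrep.fst eB = (AlgSp.yon S).map (pullback.fst snd eA) ≫ fstV := sqB.lift_fst _ _ w
  have ht2 : t ≫ (AlgSp.yon S).map (hrep.snd eB) =
      (AlgSp.yon S).map (pullback.snd snd eA) ≫ (AlgSp.yon S).map r := sqB.lift_snd _ _ w
  have big' : IsPullback (t ≫ hrep.fst eB) ((AlgSp.yon S).map (pullback.snd snd eA)) j
      ((AlgSp.yon S).map r ≫ eB) := by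
    rw [ht1, ← comm]; exact big
  have left := IsPullback.of_right big' ht2 sqB
  obtain ⟨t₀, ht₀⟩ := (AlgSp.yon S).map_surjective t
  rw [← ht₀] at left
  have leftS : IsPullback t₀ (pullback.snd snd eA) (hrep.snd eB) r :=
    IsPullback.of_map_of_faithful (AlgSp.yon S) left
  have hE : Etale eA.left := by
    rw [heA]
    change Etale (Scheme.Opens.ι (X := (hc.pullback ψ).left) A ≫ (hc.snd ψ).left)
    infer_instance
  have ha : eA.left (⟨p, hpA⟩ : A) = (hc.snd ψ).left p := by
    rw [heA]; rfl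
  subst heB
  exact ⟨k, overOpen (hc.pullback ψ) A, hA, eA, hE, ⟨p, hpA⟩, ha, r, comm, t₀, leftS⟩

/-- A representable closed immersion into a sheaf with an atlas is a first order thickening once its pullbacks to
the members of an affine open cover of the atlas are surjective with square-zero kernel. -/
theorem isFOThickMor_of_charts {T T' : AlgSp.Sp S} {j : T ⟶ T'}
    (hj : AlgSp.RepWith @IsClosedImmersion j)
    {U₁ : Over S} (c : (AlgSp.yon S).obj U₁ ⟶ T') (hce : AlgSp.RepWith @Etale c)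
    (hcs : AlgSp.RepWith @Surjective c) {κ : Type*} (B : κ → U₁.left.Opens)
    (hBa : ∀ k, IsAffineOpen (B k)) (hB : ∀ x : U₁.left, ∃ k, x ∈ B k)
    (hloc : ∀ k, Surjective (hj.rep.snd ((AlgSp.yon S).map (overOpenι U₁ (B k)) ≫ c)).left ∧
      AlgSp.sqZero (hj.rep.snd ((AlgSp.yon S).map (overOpenι U₁ (B k)) ≫ c)).left) :
    AlgSp.IsFOThickMor j := by
  have hrep := hj.rep
  have hcl : ∀ k, IsClosedImmersion (hrep.snd ((AlgSp.yon S).map (overOpenι U₁ (B k)) ≫ c)).left :=
    fun k => hj.property_snd _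
  refine ⟨(AlgSp.repWith_iff _ _).2 ⟨hrep, ?_⟩, ?_⟩
  · intro V W g fst snd sq
    have hci : IsClosedImmersion snd.left := ((AlgSp.repWith_iff _ _).1 hj).2 g fst snd sq
    refine ⟨hci, ⟨fun v => ?_⟩⟩
    obtain ⟨k, A, hA, eA, hE, a, ha, r, comm, t₀, sqA⟩ :=
      exists_local_chart hrep c hce hcs B hB g fst snd sq v
    have sqSch : IsPullback t₀.left (pullback.snd snd eA).left
        (hrep.snd ((AlgSp.yon S).map (overOpenι U₁ (B k)) ≫ c)).left r.left :=
      sqA.map (Over.forget S)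
    have hs : Surjective (pullback.snd snd eA).left :=
      MorphismProperty.of_isPullback (P := @Surjective) sqSch (hloc k).1
    obtain ⟨q, hq⟩ := hs.surj a
    refine ⟨(pullback.fst snd eA).left q, ?_⟩
    have w : (pullback.fst snd eA).left ≫ snd.left = (pullback.snd snd eA).left ≫ eA.left := by
      rw [← Over.comp_left, ← Over.comp_left, pullback.condition]
    have h2 : snd.left ((pullback.fst snd eA).left q) = eA.left ((pullback.snd snd eA).left q) := by
      rw [← Scheme.Hom.comp_apply, ← Scheme.Hom.comp_apply, w]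
    rw [h2, hq, ha]
  · intro V W b fst snd hV hb sq
    have hci : IsClosedImmersion snd.left := ((AlgSp.repWith_iff _ _).1 hj).2 b fst snd sq
    haveI := hV
    choose k A hA eA hE a ha r comm t₀ sqA using fun v : V.left =>
      exists_local_chart hrep c hce hcs B hB b fst snd sq v
    haveI : ∀ v, IsAffine (A v).left := hA
    refine sqZero_of_flat_family snd.left (fun v => (A v).left) (fun v => (eA v).left)
      (fun v => ?_) (fun v => ⟨v, a v, ha v⟩) (fun v => (pullback snd (eA v)).left)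
      (fun v => (pullback.fst snd (eA v)).left) (fun v => (pullback.snd snd (eA v)).left)
      (fun v => (IsPullback.of_hasPullback snd (eA v)).map (Over.forget S)) (fun v => ?_)
    · haveI := hE v
      infer_instance
    · have sqSch : IsPullback (t₀ v).left (pullback.snd snd (eA v)).left
          (hrep.snd ((AlgSp.yon S).map (overOpenι U₁ (B (k v))) ≫ c)).left (r v).left :=
        (sqA v).map (Over.forget S)
      haveI : IsAffine (overOpen U₁ (B (k v))).left := hBa (k v)
      haveI := hcl (k v)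
      exact sqZero_of_isPullback_affine sqSch (hloc (k v)).2

/-- For closed subschemes `A₀ ⊂ A₁ ⊂ A` of an affine scheme with the ideal of `A₁` the square of the ideal of
`A₀`, the inclusion `A₀ ⟶ A₁` is surjective with square-zero kernel. -/
theorem surjective_sqZero_of_ker_eq_sq {A A₀ A₁ : Scheme.{u}} [IsAffine A] (c₀ : A₀ ⟶ A) (k₁ : A₁ ⟶ A)
    (j₀ : A₀ ⟶ A₁) [IsClosedImmersion c₀] [IsClosedImmersion k₁] (hjk : j₀ ≫ k₁ = c₀)
    (hker : k₁.ker = c₀.ker ^ 2) : Surjective j₀ ∧ AlgSp.sqZero j₀ := by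
  subst hjk
  haveI : IsClosedImmersion j₀ := IsClosedImmersion.of_comp j₀ k₁
  obtain ⟨hA₁, hsurj⟩ := IsClosedImmersion.isAffine_surjective_of_isAffine k₁
  constructor
  · have h1 : closure (Set.range k₁) = closure (Set.range (j₀ ≫ k₁)) := by
      rw [← Scheme.Hom.support_ker, ← Scheme.Hom.support_ker, hker,
        Scheme.IdealSheafData.support_pow _ _ two_ne_zero]
    rw [(k₁.isClosedEmbedding.isClosed_range).closure_eq,
      ((j₀ ≫ k₁).isClosedEmbedding.isClosed_range).closure_eq] at h1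
    refine ⟨fun y => ?_⟩
    have hy : k₁ y ∈ Set.range (j₀ ≫ k₁) := h1 ▸ ⟨y, rfl⟩
    obtain ⟨x, hx⟩ := hy
    refine ⟨x, k₁.isClosedEmbedding.injective ?_⟩
    rw [← hx, Scheme.Hom.comp_apply]
  · rw [sqZero_iff_of_isAffine, eq_bot_iff, Ideal.mul_le]
    have hk : RingHom.ker k₁.appTop.hom = RingHom.ker (j₀ ≫ k₁).appTop.hom ^ 2 := by
      have := congrArg (fun I : Scheme.IdealSheafData A => I.ideal ⟨⊤, isAffineOpen_top A⟩) hker
      simp only [Scheme.IdealSheafData.ideal_pow, Pi.pow_apply, Scheme.Hom.ker_apply] at this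
      exact this
    intro x hx y hy
    obtain ⟨r, rfl⟩ := hsurj x
    obtain ⟨s, rfl⟩ := hsurj y
    have hr : r ∈ RingHom.ker (j₀ ≫ k₁).appTop.hom := by
      rw [RingHom.mem_ker, Scheme.Hom.comp_appTop]
      exact hx
    have hs : s ∈ RingHom.ker (j₀ ≫ k₁).appTop.hom := by
      rw [RingHom.mem_ker, Scheme.Hom.comp_appTop]
      exact hy
    have hrs : r * s ∈ RingHom.ker k₁.appTop.hom := by
      rw [hk, pow_two]
      exact Ideal.mul_mem_mul hr hs
    rw [Ideal.mem_bot, ← map_mul]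
    exact hrs

end Groth.Agent.Lib.H15.AS
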