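import Mathlib
import Groth.Prelude.Def_AlgSp
import Groth.Prelude.Def_AlgSp2
import Groth.Prelude.Def_AlgSpInf
import Groth.Agent.Lib.helper15.AlgSpThickBC3
import Groth.Agent.Lib.helper15.AlgSpDiag
import Groth.Agent.Lib.helper15.AlgSpOpenSub
import Groth.Agent.Lib.helper15.AlgSpThick

/-!
# The first order infinitesimal neighbourhood is a first order thickening, and is universal
-/

set_option autoImplicit false
universe u
open CategoryTheory CategoryTheory.Limits AlgebraicGeometry Opposite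

namespace Groth.Agent.Lib.H15.AS

variable {S : Scheme.{u}}

/-- The restriction square of a morphism over `S` to an open of the target is cartesian. -/
theorem isPullback_overOpenRes {Z U : Over S} (g : Z ⟶ U) (V : U.left.Opens) :
    IsPullback (overOpenι Z (g.left ⁻¹ᵁ V)) (overOpenRes g V) g (overOpenι U V) := by
  refine IsPullback.of_map (Over.forget S) (overOpenRes_ι g V).symm ?_
  change IsPullback (g.left ⁻¹ᵁ V).ι (g.left.resLE V (g.left ⁻¹ᵁ V) le_rfl) g.left V.ι
  rw [Scheme.Hom.resLE_eq_morphismRestrict]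
  exact (isPullback_morphismRestrict g.left V).flip

/-- The inclusion of a closed subspace into its first order infinitesimal neighbourhood is a first order
thickening. -/
theorem isFOThickMor_of_isInfNbhd {Z U Z₁ : AlgSp.Sp S} (hU : AlgSp.IsAlgSpace U) {c : Z ⟶ U}
    {j : Z ⟶ Z₁} {k : Z₁ ⟶ U} (hN : AlgSp.IsInfNbhd 1 c j k) : AlgSp.IsFOThickMor j := by
  obtain ⟨hjk, hc, hk, hchart⟩ := hN
  haveI : Mono k := mono_of_repWith (P := @IsClosedImmersion)
    (fun _ _ g (hg : IsClosedImmersion g) => (inferInstance : Mono g)) k hk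
  have hj : AlgSp.RepWith @IsClosedImmersion j := repWith_of_comp_mono _ j k (hjk ▸ hc)
  obtain ⟨A, eA, heA, hsA⟩ := hU.atlas
  have hkrep := hk.rep
  have sqk := hkrep.isPullback eA
  have hc₁e : AlgSp.RepWith @Etale (hkrep.fst eA) :=
    MorphismProperty.of_isPullback (P := AlgSp.RepWith @Etale) sqk.flip heA
  have hc₁s : AlgSp.RepWith @Surjective (hkrep.fst eA) :=
    MorphismProperty.of_isPullback (P := AlgSp.RepWith @Surjective) sqk.flip hsA
  haveI hkA : IsClosedImmersion (hkrep.snd eA).left := hk.property_snd eA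
  refine isFOThickMor_of_charts hj (hkrep.fst eA) hc₁e hc₁s
    (fun B : A.left.affineOpens => (hkrep.snd eA).left ⁻¹ᵁ B.1)
    (fun B => B.2.preimage (hkrep.snd eA).left)
    (fun x => by
      obtain ⟨B, hB⟩ := exists_affineOpen_mem' A ((hkrep.snd eA).left x)
      exact ⟨B, hB⟩) (fun B => ?_)
  obtain ⟨e₁, he₁⟩ : ∃ e₁ : (AlgSp.yon S).obj
      (overOpen (hkrep.pullback eA) ((hkrep.snd eA).left ⁻¹ᵁ B.1)) ⟶ Z₁,
      e₁ = (AlgSp.yon S).map (overOpenι (hkrep.pullback eA) ((hkrep.snd eA).left ⁻¹ᵁ B.1)) ≫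
        hkrep.fst eA := ⟨_, rfl⟩
  rw [← he₁]
  have sqRes := isPullback_overOpenRes (hkrep.snd eA) B.1
  have sq2 : IsPullback e₁ ((AlgSp.yon S).map (overOpenRes (hkrep.snd eA) B.1)) k
      ((AlgSp.yon S).map (overOpenι A B.1) ≫ eA) := by
    rw [he₁]
    exact (sqRes.map (AlgSp.yon S)).paste_horiz sqk
  have sqj := hj.rep.isPullback e₁
  have sq1 : IsPullback (hj.rep.fst e₁)
      ((AlgSp.yon S).map (hj.rep.snd e₁ ≫ overOpenRes (hkrep.snd eA) B.1)) c
      ((AlgSp.yon S).map (overOpenι A B.1) ≫ eA) := by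
    rw [Functor.map_comp, ← hjk]
    exact sqj.paste_vert sq2
  haveI hBaff : IsAffine (overOpen A B.1).left := B.2
  have hker := hchart _ _ _ _ _ hBaff (repWith_etale_overOpen eA heA B.1) sq1 sq2
  haveI : IsClosedImmersion (hj.rep.snd e₁ ≫ overOpenRes (hkrep.snd eA) B.1).left :=
    ((AlgSp.repWith_iff _ _).1 hc).2 _ _ _ sq1
  haveI : IsClosedImmersion (overOpenRes (hkrep.snd eA) B.1).left :=
    ((AlgSp.repWith_iff _ _).1 hk).2 _ _ _ sq2
  exact surjective_sqZero_of_ker_eq_sq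
    (hj.rep.snd e₁ ≫ overOpenRes (hkrep.snd eA) B.1).left
    (overOpenRes (hkrep.snd eA) B.1).left (hj.rep.snd e₁).left rfl hker

/-- Local vanishing: a function on `V'` killed on the pullback of the first order neighbourhood vanishes on an
etale chart `D` of `V'` mapping to an affine etale chart of `U`. -/
theorem infNbhd_local_vanish {Z U Z₁ : AlgSp.Sp S} {c : Z ⟶ U} {k : Z₁ ⟶ U}
    (hc : AlgSp.RepWith @IsClosedImmersion c) (hk : AlgSp.RepWith @IsClosedImmersion k)
    (hchart : ∀ ⦃V W Wn : Over S⦄ (b : (AlgSp.yon S).obj V ⟶ U) (fst : (AlgSp.yon S).obj W ⟶ Z)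
      (snd : W ⟶ V) (fstn : (AlgSp.yon S).obj Wn ⟶ Z₁) (sndn : Wn ⟶ V),
      IsAffine V.left → AlgSp.RepWith @Etale b → IsPullback fst ((AlgSp.yon S).map snd) c b →
        IsPullback fstn ((AlgSp.yon S).map sndn) k b → sndn.left.ker = snd.left.ker ^ (1 + 1))
    {V' V'₀ : Over S} (ρ : V'₀ ⟶ V') (hρ : AlgSp.IsFOThickMor ((AlgSp.yon S).map ρ))
    (α : (AlgSp.yon S).obj V'₀ ⟶ Z) (β : (AlgSp.yon S).obj V' ⟶ U)
    (hαβ : α ≫ c = (AlgSp.yon S).map ρ ≫ β)
    {Bo : Over S} (hBo : IsAffine Bo.left) (eB : (AlgSp.yon S).obj Bo ⟶ U)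
    (heB : AlgSp.RepWith @Etale eB)
    {D : Over S} (hD : IsAffine D.left) (eD : D ⟶ V') (hE : Etale eD.left) (r : D ⟶ Bo)
    (comm : (AlgSp.yon S).map eD ≫ β = (AlgSp.yon S).map r ≫ eB)
    {K KD : Over S} (κ : K ⟶ V') (π₁ : KD ⟶ K) (π₂ : KD ⟶ D) (hπ : π₁ ≫ κ = π₂ ≫ eD)
    (t₀ : KD ⟶ hk.rep.pullback eB) (sqD : IsPullback t₀ π₂ (hk.rep.snd eB) r)
    (x : Γ(V'.left, ⊤)) (hx : κ.left.appTop.hom x = 0) : eD.left.appTop.hom x = 0 := by
  haveI := hBo
  haveI := hD
  haveI hkB : IsClosedImmersion (hk.rep.snd eB).left := hk.property_snd eB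
  haveI hcB : IsClosedImmersion (hc.rep.snd eB).left := hc.property_snd eB
  have hker := hchart eB (hc.rep.fst eB) (hc.rep.snd eB) (hk.rep.fst eB) (hk.rep.snd eB) hBo heB
    (hc.rep.isPullback eB) (hk.rep.isPullback eB)
  have hk2 : RingHom.ker (hk.rep.snd eB).left.appTop.hom =
      RingHom.ker (hc.rep.snd eB).left.appTop.hom ^ 2 := by
    have := congrArg (fun I : Scheme.IdealSheafData Bo.left => I.ideal ⟨⊤, isAffineOpen_top _⟩) hker
    simp only [Scheme.IdealSheafData.ideal_pow, Pi.pow_apply, Scheme.Hom.ker_apply] at this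
    exact this
  have sqSch : IsPullback t₀.left π₂.left (hk.rep.snd eB).left r.left := sqD.map (Over.forget S)
  obtain ⟨hXaff, hsurj⟩ := IsClosedImmersion.isAffine_surjective_of_isAffine (hk.rep.snd eB).left
  haveI := hXaff
  have hK := ker_appTop_of_isPullback sqSch hsurj
  -- membership
  have hmem : eD.left.appTop.hom x ∈ RingHom.ker π₂.left.appTop.hom := by
    rw [RingHom.mem_ker]
    have e1 : (π₁ ≫ κ).left.appTop.hom x = (π₂ ≫ eD).left.appTop.hom x := by rw [hπ]
    rw [Over.comp_left, Over.comp_left, Scheme.Hom.comp_appTop, Scheme.Hom.comp_appTop] at e1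
    simp only [CommRingCat.hom_comp, RingHom.coe_comp, Function.comp_apply] at e1
    rw [← e1, hx, map_zero]
  -- the thickening over D
  have sqρ := (IsPullback.of_hasPullback ρ eD).map (AlgSp.yon S)
  have heDe : AlgSp.RepWith @Etale ((AlgSp.yon S).map eD) := (AlgSp.repWith_yon_map_iff _ _).2 hE
  have hρD : AlgSp.sqZero (pullback.snd ρ eD).left :=
    hρ.2 ((AlgSp.yon S).map eD) ((AlgSp.yon S).map (pullback.fst ρ eD)) (pullback.snd ρ eD) hD heDe sqρ
  haveI hρDci : IsClosedImmersion (pullback.snd ρ eD).left :=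
    (((AlgSp.repWith_iff _ _).1 hρ.1).2 ((AlgSp.yon S).map eD)
      ((AlgSp.yon S).map (pullback.fst ρ eD)) (pullback.snd ρ eD) sqρ).1
  rw [sqZero_iff_of_isAffine] at hρD
  -- the map to the closed subscheme
  have sqcB := hc.rep.isPullback eB
  have wm : ((AlgSp.yon S).map (pullback.fst ρ eD) ≫ α) ≫ c =
      (AlgSp.yon S).map (pullback.snd ρ eD ≫ r) ≫ eB := by
    rw [Category.assoc, hαβ, ← Category.assoc, ← Functor.map_comp, pullback.condition,
      Functor.map_comp, Category.assoc, comm, Functor.map_comp, Category.assoc]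
  obtain ⟨m, hm⟩ := (AlgSp.yon S).map_surjective (sqcB.lift _ _ wm)
  have hmc : m ≫ hc.rep.snd eB = pullback.snd ρ eD ≫ r := by
    apply (AlgSp.yon S).map_injective
    rw [Functor.map_comp, hm, sqcB.lift_snd]
  have hle : (RingHom.ker (hc.rep.snd eB).left.appTop.hom).map r.left.appTop.hom ≤
      RingHom.ker (pullback.snd ρ eD).left.appTop.hom := by
    rw [Ideal.map_le_iff_le_comap]
    intro y hy
    rw [RingHom.mem_ker] at hy
    rw [Ideal.mem_comap, RingHom.mem_ker]
    have e1 : (m ≫ hc.rep.snd eB).left.appTop.hom y = (pullback.snd ρ eD ≫ r).left.appTop.hom y := by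
      rw [hmc]
    rw [Over.comp_left, Over.comp_left, Scheme.Hom.comp_appTop, Scheme.Hom.comp_appTop] at e1
    simp only [CommRingCat.hom_comp, RingHom.coe_comp, Function.comp_apply] at e1
    rw [← e1, hy, map_zero]
  rw [hK, hk2, pow_two, Ideal.map_mul] at hmem
  have := (Ideal.mul_mono hle hle) hmem
  rw [hρD] at this
  exact this

/-- A map from an affine scheme to `U` that sends a first order thinning into the closed subspace `Z` factors
through the first order infinitesimal neighbourhood of `Z`. -/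
theorem exists_factor_infNbhd {Z U Z₁ : AlgSp.Sp S} (hU : AlgSp.IsAlgSpace U) {c : Z ⟶ U}
    {j : Z ⟶ Z₁} {k : Z₁ ⟶ U} (hN : AlgSp.IsInfNbhd 1 c j k) {V' V'₀ : Over S}
    (hV' : IsAffine V'.left) (ρ : V'₀ ⟶ V') (hρ : AlgSp.IsFOThickMor ((AlgSp.yon S).map ρ))
    (α : (AlgSp.yon S).obj V'₀ ⟶ Z) (β : (AlgSp.yon S).obj V' ⟶ U)
    (hαβ : α ≫ c = (AlgSp.yon S).map ρ ≫ β) :
    ∃ ℓ : (AlgSp.yon S).obj V' ⟶ Z₁, ℓ ≫ k = β := by
  obtain ⟨hjk, hc, hk, hchart⟩ := hN
  have hkrep := hk.rep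
  have sqK := hkrep.isPullback β
  haveI := hV'
  haveI hκ : IsClosedImmersion (hkrep.snd β).left := hk.property_snd β
  obtain ⟨A, eA, heA, hsA⟩ := hU.atlas
  have hinj : Function.Injective (hkrep.snd β).left.appTop.hom := by
    rw [injective_iff_map_eq_zero]
    intro x hx
    choose B D hD eD hE d hd r comm t₀ sqD using fun v : V'.left =>
      exists_local_chart hkrep eA heA hsA (fun B : A.left.affineOpens => B.1)
        (fun x => exists_affineOpen_mem' A x) β (hkrep.fst β) (hkrep.snd β) sqK v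
    refine eq_zero_of_flat_family (fun v => (D v).left) (fun v => (eD v).left) (fun v => ?_)
      (fun v => ⟨v, d v, hd v⟩) x (fun v => ?_)
    · haveI := hE v
      infer_instance
    · exact infNbhd_local_vanish hc hk hchart ρ hρ α β hαβ
        (show IsAffine (overOpen A (B v).1).left from (B v).2) _
        (repWith_etale_overOpen eA heA (B v).1) (hD v) (eD v) (hE v) (r v) (comm v)
        (hkrep.snd β) (pullback.fst (hkrep.snd β) (eD v)) (pullback.snd (hkrep.snd β) (eD v))
        pullback.condition (t₀ v) (sqD v) x hx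
  haveI : IsIso (hkrep.snd β).left := IsClosedImmersion.isIso_of_injective_of_isAffine hinj
  haveI : IsIso (hkrep.snd β) := by
    have : IsIso ((Over.forget S).map (hkrep.snd β)) := ‹_›
    exact isIso_of_reflects_iso _ (Over.forget S)
  refine ⟨(AlgSp.yon S).map (inv (hkrep.snd β)) ≫ hkrep.fst β, ?_⟩
  rw [Category.assoc, sqK.w, ← Category.assoc, ← Functor.map_comp, IsIso.inv_hom_id,
    CategoryTheory.Functor.map_id, Category.id_comp]

/-- The first order infinitesimal neighbourhood of a closed subspace of an open subspace is the universal first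
order thickening. -/
theorem isUnivFOThick_of_isInfNbhd {Z U X Z₁ : AlgSp.Sp S} (hU : AlgSp.IsAlgSpace U) {c : Z ⟶ U}
    {u : U ⟶ X} (hu : AlgSp.RepWith @IsOpenImmersion u) {j : Z ⟶ Z₁} {k : Z₁ ⟶ U}
    (hN : AlgSp.IsInfNbhd 1 c j k) : AlgSp.IsUnivFOThick (c ≫ u) j (k ≫ u) := by
  have hFO := isFOThickMor_of_isInfNbhd hU hN
  have hjk : j ≫ k = c := hN.1
  have hk := hN.2.2.1
  haveI : Mono k := mono_of_repWith (P := @IsClosedImmersion)
    (fun _ _ g (hg : IsClosedImmersion g) => (inferInstance : Mono g)) k hk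
  haveI : Mono u := mono_of_repWith (P := @IsOpenImmersion)
    (fun _ _ g (hg : IsOpenImmersion g) => (inferInstance : Mono g)) u hu
  refine ⟨hFO, by rw [← Category.assoc, hjk], ?_⟩
  intro T T' hT hT' jT a b hjT w
  have hr : Set.range (AlgSp.Points.map b) ⊆ Set.range (AlgSp.Points.map u) := by
    rintro _ ⟨y', rfl⟩
    obtain ⟨y, rfl⟩ := isThickMor_surj hjT.1 y'
    refine ⟨AlgSp.Points.map (a ≫ c) y, ?_⟩
    rw [← AlgSp.Points.map_comp, ← AlgSp.Points.map_comp, w, Category.assoc]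
  obtain ⟨b', hb'⟩ := exists_factor_of_range_subset u hu b hr
  have w' : jT ≫ b' = a ≫ c := by
    rw [← cancel_mono u, Category.assoc, hb', w, Category.assoc]
  have hUq : LocUniqLift k jT (a ≫ j) b' := fun V' hV' e he ℓ ℓ' h h' => by
    rw [← cancel_mono k, h.1, h'.1]
  have hEx : LocExistsLift k jT (a ≫ j) b' := fun V' hV' e he => by
    have hrepT := hjT.1.rep
    have sqT := hrepT.isPullback e
    have hρ := isFOThickMor_chart hjT e he
    obtain ⟨ℓ, hℓ⟩ := exists_factor_infNbhd hU hN hV' (hrepT.snd e) hρ (hrepT.fst e ≫ a) (e ≫ b')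
      (by rw [Category.assoc, ← w', ← Category.assoc, sqT.w, Category.assoc])
    refine ⟨ℓ, hℓ, fun W₀ s r hsr => ?_⟩
    rw [← cancel_mono k, Category.assoc, hℓ, ← Category.assoc, ← hsr, Category.assoc, w',
      Category.assoc, Category.assoc, hjk]
  obtain ⟨l, hl1, hl2⟩ := lift_exists' hT' hUq hEx
  refine ⟨l, ⟨hl1, by rw [← Category.assoc, hl2, hb']⟩, ?_⟩
  rintro l' ⟨h1, h2⟩
  haveI : Mono (k ≫ u) := mono_comp k u
  rw [← cancel_mono (k ≫ u), h2, ← Category.assoc, hl2, hb']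

end Groth.Agent.Lib.H15.AS
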