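import Mathlib
import Groth.Prelude.Def_AlgSp
import Groth.Prelude.Def_AlgSp2
import Groth.Prelude.Def_AlgSp3
import Groth.Prelude.Def_AlgSp4
import Groth.Prelude.Def_AlgSpCov
import Groth.Agent.Lib.helper15.AlgSpSeven2
import Groth.Agent.Lib.helper15.AlgSpLocPGen2
import Groth.Agent.Lib.helper15.AlgSpEtale
import Groth.Agent.Lib.helper15.AlgSpEtale2
import Groth.Agent.Lib.helper15.AlgSpEtaleMono

set_option autoImplicit false
universe u
open CategoryTheory CategoryTheory.Limits AlgebraicGeometry Opposite Topology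

namespace Groth.Agent.Lib.H15.AS

variable {S : Scheme.{u}}

/-- `LocP Q` is etale local on the source, for good `Q` that is Zariski local on the source. -/
theorem isLocalOnSource_etale_locP {Q : MorphismProperty Scheme.{u}} (hQ : GoodP Q)
    [IsZariskiLocalAtSource Q] :
    AlgSp.IsLocalOnSource (AlgSp.IsEtCover (S := S)) (AlgSp.LocP Q) := by
  intro ι X Xi g hX hXi hcov Y f hY
  have hle : (@Etale : MorphismProperty Scheme.{u}) ≤ Q := fun _ _ k hk => hQ.etale_le k hk
  constructor
  · intro hf i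
    exact locP_comp_gen hQ (hXi i) hX hY (locP_mono hle (locP_etale_of_isEtaleMor (hcov.1 i))) hf
  · intro H
    apply locP_of_forall_hasAtMor hQ
    intro x
    obtain ⟨i, ξ, rfl⟩ := hcov.2 x
    obtain ⟨U, V, a, b, h, u, hae, hbe, w, hu, W, huW, hPW⟩ :=
      hasAtMor_of_locP hQ (hXi i) hY (H i) ξ
    refine ⟨U, V, a ≫ g i, b, h, u, hcov.1 i a hae, hbe, ?_, ?_, W, huW, hPW⟩
    · rw [Category.assoc]; exact w
    · rw [← AlgSp.Points.map_ofPt, hu]

theorem isLocalOnSource_etale_isEtaleMor :
    AlgSp.IsLocalOnSource (AlgSp.IsEtCover (S := S)) AlgSp.IsEtaleMor := by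
  intro ι X Xi g hX hXi hcov Y f hY
  have key := isLocalOnSource_etale_locP (S := S) goodP_etale Xi g hX hXi hcov f hY
  constructor
  · intro hf i
    exact isEtaleMor_of_locP_etale hY (key.1 (locP_etale_of_isEtaleMor hf) i)
  · intro H
    exact isEtaleMor_of_locP_etale hY (key.2 (fun i => locP_etale_of_isEtaleMor (H i)))

end Groth.Agent.Lib.H15.AS
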