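import Mathlib
import Groth.Prelude.Def_AlgSp
import Groth.Prelude.Def_AlgSp2
import Groth.Prelude.Def_AlgSp3
import Groth.Prelude.Def_AlgSp4
import Groth.Prelude.Def_AlgSpCov
import Groth.Agent.Lib.helper15.AlgSpLocalSource
import Groth.Agent.Lib.helper15.AlgSpOpen
import Groth.Agent.Lib.helper15.AlgSpLocP2
import Groth.Agent.Lib.helper15.AlgSpFibre
import Groth.Agent.Lib.helper15.AlgSpQC
import Groth.Agent.Lib.helper15.AlgSpFpqcLocal3

set_option autoImplicit false
universe u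
open CategoryTheory CategoryTheory.Limits AlgebraicGeometry Opposite Topology

namespace Groth.Agent.Lib.H15.AS

variable {S : Scheme.{u}}

/-- A flat, locally finitely presented morphism of algebraic spaces is universally open. -/
theorem isUnivOpenMor_of_flat_lfp {X Y : AlgSp.Sp S} (hX : AlgSp.IsAlgSpace X)
    (hY : AlgSp.IsAlgSpace Y) {g : X ⟶ Y} (h1 : AlgSp.LocP @Flat g)
    (h2 : AlgSp.LocP @LocallyOfFinitePresentation g) : AlgSp.IsUnivOpenMor g := by
  obtain ⟨U, b, hbe, hbs⟩ := hX.atlas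
  have k1 : AlgSp.RepWith @Flat (b ≫ g) := repWith_comp_of_locP @Flat hY h1 b hbe
  have k2 : AlgSp.RepWith @LocallyOfFinitePresentation (b ≫ g) :=
    repWith_comp_of_locP @LocallyOfFinitePresentation hY h2 b hbe
  refine isUnivOpenMor_of_chart b hbs ?_
  rw [AlgSp.repWith_iff] at k1 k2 ⊢
  refine ⟨k1.1, fun T V t fst snd sq => ?_⟩
  have := k1.2 t fst snd sq
  have := k2.2 t fst snd sq
  exact (inferInstance : UniversallyOpen snd.left)

/-- A universally open morphism to an algebraic space is open. -/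
theorem isOpenMor_of_isUnivOpenMor {X Y : AlgSp.Sp S} (hY : AlgSp.IsAlgSpace Y) {g : X ⟶ Y}
    (h : AlgSp.IsUnivOpenMor g) : AlgSp.IsOpenMor g :=
  h hY (𝟙 Y) (𝟙 X) g (IsPullback.of_horiz_isIso ⟨by simp⟩)

/-- Openness on points can be checked on a jointly surjective family. -/
theorem isOpenMap_of_family {X Y : AlgSp.Sp S} {ι : Type u} {Xi : ι → AlgSp.Sp S}
    (g : ∀ i, Xi i ⟶ X)
    (hsurj : ∀ x : AlgSp.Points X, ∃ i, x ∈ Set.range (AlgSp.Points.map (g i))) (f : X ⟶ Y)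
    (H : ∀ i, IsOpenMap (AlgSp.Points.map (g i ≫ f))) : IsOpenMap (AlgSp.Points.map f) := by
  intro W hW
  have : AlgSp.Points.map f '' W =
      ⋃ i, AlgSp.Points.map (g i ≫ f) '' (AlgSp.Points.map (g i) ⁻¹' W) := by
    ext y
    constructor
    · rintro ⟨x, hx, rfl⟩
      obtain ⟨i, ξ, rfl⟩ := hsurj x
      exact Set.mem_iUnion.2 ⟨i, ξ, hx, AlgSp.Points.map_comp _ _ _⟩
    · intro hy
      obtain ⟨i, ξ, hξ, rfl⟩ := Set.mem_iUnion.1 hy
      exact ⟨AlgSp.Points.map (g i) ξ, hξ, (AlgSp.Points.map_comp _ _ _).symm⟩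
  rw [this]
  exact isOpen_iUnion fun i => H i _ ((AlgSp.Points.continuous_map (g i)).isOpen_preimage W hW)

theorem isLocalOnSource_fppf_isOpenMor :
    AlgSp.IsLocalOnSource (AlgSp.IsFppfCover (S := S)) AlgSp.IsOpenMor := by
  intro ι X Xi g hX hXi hcov Y f hY
  constructor
  · intro hf i
    have h1 : IsOpenMap (AlgSp.Points.map (g i)) :=
      isOpenMor_of_isUnivOpenMor hX (isUnivOpenMor_of_flat_lfp (hXi i) hX (hcov.1 i).1 (hcov.1 i).2)
    change IsOpenMap (AlgSp.Points.map (g i ≫ f))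
    rw [points_map_comp_fun]
    exact hf.comp h1
  · intro H
    exact isOpenMap_of_family g hcov.2 f H

end Groth.Agent.Lib.H15.AS

namespace Groth.Agent.Lib.H15.AS

variable {S : Scheme.{u}}

/-- Universally open morphisms compose (middle object an algebraic space). -/
theorem isUnivOpenMor_comp {X' X Y : AlgSp.Sp S} (hX : AlgSp.IsAlgSpace X) (hY : AlgSp.IsAlgSpace Y)
    {g : X' ⟶ X} {f : X ⟶ Y} (hg : AlgSp.IsUnivOpenMor g) (hf : AlgSp.IsUnivOpenMor f) :
    AlgSp.IsUnivOpenMor (g ≫ f) := by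
  intro Z Z'' hZ gZ z1 z2 sq''
  have sqZ' := IsPullback.of_hasPullback f gZ
  have hZ' : AlgSp.IsAlgSpace (pullback f gZ) := isAlgSpace_of_isPullback hY.diag hX hZ sqZ'
  have w : (z1 ≫ g) ≫ f = z2 ≫ gZ := (Category.assoc _ _ _).trans sq''.w
  have hl1 : sqZ'.lift _ _ w ≫ pullback.fst f gZ = z1 ≫ g := sqZ'.lift_fst _ _ w
  have hl2 : sqZ'.lift _ _ w ≫ pullback.snd f gZ = z2 := sqZ'.lift_snd _ _ w
  have big : IsPullback z1 (sqZ'.lift _ _ w ≫ pullback.snd f gZ) (g ≫ f) gZ := by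
    rw [hl2]; exact sq''
  have sqT : IsPullback z1 (sqZ'.lift _ _ w) g (pullback.fst f gZ) :=
    IsPullback.of_bot big hl1.symm sqZ'
  have h1 : IsOpenMap (AlgSp.Points.map (sqZ'.lift _ _ w)) := hg hZ' _ _ _ sqT
  have h2 : IsOpenMap (AlgSp.Points.map (pullback.snd f gZ)) := hf hZ _ _ _ sqZ'
  change IsOpenMap (AlgSp.Points.map z2)
  rw [← hl2, points_map_comp_fun]
  exact h2.comp h1

theorem isLocalOnSource_fppf_isUnivOpenMor :
    AlgSp.IsLocalOnSource (AlgSp.IsFppfCover (S := S)) AlgSp.IsUnivOpenMor := by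
  intro ι X Xi g hX hXi hcov Y f hY
  constructor
  · intro hf i
    exact isUnivOpenMor_comp hX hY
      (isUnivOpenMor_of_flat_lfp (hXi i) hX (hcov.1 i).1 (hcov.1 i).2) hf
  · intro H Z Z' hZ gZ z1 z2 sqZ
    have hsurj : ∀ ζ : AlgSp.Points Z', ∃ i, ζ ∈ Set.range (AlgSp.Points.map (pullback.fst z1 (g i))) := by
      intro ζ
      obtain ⟨i, ξ, hξ⟩ := hcov.2 (AlgSp.Points.map z1 ζ)
      obtain ⟨τ, hτ, -⟩ := points_exists_of_isPullback (IsPullback.of_hasPullback z1 (g i)) ζ ξ hξ.symm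
      exact ⟨i, τ, hτ⟩
    refine isOpenMap_of_family (fun i => pullback.fst z1 (g i)) hsurj z2 (fun i => ?_)
    have big : IsPullback (pullback.snd z1 (g i)) (pullback.fst z1 (g i) ≫ z2) (g i ≫ f) gZ :=
      (IsPullback.of_hasPullback z1 (g i)).flip.paste_vert sqZ
    exact H i hZ gZ _ _ big

end Groth.Agent.Lib.H15.AS

namespace Groth.Agent.Lib.H15

/-- Flatness can be checked after precomposing with flat morphisms hitting every point. -/
theorem flat_of_forall_exists_flat_comp {U V : Scheme.{u}} (h : U ⟶ V)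
    (H : ∀ u : U, ∃ (T : Scheme.{u}) (t : T ⟶ U) (τ : T), t τ = u ∧ Flat t ∧ Flat (t ≫ h)) :
    Flat h := by
  rw [Flat.iff_flat_stalkMap]
  intro u
  obtain ⟨T, g, u', rfl, hg, hgh⟩ := H u
  have hc : (g ≫ h).stalkMap u' = h.stalkMap (g u') ≫ g.stalkMap u' :=
    Scheme.Hom.stalkMap_comp g h u'
  have h1 : ((g ≫ h).stalkMap u').hom.Flat := Flat.stalkMap _ u'
  have h2 : (g.stalkMap u').hom.Flat := Flat.stalkMap g u'
  rw [hc] at h1
  let φ := (h.stalkMap (g u')).hom
  let ψ := (g.stalkMap u').hom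
  have h1' : (ψ.comp φ).Flat := h1
  letI := φ.toAlgebra
  letI := ψ.toAlgebra
  letI := (ψ.comp φ).toAlgebra
  haveI : IsScalarTower (V.presheaf.stalk (h (g u'))) (U.presheaf.stalk (g u'))
      (T.presheaf.stalk u') := IsScalarTower.of_algebraMap_eq' rfl
  haveI : Module.Flat (V.presheaf.stalk (h (g u'))) (T.presheaf.stalk u') := h1'
  haveI : Module.Flat (U.presheaf.stalk (g u')) (T.presheaf.stalk u') := h2
  haveI : IsLocalHom (algebraMap (U.presheaf.stalk (g u')) (T.presheaf.stalk u')) :=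
    (inferInstance : IsLocalHom (g.stalkMap u').hom)
  haveI : Module.FaithfullyFlat (U.presheaf.stalk (g u')) (T.presheaf.stalk u') :=
    Module.FaithfullyFlat.of_flat_of_isLocalHom
  exact flat_of_flat_of_faithfullyFlat (V.presheaf.stalk (h (g u'))) (U.presheaf.stalk (g u'))
    (T.presheaf.stalk u')

end Groth.Agent.Lib.H15

namespace Groth.Agent.Lib.H15.AS

variable {S : Scheme.{u}}

theorem isLocalOnSource_fpqc_locP_flat :
    AlgSp.IsLocalOnSource (AlgSp.IsFpqcCover (S := S)) (AlgSp.LocP @Flat) := by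
  intro ι X Xi g hX hXi hcov Y f hY
  constructor
  · intro hf i
    exact locP_comp_gen goodP_flat (hXi i) hX hY (hcov.1 i) hf
  · intro H
    obtain ⟨U₀, a₀, ha₀e, ha₀s⟩ := hX.atlas
    obtain ⟨V, b, hbe, hbs⟩ := hY.atlas
    obtain ⟨U, p, k, hpe, hps, wk⟩ := exists_chart_cover f a₀ b hbe hbs
    have hae : AlgSp.RepWith @Etale ((AlgSp.yon S).map p ≫ a₀) :=
      repWith_yon_map_comp @Etale p a₀ hpe ha₀e
    have has : AlgSp.RepWith @Surjective ((AlgSp.yon S).map p ≫ a₀) :=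
      repWith_yon_map_comp @Surjective p a₀ hps ha₀s
    refine locP_of_chart_gen goodP_flat ((AlgSp.yon S).map p ≫ a₀) b k hae has hbe wk ?_
    apply flat_of_forall_exists_flat_comp
    intro u
    obtain ⟨i, ξ, hξ⟩ := exists_point_of_isFpqcCover hcov (AlgSp.Points.ofPt ((AlgSp.yon S).map p ≫ a₀) u)
    obtain ⟨Ui, ai, haie, hais⟩ := (hXi i).atlas
    obtain ⟨ui, rfl⟩ := surjective_ofPt ai hais ξ
    have hrep : AlgSp.Representable ((AlgSp.yon S).map p ≫ a₀) := hae.rep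
    have sq := hrep.isPullback' (ai ≫ g i)
    -- sq : IsPullback (yon fst') (yon snd) (yon p ≫ a₀) (ai ≫ g i)
    have hflat1 : AlgSp.RepWith @Flat (ai ≫ g i) :=
      repWith_comp_of_locP @Flat hX (hcov.1 i) ai haie
    have ht : Flat (hrep.fst' (ai ≫ g i)).left :=
      ((AlgSp.repWith_iff _ _).1 hflat1).2 _ ((AlgSp.yon S).map (hrep.snd (ai ≫ g i)))
        (hrep.fst' (ai ≫ g i)) sq.flip
    have hse : Etale (hrep.snd (ai ≫ g i)).left := hae.property_snd (ai ≫ g i)
    obtain ⟨τ, hτ1, -⟩ := exists_point_of_ofPt_eq sq u ui (by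
      rw [← AlgSp.Points.map_ofPt] at hξ ⊢; exact hξ.symm)
    refine ⟨_, (hrep.fst' (ai ≫ g i)).left, τ, hτ1, ht, ?_⟩
    -- flatness of the composite
    have hflat2 : AlgSp.RepWith @Flat (ai ≫ g i ≫ f) :=
      repWith_comp_of_locP @Flat hY (H i) ai haie
    have hk : AlgSp.RepWith @Flat ((AlgSp.yon S).map (hrep.fst' (ai ≫ g i) ≫ k) ≫ b) := by
      have e : (AlgSp.yon S).map (hrep.fst' (ai ≫ g i) ≫ k) ≫ b =
          (AlgSp.yon S).map (hrep.snd (ai ≫ g i)) ≫ ai ≫ g i ≫ f := by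
        rw [Functor.map_comp, Category.assoc, ← wk, ← Category.assoc, sq.w, Category.assoc,
          Category.assoc]
      rw [e]
      exact MorphismProperty.comp_mem _ _ _
        ((AlgSp.repWith_yon_map_iff _ _).2 (inferInstance : Flat (hrep.snd (ai ≫ g i)).left)) hflat2
    have := prop_of_repWith_yon_map_comp_etale goodP_flat (hrep.fst' (ai ≫ g i) ≫ k) b hbe hk
    rwa [Over.comp_left] at this

end Groth.Agent.Lib.H15.AS
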