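import Mathlib
import Groth.Prelude.Def_AlgSp
import Groth.Prelude.Def_AlgSp2
import Groth.Prelude.Def_AlgSp3
import Groth.Prelude.Def_AlgSp4
import Groth.Prelude.Def_AlgSpCov
import Groth.Agent.Lib.helper15.AlgSpEtaleSmoothLocalST
import Groth.Agent.Lib.helper15.AlgSpOpenSub
import Groth.Agent.Lib.helper15.AlgSpOpenSub2
import Groth.Agent.Lib.helper15.AlgSpOpenSub3
import Groth.Agent.Lib.helper15.AlgSpLocalSource2
import Groth.Agent.Lib.helper15.AlgSpImm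

set_option autoImplicit false
universe u
open CategoryTheory CategoryTheory.Limits AlgebraicGeometry Opposite Topology

namespace Groth.Agent.Lib.H15.AS

variable {S : Scheme.{u}}

/-- For a monomorphism `j`, the square with identity on top exhibiting `g₁` as the base change of
`g₁ ≫ j` along `j`. -/
theorem isPullback_id_of_mono {D : Type*} [Category D] {A B C : D} (g₁ : A ⟶ B) (j : B ⟶ C) [Mono j] :
    IsPullback (𝟙 A) g₁ (g₁ ≫ j) j := by
  have s1 : IsPullback (𝟙 B) (𝟙 B) j j := IsKernelPair.id_of_mono j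
  have s2 : IsPullback (𝟙 A) g₁ g₁ (𝟙 B) := IsPullback.of_horiz_isIso ⟨by simp⟩
  have := s2.paste_vert s1
  rwa [Category.comp_id] at this

/-- A class of morphisms of algebraic spaces usable as covering morphisms: contains open immersions,
stable under composition and base change, open on points. -/
structure GoodCovQ (Q : MorphismProperty (AlgSp.Sp S)) : Prop where
  ofOpen : ∀ ⦃X Y : AlgSp.Sp S⦄, AlgSp.IsAlgSpace X → AlgSp.IsAlgSpace Y → ∀ (j : X ⟶ Y),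
    AlgSp.RepWith @IsOpenImmersion j → Q j
  comp : ∀ ⦃X Y Z : AlgSp.Sp S⦄, AlgSp.IsAlgSpace X → AlgSp.IsAlgSpace Y → AlgSp.IsAlgSpace Z →
    ∀ (f : X ⟶ Y) (g : Y ⟶ Z), Q f → Q g → Q (f ≫ g)
  bc : ∀ ⦃X Y Y' X' : AlgSp.Sp S⦄, AlgSp.IsAlgSpace X → AlgSp.IsAlgSpace Y → AlgSp.IsAlgSpace Y' →
    AlgSp.IsAlgSpace X' → ∀ {f : X ⟶ Y} {g : Y' ⟶ Y} {fst : X' ⟶ X} {f' : X' ⟶ Y'},
    IsPullback fst f' f g → Q f → Q f'
  isOpen : ∀ ⦃X Y : AlgSp.Sp S⦄, AlgSp.IsAlgSpace X → AlgSp.IsAlgSpace Y → ∀ (g : X ⟶ Y), Q g →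
    IsOpenMap (AlgSp.Points.map g)

/-- `f` has `P` over the open set `V` of `|Y|`. -/
def HasPOver (P : MorphismProperty (AlgSp.Sp S)) {X Y : AlgSp.Sp S} (f : X ⟶ Y)
    (V : Set (AlgSp.Points Y)) : Prop :=
  ∀ (W₀ X₀ : AlgSp.Sp S) (j₀ : W₀ ⟶ Y) (j₀' : X₀ ⟶ X) (f₀ : X₀ ⟶ W₀), AlgSp.IsAlgSpace W₀ →
    AlgSp.IsAlgSpace X₀ → AlgSp.RepWith @IsOpenImmersion j₀ → Set.range (AlgSp.Points.map j₀) = V →
    IsPullback j₀' f₀ f j₀ → P f₀

theorem repWith_isOpenImmersion_mono {X Y : AlgSp.Sp S} (j : X ⟶ Y)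
    (hj : AlgSp.RepWith @IsOpenImmersion j) : Mono j :=
  mono_of_repWith (P := @IsOpenImmersion)
    (fun _ _ g (_ : IsOpenImmersion g) => (inferInstance : Mono g)) j hj

section

variable {Q P : MorphismProperty (AlgSp.Sp S)}

/-- Base change along a single covering morphism. -/
theorem prop_baseChange_of_isLocalOnBase (hQ : GoodCovQ Q)
    (hP : AlgSp.IsLocalOnBase (fun _ _ Y g => AlgSp.IsCover Q Y g) P)
    {X Y X' Y' : AlgSp.Sp S} (hX : AlgSp.IsAlgSpace X) (hY : AlgSp.IsAlgSpace Y)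
    (hX' : AlgSp.IsAlgSpace X') (hY' : AlgSp.IsAlgSpace Y') (f : X ⟶ Y) (g : Y' ⟶ Y) (f' : X' ⟶ Y')
    (g' : X' ⟶ X) (sq : IsPullback g' f' f g) (hg : Q g) (hf : P f) : P f' := by
  have hid : ∀ {Z : AlgSp.Sp S}, AlgSp.IsAlgSpace Z → Q (𝟙 Z) := fun {Z} hZ =>
    hQ.ofOpen hZ hZ (𝟙 Z) (repWith_of_isIso @IsOpenImmersion
      (fun _ _ g (hg : IsIso g) => (inferInstance : IsOpenImmersion g)) (𝟙 Z))
  have hcov : AlgSp.IsCover Q (fun b : ULift.{u} Bool => if b.down then Y else Y')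
      (fun b => match b with
        | ⟨true⟩ => 𝟙 Y
        | ⟨false⟩ => g) := by
    refine ⟨?_, fun y => ⟨⟨true⟩, y, AlgSp.Points.map_id y⟩⟩
    rintro ⟨_ | _⟩
    · exact hg
    · exact hid hY
  have key := (hP _ _ hY (by rintro ⟨_ | _⟩ <;> assumption) hcov f hX
    (fun b : ULift.{u} Bool => if b.down then X else X')
    (fun b => match b with
      | ⟨true⟩ => f
      | ⟨false⟩ => f')
    (fun b => match b with
      | ⟨true⟩ => 𝟙 X
      | ⟨false⟩ => g')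
    (by rintro ⟨_ | _⟩ <;> assumption)
    (by
      rintro ⟨_ | _⟩
      · exact sq
      · show IsPullback (𝟙 X) f f (𝟙 Y)
        exact IsPullback.of_horiz_isIso ⟨by simp⟩)).1 hf ⟨false⟩
  exact key

/-- Descent along a single surjective covering morphism. -/
theorem prop_descent_of_isLocalOnBase
    (hP : AlgSp.IsLocalOnBase (fun _ _ Y g => AlgSp.IsCover Q Y g) P)
    {X Y X' Y' : AlgSp.Sp S} (hX : AlgSp.IsAlgSpace X) (hY : AlgSp.IsAlgSpace Y)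
    (hX' : AlgSp.IsAlgSpace X') (hY' : AlgSp.IsAlgSpace Y') (f : X ⟶ Y) (g : Y' ⟶ Y) (f' : X' ⟶ Y')
    (g' : X' ⟶ X) (sq : IsPullback g' f' f g) (hg : Q g)
    (hs : Function.Surjective (AlgSp.Points.map g)) (hf' : P f') : P f := by
  have hcov : AlgSp.IsCover Q (fun _ : PUnit.{u+1} => Y') (fun _ => g) :=
    ⟨fun _ => hg, fun y => ⟨PUnit.unit, hs y⟩⟩
  exact (hP _ _ hY (fun _ => hY') hcov f hX (fun _ => X') (fun _ => f') (fun _ => g')
    (fun _ => hX') (fun _ => sq)).2 (fun _ => hf')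


open TopologicalSpace in
/-- `f` has `P` over the union of any family of opens over which it has `P`. -/
theorem hasPOver_sSup (hQ : GoodCovQ Q)
    (hP : AlgSp.IsLocalOnBase (fun _ _ Y g => AlgSp.IsCover Q Y g) P)
    {X Y : AlgSp.Sp S} (f : X ⟶ Y)
    (𝒱 : Set (Opens (AlgSp.Points Y))) (h𝒱 : ∀ V ∈ 𝒱, HasPOver P f (V : Set (AlgSp.Points Y))) :
    HasPOver P f ((sSup 𝒱 : Opens (AlgSp.Points Y)) : Set (AlgSp.Points Y)) := by
  intro W₀ X₀ j₀ j₀' f₀ hW₀ hX₀ hj₀ hr sq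
  obtain ⟨T, c, hce, hcs⟩ := hW₀.atlas
  have hmem : ∀ t : ↥T.left, ∃ V ∈ 𝒱, AlgSp.Points.map j₀ (AlgSp.Points.ofPt c t) ∈ V := by
    intro t
    have : AlgSp.Points.map j₀ (AlgSp.Points.ofPt c t) ∈
        ((sSup 𝒱 : Opens (AlgSp.Points Y)) : Set (AlgSp.Points Y)) := by
      rw [← hr]; exact ⟨_, rfl⟩
    exact Opens.mem_sSup.1 this
  choose V hV𝒱 hVt using hmem
  obtain ⟨Wt, hWtdef⟩ : ∃ Wt : ↥T.left → Set (AlgSp.Points W₀),
      Wt = fun t => AlgSp.Points.map j₀ ⁻¹' (V t : Set (AlgSp.Points Y)) := ⟨_, rfl⟩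
  have hWt : ∀ t, IsOpen (Wt t) := fun t => by
    rw [hWtdef]; exact (V t).2.preimage (AlgSp.Points.continuous_map j₀)
  have hmemWt : ∀ t w, w ∈ Wt t ↔ AlgSp.Points.map j₀ w ∈ V t := fun t w => by
    rw [hWtdef]; rfl
  have hYi : ∀ t, AlgSp.IsAlgSpace (openSub W₀ (Wt t)) := fun t => isAlgSpace_openSub hW₀ (hWt t)
  have hcov : AlgSp.IsCover Q (fun t => openSub W₀ (Wt t)) (fun t => openSubι W₀ (Wt t)) := by
    refine ⟨fun t => hQ.ofOpen (hYi t) hW₀ _ (repWith_isOpenImmersion_openSubι W₀ (hWt t)),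
      fun w => ?_⟩
    obtain ⟨t, rfl⟩ := surjective_ofPt c hcs w
    refine ⟨t, ?_⟩
    rw [range_map_openSubι, hmemWt]
    exact hVt t
  have sqt : ∀ t, IsPullback (pullback.fst f₀ (openSubι W₀ (Wt t)))
      (pullback.snd f₀ (openSubι W₀ (Wt t))) f₀ (openSubι W₀ (Wt t)) :=
    fun t => IsPullback.of_hasPullback _ _
  have hXi : ∀ t, AlgSp.IsAlgSpace (pullback f₀ (openSubι W₀ (Wt t))) :=
    fun t => isAlgSpace_of_isPullback hW₀.diag hX₀ (hYi t) (sqt t)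
  refine (hP _ _ hW₀ hYi hcov f₀ hX₀ _ (fun t => pullback.snd _ _) (fun t => pullback.fst _ _)
    hXi sqt).2 (fun t => ?_)
  refine h𝒱 (V t) (hV𝒱 t) _ _ (openSubι W₀ (Wt t) ≫ j₀) (pullback.fst _ _ ≫ j₀')
    (pullback.snd _ _) (hYi t) (hXi t) ?_ ?_ ?_
  · exact (AlgSp.RepWith @IsOpenImmersion).comp_mem _ _
      (repWith_isOpenImmersion_openSubι W₀ (hWt t)) hj₀
  · ext y
    constructor
    · rintro ⟨w, rfl⟩
      rw [AlgSp.Points.map_comp]
      have : AlgSp.Points.map (openSubι W₀ (Wt t)) w ∈ Wt t :=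
        (range_map_openSubι W₀ (Wt t)).subset ⟨w, rfl⟩
      exact (hmemWt t _).1 this
    · intro hy
      have hyW : y ∈ ((sSup 𝒱 : Opens (AlgSp.Points Y)) : Set (AlgSp.Points Y)) :=
        Opens.mem_sSup.2 ⟨V t, hV𝒱 t, hy⟩
      rw [← hr] at hyW
      obtain ⟨w, rfl⟩ := hyW
      have : w ∈ Set.range (AlgSp.Points.map (openSubι W₀ (Wt t))) := by
        rw [range_map_openSubι, hmemWt]; exact hy
      obtain ⟨w', rfl⟩ := this
      exact ⟨w', AlgSp.Points.map_comp _ _ _⟩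
  · exact (sqt t).paste_horiz sq

open TopologicalSpace in
/-- A covering morphism after base change along which `f` acquires `P` has image in the largest open. -/
theorem range_subset_of_prop (hQ : GoodCovQ Q)
    (hP : AlgSp.IsLocalOnBase (fun _ _ Y g => AlgSp.IsCover Q Y g) P)
    {X Y : AlgSp.Sp S} (hY : AlgSp.IsAlgSpace Y) (f : X ⟶ Y)
    (W : Opens (AlgSp.Points Y))
    (hmax : ∀ V : Opens (AlgSp.Points Y), HasPOver P f (V : Set (AlgSp.Points Y)) → V ≤ W)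
    {Y' X' : AlgSp.Sp S} (hY' : AlgSp.IsAlgSpace Y') (hX' : AlgSp.IsAlgSpace X') (g : Y' ⟶ Y)
    (g' : X' ⟶ X) (f' : X' ⟶ Y') (hg : Q g) (sq : IsPullback g' f' f g) (hf' : P f') :
    Set.range (AlgSp.Points.map g) ⊆ (W : Set (AlgSp.Points Y)) := by
  have hopen : IsOpen (Set.range (AlgSp.Points.map g)) := (hQ.isOpen hY' hY g hg).isOpen_range
  refine hmax ⟨_, hopen⟩ ?_
  intro W₁ X₁ j₁ j₁' f₁ hW₁ hX₁ hj₁ hr₁ sq₁
  have hr₁' : Set.range (AlgSp.Points.map j₁) = Set.range (AlgSp.Points.map g) := hr₁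
  have := repWith_isOpenImmersion_mono j₁ hj₁
  obtain ⟨g₁, hg₁⟩ := exists_factor_of_range_subset j₁ hj₁ g (by rw [hr₁'])
  subst hg₁
  have sqm := isPullback_id_of_mono g₁ j₁
  have hg₁Q : Q g₁ := hQ.bc hY' hY hW₁ hY' sqm hg
  obtain ⟨k, hk1, hk2⟩ : ∃ k : X' ⟶ X₁, k ≫ j₁' = g' ∧ k ≫ f₁ = f' ≫ g₁ :=
    ⟨sq₁.lift g' (f' ≫ g₁) (by rw [Category.assoc]; exact sq.w), sq₁.lift_fst _ _ _,
      sq₁.lift_snd _ _ _⟩
  have sqk : IsPullback k f' f₁ g₁ := IsPullback.of_right (by rw [hk1]; exact sq) hk2 sq₁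
  have hs : Function.Surjective (AlgSp.Points.map g₁) := by
    intro w
    have : AlgSp.Points.map j₁ w ∈ Set.range (AlgSp.Points.map (g₁ ≫ j₁)) := by
      rw [← hr₁']; exact ⟨w, rfl⟩
    obtain ⟨y', hy'⟩ := this
    rw [AlgSp.Points.map_comp] at hy'
    exact ⟨y', injective_points_map_of_mono j₁ hy'⟩
  exact prop_descent_of_isLocalOnBase hP hX₁ hW₁ hX' hY' f₁ g₁ f' k sqk hg₁Q hs hf'


open TopologicalSpace in
/-- The largest open for a base change along a covering morphism is the preimage of the largest open. -/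
theorem largest_open_preimage (hQ : GoodCovQ Q)
    (hP : AlgSp.IsLocalOnBase (fun _ _ Y g => AlgSp.IsCover Q Y g) P)
    {X Y : AlgSp.Sp S} (hX : AlgSp.IsAlgSpace X) (hY : AlgSp.IsAlgSpace Y) (f : X ⟶ Y)
    (W : Opens (AlgSp.Points Y)) (hW : HasPOver P f (W : Set (AlgSp.Points Y)))
    (hmax : ∀ V : Opens (AlgSp.Points Y), HasPOver P f (V : Set (AlgSp.Points Y)) → V ≤ W)
    {Y' X' : AlgSp.Sp S} (hY' : AlgSp.IsAlgSpace Y') (hX' : AlgSp.IsAlgSpace X') (g : Y' ⟶ Y)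
    (g' : X' ⟶ X) (f' : X' ⟶ Y') (hg : Q g) (sq : IsPullback g' f' f g)
    (W' : Opens (AlgSp.Points Y')) (hW' : HasPOver P f' (W' : Set (AlgSp.Points Y')))
    (hmax' : ∀ V' : Opens (AlgSp.Points Y'), HasPOver P f' (V' : Set (AlgSp.Points Y')) → V' ≤ W') :
    (W' : Set (AlgSp.Points Y')) = AlgSp.Points.map g ⁻¹' (W : Set (AlgSp.Points Y)) := by
  apply Set.Subset.antisymm
  · intro y' hy'
    have hW'o : IsOpen (W' : Set (AlgSp.Points Y')) := W'.2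
    have hW₂ := isAlgSpace_openSub hY' hW'o
    have sq₂ := IsPullback.of_hasPullback f' (openSubι Y' (W' : Set (AlgSp.Points Y')))
    have hX₂ := isAlgSpace_of_isPullback hY'.diag hX' hW₂ sq₂
    have hf₂ : P (pullback.snd f' (openSubι Y' (W' : Set (AlgSp.Points Y')))) :=
      hW' _ _ (openSubι Y' (W' : Set (AlgSp.Points Y'))) (pullback.fst _ _) (pullback.snd _ _) hW₂ hX₂
        (repWith_isOpenImmersion_openSubι Y' hW'o) (range_map_openSubι Y' _) sq₂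
    have hgQ : Q (openSubι Y' (W' : Set (AlgSp.Points Y')) ≫ g) :=
      hQ.comp hW₂ hY' hY _ _ (hQ.ofOpen hW₂ hY' _ (repWith_isOpenImmersion_openSubι Y' hW'o)) hg
    have key := range_subset_of_prop hQ hP hY f W hmax hW₂ hX₂
      (openSubι Y' (W' : Set (AlgSp.Points Y')) ≫ g) (pullback.fst _ _ ≫ g') (pullback.snd _ _) hgQ
      (sq₂.paste_horiz sq) hf₂
    have hy'r : y' ∈ Set.range (AlgSp.Points.map (openSubι Y' (W' : Set (AlgSp.Points Y')))) := by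
      rw [range_map_openSubι]; exact hy'
    obtain ⟨w, rfl⟩ := hy'r
    exact key ⟨w, AlgSp.Points.map_comp _ _ _⟩
  · have hV'o : IsOpen (AlgSp.Points.map g ⁻¹' (W : Set (AlgSp.Points Y))) :=
      W.2.preimage (AlgSp.Points.continuous_map g)
    refine hmax' ⟨_, hV'o⟩ ?_
    intro W₃ X₃ j₃ j₃' f₃ hW₃ hX₃ hj₃ hr₃ sq₃
    have hr₃' : Set.range (AlgSp.Points.map j₃) =
        AlgSp.Points.map g ⁻¹' (W : Set (AlgSp.Points Y)) := hr₃
    have hWo : IsOpen (W : Set (AlgSp.Points Y)) := W.2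
    have hW₀ := isAlgSpace_openSub hY hWo
    have sq₀ := IsPullback.of_hasPullback f (openSubι Y (W : Set (AlgSp.Points Y)))
    have hX₀ := isAlgSpace_of_isPullback hY.diag hX hW₀ sq₀
    have hf₀ : P (pullback.snd f (openSubι Y (W : Set (AlgSp.Points Y)))) :=
      hW _ _ _ _ _ hW₀ hX₀ (repWith_isOpenImmersion_openSubι Y hWo) (range_map_openSubι Y _) sq₀
    obtain ⟨g₃, hg₃⟩ := exists_factor_of_range_subset (openSubι Y (W : Set (AlgSp.Points Y)))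
      (repWith_isOpenImmersion_openSubι Y hWo) (j₃ ≫ g) (by
        rintro _ ⟨w, rfl⟩
        rw [range_map_openSubι, AlgSp.Points.map_comp]
        have : AlgSp.Points.map j₃ w ∈ AlgSp.Points.map g ⁻¹' (W : Set (AlgSp.Points Y)) := by
          rw [← hr₃']; exact ⟨w, rfl⟩
        exact this)
    have hj₃g : Q (j₃ ≫ g) := hQ.comp hW₃ hY' hY _ _ (hQ.ofOpen hW₃ hY' _ hj₃) hg
    have sqm := isPullback_id_of_mono g₃ (openSubι Y (W : Set (AlgSp.Points Y)))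
    rw [hg₃] at sqm
    have hg₃Q : Q g₃ := hQ.bc hW₃ hY hW₀ hW₃ sqm hj₃g
    have outer : IsPullback (j₃' ≫ g') f₃ f (j₃ ≫ g) := sq₃.paste_horiz sq
    obtain ⟨k, hk1, hk2⟩ : ∃ k : X₃ ⟶ pullback f (openSubι Y (W : Set (AlgSp.Points Y))),
        k ≫ pullback.fst _ _ = j₃' ≫ g' ∧ k ≫ pullback.snd _ _ = f₃ ≫ g₃ :=
      ⟨sq₀.lift (j₃' ≫ g') (f₃ ≫ g₃) (outer.w.trans (by rw [← hg₃, Category.assoc])),
        sq₀.lift_fst _ _ _, sq₀.lift_snd _ _ _⟩
    have sqk : IsPullback k f₃ (pullback.snd f (openSubι Y (W : Set (AlgSp.Points Y)))) g₃ :=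
      IsPullback.of_right (by rw [hk1, hg₃]; exact outer) hk2 sq₀
    exact prop_baseChange_of_isLocalOnBase hQ hP hX₀ hW₀ hX₃ hW₃ _ g₃ f₃ k sqk hg₃Q hf₀

open TopologicalSpace in
/-- Existence of the largest open over which `f` has `P`, with its two functoriality properties. -/
theorem exists_largest_open (hQ : GoodCovQ Q)
    (hP : AlgSp.IsLocalOnBase (fun _ _ Y g => AlgSp.IsCover Q Y g) P)
    {X Y : AlgSp.Sp S} (hX : AlgSp.IsAlgSpace X) (hY : AlgSp.IsAlgSpace Y) (f : X ⟶ Y) :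
    ∃ W : Opens (AlgSp.Points Y), HasPOver P f (W : Set (AlgSp.Points Y)) ∧
      (∀ V : Opens (AlgSp.Points Y), HasPOver P f (V : Set (AlgSp.Points Y)) → V ≤ W) ∧
      (∀ (Y' X' : AlgSp.Sp S) (g : Y' ⟶ Y) (g' : X' ⟶ X) (f' : X' ⟶ Y'), AlgSp.IsAlgSpace Y' →
        AlgSp.IsAlgSpace X' → Q g → IsPullback g' f' f g → P f' →
        Set.range (AlgSp.Points.map g) ⊆ (W : Set (AlgSp.Points Y))) ∧
      (∀ (Y' X' : AlgSp.Sp S) (g : Y' ⟶ Y) (g' : X' ⟶ X) (f' : X' ⟶ Y'), AlgSp.IsAlgSpace Y' →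
        AlgSp.IsAlgSpace X' → Q g → IsPullback g' f' f g →
        ∀ W' : Opens (AlgSp.Points Y'), HasPOver P f' (W' : Set (AlgSp.Points Y')) →
          (∀ V' : Opens (AlgSp.Points Y'), HasPOver P f' (V' : Set (AlgSp.Points Y')) → V' ≤ W') →
          (W' : Set (AlgSp.Points Y')) = AlgSp.Points.map g ⁻¹' (W : Set (AlgSp.Points Y))) := by
  have h1 : HasPOver P f ((sSup {V : Opens (AlgSp.Points Y) | HasPOver P f (V : Set (AlgSp.Points Y))} :
      Opens (AlgSp.Points Y)) : Set (AlgSp.Points Y)) :=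
    hasPOver_sSup hQ hP f _ (fun V hV => hV)
  have h2 : ∀ V : Opens (AlgSp.Points Y), HasPOver P f (V : Set (AlgSp.Points Y)) →
      V ≤ sSup {V : Opens (AlgSp.Points Y) | HasPOver P f (V : Set (AlgSp.Points Y))} :=
    fun V hV => le_sSup hV
  refine ⟨_, h1, h2, ?_, ?_⟩
  · intro Y' X' g g' f' hY' hX' hg sq hf'
    exact range_subset_of_prop hQ hP hY f _ h2 hY' hX' g g' f' hg sq hf'
  · intro Y' X' g g' f' hY' hX' hg sq W' hW' hmax'
    exact largest_open_preimage hQ hP hX hY f _ h1 h2 hY' hX' g g' f' hg sq W' hW' hmax'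

end

end Groth.Agent.Lib.H15.AS

namespace Groth.Agent.Lib.H15.AS

variable {S : Scheme.{u}}

theorem goodCovQ_isEtaleMor : GoodCovQ (AlgSp.IsEtaleMor (S := S)) where
  ofOpen _ _ _ _ j hj := fun _ φ hφ => (AlgSp.RepWith @Etale).comp_mem _ _ hφ
    (repWith_mono (fun _ _ g (_ : IsOpenImmersion g) => (inferInstance : Etale g)) hj)
  comp _ _ _ _ _ _ f g hf hg := fun _ φ hφ => by
    rw [← Category.assoc]; exact hg _ (hf φ hφ)
  bc _ _ _ _ hX hY hY' _ _ _ _ _ sq hf := isEtaleMor_of_isPullback hX hY hY' sq hf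
  isOpen _ _ hX hY g hg := isOpenMor_of_isUnivOpenMor hY (isUnivOpenMor_of_flat_lfp hX hY
    (locP_mono (fun _ _ _ (_ : Etale _) => (inferInstance : Flat _)) (locP_etale_of_isEtaleMor hg))
    (locP_mono (fun _ _ _ (_ : Etale _) => (inferInstance : LocallyOfFinitePresentation _))
      (locP_etale_of_isEtaleMor hg)))

theorem goodCovQ_smooth : GoodCovQ (AlgSp.LocP (S := S) @Smooth) where
  ofOpen _ _ hX hY j hj := locP_smooth_of_isEtaleMor (goodCovQ_isEtaleMor.ofOpen hX hY j hj)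
  comp _ _ _ hX hY hZ _ _ hf hg := locP_comp_gen goodP_smooth hX hY hZ hf hg
  bc _ _ _ _ hX hY hY' _ _ _ _ _ sq hf := locP_of_isPullback_gen goodP_smooth hX hY hY' sq hf
  isOpen _ _ hX hY _ hg := isOpenMor_of_isUnivOpenMor hY (isUnivOpenMor_of_flat_lfp hX hY
    (locP_mono (fun _ _ _ (_ : Smooth _) => (inferInstance : Flat _)) hg)
    (locP_mono (fun _ _ _ (_ : Smooth _) => (inferInstance : LocallyOfFinitePresentation _)) hg))

theorem goodCovQ_fppf : GoodCovQ (fun (_ _ : AlgSp.Sp S) f =>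
    AlgSp.LocP @Flat f ∧ AlgSp.LocP @LocallyOfFinitePresentation f) where
  ofOpen _ _ hX hY j hj := by
    have h := locP_etale_of_isEtaleMor (goodCovQ_isEtaleMor.ofOpen hX hY j hj)
    exact ⟨locP_mono (fun _ _ _ (_ : Etale _) => (inferInstance : Flat _)) h,
      locP_mono (fun _ _ _ (_ : Etale _) => (inferInstance : LocallyOfFinitePresentation _)) h⟩
  comp _ _ _ hX hY hZ _ _ hf hg := ⟨locP_comp_gen goodP_flat hX hY hZ hf.1 hg.1,
    locP_comp_gen goodP_lfp hX hY hZ hf.2 hg.2⟩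
  bc _ _ _ _ hX hY hY' _ _ _ _ _ sq hf := ⟨locP_of_isPullback_gen goodP_flat hX hY hY' sq hf.1,
    locP_of_isPullback_gen goodP_lfp hX hY hY' sq hf.2⟩
  isOpen _ _ hX hY g hg := isOpenMor_of_isUnivOpenMor hY (isUnivOpenMor_of_flat_lfp hX hY hg.1 hg.2)

/-- Bundled (`AlgSp.Space S`) and unbundled forms of "`f` has `P` over `V`" agree. -/
theorem hasPOver_iff (P : MorphismProperty (AlgSp.Sp S)) {X Y : AlgSp.Space S} (f : X ⟶ Y)
    (V : Set (AlgSp.Points Y.obj)) :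
    (∀ (W₀ X₀ : AlgSp.Space S) (j₀ : W₀ ⟶ Y) (j₀' : X₀ ⟶ X) (f₀ : X₀ ⟶ W₀),
      AlgSp.RepWith @IsOpenImmersion j₀.hom → Set.range (AlgSp.Points.map j₀.hom) = V →
      IsPullback j₀'.hom f₀.hom f.hom j₀.hom → P f₀.hom) ↔ HasPOver P f.hom V := by
  constructor
  · intro h W₀ X₀ j₀ j₀' f₀ hW₀ hX₀ hj hr sq
    exact h ⟨W₀, hW₀⟩ ⟨X₀, hX₀⟩ (ObjectProperty.homMk j₀) (ObjectProperty.homMk j₀')
      (ObjectProperty.homMk f₀) hj hr sq
  · intro h W₀ X₀ j₀ j₀' f₀ hj hr sq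
    exact h _ _ _ _ _ W₀.property X₀.property hj hr sq

open TopologicalSpace in
/-- Bundled form of `exists_largest_open`. -/
theorem exists_largest_open_space {Q P : MorphismProperty (AlgSp.Sp S)} (hQ : GoodCovQ Q)
    (hP : AlgSp.IsLocalOnBase (fun _ _ Y g => AlgSp.IsCover Q Y g) P)
    {X Y : AlgSp.Space S} (f : X ⟶ Y) :
    ∃ W : Opens (AlgSp.Points Y.obj),
      (∀ (W₀ X₀ : AlgSp.Space S) (j₀ : W₀ ⟶ Y) (j₀' : X₀ ⟶ X) (f₀ : X₀ ⟶ W₀),
        AlgSp.RepWith @IsOpenImmersion j₀.hom →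
        Set.range (AlgSp.Points.map j₀.hom) = (W : Set (AlgSp.Points Y.obj)) →
        IsPullback j₀'.hom f₀.hom f.hom j₀.hom → P f₀.hom) ∧
      (∀ V : Opens (AlgSp.Points Y.obj),
        (∀ (W₁ X₁ : AlgSp.Space S) (j₁ : W₁ ⟶ Y) (j₁' : X₁ ⟶ X) (f₁ : X₁ ⟶ W₁),
        AlgSp.RepWith @IsOpenImmersion j₁.hom →
        Set.range (AlgSp.Points.map j₁.hom) = (V : Set (AlgSp.Points Y.obj)) →
        IsPullback j₁'.hom f₁.hom f.hom j₁.hom → P f₁.hom) → V ≤ W) ∧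
      (∀ (Y' X' : AlgSp.Space S) (g : Y' ⟶ Y) (g' : X' ⟶ X) (f' : X' ⟶ Y'),
        Q g.hom → IsPullback g'.hom f'.hom f.hom g.hom → P f'.hom →
        Set.range (AlgSp.Points.map g.hom) ⊆ (W : Set (AlgSp.Points Y.obj))) ∧
      (∀ (Y' X' : AlgSp.Space S) (g : Y' ⟶ Y) (g' : X' ⟶ X) (f' : X' ⟶ Y'),
        Q g.hom → IsPullback g'.hom f'.hom f.hom g.hom →
        ∀ W' : Opens (AlgSp.Points Y'.obj),
          (∀ (W₂ X₂ : AlgSp.Space S) (j₂ : W₂ ⟶ Y') (j₂' : X₂ ⟶ X') (f₂ : X₂ ⟶ W₂),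
        AlgSp.RepWith @IsOpenImmersion j₂.hom →
        Set.range (AlgSp.Points.map j₂.hom) = (W' : Set (AlgSp.Points Y'.obj)) →
        IsPullback j₂'.hom f₂.hom f'.hom j₂.hom → P f₂.hom) →
          (∀ V' : Opens (AlgSp.Points Y'.obj),
            (∀ (W₃ X₃ : AlgSp.Space S) (j₃ : W₃ ⟶ Y') (j₃' : X₃ ⟶ X') (f₃ : X₃ ⟶ W₃),
        AlgSp.RepWith @IsOpenImmersion j₃.hom →
        Set.range (AlgSp.Points.map j₃.hom) = (V' : Set (AlgSp.Points Y'.obj)) →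
        IsPullback j₃'.hom f₃.hom f'.hom j₃.hom → P f₃.hom) → V' ≤ W') →
          (W' : Set (AlgSp.Points Y'.obj)) =
            AlgSp.Points.map g.hom ⁻¹' (W : Set (AlgSp.Points Y.obj))) := by
  obtain ⟨W, h1, h2, h3, h4⟩ := exists_largest_open hQ hP X.property Y.property f.hom
  refine ⟨W, (hasPOver_iff P f _).2 h1, fun V hV => h2 V ((hasPOver_iff P f _).1 hV), ?_, ?_⟩
  · intro Y' X' g g' f' hg sq hf'
    exact h3 _ _ _ _ _ Y'.property X'.property hg sq hf'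
  · intro Y' X' g g' f' hg sq W' hW' hmax'
    exact h4 _ _ _ _ _ Y'.property X'.property hg sq W' ((hasPOver_iff P f' _).1 hW')
      (fun V' hV' => hmax' V' ((hasPOver_iff P f' _).2 hV'))

end Groth.Agent.Lib.H15.AS
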