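import Mathlib
import Groth.Prelude.Def_AlgSp
import Groth.Prelude.Def_AlgSp2
import Groth.Prelude.Def_AlgSp3
import Groth.Prelude.Def_AlgSp4
import Groth.Agent.Lib.helper15.AlgSpPoints3

set_option autoImplicit false
universe u
open CategoryTheory CategoryTheory.Limits AlgebraicGeometry Opposite Topology TopologicalSpace

namespace Groth.Agent.Lib.H15.AS

variable {S : Scheme.{u}}

/-- The image in `|F|` of a Noetherian affine open of an etale chart is open and Noetherian. -/
theorem noetherianSpace_image_affineOpen {F : AlgSp.Sp S} {U : Over S} (p : (AlgSp.yon S).obj U ⟶ F)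
    [IsLocallyNoetherian U.left] (V : U.left.Opens) (hV : IsAffineOpen V) :
    NoetherianSpace ↥(AlgSp.Points.ofPt p '' (V : Set ↥U.left)) := by
  have : IsNoetherianRing Γ(U.left, V) := IsLocallyNoetherian.component_noetherian ⟨V, hV⟩
  have : NoetherianSpace V := noetherianSpace_of_isAffineOpen V hV
  have h3 : Continuous (fun v : ↥(V : Set ↥U.left) => AlgSp.Points.ofPt p v.1) :=
    (AlgSp.Points.continuous_ofPt p).comp continuous_subtype_val
  have h2 : NoetherianSpace ↥(V : Set ↥U.left) := this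
  have := NoetherianSpace.range (fun v : ↥(V : Set ↥U.left) => AlgSp.Points.ofPt p v.1) h3
  rwa [Set.image_eq_range]

/-- Every point of a locally Noetherian space has a Noetherian open neighbourhood. -/
theorem exists_noetherianSpace_nhd {F : AlgSp.Sp S} (hX : AlgSp.IsLocNoethSp F) (x : AlgSp.Points F) :
    ∃ W : Set (AlgSp.Points F), IsOpen W ∧ x ∈ W ∧ NoetherianSpace ↥W := by
  obtain ⟨U, p, hpe, hps, hU⟩ := hX
  obtain ⟨u, rfl⟩ := surjective_ofPt p hps x
  have : IsLocallyNoetherian U.left := hU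
  obtain ⟨V, hV, huV, -⟩ := exists_isAffineOpen_mem_and_subset (x := u) (U := ⊤) trivial
  exact ⟨AlgSp.Points.ofPt p '' (V : Set ↥U.left),
    isOpenMap_ofPt p (repWith_universallyOpen_of_etale hpe) _ V.2, ⟨u, huV, rfl⟩,
    noetherianSpace_image_affineOpen p V hV⟩

/-- A quasi-compact locally Noetherian space has Noetherian space of points. -/
theorem noetherianSpace_points {F : AlgSp.Sp S} (hqc : AlgSp.IsQuasiCompactSp F)
    (hX : AlgSp.IsLocNoethSp F) : NoetherianSpace (AlgSp.Points F) := by
  have : CompactSpace (AlgSp.Points F) := compactSpace_of_isQuasiCompactSp hqc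
  choose W hWo hxW hWn using fun x => exists_noetherianSpace_nhd hX x
  obtain ⟨t, ht⟩ := isCompact_univ.elim_finite_subcover W hWo
    (fun x _ => Set.mem_iUnion.2 ⟨x, hxW x⟩)
  rw [← noetherian_univ_iff]
  have h1 : (Set.univ : Set (AlgSp.Points F)) = ⋃ i : ↥t, W i.1 := by
    apply Set.Subset.antisymm
    · intro x hx
      obtain ⟨i, hi⟩ := Set.mem_iUnion.1 (ht hx)
      obtain ⟨hit, hxi⟩ := Set.mem_iUnion.1 hi
      exact Set.mem_iUnion.2 ⟨⟨i, hit⟩, hxi⟩
    · exact Set.subset_univ _
  rw [h1]
  have : ∀ i : ↥t, NoetherianSpace ↥(W i.1) := fun i => hWn i.1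
  exact NoetherianSpace.iUnion _

end Groth.Agent.Lib.H15.AS
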