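import Mathlib
import Groth.Prelude.Def_AlgSp
import Groth.Prelude.Def_AlgSp2
import Groth.Prelude.Def_AlgSp3
import Groth.Prelude.Def_AlgSp4
import Groth.Agent.Lib.helper15.AlgSpPoints3

set_option autoImplicit false
universe u
open CategoryTheory CategoryTheory.Limits AlgebraicGeometry Opposite Topology TopologicalSpace

namespace Groth.Agent.Lib.H15.AS

variable {S : Scheme.{u}}

/-- The source of a morphism locally of finite type with locally Noetherian target is locally
Noetherian. -/
theorem isLocNoethSp_of_locP_lft {X Y : AlgSp.Sp S} (hX : AlgSp.IsAlgSpace X) {f : X ⟶ Y}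
    (hf : AlgSp.LocP @LocallyOfFiniteType f) (hY : AlgSp.IsLocNoethSp Y) : AlgSp.IsLocNoethSp X := by
  obtain ⟨V₀, p₀, hp₀e, hp₀s, hV₀⟩ := hY
  obtain ⟨U, a, hae, has⟩ := hX.atlas
  have hrep := hp₀e.rep
  have sq := hrep.isPullback' (a ≫ f)
  have h1e : Etale (hrep.snd (a ≫ f)).left := hp₀e.property_snd _
  have h1s : Surjective (hrep.snd (a ≫ f)).left := hp₀s.property_snd _
  have hchart : AlgSp.RepWith @Etale ((AlgSp.yon S).map (hrep.snd (a ≫ f)) ≫ a) :=
    repWith_yon_map_comp @Etale _ a h1e hae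
  have hcharts : AlgSp.RepWith @Surjective ((AlgSp.yon S).map (hrep.snd (a ≫ f)) ≫ a) :=
    repWith_yon_map_comp @Surjective _ a h1s has
  have hlft : LocallyOfFiniteType (hrep.fst' (a ≫ f)).left :=
    hf ((AlgSp.yon S).map (hrep.snd (a ≫ f)) ≫ a) p₀ (hrep.fst' (a ≫ f)) hchart hp₀e
      (by rw [Category.assoc]; exact sq.w.symm)
  have : IsLocallyNoetherian V₀.left := hV₀
  exact ⟨hrep.pullback (a ≫ f), _, hchart, hcharts,
    LocallyOfFiniteType.isLocallyNoetherian (hrep.fst' (a ≫ f)).left⟩

/-- Over a locally Noetherian target, locally of finite type implies locally of finite presentation. -/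
theorem locP_lfp_of_locP_lft_locNoeth {X Y : AlgSp.Sp S} {f : X ⟶ Y} (hY : AlgSp.IsLocNoethSp Y)
    (hf : AlgSp.LocP @LocallyOfFiniteType f) : AlgSp.LocP @LocallyOfFinitePresentation f := by
  obtain ⟨V₀, p₀, hp₀e, hp₀s, hV₀⟩ := hY
  intro U V a b h hae hbe comm
  have hlft : LocallyOfFiniteType h.left := hf a b h hae hbe comm
  have hrep := hp₀e.rep
  have sq := hrep.isPullback' b
  have hπe : Etale (hrep.snd b).left := hp₀e.property_snd _
  have hπs : Surjective (hrep.snd b).left := hp₀s.property_snd _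
  have hqe : Etale (hrep.fst' b).left :=
    ((AlgSp.repWith_iff _ _).1 hbe).2 p₀ ((AlgSp.yon S).map (hrep.snd b)) (hrep.fst' b) sq.flip
  have : IsLocallyNoetherian V₀.left := hV₀
  have : IsLocallyNoetherian (hrep.pullback b).left :=
    LocallyOfFiniteType.isLocallyNoetherian (hrep.fst' b).left
  have hbc : LocallyOfFinitePresentation (pullback.snd h.left (hrep.snd b).left) := inferInstance
  exact MorphismProperty.of_isPullback_of_descendsAlong
    (Q := @Surjective ⊓ @Flat ⊓ @LocallyOfFinitePresentation)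
    (IsPullback.of_hasPullback h.left (hrep.snd b).left).flip
    ⟨⟨hπs, (inferInstance : Flat (hrep.snd b).left)⟩,
      (inferInstance : LocallyOfFinitePresentation (hrep.snd b).left)⟩ hbc

end Groth.Agent.Lib.H15.AS
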