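import Mathlib

set_option autoImplicit false
universe u
open CategoryTheory CategoryTheory.Limits AlgebraicGeometry Opposite Topology

namespace Groth.Agent.Lib.H15.ND

/-- Noetherianity descends along faithfully flat ring maps. -/
theorem isNoetherianRing_of_faithfullyFlat {B A : Type*} [CommRing B] [CommRing A] [Algebra B A]
    [Module.FaithfullyFlat B A] [IsNoetherianRing A] : IsNoetherianRing B := by
  rw [isNoetherianRing_iff, ← monotone_stabilizes_iff_noetherian]
  intro I
  let J : ℕ →o Ideal A := ⟨fun n => Ideal.map (algebraMap B A) (I n), fun _ _ h =>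
    Ideal.map_mono (I.monotone h)⟩
  obtain ⟨N, hN⟩ := monotone_stabilizes_iff_noetherian.2 (inferInstance : IsNoetherian A A) J
  refine ⟨N, fun m hm => ?_⟩
  have := hN m hm
  have h1 : Ideal.map (algebraMap B A) (I N) = Ideal.map (algebraMap B A) (I m) := this
  exact Ideal.map_injective_of_faithfullyFlat (B := A) h1

theorem isNoetherianRing_of_ringHom_faithfullyFlat {B A : Type*} [CommRing B] [CommRing A]
    (φ : B →+* A) (hφ : φ.FaithfullyFlat) [IsNoetherianRing A] : IsNoetherianRing B := by
  algebraize [φ]
  exact isNoetherianRing_of_faithfullyFlat (B := B) (A := A)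

end Groth.Agent.Lib.H15.ND

namespace Groth.Agent.Lib.H15.ND

/-- Affine case: a flat surjective morphism of affine schemes with locally Noetherian source has
locally Noetherian target. -/
theorem isLocallyNoetherian_of_flat_surjective_affine {Y V : Scheme.{u}} [IsAffine Y] [IsAffine V]
    (k : Y ⟶ V) [Flat k] [Surjective k] [IsLocallyNoetherian Y] : IsLocallyNoetherian V := by
  have hff : k.appTop.hom.FaithfullyFlat :=
    (Flat.flat_and_surjective_iff_faithfullyFlat_of_isAffine k).1 ⟨inferInstance, inferInstance⟩
  have hY : IsNoetherianRing Γ(Y, ⊤) :=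
    IsLocallyNoetherian.component_noetherian ⟨⊤, isAffineOpen_top Y⟩
  have hV : IsNoetherianRing Γ(V, ⊤) := isNoetherianRing_of_ringHom_faithfullyFlat _ hff
  exact isLocallyNoetherian_of_affine_cover (S := fun _ : Unit => ⟨⊤, isAffineOpen_top V⟩)
    (by simp) (fun _ => hV)

/-- A flat surjective morphism to an affine scheme, whose source is locally Noetherian and
contains a quasi-compact open surjecting onto the target, has locally Noetherian target. -/
theorem isLocallyNoetherian_of_flat_of_compact_opens {U V : Scheme.{u}} [IsAffine V]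
    (h : U ⟶ V) [Flat h] [IsLocallyNoetherian U] (W : U.Opens) (hW : IsCompact (W : Set U))
    (hsurj : h '' (W : Set U) = Set.univ) : IsLocallyNoetherian V := by
  have : CompactSpace W := isCompact_iff_compactSpace.1 hW
  obtain ⟨Y, p, hps, hpe, hY⟩ :=
    Scheme.exists_hom_isAffine_of_isZariskiLocalAtSource @Etale W.toScheme
  have : Etale p := hpe
  have : IsLocallyNoetherian Y := LocallyOfFiniteType.isLocallyNoetherian p
  have : Surjective (p ≫ W.ι ≫ h) := by
    refine ⟨fun v => ?_⟩
    have hv : v ∈ h '' (W : Set U) := by rw [hsurj]; trivial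
    obtain ⟨u, hu, rfl⟩ := hv
    obtain ⟨y, hy⟩ := hps.surj ⟨u, hu⟩
    refine ⟨y, ?_⟩
    rw [Scheme.Hom.comp_apply, Scheme.Hom.comp_apply, hy]
    rfl
  exact isLocallyNoetherian_of_flat_surjective_affine (p ≫ W.ι ≫ h)

/-- fppf descent of local Noetherianity for schemes. -/
theorem isLocallyNoetherian_of_flat_surjective_lfp {U V : Scheme.{u}} (h : U ⟶ V) [Flat h]
    [Surjective h] [LocallyOfFinitePresentation h] [IsLocallyNoetherian U] :
    IsLocallyNoetherian V := by
  rw [isLocallyNoetherian_iff_openCover V.affineCover]
  intro i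
  have : IsLocallyNoetherian (pullback h (V.affineCover.f i)) :=
    isLocallyNoetherian_of_isOpenImmersion (pullback.fst h (V.affineCover.f i))
  obtain ⟨W, hW, e⟩ := (pullback.snd h (V.affineCover.f i)).isOpenMap.exists_opens_image_eq_of_prespectralSpace
    (pullback.snd h (V.affineCover.f i)).continuous
    (by
      intro v _
      exact (inferInstance : Surjective (pullback.snd h (V.affineCover.f i))).surj v)
    isOpen_univ isCompact_univ
  exact isLocallyNoetherian_of_flat_of_compact_opens (pullback.snd h (V.affineCover.f i)) W hW e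

/-- fpqc descent of local Noetherianity for schemes. -/
theorem isLocallyNoetherian_of_flat_surjective_quasiCompact {U V : Scheme.{u}} (h : U ⟶ V) [Flat h]
    [Surjective h] [QuasiCompact h] [IsLocallyNoetherian U] :
    IsLocallyNoetherian V := by
  rw [isLocallyNoetherian_iff_openCover V.affineCover]
  intro i
  have : IsLocallyNoetherian (pullback h (V.affineCover.f i)) :=
    isLocallyNoetherian_of_isOpenImmersion (pullback.fst h (V.affineCover.f i))
  have : CompactSpace ↥(pullback h (V.affineCover.f i)) :=
    QuasiCompact.compactSpace_of_compactSpace (pullback.snd h (V.affineCover.f i))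
  refine isLocallyNoetherian_of_flat_of_compact_opens (pullback.snd h (V.affineCover.f i)) ⊤
    isCompact_univ ?_
  rw [TopologicalSpace.Opens.coe_top, Set.image_univ]
  exact Set.range_eq_univ.2 (inferInstance : Surjective (pullback.snd h (V.affineCover.f i))).surj

end Groth.Agent.Lib.H15.ND
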