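import Mathlib
import Groth.Prelude.Def_AlgSp
import Groth.Prelude.Def_AlgSp2
import Groth.Prelude.Def_AlgSp3
import Groth.Prelude.Def_AlgSp4
import Groth.Agent.Lib.helper15.AlgSpNoeth2
import Groth.Agent.Lib.helper15.NoethDescent

set_option autoImplicit false
universe u
open CategoryTheory CategoryTheory.Limits AlgebraicGeometry Opposite Topology TopologicalSpace

namespace Groth.Agent.Lib.H15.AS

variable {S : Scheme.{u}}

/-- Local Noetherianity descends along fppf surjective morphisms of algebraic spaces. -/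
theorem isLocNoethSp_of_fppf_surjective {X Y : AlgSp.Sp S} (hY : AlgSp.IsAlgSpace Y) {f : X ⟶ Y}
    (hfl : AlgSp.LocP @Flat f) (hfp : AlgSp.LocP @LocallyOfFinitePresentation f)
    (hs : AlgSp.IsSurjectiveMor f) (hX : AlgSp.IsLocNoethSp X) : AlgSp.IsLocNoethSp Y := by
  obtain ⟨U₀, a₀, hae, has, hU₀⟩ := hX
  obtain ⟨V, b, hbe, hbs⟩ := hY.atlas
  have hrep := hbe.rep
  have sq := hrep.isPullback' (a₀ ≫ f)
  have h1e : Etale (hrep.snd (a₀ ≫ f)).left := hbe.property_snd _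
  have hchart : AlgSp.RepWith @Etale ((AlgSp.yon S).map (hrep.snd (a₀ ≫ f)) ≫ a₀) :=
    repWith_yon_map_comp @Etale _ a₀ h1e hae
  have hfl' : Flat (hrep.fst' (a₀ ≫ f)).left :=
    hfl _ b (hrep.fst' (a₀ ≫ f)) hchart hbe (by rw [Category.assoc]; exact sq.w.symm)
  have hfp' : LocallyOfFinitePresentation (hrep.fst' (a₀ ≫ f)).left :=
    hfp _ b (hrep.fst' (a₀ ≫ f)) hchart hbe (by rw [Category.assoc]; exact sq.w.symm)
  have hsf : AlgSp.IsSurjectiveMor (a₀ ≫ f) := by
    intro y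
    obtain ⟨x, rfl⟩ := hs y
    obtain ⟨ξ, rfl⟩ := isSurjectiveMor_of_repWith has x
    exact ⟨ξ, AlgSp.Points.map_comp _ _ _⟩
  have hsurj : Surjective (hrep.fst' (a₀ ≫ f)).left :=
    (isSurjectiveMor_yon_map_iff _).1 (isSurjectiveMor_of_isPullback sq.flip hsf)
  have : IsLocallyNoetherian U₀.left := hU₀
  have : IsLocallyNoetherian (hrep.pullback (a₀ ≫ f)).left :=
    LocallyOfFiniteType.isLocallyNoetherian (hrep.snd (a₀ ≫ f)).left
  exact ⟨V, b, hbe, hbs,
    ND.isLocallyNoetherian_of_flat_surjective_lfp (hrep.fst' (a₀ ≫ f)).left⟩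

end Groth.Agent.Lib.H15.AS

namespace Groth.Agent.Lib.H15.AS

variable {S : Scheme.{u}}

/-- A property of schemes that ascends along morphisms locally of finite type ascends along
morphisms of algebraic spaces locally of finite type. -/
theorem etaleLocally_of_locP_lft (Φ : Scheme.{u} → Prop)
    (hΦ : ∀ {A B : Scheme.{u}} (g : A ⟶ B), LocallyOfFiniteType g → Φ B → Φ A)
    {X Y : AlgSp.Sp S} (hX : AlgSp.IsAlgSpace X) {f : X ⟶ Y}
    (hf : AlgSp.LocP @LocallyOfFiniteType f) (hY : AlgSp.EtaleLocally Φ Y) :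
    AlgSp.EtaleLocally Φ X := by
  obtain ⟨V₀, p₀, hp₀e, hp₀s, hV₀⟩ := hY
  obtain ⟨U, a, hae, has⟩ := hX.atlas
  have hrep := hp₀e.rep
  have sq := hrep.isPullback' (a ≫ f)
  have h1e : Etale (hrep.snd (a ≫ f)).left := hp₀e.property_snd _
  have h1s : Surjective (hrep.snd (a ≫ f)).left := hp₀s.property_snd _
  have hchart : AlgSp.RepWith @Etale ((AlgSp.yon S).map (hrep.snd (a ≫ f)) ≫ a) :=
    repWith_yon_map_comp @Etale _ a h1e hae
  have hcharts : AlgSp.RepWith @Surjective ((AlgSp.yon S).map (hrep.snd (a ≫ f)) ≫ a) :=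
    repWith_yon_map_comp @Surjective _ a h1s has
  have hlft : LocallyOfFiniteType (hrep.fst' (a ≫ f)).left :=
    hf ((AlgSp.yon S).map (hrep.snd (a ≫ f)) ≫ a) p₀ (hrep.fst' (a ≫ f)) hchart hp₀e
      (by rw [Category.assoc]; exact sq.w.symm)
  exact ⟨hrep.pullback (a ≫ f), _, hchart, hcharts, hΦ _ hlft hV₀⟩

end Groth.Agent.Lib.H15.AS
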