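import Mathlib
import Groth.Prelude.Def_AlgSp
import Groth.Prelude.Def_AlgSp2
import Groth.Prelude.Def_AlgSp3
import Groth.Prelude.Def_AlgSp4
import Groth.Agent.Lib.helper15.AlgSpNoeth3
import Groth.Agent.Lib.helper15.AlgSpFibre
import Groth.Prelude.Def_AlgSpDec
import Groth.Agent.Lib.helper15.AlgSpMonoField

set_option autoImplicit false
universe u
open CategoryTheory CategoryTheory.Limits AlgebraicGeometry Opposite Topology TopologicalSpace

namespace Groth.Agent.Lib.H15.AS

variable {S : Scheme.{u}}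

/-- Every etale chart of a locally Noetherian sheaf is locally Noetherian. -/
theorem isLocallyNoetherian_of_chart {F : AlgSp.Sp S} (hF : AlgSp.IsLocNoethSp F) {U : Over S}
    (a : (AlgSp.yon S).obj U ⟶ F) (ha : AlgSp.RepWith @Etale a) : IsLocallyNoetherian U.left := by
  obtain ⟨U₀, a₀, hae, has, hU₀⟩ := hF
  have hrep := hae.rep
  have sq := hrep.isPullback' a
  have h1 : Etale (hrep.snd a).left := hae.property_snd a
  have h2 : Surjective (hrep.snd a).left := has.property_snd a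
  have h3 : Etale (hrep.fst' a).left :=
    ((AlgSp.repWith_iff _ _).1 ha).2 a₀ ((AlgSp.yon S).map (hrep.snd a)) (hrep.fst' a) sq.flip
  have : IsLocallyNoetherian U₀.left := hU₀
  have : IsLocallyNoetherian (hrep.pullback a).left :=
    LocallyOfFiniteType.isLocallyNoetherian (hrep.fst' a).left
  exact ND.isLocallyNoetherian_of_flat_surjective_lfp (hrep.snd a).left

/-- Local Noetherianity descends along a base change of a flat surjective quasi-compact morphism of
schemes. -/
theorem isLocNoethSp_of_baseChange_fpqc {Q P : AlgSp.Sp S} {T T' : Over S} (φ : T' ⟶ T)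
    [Flat φ.left] [Surjective φ.left] [QuasiCompact φ.left] (g : P ⟶ Q)
    (s : P ⟶ (AlgSp.yon S).obj T') (t : Q ⟶ (AlgSp.yon S).obj T)
    (sq : IsPullback g s t ((AlgSp.yon S).map φ)) (hQ : AlgSp.IsAlgSpace Q)
    (hP : AlgSp.IsLocNoethSp P) : AlgSp.IsLocNoethSp Q := by
  obtain ⟨U, a, hae, has⟩ := hQ.atlas
  obtain ⟨ψ, hψ⟩ := (AlgSp.yon S).map_surjective (a ≫ t)
  have sqU : IsPullback (pullback.fst ψ φ) (pullback.snd ψ φ) ψ φ := IsPullback.of_hasPullback _ _
  have sqU' := sqU.map (AlgSp.yon S)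
  rw [hψ] at sqU'
  have w : ((AlgSp.yon S).map (pullback.fst ψ φ) ≫ a) ≫ t =
      (AlgSp.yon S).map (pullback.snd ψ φ) ≫ (AlgSp.yon S).map φ := by
    rw [Category.assoc]; exact sqU'.w
  obtain ⟨a', ha'1, ha'2⟩ : ∃ a' : (AlgSp.yon S).obj (pullback ψ φ) ⟶ P,
      a' ≫ g = (AlgSp.yon S).map (pullback.fst ψ φ) ≫ a ∧
      a' ≫ s = (AlgSp.yon S).map (pullback.snd ψ φ) :=
    ⟨sq.lift _ _ w, sq.lift_fst _ _ _, sq.lift_snd _ _ _⟩
  have sqa : IsPullback a' ((AlgSp.yon S).map (pullback.fst ψ φ)) g a := by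
    refine IsPullback.of_right ?_ ha'1 sq.flip
    rw [ha'2]
    exact sqU'.flip
  have ha'e : AlgSp.RepWith @Etale a' := MorphismProperty.of_isPullback sqa.flip hae
  have h1 : IsLocallyNoetherian (pullback ψ φ).left := isLocallyNoetherian_of_chart hP a' ha'e
  have sqS := sqU.map (Over.forget S)
  have h2 : Flat (pullback.fst ψ φ).left :=
    MorphismProperty.of_isPullback (P := @Flat) sqS.flip (show Flat φ.left from inferInstance)
  have h3 : Surjective (pullback.fst ψ φ).left :=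
    MorphismProperty.of_isPullback (P := @Surjective) sqS.flip (show Surjective φ.left from inferInstance)
  have h4 : QuasiCompact (pullback.fst ψ φ).left :=
    MorphismProperty.of_isPullback (P := @QuasiCompact) sqS.flip (show QuasiCompact φ.left from inferInstance)
  exact ⟨U, a, hae, has, ND.isLocallyNoetherian_of_flat_surjective_quasiCompact
    (pullback.fst ψ φ).left⟩

end Groth.Agent.Lib.H15.AS

namespace Groth.Agent.Lib.H15.AS

variable {S : Scheme.{u}}

/-- A field-valued point in the class of a monomorphic field-valued point factors through it. -/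
theorem exists_factor_of_mono_fieldPt {Y : AlgSp.Sp S} (hY : AlgSp.IsAlgSpace Y)
    (p p₀ : AlgSp.FieldPt Y) (hpp : AlgSp.Points.mk p = AlgSp.Points.mk p₀) [Mono p₀.toHom] :
    ∃ φ : p.pt ⟶ p₀.pt, (AlgSp.yon S).map φ ≫ p₀.toHom = p.toHom := by
  have sqZ := IsPullback.of_hasPullback p.toHom p₀.toHom
  have hZ : AlgSp.IsAlgSpace (pullback p.toHom p₀.toHom) :=
    isAlgSpace_of_isPullback hY.diag (AlgSp.IsAlgSpace.yon_obj p.pt) (AlgSp.IsAlgSpace.yon_obj p₀.pt) sqZ
  have hm : Mono (pullback.fst p.toHom p₀.toHom) := sqZ.mono_fst_of_mono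
  have hne : Nonempty (AlgSp.Points (pullback p.toHom p₀.toHom)) := by
    have e : AlgSp.Points.map p.toHom (AlgSp.Points.ofScheme p.pt (IsLocalRing.closedPoint p.K)) =
        AlgSp.Points.map p₀.toHom (AlgSp.Points.ofScheme p₀.pt (IsLocalRing.closedPoint p₀.K)) := by
      rw [← AlgSp.Points.ofPt_eq_map_ofScheme, ← AlgSp.Points.ofPt_eq_map_ofScheme,
        AlgSp.Points.ofPt_toHom, AlgSp.Points.ofPt_toHom, hpp]
    obtain ⟨z, -, -⟩ := points_exists_of_isPullback sqZ _ _ e
    exact ⟨z⟩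
  have := isIso_of_mono_to_field p.str hZ (pullback.fst p.toHom p₀.toHom) hne
  obtain ⟨φ, hφ⟩ := (AlgSp.yon S).map_surjective
    (inv (pullback.fst p.toHom p₀.toHom) ≫ pullback.snd p.toHom p₀.toHom)
  refine ⟨φ, ?_⟩
  rw [hφ, Category.assoc, ← pullback.condition, IsIso.inv_hom_id_assoc]

/-- If the fibre over a field-valued point is locally Noetherian, so is the fibre over a monomorphic
field-valued point in the same class. -/
theorem isLocNoethSp_fibre_of_mono_fieldPt {X Y : AlgSp.Sp S} (hX : AlgSp.IsAlgSpace X)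
    (hY : AlgSp.IsAlgSpace Y) (f : X ⟶ Y) (p p₀ : AlgSp.FieldPt Y)
    (hpp : AlgSp.Points.mk p = AlgSp.Points.mk p₀) (hmono : Mono p₀.toHom)
    (hNoeth : ∀ ⦃P : AlgSp.Sp S⦄ (fst : P ⟶ X) (snd : P ⟶ (AlgSp.yon S).obj p.pt),
      IsPullback fst snd f p.toHom → AlgSp.IsLocNoethSp P)
    {Q : AlgSp.Sp S} (qfst : Q ⟶ X) (qsnd : Q ⟶ (AlgSp.yon S).obj p₀.pt)
    (hQ : IsPullback qfst qsnd f p₀.toHom) : AlgSp.IsLocNoethSp Q := by
  obtain ⟨φ, hφ⟩ := exists_factor_of_mono_fieldPt hY p p₀ hpp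
  have sqP := IsPullback.of_hasPullback f p.toHom
  have hP := hNoeth _ _ sqP
  have w : pullback.fst f p.toHom ≫ f =
      (pullback.snd f p.toHom ≫ (AlgSp.yon S).map φ) ≫ p₀.toHom := by
    rw [Category.assoc, hφ]; exact pullback.condition
  obtain ⟨g, hg1, hg2⟩ : ∃ g : pullback f p.toHom ⟶ Q, g ≫ qfst = pullback.fst f p.toHom ∧
      g ≫ qsnd = pullback.snd f p.toHom ≫ (AlgSp.yon S).map φ :=
    ⟨hQ.lift _ _ w, hQ.lift_fst _ _ _, hQ.lift_snd _ _ _⟩
  have sqg : IsPullback g (pullback.snd f p.toHom) qsnd ((AlgSp.yon S).map φ) := by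
    refine IsPullback.of_right ?_ hg2 hQ
    rw [hg1, hφ]; exact sqP
  have hQalg : AlgSp.IsAlgSpace Q :=
    isAlgSpace_of_isPullback hY.diag hX (AlgSp.IsAlgSpace.yon_obj p₀.pt) hQ
  have hsub : Subsingleton ↥p₀.pt.left := by
    change Subsingleton ↥(Spec (CommRingCat.of p₀.K)); infer_instance
  have hint : IsIntegral p₀.pt.left := by
    change IsIntegral (Spec (CommRingCat.of p₀.K)); infer_instance
  have hflat : Flat φ.left := inferInstance
  have hsurj : Surjective φ.left :=
    ⟨fun y => ⟨(IsLocalRing.closedPoint p.K : ↥(Spec (CommRingCat.of p.K))), Subsingleton.elim _ _⟩⟩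
  have hcpt : CompactSpace ↥p.pt.left := by
    change CompactSpace ↥(Spec (CommRingCat.of p.K)); infer_instance
  have hqs : QuasiSeparatedSpace ↥p₀.pt.left := by
    change QuasiSeparatedSpace ↥(Spec (CommRingCat.of p₀.K)); infer_instance
  have hqc : QuasiCompact φ.left := inferInstance
  exact isLocNoethSp_of_baseChange_fpqc φ g (pullback.snd f p.toHom) qsnd sqg hQalg hP

end Groth.Agent.Lib.H15.AS
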