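import Mathlib
import Groth.Prelude.Def_AlgSp
import Groth.Prelude.Def_AlgSp2
import Groth.Prelude.Def_AlgSp3
import Groth.Prelude.Def_AlgSp4
import Groth.Prelude.Def_AlgSpDec
import Groth.Prelude.Def_AlgSpEt
import Groth.Prelude.Def_AlgSpOX
import Groth.Prelude.Def_AlgSpOX3
import Groth.Agent.Lib.helper15.AlgSpEtOpen
import Groth.Agent.Lib.helper15.EtaleRedStalk

/-!
# Elementwise API for the etale local ring `AlgSp.OEtStalk p` at a geometric point
-/

set_option autoImplicit false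
universe u
open CategoryTheory CategoryTheory.Limits AlgebraicGeometry Opposite Topology

namespace Groth.Agent.Lib.H15.AS

variable {S : Scheme.{u}}

/-- The canonical ring homomorphism from global functions on an etale neighbourhood to the etale local ring. -/
noncomputable def oetι {X : AlgSp.Sp S} (p : AlgSp.FieldPt X) (N : AlgSp.EtNbhd p) :
    Γ(N.1.obj.left.left, ⊤) →+* ↥(AlgSp.OEtStalk p) :=
  (AlgSp.stalkEtι p (AlgSp.OEt X) N).hom.comp
    (ULift.ringEquiv (R := Γ(N.1.obj.left.left, ⊤))).symm.toRingHom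

theorem oetι_apply {X : AlgSp.Sp S} (p : AlgSp.FieldPt X) (N : AlgSp.EtNbhd p)
    (s : Γ(N.1.obj.left.left, ⊤)) :
    oetι p N s = (AlgSp.stalkEtι p (AlgSp.OEt X) N).hom (ULift.up s) := rfl

section

variable {X : AlgSp.Sp S} (hX : AlgSp.IsAlgSpace X) (p : AlgSp.FieldPt X) (hp : p.IsGeometric)

include hX hp

/-- Every element of the etale local ring comes from a function on an etale neighbourhood. -/
theorem oetι_jointly_surjective (τ : ↥(AlgSp.OEtStalk p)) :
    ∃ (N : AlgSp.EtNbhd p) (s : Γ(N.1.obj.left.left, ⊤)), oetι p N s = τ := by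
  haveI : HasColimitsOfSize.{u, u} CommRingCat.{u + 1} :=
    hasColimitsOfSizeShrink.{u, u, u + 1, u + 1} _
  haveI : PreservesFilteredColimitsOfSize.{u, u} (forget CommRingCat.{u + 1}) :=
    preservesFilteredColimitsOfSize_shrink.{u, u + 1, u, u + 1} _
  let Φ := etPoint hX p hp
  obtain ⟨E, l, σ, hσ⟩ := Φ.toPresheafFiber_jointly_surjective (P := (AlgSp.OEt X).obj) τ
  exact ⟨⟨E, l⟩, σ.down, hσ⟩

/-- Pulling a function back along a morphism of etale neighbourhoods does not change its class. -/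
theorem oetι_map {N' N : AlgSp.EtNbhd p} (g : N' ⟶ N) (s : Γ(N.1.obj.left.left, ⊤)) :
    oetι p N' (g.1.hom.left.left.appTop.hom s) = oetι p N s := by
  haveI : HasColimitsOfSize.{u, u} CommRingCat.{u + 1} :=
    hasColimitsOfSizeShrink.{u, u, u + 1, u + 1} _
  haveI : PreservesFilteredColimitsOfSize.{u, u} (forget CommRingCat.{u + 1}) :=
    preservesFilteredColimitsOfSize_shrink.{u, u + 1, u, u + 1} _
  let Φ := etPoint hX p hp
  have h1 := Φ.toPresheafFiber_w_apply g.1 N'.2 (AlgSp.OEt X).obj (ULift.up s)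
  have h2 : Φ.fiber.map g.1 N'.2 = N.2 := g.2
  rw [h2] at h1
  exact h1

/-- Two functions on an etale neighbourhood have the same class iff they agree on a smaller one. -/
theorem oetι_eq_iff (N : AlgSp.EtNbhd p) (s s' : Γ(N.1.obj.left.left, ⊤)) :
    oetι p N s = oetι p N s' ↔ ∃ (N' : AlgSp.EtNbhd p) (g : N' ⟶ N),
      g.1.hom.left.left.appTop.hom s = g.1.hom.left.left.appTop.hom s' := by
  haveI : HasColimitsOfSize.{u, u} CommRingCat.{u + 1} :=
    hasColimitsOfSizeShrink.{u, u, u + 1, u + 1} _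
  haveI : PreservesFilteredColimitsOfSize.{u, u} (forget CommRingCat.{u + 1}) :=
    preservesFilteredColimitsOfSize_shrink.{u, u + 1, u, u + 1} _
  let Φ := etPoint hX p hp
  constructor
  · intro h
    obtain ⟨Y, f, y, hy, hf⟩ := (Φ.toPresheafFiber_eq_iff' (P := (AlgSp.OEt X).obj) N.1 N.2
      (ULift.up s) (ULift.up s')).1 h
    exact ⟨⟨Y, y⟩, ⟨f, hy⟩, congrArg ULift.down hf⟩
  · rintro ⟨N', g, hg⟩
    rw [← oetι_map hX p hp g s, ← oetι_map hX p hp g s', hg]

/-- A function on an etale neighbourhood has class zero iff it vanishes on a smaller one. -/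
theorem oetι_eq_zero_iff (N : AlgSp.EtNbhd p) (s : Γ(N.1.obj.left.left, ⊤)) :
    oetι p N s = 0 ↔ ∃ (N' : AlgSp.EtNbhd p) (g : N' ⟶ N),
      g.1.hom.left.left.appTop.hom s = 0 := by
  rw [← map_zero (oetι p N), oetι_eq_iff hX p hp]
  simp only [map_zero]

omit hX in
/-- Restricting an etale neighbourhood to an open containing the image of the point. -/
theorem exists_etNbhd_etOpen (N : AlgSp.EtNbhd p) (W : N.1.obj.left.left.Opens)
    (hW : N.2.1.left (IsLocalRing.closedPoint p.K) ∈ W) :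
    ∃ (l' : (AlgSp.FieldPt.liftsTo p).obj (etOpen N.1 W)),
      (AlgSp.FieldPt.liftsTo p).map (etOpenι N.1 W) l' = N.2 :=
  exists_liftsTo_of_mem_range p hp (etOpenι N.1 W) N.2 ⟨_, hW⟩ rfl

end

end Groth.Agent.Lib.H15.AS

namespace Groth.Agent.Lib.H15

theorem germ_top_eq_zero_of_eq {T : Scheme.{u}} {x x' : ↥T} (h : x = x') (s : Γ(T, ⊤))
    (hs : T.presheaf.germ ⊤ x trivial s = 0) : T.presheaf.germ ⊤ x' trivial s = 0 := by
  subst h
  exact hs

end Groth.Agent.Lib.H15

namespace Groth.Agent.Lib.H15.AS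

variable {S : Scheme.{u}}

/-- The image of the closed point under a morphism of etale neighbourhoods. -/
theorem etNbhd_hom_apply_closedPoint {X : AlgSp.Sp S} (p : AlgSp.FieldPt X) {N' N : AlgSp.EtNbhd p}
    (g : N' ⟶ N) :
    g.1.hom.left.left (N'.2.1.left (IsLocalRing.closedPoint p.K)) =
      N.2.1.left (IsLocalRing.closedPoint p.K) := by
  have h1 : N'.2.1 ≫ g.1.hom.left = N.2.1 := congrArg Subtype.val g.2
  rw [← h1]
  rfl

/-- If a function on an etale neighbourhood has class zero in the etale local ring, its germ at the image of the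
point vanishes. -/
theorem germ_eq_zero_of_oetι_eq_zero {X : AlgSp.Sp S} (hX : AlgSp.IsAlgSpace X) (p : AlgSp.FieldPt X)
    (hp : p.IsGeometric) (N : AlgSp.EtNbhd p) (s : Γ(N.1.obj.left.left, ⊤))
    (h : oetι p N s = 0) :
    N.1.obj.left.left.presheaf.germ ⊤ (N.2.1.left (IsLocalRing.closedPoint p.K)) trivial s = 0 := by
  obtain ⟨N', g, hg⟩ := (oetι_eq_zero_iff hX p hp N s).1 h
  haveI : Etale g.1.hom.left.left := AlgSp.EtOver.etale_left g.1
  have hinj := stalkMap_injective_of_flat g.1.hom.left.left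
    (N'.2.1.left (IsLocalRing.closedPoint p.K))
  have h1 : (g.1.hom.left.left.stalkMap (N'.2.1.left (IsLocalRing.closedPoint p.K))).hom
      (N.1.obj.left.left.presheaf.germ ⊤
        (g.1.hom.left.left (N'.2.1.left (IsLocalRing.closedPoint p.K))) trivial s) = 0 := by
    have h2 := Scheme.Hom.germ_stalkMap_apply g.1.hom.left.left ⊤
      (N'.2.1.left (IsLocalRing.closedPoint p.K)) trivial s
    refine h2.trans ?_
    have h3 : (g.1.hom.left.left.app ⊤).hom s = 0 := hg
    rw [h3, map_zero]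
  have h4 : N.1.obj.left.left.presheaf.germ ⊤
      (g.1.hom.left.left (N'.2.1.left (IsLocalRing.closedPoint p.K))) trivial s = 0 :=
    hinj (h1.trans (map_zero _).symm)
  exact germ_top_eq_zero_of_eq (etNbhd_hom_apply_closedPoint p g) s h4

/-- If the etale local ring is reduced, so is the local ring of an affine etale neighbourhood at the image of the
point. -/
theorem isReduced_stalk_of_oetStalk {X : AlgSp.Sp S} (hX : AlgSp.IsAlgSpace X) (p : AlgSp.FieldPt X)
    (hp : p.IsGeometric) (N : AlgSp.EtNbhd p) [IsAffine N.1.obj.left.left]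
    (x0 : ↥N.1.obj.left.left) (hx0 : N.2.1.left (IsLocalRing.closedPoint p.K) = x0)
    (hred : _root_.IsReduced ↥(AlgSp.OEtStalk p)) :
    _root_.IsReduced ↥(N.1.obj.left.left.presheaf.stalk x0) := by
  subst hx0
  obtain ⟨T, hT⟩ : ∃ T : Scheme.{u}, T = N.1.obj.left.left := ⟨_, rfl⟩
  obtain ⟨x0, hx0⟩ : ∃ x0 : ↥N.1.obj.left.left, x0 = N.2.1.left (IsLocalRing.closedPoint p.K) :=
    ⟨_, rfl⟩
  rw [← hx0]
  have hTa : IsAffineOpen (⊤ : N.1.obj.left.left.Opens) := isAffineOpen_top _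
  letI := N.1.obj.left.left.presheaf.algebra_section_stalk (⟨x0, trivial⟩ : (⊤ : N.1.obj.left.left.Opens))
  haveI := hTa.isLocalization_stalk ⟨x0, trivial⟩
  refine ⟨fun t ht => ?_⟩
  obtain ⟨a0, m, rfl⟩ := IsLocalization.exists_mk'_eq
    (hTa.primeIdealOf ⟨x0, trivial⟩).asIdeal.primeCompl t
  obtain ⟨n, hn⟩ := ht
  rw [← IsLocalization.mk'_pow, IsLocalization.mk'_eq_zero_iff] at hn
  obtain ⟨c, hc⟩ := hn
  have hb : (c.1 * a0) ^ (n + 1) = 0 := by
    rw [mul_pow, pow_succ a0, pow_succ c.1]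
    calc c.1 ^ n * c.1 * (a0 ^ n * a0) = c.1 ^ n * a0 * (c.1 * a0 ^ n) := by ring
      _ = 0 := by rw [hc, mul_zero]
  have h0 : oetι p N (c.1 * a0) = 0 :=
    hred.eq_zero _ ⟨n + 1, by rw [← map_pow, hb, map_zero]⟩
  have h1 := germ_eq_zero_of_oetι_eq_zero hX p hp N _ h0
  have h2 : N.1.obj.left.left.presheaf.germ ⊤ x0 trivial (c.1 * a0) = 0 :=
    germ_top_eq_zero_of_eq hx0.symm _ h1
  have h3 : algebraMap Γ(N.1.obj.left.left, ⊤) ↥(N.1.obj.left.left.presheaf.stalk x0) (c.1 * a0) = 0 := h2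
  rw [map_mul] at h3
  have hcu : IsUnit (algebraMap Γ(N.1.obj.left.left, ⊤) ↥(N.1.obj.left.left.presheaf.stalk x0) c.1) :=
    IsLocalization.map_units _ c
  have h4 : algebraMap Γ(N.1.obj.left.left, ⊤) ↥(N.1.obj.left.left.presheaf.stalk x0) a0 = 0 :=
    (hcu.mul_right_eq_zero).1 h3
  rw [IsLocalization.mk'_eq_iff_eq_mul, zero_mul]
  exact h4

end Groth.Agent.Lib.H15.AS
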