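import Mathlib
import Groth.Prelude.Def_AlgSp
import Groth.Prelude.Def_AlgSp2
import Groth.Prelude.Def_AlgSp3
import Groth.Prelude.Def_AlgSp4
import Groth.Prelude.Def_AlgSpDec
import Groth.Prelude.Def_AlgSpEt
import Groth.Prelude.Def_AlgSpOX
import Groth.Prelude.Def_AlgSpOX3
import Groth.Agent.Lib.helper15.AlgSpOEtStalk

/-!
# Evaluation of the etale local ring at the geometric point; the etale local ring is local
-/

set_option autoImplicit false
universe u
open CategoryTheory CategoryTheory.Limits AlgebraicGeometry Opposite Topology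

namespace Groth.Agent.Lib.H15.AS

variable {S : Scheme.{u}}

/-- Evaluation of functions on an etale neighbourhood at the point. -/
noncomputable def evN {X : AlgSp.Sp S} (p : AlgSp.FieldPt X) (N : AlgSp.EtNbhd p) :
    Γ(N.1.obj.left.left, ⊤) →+* p.K :=
  (Scheme.ΓSpecIso (CommRingCat.of p.K)).hom.hom.comp N.2.1.left.appTop.hom

theorem evN_apply {X : AlgSp.Sp S} (p : AlgSp.FieldPt X) (N : AlgSp.EtNbhd p)
    (s : Γ(N.1.obj.left.left, ⊤)) :
    evN p N s = (Scheme.ΓSpecIso (CommRingCat.of p.K)).hom.hom (N.2.1.left.appTop.hom s) := rfl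

theorem evN_map {X : AlgSp.Sp S} (p : AlgSp.FieldPt X) {N' N : AlgSp.EtNbhd p} (g : N' ⟶ N)
    (s : Γ(N.1.obj.left.left, ⊤)) :
    evN p N' (g.1.hom.left.left.appTop.hom s) = evN p N s := by
  have h1 : N'.2.1 ≫ g.1.hom.left = N.2.1 := congrArg Subtype.val g.2
  have h2 : N'.2.1.left ≫ g.1.hom.left.left = N.2.1.left := congrArg CommaMorphism.left h1
  rw [evN_apply, evN_apply, ← h2, Scheme.Hom.comp_appTop]
  rfl

/-- The cocone of evaluations. -/
noncomputable def evCocone {X : AlgSp.Sp S} (p : AlgSp.FieldPt X) :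
    Cocone (AlgSp.stalkEtDiagram p (AlgSp.OEt X)) where
  pt := CommRingCat.of (ULift.{u + 1} p.K)
  ι :=
    { app := fun N => CommRingCat.ofHom
        (((ULift.ringEquiv (R := p.K)).symm.toRingHom).comp
          ((evN p N.unop).comp (ULift.ringEquiv (R := Γ(N.unop.1.obj.left.left, ⊤))).toRingHom))
      naturality := by
        intro N N' f
        apply CommRingCat.hom_ext
        apply RingHom.ext
        rintro ⟨s⟩
        exact congrArg ULift.up (evN_map p f.unop s) }

/-- Evaluation of the etale local ring at the point. -/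
noncomputable def oetEv {X : AlgSp.Sp S} (p : AlgSp.FieldPt X) : ↥(AlgSp.OEtStalk p) →+* p.K :=
  ((ULift.ringEquiv (R := p.K)).toRingHom).comp
    (colimit.desc (AlgSp.stalkEtDiagram p (AlgSp.OEt X)) (evCocone p)).hom

theorem oetEv_oetι {X : AlgSp.Sp S} (p : AlgSp.FieldPt X) (N : AlgSp.EtNbhd p)
    (s : Γ(N.1.obj.left.left, ⊤)) : oetEv p (oetι p N s) = evN p N s := by
  have h := colimit.ι_desc (evCocone p) (op N)
  have h2 := congrArg (fun φ => φ.hom (ULift.up s)) h
  exact congrArg ULift.down h2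

end Groth.Agent.Lib.H15.AS

namespace Groth.Agent.Lib.H15.AS

variable {S : Scheme.{u}}

section

variable {X : AlgSp.Sp S} (hX : AlgSp.IsAlgSpace X) (p : AlgSp.FieldPt X) (hp : p.IsGeometric)

include hX hp

omit hX hp in
/-- If the value at the point is nonzero, the point lies in the basic open. -/
theorem mem_basicOpen_of_evN_ne_zero (N : AlgSp.EtNbhd p) (s : Γ(N.1.obj.left.left, ⊤))
    (h : evN p N s ≠ 0) :
    N.2.1.left (IsLocalRing.closedPoint p.K) ∈ N.1.obj.left.left.basicOpen s := by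
  have h1 : N.2.1.left.appTop.hom s ≠ 0 := by
    intro h0
    apply h
    rw [evN_apply, h0, map_zero]
  have hu0 : IsUnit ((Scheme.ΓSpecIso (CommRingCat.of p.K)).commRingCatIsoToRingEquiv
      (N.2.1.left.appTop.hom s)) := isUnit_iff_ne_zero.2 h
  have hu : IsUnit (N.2.1.left.appTop.hom s) := (MulEquiv.isUnit_map _).1 hu0
  have h3 : IsLocalRing.closedPoint p.K ∈
      N.2.1.left ⁻¹ᵁ N.1.obj.left.left.basicOpen s := by
    rw [Scheme.preimage_basicOpen_top]
    refine (Scheme.mem_basicOpen_top _ _ _).2 ?_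
    exact hu.map _
  exact h3

/-- A class with nonzero value at the point is a unit. -/
theorem isUnit_oetι_of_evN_ne_zero (N : AlgSp.EtNbhd p) (s : Γ(N.1.obj.left.left, ⊤))
    (h : evN p N s ≠ 0) : IsUnit (oetι p N s) := by
  have hW := mem_basicOpen_of_evN_ne_zero p N s h
  obtain ⟨l', hl'⟩ := exists_etNbhd_etOpen p hp N (N.1.obj.left.left.basicOpen s) hW
  let N' : AlgSp.EtNbhd p := ⟨etOpen N.1 (N.1.obj.left.left.basicOpen s), l'⟩
  let g : N' ⟶ N := ⟨etOpenι N.1 (N.1.obj.left.left.basicOpen s), hl'⟩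
  rw [← oetι_map hX p hp g s]
  refine IsUnit.map (oetι p N') ?_
  refine isUnit_appTop_of_range_subset (N.1.obj.left.left.basicOpen s).ι s ?_
  rw [Scheme.Opens.range_ι]

/-- An element of the etale local ring is a unit iff its value at the point is nonzero. -/
theorem isUnit_iff_oetEv_ne_zero (τ : ↥(AlgSp.OEtStalk p)) : IsUnit τ ↔ oetEv p τ ≠ 0 := by
  constructor
  · intro h
    exact (h.map (oetEv p)).ne_zero
  · intro h
    obtain ⟨N, s, rfl⟩ := oetι_jointly_surjective hX p hp τ
    rw [oetEv_oetι] at h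
    exact isUnit_oetι_of_evN_ne_zero hX p hp N s h

/-- The etale local ring at a geometric point is a local ring. -/
theorem isLocalRing_oetStalk : IsLocalRing ↥(AlgSp.OEtStalk p) := by
  haveI : Nontrivial ↥(AlgSp.OEtStalk p) := by
    refine ⟨⟨0, 1, fun h => ?_⟩⟩
    have := congrArg (oetEv p) h
    rw [map_zero, map_one] at this
    exact zero_ne_one this
  refine IsLocalRing.of_nonunits_add fun a b ha hb => ?_
  rw [mem_nonunits_iff, isUnit_iff_oetEv_ne_zero hX p hp, not_not] at ha hb ⊢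
  rw [map_add, ha, hb, add_zero]

theorem isLocalHom_oetEv : IsLocalHom (oetEv p) :=
  ⟨fun τ h => (isUnit_iff_oetEv_ne_zero hX p hp τ).2 h.ne_zero⟩

end

end Groth.Agent.Lib.H15.AS
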