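import Mathlib
import Groth.Prelude.Def_AlgSp
import Groth.Prelude.Def_AlgSp2
import Groth.Prelude.Def_AlgSp3
import Groth.Prelude.Def_AlgSp4
import Groth.Prelude.Def_AlgSpDec
import Groth.Prelude.Def_AlgSpEt
import Groth.Prelude.Def_AlgSpOX
import Groth.Prelude.Def_AlgSpOX3
import Groth.Agent.Lib.helper15.AlgSpOEtEv

/-!
# The etale local ring at a geometric point is strictly henselian
-/

set_option autoImplicit false
universe u
open CategoryTheory CategoryTheory.Limits AlgebraicGeometry Opposite Topology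

namespace Groth.Agent.Lib.H15.AS

variable {S : Scheme.{u}}

/-- An etale algebra over the functions of an affine etale neighbourhood, with a compatible point in the field,
gives a finer etale neighbourhood. -/
theorem exists_etNbhd_of_etale_algebra {X : AlgSp.Sp S} (p : AlgSp.FieldPt X) (N : AlgSp.EtNbhd p)
    [IsAffine N.1.obj.left.left] (B : Type u) [CommRing B] [Algebra Γ(N.1.obj.left.left, ⊤) B]
    [Algebra.Etale Γ(N.1.obj.left.left, ⊤) B] (χ : B →+* p.K)
    (hχ : ∀ a, χ (algebraMap Γ(N.1.obj.left.left, ⊤) B a) = evN p N a) :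
    ∃ (N' : AlgSp.EtNbhd p) (g : N' ⟶ N) (β : B →+* Γ(N'.1.obj.left.left, ⊤)),
      (∀ a, β (algebraMap Γ(N.1.obj.left.left, ⊤) B a) = g.1.hom.left.left.appTop.hom a) ∧
        ∀ b, evN p N' (β b) = χ b := by
  obtain ⟨T, hT⟩ : ∃ T : Scheme.{u}, T = N.1.obj.left.left := ⟨_, rfl⟩
  let φ0 : Spec (CommRingCat.of B) ⟶ Spec Γ(N.1.obj.left.left, ⊤) :=
    Spec.map (CommRingCat.ofHom (algebraMap Γ(N.1.obj.left.left, ⊤) B))
  have hφ0 : Etale φ0 := by
    rw [HasRingHomProperty.Spec_iff (P := @Etale)]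
    exact RingHom.etale_algebraMap.2 inferInstance
  let φ : Spec (CommRingCat.of B) ⟶ N.1.obj.left.left := φ0 ≫ N.1.obj.left.left.isoSpec.inv
  have hφ : Etale φ := inferInstance
  let E' : Over S := Over.mk (φ ≫ N.1.obj.left.hom)
  let φ' : E' ⟶ N.1.obj.left := Over.homMk φ rfl
  have hE' : AlgSp.RepWith @Etale ((AlgSp.yon S).map φ' ≫ N.1.obj.hom) :=
    repWith_yon_map_comp @Etale φ' N.1.obj.hom hφ N.1.property
  let E'et : AlgSp.EtOver X := AlgSp.EtOver.mk ((AlgSp.yon S).map φ' ≫ N.1.obj.hom) hE'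
  let g0 : E'et ⟶ N.1 := AlgSp.EtOver.homMk φ' rfl
  let l'0 : Spec (CommRingCat.of p.K) ⟶ Spec (CommRingCat.of B) := Spec.map (CommRingCat.ofHom χ)
  obtain ⟨lK, hlK⟩ : ∃ lK : Spec (CommRingCat.of p.K) ⟶ N.1.obj.left.left, lK = N.2.1.left :=
    ⟨_, rfl⟩
  have hl'0 : l'0 ≫ φ = N.2.1.left := by
    rw [← hlK]
    have h1 : CommRingCat.ofHom (algebraMap Γ(N.1.obj.left.left, ⊤) B) ≫ CommRingCat.ofHom χ =
        lK.appTop ≫ (Scheme.ΓSpecIso (CommRingCat.of p.K)).hom := by
      apply CommRingCat.hom_ext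
      apply RingHom.ext
      intro a
      rw [hlK]
      exact hχ a
    have h2 : l'0 ≫ φ0 = Spec.map (Scheme.ΓSpecIso (CommRingCat.of p.K)).hom ≫
        Spec.map lK.appTop := by
      rw [← Spec.map_comp, ← Spec.map_comp, h1]
    have h3 := Scheme.isoSpec_inv_naturality lK
    rw [Scheme.isoSpec_Spec_inv] at h3
    calc l'0 ≫ φ = (l'0 ≫ φ0) ≫ N.1.obj.left.left.isoSpec.inv := (Category.assoc _ _ _).symm
      _ = Spec.map (Scheme.ΓSpecIso (CommRingCat.of p.K)).hom ≫
          (Spec.map lK.appTop ≫ N.1.obj.left.left.isoSpec.inv) := by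
            rw [h2, Category.assoc]
      _ = Spec.map (Scheme.ΓSpecIso (CommRingCat.of p.K)).hom ≫
          (Spec.map (Scheme.ΓSpecIso (CommRingCat.of p.K)).inv ≫ lK) := by rw [h3]
      _ = lK := by
            rw [← Category.assoc, ← Spec.map_comp, Iso.inv_hom_id, Spec.map_id, Category.id_comp]
  have hw : N.2.1.left ≫ N.1.obj.left.hom = p.str := Over.w N.2.1
  let l' : p.pt ⟶ E' := Over.homMk l'0 (by
    change l'0 ≫ φ ≫ N.1.obj.left.hom = p.str
    rw [← Category.assoc, hl'0, hw])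
  have hl' : l' ≫ φ' = N.2.1 := Over.OverMorphism.ext hl'0
  have hmem : (AlgSp.yon S).map l' ≫ E'et.obj.hom = p.toHom := by
    change (AlgSp.yon S).map l' ≫ (AlgSp.yon S).map φ' ≫ N.1.obj.hom = p.toHom
    rw [← Category.assoc, ← Functor.map_comp, hl']
    exact N.2.2
  let N' : AlgSp.EtNbhd p := ⟨E'et, ⟨l', hmem⟩⟩
  let g : N' ⟶ N := ⟨g0, Subtype.ext hl'⟩
  refine ⟨N', g, (Scheme.ΓSpecIso (CommRingCat.of B)).inv.hom, ?_, ?_⟩
  · intro a
    change _ = φ.appTop.hom a
    have h1 : φ.appTop = N.1.obj.left.left.isoSpec.inv.appTop ≫ φ0.appTop := Scheme.Hom.comp_appTop _ _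
    have h2 : N.1.obj.left.left.isoSpec.inv.appTop =
        (Scheme.ΓSpecIso Γ(N.1.obj.left.left, ⊤)).inv := by
      have h3 : N.1.obj.left.left.isoSpec.hom.appTop ≫ N.1.obj.left.left.isoSpec.inv.appTop = 𝟙 _ := by
        rw [← Scheme.Hom.comp_appTop, Iso.inv_hom_id]
        rfl
      rw [Scheme.isoSpec_hom, Scheme.toSpecΓ_appTop] at h3
      rw [← cancel_epi (Scheme.ΓSpecIso Γ(N.1.obj.left.left, ⊤)).hom, h3, Iso.hom_inv_id]
    have h4 := Scheme.ΓSpecIso_inv_naturality
      (CommRingCat.ofHom (algebraMap Γ(N.1.obj.left.left, ⊤) B))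
    have h5 : CommRingCat.ofHom (algebraMap Γ(N.1.obj.left.left, ⊤) B) ≫
        (Scheme.ΓSpecIso (CommRingCat.of B)).inv = φ.appTop := by
      rw [h1, h2]
      exact h4
    exact congrArg (fun ψ => ψ.hom a) h5
  · intro b
    rw [evN_apply]
    change (Scheme.ΓSpecIso (CommRingCat.of p.K)).hom.hom
      (l'0.appTop.hom ((Scheme.ΓSpecIso (CommRingCat.of B)).inv.hom b)) = χ b
    have h4 := Scheme.ΓSpecIso_inv_naturality (CommRingCat.ofHom χ)
    have h5 : l'0.appTop.hom ((Scheme.ΓSpecIso (CommRingCat.of B)).inv.hom b) =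
        (Scheme.ΓSpecIso (CommRingCat.of p.K)).inv.hom (χ b) :=
      (congrArg (fun ψ => ψ.hom b) h4).symm
    rw [h5]
    exact congrArg (fun ψ => ψ.hom (χ b)) (Scheme.ΓSpecIso (CommRingCat.of p.K)).inv_hom_id

end Groth.Agent.Lib.H15.AS

namespace Groth.Agent.Lib.H15.AS

variable {S : Scheme.{u}}

section

variable {X : AlgSp.Sp S} (hX : AlgSp.IsAlgSpace X) (p : AlgSp.FieldPt X) (hp : p.IsGeometric)

include hp in
/-- Every etale neighbourhood has an affine refinement. -/
theorem exists_affine_etNbhd (N : AlgSp.EtNbhd p) :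
    ∃ (N' : AlgSp.EtNbhd p) (_ : N' ⟶ N), IsAffine N'.1.obj.left.left := by
  obtain ⟨W, hW, heW⟩ : ∃ W : N.1.obj.left.left.Opens, IsAffineOpen W ∧
      N.2.1.left (IsLocalRing.closedPoint p.K) ∈ W := by
    obtain ⟨_, ⟨W, hW, rfl⟩, heW, -⟩ :=
      N.1.obj.left.left.isBasis_affineOpens.exists_subset_of_mem_open
        (Set.mem_univ (N.2.1.left (IsLocalRing.closedPoint p.K))) isOpen_univ
    exact ⟨W, hW, heW⟩
  obtain ⟨l', hl'⟩ := exists_etNbhd_etOpen p hp N W heW
  exact ⟨⟨etOpen N.1 W, l'⟩, ⟨etOpenι N.1 W, hl'⟩, hW⟩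

include hX hp in
theorem range_oetι_subset {N' N : AlgSp.EtNbhd p} (g : N' ⟶ N) :
    Set.range (oetι p N) ⊆ Set.range (oetι p N') := by
  rintro _ ⟨s, rfl⟩
  exact ⟨_, oetι_map hX p hp g s⟩

include hX hp in
/-- Finitely many elements of the etale local ring come from one affine etale neighbourhood. -/
theorem exists_etNbhd_range_finset (s : Finset ↥(AlgSp.OEtStalk p)) :
    ∃ N : AlgSp.EtNbhd p, IsAffine N.1.obj.left.left ∧ ∀ τ ∈ s, τ ∈ Set.range (oetι p N) := by
  classical
  haveI := isCofiltered_etNbhd hX p hp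
  suffices h : ∃ N : AlgSp.EtNbhd p, ∀ τ ∈ s, τ ∈ Set.range (oetι p N) by
    obtain ⟨N, hN⟩ := h
    obtain ⟨N', g, hN'⟩ := exists_affine_etNbhd p hp N
    exact ⟨N', hN', fun τ hτ => range_oetι_subset hX p hp g (hN τ hτ)⟩
  induction s using Finset.induction_on with
  | empty =>
    obtain ⟨N, -, -⟩ := oetι_jointly_surjective hX p hp 0
    exact ⟨N, fun τ hτ => absurd hτ (Finset.notMem_empty τ)⟩
  | insert a s _ ih =>
    obtain ⟨N1, hN1⟩ := ih
    obtain ⟨N2, s2, hs2⟩ := oetι_jointly_surjective hX p hp a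
    refine ⟨IsCofiltered.min N1 N2, fun τ hτ => ?_⟩
    rcases Finset.mem_insert.1 hτ with rfl | hτ
    · exact range_oetι_subset hX p hp (IsCofiltered.minToRight N1 N2) ⟨s2, hs2⟩
    · exact range_oetι_subset hX p hp (IsCofiltered.minToLeft N1 N2) (hN1 τ hτ)

end

end Groth.Agent.Lib.H15.AS

namespace Groth.Agent.Lib.H15.AS

variable {S : Scheme.{u}}

section

variable {X : AlgSp.Sp S} (hX : AlgSp.IsAlgSpace X) (p : AlgSp.FieldPt X) (hp : p.IsGeometric)

include hX hp

open Polynomial in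
/-- Key lifting property: a simple root in the field of a monic polynomial over the etale local ring lifts to a root. -/
theorem exists_root_of_simple_root (f : (↥(AlgSp.OEtStalk p))[X]) (hf : f.Monic) (abar : p.K)
    (h0 : f.eval₂ (oetEv p) abar = 0) (h1 : f.derivative.eval₂ (oetEv p) abar ≠ 0) :
    ∃ a : ↥(AlgSp.OEtStalk p), f.IsRoot a ∧ oetEv p a = abar := by
  classical
  haveI : IsLocalRing ↥(AlgSp.OEtStalk p) := isLocalRing_oetStalk hX p hp
  obtain ⟨N, hNa, hN⟩ := exists_etNbhd_range_finset hX p hp f.coeffs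
  haveI := hNa
  have hlift : f ∈ Polynomial.lifts (oetι p N) := by
    rw [Polynomial.lifts_iff_coeff_lifts]
    intro n
    by_cases hn : f.coeff n = 0
    · rw [hn]
      exact ⟨0, map_zero _⟩
    · exact hN _ (Polynomial.coeff_mem_coeffs hn)
  obtain ⟨F, hF, -, hFm⟩ := Polynomial.lifts_and_degree_eq_and_monic hlift hf
  let P : StandardEtalePair Γ(N.1.obj.left.left, ⊤) := ⟨F, hFm, derivative F, ⟨1, 0, 1, by simp⟩⟩
  letI : Algebra Γ(N.1.obj.left.left, ⊤) p.K := (evN p N).toAlgebra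
  have hcomp : (oetEv p).comp (oetι p N) = evN p N := RingHom.ext (oetEv_oetι p N)
  have hmap : P.HasMap abar := by
    refine ⟨?_, ?_⟩
    · change Polynomial.aeval abar F = 0
      rw [Polynomial.aeval_def]
      have h2 : f.eval₂ (oetEv p) abar = F.eval₂ ((oetEv p).comp (oetι p N)) abar := by
        rw [← hF, Polynomial.eval₂_map]
      rw [hcomp] at h2
      rw [← h0, h2]
      rfl
    · change IsUnit (Polynomial.aeval abar (derivative F))
      rw [Polynomial.aeval_def]
      have h2 : f.derivative.eval₂ (oetEv p) abar =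
          (derivative F).eval₂ ((oetEv p).comp (oetι p N)) abar := by
        rw [← hF, Polynomial.derivative_map, Polynomial.eval₂_map]
      rw [hcomp] at h2
      refine IsUnit.mk0 _ ?_
      intro h3
      apply h1
      rw [h2]
      exact h3
  let χ : P.Ring →+* p.K := (P.lift abar hmap).toRingHom
  have hχ : ∀ a, χ (algebraMap Γ(N.1.obj.left.left, ⊤) P.Ring a) = evN p N a :=
    fun a => (P.lift abar hmap).commutes a
  obtain ⟨N', g, β, hβ1, hβ2⟩ := exists_etNbhd_of_etale_algebra p N P.Ring χ hχ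
  refine ⟨oetι p N' (β P.X), ?_, ?_⟩
  · rw [Polynomial.IsRoot, ← hF, Polynomial.eval_map]
    have hfac : oetι p N = ((oetι p N').comp β).comp (algebraMap Γ(N.1.obj.left.left, ⊤) P.Ring) :=
      RingHom.ext fun a => by
        rw [RingHom.comp_apply, RingHom.comp_apply, hβ1, oetι_map hX p hp g a]
    rw [hfac]
    have h4 := Polynomial.hom_eval₂ F (algebraMap Γ(N.1.obj.left.left, ⊤) P.Ring)
      ((oetι p N').comp β) P.X
    have h6 : F.eval₂ (((oetι p N').comp β).comp (algebraMap Γ(N.1.obj.left.left, ⊤) P.Ring))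
        (oetι p N' (β P.X)) = oetι p N' (β (F.eval₂ (algebraMap Γ(N.1.obj.left.left, ⊤) P.Ring) P.X)) :=
      h4.symm
    rw [h6]
    have h5 : F.eval₂ (algebraMap Γ(N.1.obj.left.left, ⊤) P.Ring) P.X = 0 := by
      have := (StandardEtalePair.hasMap_X (P := P)).1
      rwa [Polynomial.aeval_def] at this
    rw [h5, map_zero, map_zero]
  · rw [oetEv_oetι, hβ2]
    exact P.lift_X abar hmap

end

end Groth.Agent.Lib.H15.AS

namespace Groth.Agent.Lib.H15.AS

variable {S : Scheme.{u}}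

section

variable {X : AlgSp.Sp S} (hX : AlgSp.IsAlgSpace X) (p : AlgSp.FieldPt X) (hp : p.IsGeometric)

include hX hp

theorem mem_maximalIdeal_oetStalk_iff [IsLocalRing ↥(AlgSp.OEtStalk p)] (τ : ↥(AlgSp.OEtStalk p)) :
    τ ∈ IsLocalRing.maximalIdeal ↥(AlgSp.OEtStalk p) ↔ oetEv p τ = 0 := by
  rw [IsLocalRing.mem_maximalIdeal, mem_nonunits_iff, isUnit_iff_oetEv_ne_zero hX p hp, not_not]

open Polynomial in
/-- The etale local ring at a geometric point is henselian. -/
theorem henselianLocalRing_oetStalk : HenselianLocalRing ↥(AlgSp.OEtStalk p) := by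
  haveI hloc : IsLocalRing ↥(AlgSp.OEtStalk p) := isLocalRing_oetStalk hX p hp
  refine { toIsLocalRing := hloc, is_henselian := ?_ }
  intro f hf a₀ h0 h1
  rw [mem_maximalIdeal_oetStalk_iff hX p hp] at h0
  rw [isUnit_iff_oetEv_ne_zero hX p hp] at h1
  have e0 : f.eval₂ (oetEv p) (oetEv p a₀) = 0 := by
    rw [← h0, Polynomial.eval₂_at_apply]
  have e1 : f.derivative.eval₂ (oetEv p) (oetEv p a₀) ≠ 0 := by
    intro h
    apply h1
    rw [← h, Polynomial.eval₂_at_apply]
  obtain ⟨a, ha, hev⟩ := exists_root_of_simple_root hX p hp f hf (oetEv p a₀) e0 e1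
  refine ⟨a, ha, ?_⟩
  rw [mem_maximalIdeal_oetStalk_iff hX p hp, map_sub, hev, sub_self]

open Polynomial in
/-- The residue field of the etale local ring at a geometric point is separably closed. -/
theorem isSepClosed_residueField_oetStalk [IsLocalRing ↥(AlgSp.OEtStalk p)] :
    IsSepClosed (IsLocalRing.ResidueField ↥(AlgSp.OEtStalk p)) := by
  haveI : IsAlgClosed p.K := hp
  haveI : IsLocalHom (oetEv p) := isLocalHom_oetEv hX p hp
  let ι : IsLocalRing.ResidueField ↥(AlgSp.OEtStalk p) →+* p.K := IsLocalRing.ResidueField.lift (oetEv p)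
  have hι : ι.comp (IsLocalRing.residue ↥(AlgSp.OEtStalk p)) = oetEv p :=
    IsLocalRing.ResidueField.lift_comp_residue (oetEv p)
  refine IsSepClosed.of_exists_root _ fun h hm hirr hsep => ?_
  have hlift : h ∈ Polynomial.lifts (IsLocalRing.residue ↥(AlgSp.OEtStalk p)) := by
    rw [Polynomial.lifts_iff_coeff_lifts]
    intro n
    exact IsLocalRing.residue_surjective _
  obtain ⟨H, hH, -, hHm⟩ := Polynomial.lifts_and_degree_eq_and_monic hlift hm
  have hdeg : (h.map ι).degree ≠ 0 := by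
    rw [Polynomial.degree_map]
    exact (Polynomial.degree_pos_of_irreducible hirr).ne'
  obtain ⟨abar, habar⟩ := IsAlgClosed.exists_root (h.map ι) hdeg
  have hmapH : H.map (oetEv p) = h.map ι := by
    rw [← hH, Polynomial.map_map, hι]
  have e0 : H.eval₂ (oetEv p) abar = 0 := by
    rw [← Polynomial.eval_map, hmapH]
    exact habar
  have e1 : H.derivative.eval₂ (oetEv p) abar ≠ 0 := by
    rw [← Polynomial.eval_map, ← Polynomial.derivative_map, hmapH]
    have hs : (h.map ι).Separable := hsep.map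
    have := hs.eval₂_derivative_ne_zero (RingHom.id p.K) (x := abar) (by
      rw [Polynomial.eval₂_id]; exact habar)
    rwa [Polynomial.eval₂_id] at this
  obtain ⟨a, ha, -⟩ := exists_root_of_simple_root hX p hp H hHm abar e0 e1
  refine ⟨IsLocalRing.residue _ a, ?_⟩
  have : H.eval a = 0 := ha
  rw [← hH, Polynomial.eval_map, Polynomial.eval₂_at_apply, this, map_zero]

end

end Groth.Agent.Lib.H15.AS
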