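import Mathlib
import Groth.Prelude.Def_AlgSp
import Groth.Prelude.Def_AlgSp2
import Groth.Prelude.Def_AlgSp3
import Groth.Prelude.Def_AlgSp4
import Groth.Agent.Lib.helper15.AlgSpLocPGen
import Groth.Agent.Lib.helper15.AlgSpOpen
import Groth.Agent.Lib.helper15.AlgSpLocP5

/-! # Algebraic spaces over a field: every morphism to `Spec k` is flat and universally open. -/

set_option autoImplicit false
universe u
open CategoryTheory CategoryTheory.Limits AlgebraicGeometry Opposite

namespace Groth.Agent.Lib.H15.AS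

variable {S : Scheme.{u}}

/-- A morphism from an algebraic space to the spectrum of a field is flat and universally open. -/
theorem flat_univOpen_to_field {X : AlgSp.Sp S} (hX : AlgSp.IsAlgSpace X) (k : Type u) [Field k]
    (σ : Spec (CommRingCat.of k) ⟶ S) (f : X ⟶ (AlgSp.yon S).obj (Over.mk σ)) :
    AlgSp.LocP @Flat f ∧ AlgSp.IsUnivOpenMor f := by
  constructor
  · intro A V a b h hae hbe w
    have hm : (AlgSp.yon S).map ((AlgSp.yon S).preimage (a ≫ f)) = a ≫ f :=
      (AlgSp.yon S).map_preimage _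
    have hfl : Flat ((AlgSp.yon S).preimage (a ≫ f)).left := by
      change Flat (Y := Spec (CommRingCat.of k)) _
      infer_instance
    have hk : AlgSp.RepWith @Flat ((AlgSp.yon S).map h ≫ b) := by
      rw [← w, ← hm]
      exact (AlgSp.repWith_yon_map_iff _ _).2 hfl
    exact prop_of_repWith_yon_map_comp_etale goodP_flat h b hbe hk
  · obtain ⟨A, a, hae, has⟩ := hX.atlas
    have hm : (AlgSp.yon S).map ((AlgSp.yon S).preimage (a ≫ f)) = a ≫ f :=
      (AlgSp.yon S).map_preimage _
    have huo : UniversallyOpen ((AlgSp.yon S).preimage (a ≫ f)).left := by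
      change UniversallyOpen (Y := Spec (CommRingCat.of k)) _
      infer_instance
    refine isUnivOpenMor_of_chart a has ?_
    rw [← hm]
    exact (AlgSp.repWith_yon_map_iff _ _).2 huo

/-- Transfer along an isomorphism of the target. -/
theorem flat_univOpen_to_field_iso {X U : AlgSp.Sp S} (hX : AlgSp.IsAlgSpace X) (k : Type u) [Field k]
    (σ : Spec (CommRingCat.of k) ⟶ S) (eU : U ≅ (AlgSp.yon S).obj (Over.mk σ)) (f : X ⟶ U) :
    AlgSp.LocP @Flat f ∧ AlgSp.IsUnivOpenMor f := by
  obtain ⟨h1, h2⟩ := flat_univOpen_to_field hX k σ (f ≫ eU.hom)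
  constructor
  · intro A V a b h hae hbe w
    refine h1 a (b ≫ eU.hom) h hae
      ((MorphismProperty.cancel_right_of_respectsIso _ b eU.hom).2 hbe) ?_
    rw [← Category.assoc, w, Category.assoc]
  · intro Z Z' hZ g z1 z2 sq
    have := h2 hZ (g ≫ eU.hom) z1 (z2 ≫ 𝟙 _) (sq.paste_vert (IsPullback.of_vert_isIso ⟨by simp⟩))
    simpa using this

end Groth.Agent.Lib.H15.AS
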