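import Mathlib
import Groth.Prelude.Def_AlgSp
import Groth.Prelude.Def_AlgSp2
import Groth.Prelude.Def_AlgSp3
import Groth.Prelude.Def_AlgSp4
import Groth.Agent.Lib.helper15.AlgSpFibre
import Groth.Agent.Lib.helper15.AlgSpDiagBC
import Groth.Agent.Lib.helper15.AlgSpOpenSub2
import Groth.Agent.Lib.helper15.AlgSpDiag
import Groth.Agent.Lib.helper15.CatProd

set_option autoImplicit false
universe u
open CategoryTheory CategoryTheory.Limits AlgebraicGeometry Opposite Topology

namespace Groth.Agent.Lib.H15.AS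

variable {S : Scheme.{u}}

/-- A chart of a fibre product `X ×_H Y` built from charts of `X` and `Y`, with the pullback square exhibiting the
chart as `U ×_H V`. -/
theorem exists_chart_of_isPullback_sq {X Y H P : AlgSp.Sp S}
    (hH : AlgSp.Representable (Limits.diag H))
    {f : X ⟶ H} {g : Y ⟶ H} {fst : P ⟶ X} {snd : P ⟶ Y} (h : IsPullback fst snd f g)
    {U V : Over S} (pX : (AlgSp.yon S).obj U ⟶ X) (pY : (AlgSp.yon S).obj V ⟶ Y) :
    ∃ (W : Over S) (p : (AlgSp.yon S).obj W ⟶ P) (w1 : W ⟶ U) (w2 : W ⟶ V),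
      p ≫ fst = (AlgSp.yon S).map w1 ≫ pX ∧ p ≫ snd = (AlgSp.yon S).map w2 ≫ pY ∧
      IsPullback ((AlgSp.yon S).map w1) ((AlgSp.yon S).map w2) (pX ≫ f) (pY ≫ g) ∧
      ∀ (Q : MorphismProperty Scheme.{u}) [Q.IsStableUnderBaseChange] [Q.IsMultiplicative],
        AlgSp.RepWith Q pX → AlgSp.RepWith Q pY → AlgSp.RepWith Q p := by
  have sq1 : IsPullback (pullback.fst snd pY) (pullback.snd snd pY) snd pY :=
    IsPullback.of_hasPullback _ _
  have sq2 : IsPullback (pullback.fst (pullback.fst snd pY ≫ fst) pX)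
      (pullback.snd (pullback.fst snd pY ≫ fst) pX) (pullback.fst snd pY ≫ fst) pX :=
    IsPullback.of_hasPullback _ _
  have big := sq2.flip.paste_vert (sq1.paste_horiz h)
  have ha : AlgSp.Representable (pX ≫ f) := Functor.relativelyRepresentable.of_diag hH _
  let e := (ha.isPullback (pY ≫ g)).isoIsPullback _ _ big
  have he1 : e.hom ≫ pullback.snd (pullback.fst snd pY ≫ fst) pX = ha.fst (pY ≫ g) :=
    IsPullback.isoIsPullback_hom_fst _ _ _ _
  have he2 : e.hom ≫ pullback.fst (pullback.fst snd pY ≫ fst) pX ≫ pullback.snd snd pY =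
      (AlgSp.yon S).map (ha.snd (pY ≫ g)) :=
    IsPullback.isoIsPullback_hom_snd _ _ _ _
  refine ⟨ha.pullback (pY ≫ g),
    e.hom ≫ pullback.fst (pullback.fst snd pY ≫ fst) pX ≫ pullback.fst snd pY,
    ha.fst' (pY ≫ g), ha.snd (pY ≫ g), ?_, ?_, ha.isPullback' (pY ≫ g), ?_⟩
  · rw [Category.assoc, Category.assoc, sq2.w, ← Category.assoc, he1, ha.map_fst']
  · rw [Category.assoc, Category.assoc, sq1.w, ← Category.assoc, ← Category.assoc,
      Category.assoc e.hom, he2]
  · intro Q _ _ hQX hQY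
    have h1 : AlgSp.RepWith Q (pullback.fst (pullback.fst snd pY ≫ fst) pX) :=
      MorphismProperty.of_isPullback sq2.flip hQX
    have h2 : AlgSp.RepWith Q (pullback.fst snd pY) :=
      MorphismProperty.of_isPullback sq1.flip hQY
    have h3 := MorphismProperty.comp_mem _ _ _ h1 h2
    exact (MorphismProperty.cancel_left_of_respectsIso (AlgSp.RepWith Q) e.hom _).2 h3

/-- Over a quasi-separated base, a fibre product of quasi-compact sheaves over a quasi-separated sheaf with representable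
diagonal is quasi-compact. -/
theorem isQuasiCompactSp_of_isPullback [QuasiSeparatedSpace ↥S] {X Y H P : AlgSp.Sp S}
    (hH : AlgSp.IsQuasiSeparatedSp H) (hX : AlgSp.IsQuasiCompactSp X) (hY : AlgSp.IsQuasiCompactSp Y)
    {f : X ⟶ H} {g : Y ⟶ H} {fst : P ⟶ X} {snd : P ⟶ Y} (h : IsPullback fst snd f g) :
    AlgSp.IsQuasiCompactSp P := by
  obtain ⟨U, pX, hXe, hXs, hU⟩ := hX
  obtain ⟨V, pY, hYe, hYs, hV⟩ := hY
  have hU' : CompactSpace ↥U.left := hU
  have hV' : CompactSpace ↥V.left := hV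
  obtain ⟨W, p, w1, w2, -, -, sqW, hp⟩ := exists_chart_of_isPullback_sq hH.rep h pX pY
  have hW : CompactSpace ↥W.left := compactSpace_of_isPullback_of_isQuasiSeparatedSp hH sqW
  exact ⟨W, p, hp @Etale hXe hYe, hp @Surjective hXs hYs, hW⟩

theorem diag_eq_diagonal_comp {D : Type*} [Category D] [HasPullbacks D] {Z Y : D} (g : Z ⟶ Y)
    [HasBinaryProduct Z Z] :
    Limits.diag Z = pullback.diagonal g ≫ prod.lift (pullback.fst g g) (pullback.snd g g) := by
  apply Limits.prod.hom_ext
  · have h1 : Limits.diag Z ≫ prod.fst = 𝟙 Z := prod.lift_fst _ _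
    rw [h1, Category.assoc, prod.lift_fst, pullback.diagonal_fst]
  · have h1 : Limits.diag Z ≫ prod.snd = 𝟙 Z := prod.lift_snd _ _
    rw [h1, Category.assoc, prod.lift_snd, pullback.diagonal_snd]

/-- If the absolute diagonal of `Z` has `Q`, so does the diagonal of any morphism out of `Z`. -/
theorem repWith_diagonal_of_repWith_diag (Q : MorphismProperty Scheme.{u}) {Z Y : AlgSp.Sp S} (g : Z ⟶ Y)
    (hZ : AlgSp.RepWith Q (Limits.diag Z)) : AlgSp.RepWith Q (pullback.diagonal g) := by
  have : Mono (prod.lift (pullback.fst g g) (pullback.snd g g)) :=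
    mono_prod_lift_of_isPullback (IsPullback.of_hasPullback g g)
  apply repWith_of_comp_mono Q (pullback.diagonal g) (prod.lift (pullback.fst g g) (pullback.snd g g))
  rw [← diag_eq_diagonal_comp]
  exact hZ

/-- If the diagonal of `h : P ⟶ X` and the absolute diagonal of `X` have `Q`, so does the absolute diagonal of `P`. -/
theorem repWith_diag_of_repWith_diagonal (Q : MorphismProperty Scheme.{u}) [Q.IsStableUnderBaseChange]
    [Q.IsMultiplicative] {P X : AlgSp.Sp S} (h : P ⟶ X)
    (hh : AlgSp.RepWith Q (pullback.diagonal h)) (hX : AlgSp.RepWith Q (Limits.diag X)) :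
    AlgSp.RepWith Q (Limits.diag P) := by
  rw [diag_eq_diagonal_comp h]
  refine MorphismProperty.comp_mem _ _ _ hh ?_
  exact MorphismProperty.of_isPullback (isPullback_diag_of_isPullback (IsPullback.of_hasPullback h h)) hX

/-- The diagonal of a base change is a base change of the diagonal. -/
theorem repWith_diagonal_of_isPullback (Q : MorphismProperty Scheme.{u}) {X Y Z P : AlgSp.Sp S}
    {f : X ⟶ Y} {g : Z ⟶ Y} {fst : P ⟶ X} {snd : P ⟶ Z} (sq : IsPullback fst snd f g)
    (hf : AlgSp.RepWith Q (pullback.diagonal f)) : AlgSp.RepWith Q (pullback.diagonal snd) :=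
  MorphismProperty.of_isPullback (P := (AlgSp.RepWith (S := S) Q).diagonal) sq hf

/-- Over a quasi-separated base, fibre products of quasi-compact quasi-separated sheaves are such. -/
theorem qcqs_of_isPullback [QuasiSeparatedSpace ↥S] {X Y Z P : AlgSp.Sp S}
    {f : X ⟶ Y} {g : Z ⟶ Y} {fst : P ⟶ X} {snd : P ⟶ Z} (sq : IsPullback fst snd f g)
    (hX : AlgSp.IsQuasiCompactSp X ∧ AlgSp.IsQuasiSeparatedSp X)
    (hY : AlgSp.IsQuasiSeparatedSp Y)
    (hZ : AlgSp.IsQuasiCompactSp Z ∧ AlgSp.IsQuasiSeparatedSp Z) :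
    AlgSp.IsQuasiCompactSp P ∧ AlgSp.IsQuasiSeparatedSp P := by
  refine ⟨isQuasiCompactSp_of_isPullback hY hX.1 hZ.1 sq, ?_⟩
  have h1 : AlgSp.RepWith @QuasiCompact (pullback.diagonal f) :=
    repWith_diagonal_of_repWith_diag @QuasiCompact f hX.2
  have h2 : AlgSp.RepWith @QuasiCompact (pullback.diagonal snd) :=
    repWith_diagonal_of_isPullback @QuasiCompact sq h1
  exact repWith_diag_of_repWith_diagonal @QuasiCompact snd h2 hZ.2

end Groth.Agent.Lib.H15.AS
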