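import Mathlib
import Groth.Prelude.Def_AlgSp
import Groth.Prelude.Def_AlgSp2
import Groth.Prelude.Def_AlgSp3
import Groth.Prelude.Def_AlgSp4
import Groth.Agent.Lib.helper15.AlgSpQCProd
import Groth.Agent.Lib.helper15.AlgSpQC2
import Groth.Agent.Lib.helper15.AlgSpRepIff

set_option autoImplicit false
universe u
open CategoryTheory CategoryTheory.Limits AlgebraicGeometry Opposite Topology

namespace Groth.Agent.Lib.H15.AS

variable {S : Scheme.{u}}

/-- The product of two algebraic spaces is an algebraic space. -/
theorem isAlgSpace_prod {X Y : AlgSp.Sp S} (hX : AlgSp.IsAlgSpace X) (hY : AlgSp.IsAlgSpace Y) :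
    AlgSp.IsAlgSpace (X ⨯ Y) := by
  have hiso : IsIso (Limits.diag (⊤_ (AlgSp.Sp S))) := by
    refine ⟨prod.fst, prod.lift_fst _ _, ?_⟩
    apply Limits.prod.hom_ext <;> exact Subsingleton.elim _ _
  have hrep : AlgSp.Representable (Limits.diag (⊤_ (AlgSp.Sp S))) :=
    Functor.relativelyRepresentable.of_isIso _ _
  exact isAlgSpace_of_isPullback hrep hX hY (IsPullback.of_hasBinaryProduct' X Y)

/-- Quasi-separatedness over `S` from one quasi-separated atlas with a quasi-compact projection. -/
theorem isQuasiSeparatedSp_of_chart_proj_quasiCompact {X : AlgSp.Sp S} (hX : AlgSp.IsAlgSpace X)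
    {R U : Over S} (p : (AlgSp.yon S).obj U ⟶ X) (hp : AlgSp.RepWith @Etale p)
    (hs : AlgSp.RepWith @Surjective p) [QuasiSeparatedSpace ↥U.left] (s t : R ⟶ U)
    (hR : IsPullback ((AlgSp.yon S).map t) ((AlgSp.yon S).map s) p p) [QuasiCompact t.left] :
    AlgSp.IsQuasiSeparatedSp X := by
  have hXX := isAlgSpace_prod hX hX
  have hUU := isAlgSpace_prod (AlgSp.IsAlgSpace.yon_obj U) (AlgSp.IsAlgSpace.yon_obj U)
  refine (repWith_quasiCompact_iff hX hXX hX.diag).2 ?_
  have sq := isPullback_diag_of_isPullback hR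
  have hpe : AlgSp.RepWith @Etale (prod.map p p) := repWith_prod_map @Etale p p hp hp
  have hps : AlgSp.RepWith @Surjective (prod.map p p) := repWith_prod_map @Surjective p p hs hs
  refine isQuasiCompactMor_of_univOpen_surjective_base_change hX hXX hUU sq
    ((repWith_universallyOpen_iff hpe.rep).1 (repWith_universallyOpen_of_etale hpe))
    (isSurjectiveMor_of_repWith hps) ?_
  have he : prod.lift ((AlgSp.yon S).map t) ((AlgSp.yon S).map s) =
      (AlgSp.yon S).map (prod.lift t s) ≫ prodComparison (AlgSp.yon S) U U := by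
    apply Limits.prod.hom_ext
    · rw [prod.lift_fst, Category.assoc, prodComparison_fst, ← Functor.map_comp, prod.lift_fst]
    · rw [prod.lift_snd, Category.assoc, prodComparison_snd, ← Functor.map_comp, prod.lift_snd]
  have hqs : QuasiSeparated U.hom := inferInstance
  have hqc : QuasiCompact (prod.lift t s).left := by
    have h1 : (prod.lift t s).left ≫ (Over.prodLeftIsoPullback U U).hom ≫ pullback.fst U.hom U.hom =
        t.left := by
      rw [Over.prodLeftIsoPullback_hom_fst, ← Over.comp_left, prod.lift_fst]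
    have h2 : QuasiCompact ((prod.lift t s).left ≫ (Over.prodLeftIsoPullback U U).hom ≫
        pullback.fst U.hom U.hom) := by rw [h1]; infer_instance
    have h3 : QuasiSeparated ((Over.prodLeftIsoPullback U U).hom ≫ pullback.fst U.hom U.hom) :=
      inferInstance
    exact QuasiCompact.of_comp (prod.lift t s).left
      ((Over.prodLeftIsoPullback U U).hom ≫ pullback.fst U.hom U.hom)
  have hrw : AlgSp.RepWith @QuasiCompact (prod.lift ((AlgSp.yon S).map t) ((AlgSp.yon S).map s)) := by
    rw [he]
    exact (MorphismProperty.cancel_right_of_respectsIso _ _ _).2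
      ((AlgSp.repWith_yon_map_iff @QuasiCompact _).2 hqc)
  exact (repWith_quasiCompact_iff (AlgSp.IsAlgSpace.yon_obj R) hUU hrw.rep).1 hrw

end Groth.Agent.Lib.H15.AS
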