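import Mathlib
import Groth.Prelude.Def_AlgSp
import Groth.Prelude.Def_AlgSp2
import Groth.Prelude.Def_AlgSp3
import Groth.Prelude.Def_AlgSp4
import Groth.Prelude.Def_AlgSpCov
import Groth.Agent.Lib.helper15.AlgSpFpqcLocal3

set_option autoImplicit false
universe u
open CategoryTheory CategoryTheory.Limits AlgebraicGeometry Opposite Topology

namespace Groth.Agent.Lib.H15.AS

variable {S : Scheme.{u}}

/-- A surjective etale morphism of algebraic spaces is an fpqc covering. -/
theorem isFpqcCover_single_of_etale_surjective {B D : AlgSp.Sp S} (hB : AlgSp.IsAlgSpace B)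
    (hD : AlgSp.IsAlgSpace D) (bd : B ⟶ D) (het : AlgSp.IsEtaleMor bd)
    (hs : AlgSp.IsSurjectiveMor bd) :
    AlgSp.IsFpqcCover (fun _ : PUnit.{u + 1} => B) (fun _ => bd) := by
  have hloc : AlgSp.LocP @Etale bd := locP_etale_of_isEtaleMor het
  have h1 : AlgSp.LocP @Flat bd :=
    locP_mono (fun _ _ k (hk : Etale k) => (inferInstance : Flat k)) hloc
  have h2 : AlgSp.LocP @LocallyOfFinitePresentation bd :=
    locP_mono (fun _ _ k (hk : Etale k) => (inferInstance : LocallyOfFinitePresentation k)) hloc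
  exact isFpqcCover_of_isFppfCover hD (fun _ => B) (fun _ => hB) (fun _ => bd)
    ⟨fun _ => ⟨h1, h2⟩, fun x => ⟨PUnit.unit, hs x⟩⟩

/-- If the left square and the outer rectangle are cartesian and `B ⟶ D` is surjective etale, then
the right square is cartesian. -/
theorem isPullback_of_isPullback_comp_of_surjective_etale {A B C D E F : AlgSp.Sp S}
    (hA : AlgSp.IsAlgSpace A) (hB : AlgSp.IsAlgSpace B) (hC : AlgSp.IsAlgSpace C)
    (hD : AlgSp.IsAlgSpace D) (hE : AlgSp.IsAlgSpace E) (hF : AlgSp.IsAlgSpace F)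
    (ac : A ⟶ C) (ab : A ⟶ B) (cd : C ⟶ D) (bd : B ⟶ D) (ce : C ⟶ E) (df : D ⟶ F) (ef : E ⟶ F)
    (hl : IsPullback ac ab cd bd) (hcomm : cd ≫ df = ce ≫ ef)
    (hout : IsPullback (ac ≫ ce) ab ef (bd ≫ df)) (hsurj : AlgSp.IsSurjectiveMor bd)
    (het : AlgSp.IsEtaleMor bd) : IsPullback ce cd ef df := by
  have sqP := IsPullback.of_hasPullback ef df
  have hP : AlgSp.IsAlgSpace (pullback ef df) := isAlgSpace_of_isPullback hF.diag hE hD sqP
  have sqPB := IsPullback.of_hasPullback (pullback.snd ef df) bd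
  have hPB : AlgSp.IsAlgSpace (pullback (pullback.snd ef df) bd) :=
    isAlgSpace_of_isPullback hD.diag hP hB sqPB
  have hm1 : pullback.lift ce cd hcomm.symm ≫ pullback.fst ef df = ce := pullback.lift_fst _ _ _
  have hm2 : pullback.lift ce cd hcomm.symm ≫ pullback.snd ef df = cd := pullback.lift_snd _ _ _
  have hbig : IsPullback (pullback.fst (pullback.snd ef df) bd ≫ pullback.fst ef df)
      (pullback.snd (pullback.snd ef df) bd) ef (bd ≫ df) := sqPB.paste_horiz sqP
  have hφ1 : (hout.isoIsPullback _ _ hbig).hom ≫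
      (pullback.fst (pullback.snd ef df) bd ≫ pullback.fst ef df) = ac ≫ ce :=
    hout.isoIsPullback_hom_fst _ _ hbig
  have hφ2 : (hout.isoIsPullback _ _ hbig).hom ≫ pullback.snd (pullback.snd ef df) bd = ab :=
    hout.isoIsPullback_hom_snd _ _ hbig
  have comm : ac ≫ pullback.lift ce cd hcomm.symm =
      (hout.isoIsPullback _ _ hbig).hom ≫ pullback.fst (pullback.snd ef df) bd := by
    apply pullback.hom_ext
    · rw [Category.assoc, hm1, Category.assoc, hφ1]
    · rw [Category.assoc, hm2, Category.assoc, sqPB.w, ← Category.assoc, hφ2, hl.w]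
  have hl' : IsPullback ac ((hout.isoIsPullback _ _ hbig).hom ≫ pullback.snd (pullback.snd ef df) bd)
      (pullback.lift ce cd hcomm.symm ≫ pullback.snd ef df) bd := by
    rw [hφ2, hm2]; exact hl
  have sqA : IsPullback ac (hout.isoIsPullback _ _ hbig).hom (pullback.lift ce cd hcomm.symm)
      (pullback.fst (pullback.snd ef df) bd) := IsPullback.of_bot hl' comm sqPB
  have hcov0 := isFpqcCover_single_of_etale_surjective hB hD bd het hsurj
  have hcov : AlgSp.IsFpqcCover (fun _ : PUnit.{u + 1} => pullback (pullback.snd ef df) bd)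
      (fun _ => pullback.fst (pullback.snd ef df) bd) :=
    isFpqcCover_of_isPullback hD hP (pullback.snd ef df) (fun _ => B) (fun _ => hB) (fun _ => bd)
      (fun _ => pullback (pullback.snd ef df) bd) (fun _ => pullback.fst (pullback.snd ef df) bd)
      (fun _ => pullback.snd (pullback.snd ef df) bd) (fun _ => sqPB) hcov0
  have hiso : IsIso (pullback.lift ce cd hcomm.symm) :=
    (isLocalOnBase_fpqc_isomorphisms (S := S) (fun _ : PUnit.{u + 1} => pullback (pullback.snd ef df) bd)
      (fun _ => pullback.fst (pullback.snd ef df) bd) hP (fun _ => hPB) hcov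
      (pullback.lift ce cd hcomm.symm) hC (fun _ => A) (fun _ => (hout.isoIsPullback _ _ hbig).hom)
      (fun _ => ac) (fun _ => hA) (fun _ => sqA)).2
      (fun _ => (inferInstance : IsIso (hout.isoIsPullback _ _ hbig).hom))
  exact IsPullback.of_iso_pullback ⟨hcomm.symm⟩ (asIso (pullback.lift ce cd hcomm.symm)) hm1 hm2

end Groth.Agent.Lib.H15.AS
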