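import Mathlib
import Groth.Prelude.Def_AlgSp
import Groth.Prelude.Def_AlgSp2
import Groth.Prelude.Def_AlgSp3
import Groth.Prelude.Def_AlgSp4
import Groth.Agent.Lib.helper15.AlgSpProd
import Groth.Agent.Lib.helper15.AlgSpMonoField
import Groth.Agent.Lib.helper15.CatProd

set_option autoImplicit false
universe u
open CategoryTheory CategoryTheory.Limits AlgebraicGeometry Opposite Topology

namespace Groth.Agent.Lib.H15.AS

variable {S : Scheme.{u}}

/-- The base change of the diagonal of `X` along `(a, b) : h_T ⟶ X ⨯ X` embeds into `T ×_X T` as the base change of the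
diagonal of `T` over `S`. -/
theorem exists_isPullback_diag_left {X : AlgSp.Sp S} {T E P : Over S}
    (w : (AlgSp.yon S).obj T ⟶ X ⨯ X) {e₁ : (AlgSp.yon S).obj E ⟶ X} {e₂ : E ⟶ T}
    (sq : IsPullback e₁ ((AlgSp.yon S).map e₂) (Limits.diag X) w) {f₁ f₂ : P ⟶ T}
    (sqP : IsPullback ((AlgSp.yon S).map f₁) ((AlgSp.yon S).map f₂) (w ≫ prod.fst) (w ≫ prod.snd)) :
    ∃ k : E ⟶ P, IsPullback k.left e₂.left (prod.lift f₁ f₂).left (Limits.diag T).left := by
  obtain ⟨j, hj⟩ := isPullback_diag_of_isPullback_diag w sq _ _ rfl rfl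
  let e := sqP.isoPullback
  have he1 : e.hom ≫ pullback.fst _ _ = (AlgSp.yon S).map f₁ := sqP.isoPullback_hom_fst
  have he2 : e.hom ≫ pullback.snd _ _ = (AlgSp.yon S).map f₂ := sqP.isoPullback_hom_snd
  obtain ⟨k, hk⟩ := (AlgSp.yon S).map_surjective (j ≫ e.inv)
  have hlift : prod.lift ((AlgSp.yon S).map f₁) ((AlgSp.yon S).map f₂) =
      (AlgSp.yon S).map (prod.lift f₁ f₂) ≫ prodComparison (AlgSp.yon S) T T := by
    apply Limits.prod.hom_ext
    · rw [prod.lift_fst, Category.assoc, prodComparison_fst, ← Functor.map_comp, prod.lift_fst]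
    · rw [prod.lift_snd, Category.assoc, prodComparison_snd, ← Functor.map_comp, prod.lift_snd]
  have sq2 : IsPullback ((AlgSp.yon S).map k) ((AlgSp.yon S).map e₂)
      ((AlgSp.yon S).map (prod.lift f₁ f₂)) ((AlgSp.yon S).map (Limits.diag T)) := by
    refine IsPullback.of_iso hj (Iso.refl _) e.symm (Iso.refl _)
      (asIso (prodComparison (AlgSp.yon S) T T)).symm ?_ ?_ ?_ ?_
    · simp [hk]
    · simp
    · rw [Iso.symm_hom, Iso.symm_hom, asIso_inv, IsIso.comp_inv_eq, Category.assoc, ← hlift]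
      apply Limits.prod.hom_ext
      · rw [prod.lift_fst, Category.assoc, prod.lift_fst, ← he1, Iso.inv_hom_id_assoc]
      · rw [prod.lift_snd, Category.assoc, prod.lift_snd, ← he2, Iso.inv_hom_id_assoc]
    · rw [Iso.symm_hom, asIso_inv, IsIso.comp_inv_eq, Iso.refl_hom, Category.id_comp,
        ← AlgSp.diag_yon_obj]
  exact ⟨k, scheme_isPullback_of_isPullback sq2⟩

/-- The diagonal over `S` of a scheme over `S` with affine underlying scheme is a closed immersion. -/
theorem isClosedImmersion_diag_left_of_isAffine (T : Over S) [IsAffine T.left] :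
    IsClosedImmersion (Limits.diag T).left := by
  have h1 := AlgSp.diag_left_comp_prodLeftIsoPullback T
  have h2 : IsClosedImmersion (pullback.diagonal T.hom) := inferInstance
  rw [← h1] at h2
  exact (MorphismProperty.cancel_right_of_respectsIso @IsClosedImmersion _ _).1 h2

/-- If all fibre products of affine schemes over `X` are quasi-compact, `X` is quasi-separated over `S`. -/
theorem isQuasiSeparatedSp_of_affine_pullback_compact {X : AlgSp.Sp S} (hX : AlgSp.IsAlgSpace X)
    (h : ∀ (U V P : Over S) (a : (AlgSp.yon S).obj U ⟶ X) (b : (AlgSp.yon S).obj V ⟶ X)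
      (fst : P ⟶ U) (snd : P ⟶ V), IsAffine U.left → IsAffine V.left →
      IsPullback ((AlgSp.yon S).map fst) ((AlgSp.yon S).map snd) a b → CompactSpace ↥P.left) :
    AlgSp.IsQuasiSeparatedSp X := by
  unfold AlgSp.IsQuasiSeparatedSp
  rw [AlgSp.repWith_iff]
  refine ⟨hX.diag, fun T E w e₁ e₂ sq => ?_⟩
  rw [quasiCompact_iff_forall_isAffineOpen]
  intro V hV
  obtain ⟨s'', I₁, I₂, h1, -, -, sq'⟩ :=
    isPullback_of_scheme_isPullback sq (isPullback_morphismRestrict e₂.left V)
  have hVaff : IsAffine (Over.mk (V.ι ≫ T.hom)).left := hV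
  have ha : AlgSp.Representable (((AlgSp.yon S).map I₂ ≫ w) ≫ prod.fst) :=
    hX.representable_from_yon _
  have sqP := ha.isPullback' (((AlgSp.yon S).map I₂ ≫ w) ≫ prod.snd)
  have hPc : CompactSpace ↥(ha.pullback (((AlgSp.yon S).map I₂ ≫ w) ≫ prod.snd)).left :=
    h _ _ _ _ _ _ _ hVaff hVaff sqP
  obtain ⟨k, hk⟩ := exists_isPullback_diag_left _ sq' sqP
  have hci : IsClosedImmersion (Limits.diag (Over.mk (V.ι ≫ T.hom))).left :=
    isClosedImmersion_diag_left_of_isAffine _
  have hkci : IsClosedImmersion k.left := MorphismProperty.of_isPullback hk.flip hci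
  have hc : CompactSpace ↥(Over.mk ((e₂.left ⁻¹ᵁ V).ι ≫ E.hom)).left :=
    QuasiCompact.compactSpace_of_compactSpace k.left
  exact isCompact_iff_compactSpace.2 hc

end Groth.Agent.Lib.H15.AS
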