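import Mathlib
import Groth.Prelude.Def_AlgSp
import Groth.Prelude.Def_AlgSp2
import Groth.Prelude.Def_AlgSp3
import Groth.Prelude.Def_AlgSp4
import Groth.Prelude.Def_AlgSpGpd
import Groth.Agent.Lib.helper15.AlgSpQuot2
import Groth.Agent.Lib.helper15.AlgSpOpenSub3

/-! # Quotient sheaves III: points of `U/R` for pre-equivalence relations, open subsheaves of quotients. -/

set_option autoImplicit false
universe u
open CategoryTheory CategoryTheory.Limits AlgebraicGeometry Opposite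
open Groth.Agent.Lib.H15.AS

namespace Groth.Agent.Lib.H15.Quot

variable {S : Scheme.{u}}

/-- For a pre-equivalence relation, `R ⟶ U ×_{U/R} U` is an epimorphism. -/
theorem epi_lift_kernelPair {R U : AlgSp.Sp S} (s t : R ⟶ U) (hpre : AlgSp.IsPreEqvRelSp s t) :
    Epi (pullback.lift t s (AlgSp.quotSp_condition s t).symm :
      R ⟶ pullback (AlgSp.quotSpπ s t) (AlgSp.quotSpπ s t)) := by
  refine epi_of_local_lift _ fun T y => ?_
  obtain ⟨Sv, hSv, hrel⟩ := exists_cover_rel s t hpre (y ≫ pullback.fst _ _) (y ≫ pullback.snd _ _)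
    (by rw [Category.assoc, Category.assoc, pullback.condition])
  refine ⟨Sv, hSv, fun T' f hf => ?_⟩
  obtain ⟨r, hr1, hr2⟩ := hrel f hf
  refine ⟨r, ?_⟩
  apply pullback.hom_ext
  · rw [Category.assoc, pullback.lift_fst, hr1, Category.assoc]
  · rw [Category.assoc, pullback.lift_snd, hr2, Category.assoc]

/-- Two points of `U` with the same image in `U/R` are related by a point of `R` (pre-equivalence relations). -/
theorem ofPt_π_eq_of_pre {R U : Over S} (s t : R ⟶ U)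
    (hpre : AlgSp.IsPreEqvRelSp ((AlgSp.yon S).map s) ((AlgSp.yon S).map t)) (u₁ u₂ : ↥U.left)
    (e : AlgSp.Points.ofPt (AlgSp.quotSpπ ((AlgSp.yon S).map s) ((AlgSp.yon S).map t)) u₁ =
      AlgSp.Points.ofPt (AlgSp.quotSpπ ((AlgSp.yon S).map s) ((AlgSp.yon S).map t)) u₂) :
    ∃ ρ : ↥R.left, t.left ρ = u₁ ∧ s.left ρ = u₂ := by
  haveI := epi_lift_kernelPair _ _ hpre
  rw [AlgSp.Points.ofPt_eq_map_ofScheme, AlgSp.Points.ofPt_eq_map_ofScheme _ u₂] at e
  obtain ⟨p, hp1, hp2⟩ := points_exists_of_isPullback (IsPullback.of_hasPullback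
    (AlgSp.quotSpπ ((AlgSp.yon S).map s) ((AlgSp.yon S).map t))
    (AlgSp.quotSpπ ((AlgSp.yon S).map s) ((AlgSp.yon S).map t))) _ _ e
  obtain ⟨q, rfl⟩ := isSurjectiveMor_of_epi (pullback.lift ((AlgSp.yon S).map t) ((AlgSp.yon S).map s)
    (AlgSp.quotSp_condition _ _).symm) p
  rw [← AlgSp.Points.map_comp, pullback.lift_fst] at hp1
  rw [← AlgSp.Points.map_comp, pullback.lift_snd] at hp2
  obtain ⟨ρ, rfl⟩ : ∃ ρ, q = AlgSp.Points.ofScheme R ρ :=
    ⟨AlgSp.Points.toScheme R q, (AlgSp.Points.ofScheme_toScheme R q).symm⟩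
  refine ⟨ρ, ?_, ?_⟩
  · have := congrArg (AlgSp.Points.toScheme U) hp1
    rw [AlgSp.Points.map_ofPt, Category.id_comp, AlgSp.Points.toScheme_ofPt,
      AlgSp.Points.toScheme_ofScheme] at this
    exact this
  · have := congrArg (AlgSp.Points.toScheme U) hp2
    rw [AlgSp.Points.map_ofPt, Category.id_comp, AlgSp.Points.toScheme_ofPt,
      AlgSp.Points.toScheme_ofScheme] at this
    exact this

/-- A set of points of the target of an epimorphism from a scheme is open if its preimage in the scheme is. -/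
theorem isOpen_of_isOpen_preimage {U : Over S} {Q : AlgSp.Sp S} (p : (AlgSp.yon S).obj U ⟶ Q) [Epi p]
    (Ω : Set (AlgSp.Points Q)) (hW : IsOpen (AlgSp.Points.ofPt p ⁻¹' Ω)) : IsOpen Ω := by
  rw [AlgSp.Points.isOpen_iff]
  intro T x
  rw [isOpen_iff_forall_mem_open]
  intro τ hτ
  obtain ⟨Sv, hSv, hl⟩ := exists_cover_lift p x
  obtain ⟨T', f, hf, hf1, hf2, ⟨τ', rfl⟩⟩ := exists_mem_of_mem_J Sv hSv τ
  obtain ⟨a, ha⟩ := hl f hf
  obtain ⟨a₀, rfl⟩ := (AlgSp.yon S).map_surjective a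
  refine ⟨f.left '' (a₀.left ⁻¹' (AlgSp.Points.ofPt p ⁻¹' Ω)), ?_, ?_, ?_⟩
  · rintro _ ⟨z, hz, rfl⟩
    rw [Set.mem_preimage, ← ofPt_yon_map_comp, ← ha, ofPt_yon_map_comp]; exact hz
  · exact f.left.isOpenMap _ (hW.preimage a₀.left.continuous)
  · refine ⟨τ', ?_, rfl⟩
    rw [Set.mem_preimage, Set.mem_preimage, ← ofPt_yon_map_comp, ha, ofPt_yon_map_comp]; exact hτ

/-- A monomorphism of sheaves whose image is an open set of points `Ω`, and along which sections with points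
in `Ω` lift locally, is an open immersion. -/
theorem repWith_isOpenImmersion_of_local_lift {U' : Over S} {Q' Q : AlgSp.Sp S}
    (π' : (AlgSp.yon S).obj U' ⟶ Q') [Epi π'] (ψ : Q' ⟶ Q) [Mono ψ]
    (hΩ : IsOpen (Set.range (AlgSp.Points.ofPt (π' ≫ ψ))))
    (hlift : ∀ (T : Over S) (x : (AlgSp.yon S).obj T ⟶ Q),
      (∀ τ : ↥T.left, AlgSp.Points.ofPt x τ ∈ Set.range (AlgSp.Points.ofPt (π' ≫ ψ))) →
      ∃ Sv : Sieve T, Sv ∈ AlgSp.J S T ∧ ∀ ⦃T' : Over S⦄ (f : T' ⟶ T), Sv f →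
        ∃ b : (AlgSp.yon S).obj T' ⟶ (AlgSp.yon S).obj U', b ≫ π' ≫ ψ = (AlgSp.yon S).map f ≫ x) :
    AlgSp.RepWith @IsOpenImmersion ψ := by
  have hι := repWith_isOpenImmersion_openSubι Q hΩ
  have hrange : Set.range (AlgSp.Points.map ψ) ⊆ Set.range (AlgSp.Points.map (openSubι Q
      (Set.range (AlgSp.Points.ofPt (π' ≫ ψ))))) := by
    rw [range_map_openSubι]
    rintro _ ⟨y, rfl⟩
    obtain ⟨z, rfl⟩ := isSurjectiveMor_of_epi π' y
    rw [← AlgSp.Points.map_comp]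
    obtain ⟨u', rfl⟩ := (AlgSp.Points.schemeHomeo U').surjective z
    exact ⟨u', AlgSp.Points.ofPt_eq_map_ofScheme _ _⟩
  obtain ⟨k, hk⟩ := exists_factor_of_range_subset _ hι ψ hrange
  haveI : Mono (k ≫ openSubι Q (Set.range (AlgSp.Points.ofPt (π' ≫ ψ)))) := by
    rw [hk]; infer_instance
  haveI : Mono k := mono_of_mono k (openSubι Q (Set.range (AlgSp.Points.ofPt (π' ≫ ψ))))
  haveI : Epi k := by
    refine epi_of_local_lift k fun T y => ?_
    obtain ⟨Sv, hSv, hl⟩ := hlift T (y ≫ openSubι _ _) (fun τ => by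
      have h1 : AlgSp.Points.map (openSubι _ _) (AlgSp.Points.ofPt y τ) ∈
        Set.range (AlgSp.Points.map (openSubι Q (Set.range (AlgSp.Points.ofPt (π' ≫ ψ))))) :=
          ⟨_, rfl⟩
      rw [range_map_openSubι] at h1
      exact h1)
    refine ⟨Sv, hSv, fun T' f hf => ?_⟩
    obtain ⟨b, hb⟩ := hl f hf
    refine ⟨b ≫ π', ?_⟩
    rw [← cancel_mono (openSubι _ _), Category.assoc, Category.assoc, hk, Category.assoc]
    exact hb
  haveI : IsIso k := isIso_of_mono_of_epi k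
  rw [← hk]
  exact (MorphismProperty.cancel_left_of_respectsIso (AlgSp.RepWith @IsOpenImmersion) k _).2 hι

end Groth.Agent.Lib.H15.Quot
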