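import Mathlib
import Groth.Prelude.Def_AlgSp
import Groth.Prelude.Def_AlgSp2
import Groth.Prelude.Def_AlgSpGpd
import Groth.Prelude.Def_QuotSh
import Groth.Agent.Lib.helper15.AlgSpQuot

/-! # Comparing the scheme-level quotient sheaf `QuotSh.quot` with `AlgSp.quotSp`. -/

set_option autoImplicit false
universe u
open CategoryTheory CategoryTheory.Limits AlgebraicGeometry Opposite

namespace Groth.Agent.Lib.H15.Quot

variable {S : Scheme.{u}}

/-- Naturality of the identification `rep V ≅ h_V`. -/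
theorem yon_map_repIso_inv {V W : Over S} (g : V ⟶ W) :
    (AlgSp.yon S).map g ≫ (QuotSh.repIsoUliftYoneda Scheme.fppfPrecoverage W).inv =
      (QuotSh.repIsoUliftYoneda Scheme.fppfPrecoverage V).inv ≫
        QuotSh.repMap Scheme.fppfPrecoverage g :=
  (sheafificationNatIso (AlgSp.J S) (Type (u + 1))).hom.naturality ((AlgSp.yon S).map g)

variable {R U : Over S} (s t : R ⟶ U)

/-- The quotient map on `h_U`. -/
noncomputable def qp : (AlgSp.yon S).obj U ⟶ QuotSh.quot Scheme.fppfPrecoverage s t :=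
  (QuotSh.repIsoUliftYoneda Scheme.fppfPrecoverage U).inv ≫ QuotSh.quotπ Scheme.fppfPrecoverage s t

theorem qp_cond : (AlgSp.yon S).map s ≫ qp s t = (AlgSp.yon S).map t ≫ qp s t := by
  unfold qp
  rw [← Category.assoc, yon_map_repIso_inv, Category.assoc, QuotSh.quot_condition, ← Category.assoc,
    ← yon_map_repIso_inv, Category.assoc]

theorem inv_cond : QuotSh.repMap Scheme.fppfPrecoverage s ≫
      (QuotSh.repIsoUliftYoneda Scheme.fppfPrecoverage U).hom ≫
        AlgSp.quotSpπ ((AlgSp.yon S).map s) ((AlgSp.yon S).map t) =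
    QuotSh.repMap Scheme.fppfPrecoverage t ≫
      (QuotSh.repIsoUliftYoneda Scheme.fppfPrecoverage U).hom ≫
        AlgSp.quotSpπ ((AlgSp.yon S).map s) ((AlgSp.yon S).map t) := by
  have h1 : ∀ g : R ⟶ U, QuotSh.repMap Scheme.fppfPrecoverage g ≫
      (QuotSh.repIsoUliftYoneda Scheme.fppfPrecoverage U).hom =
      (QuotSh.repIsoUliftYoneda Scheme.fppfPrecoverage R).hom ≫ (AlgSp.yon S).map g := by
    intro g
    rw [← Iso.inv_comp_eq, ← Category.assoc, ← yon_map_repIso_inv, Category.assoc, Iso.inv_hom_id,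
      Category.comp_id]
  rw [← Category.assoc, h1, Category.assoc, AlgSp.quotSp_condition, ← Category.assoc, ← h1,
    Category.assoc]

/-- The comparison isomorphism. -/
noncomputable def quotIso :
    AlgSp.quotSp ((AlgSp.yon S).map s) ((AlgSp.yon S).map t) ≅
      QuotSh.quot Scheme.fppfPrecoverage s t where
  hom := AlgSp.quotSpDesc (qp s t) (qp_cond s t)
  inv := coequalizer.desc ((QuotSh.repIsoUliftYoneda Scheme.fppfPrecoverage U).hom ≫
    AlgSp.quotSpπ ((AlgSp.yon S).map s) ((AlgSp.yon S).map t)) (inv_cond s t)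
  hom_inv_id := by
    apply coequalizer.hom_ext
    change AlgSp.quotSpπ _ _ ≫ AlgSp.quotSpDesc (qp s t) (qp_cond s t) ≫ _ = AlgSp.quotSpπ _ _ ≫ 𝟙 _
    rw [AlgSp.quotSpπ_desc_assoc]
    unfold qp
    rw [Category.assoc]
    change _ ≫ coequalizer.π _ _ ≫ coequalizer.desc _ _ = _
    rw [coequalizer.π_desc, Iso.inv_hom_id_assoc, Category.comp_id]
  inv_hom_id := by
    apply coequalizer.hom_ext
    have h1 : coequalizer.π (QuotSh.repMap Scheme.fppfPrecoverage s)
        (QuotSh.repMap Scheme.fppfPrecoverage t) ≫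
        coequalizer.desc ((QuotSh.repIsoUliftYoneda Scheme.fppfPrecoverage U).hom ≫
          AlgSp.quotSpπ ((AlgSp.yon S).map s) ((AlgSp.yon S).map t)) (inv_cond s t) =
        (QuotSh.repIsoUliftYoneda Scheme.fppfPrecoverage U).hom ≫
          AlgSp.quotSpπ ((AlgSp.yon S).map s) ((AlgSp.yon S).map t) := coequalizer.π_desc _ _
    have h2 : ((QuotSh.repIsoUliftYoneda Scheme.fppfPrecoverage U).hom ≫
          AlgSp.quotSpπ ((AlgSp.yon S).map s) ((AlgSp.yon S).map t)) ≫
        AlgSp.quotSpDesc (qp s t) (qp_cond s t) = QuotSh.quotπ Scheme.fppfPrecoverage s t := by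
      rw [Category.assoc, AlgSp.quotSpπ_desc]
      unfold qp
      rw [Iso.hom_inv_id_assoc]
    refine (Category.assoc _ _ _).symm.trans ?_
    refine (congrArg (· ≫ AlgSp.quotSpDesc (qp s t) (qp_cond s t)) h1).trans ?_
    exact h2.trans (Category.comp_id _).symm

theorem π_quotIso_hom :
    AlgSp.quotSpπ ((AlgSp.yon S).map s) ((AlgSp.yon S).map t) ≫ (quotIso s t).hom = qp s t :=
  AlgSp.quotSpπ_desc _ _ _ _

/-- A scheme-level equivalence relation gives an equivalence relation of sheaves. -/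
theorem isEqvRelSp_of_isEqvRel (h : AlgSp.IsEqvRel s t) :
    AlgSp.IsEqvRelSp ((AlgSp.yon S).map s) ((AlgSp.yon S).map t) where
  injective T r r' h1 h2 := by
    obtain ⟨r₀, rfl⟩ := (AlgSp.yon S).map_surjective r
    obtain ⟨r₀', rfl⟩ := (AlgSp.yon S).map_surjective r'
    rw [← Functor.map_comp, ← Functor.map_comp] at h1 h2
    rw [h.injective T r₀ r₀' ((AlgSp.yon S).map_injective h1) ((AlgSp.yon S).map_injective h2)]
  equivalence T := by
    have hE := h.equivalence T
    have key : ∀ a b : (AlgSp.yon S).obj T ⟶ (AlgSp.yon S).obj U,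
        (∃ r : (AlgSp.yon S).obj T ⟶ (AlgSp.yon S).obj R,
          r ≫ (AlgSp.yon S).map t = a ∧ r ≫ (AlgSp.yon S).map s = b) ↔
        (∃ r₀ : T ⟶ R, r₀ ≫ t = (AlgSp.yon S).preimage a ∧ r₀ ≫ s = (AlgSp.yon S).preimage b) := by
      intro a b
      constructor
      · rintro ⟨r, rfl, rfl⟩
        obtain ⟨r₀, rfl⟩ := (AlgSp.yon S).map_surjective r
        refine ⟨r₀, ?_, ?_⟩
        · apply (AlgSp.yon S).map_injective
          rw [Functor.map_preimage, Functor.map_comp]
        · apply (AlgSp.yon S).map_injective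
          rw [Functor.map_preimage, Functor.map_comp]
      · rintro ⟨r₀, h1, h2⟩
        refine ⟨(AlgSp.yon S).map r₀, ?_, ?_⟩
        · rw [← Functor.map_comp, h1, Functor.map_preimage]
        · rw [← Functor.map_comp, h2, Functor.map_preimage]
    exact ⟨fun a => (key a a).2 (hE.refl _),
      fun {a b} hab => (key b a).2 (hE.symm ((key a b).1 hab)),
      fun {a b c} h1 h2 => (key a c).2 (hE.trans ((key a b).1 h1) ((key b c).1 h2))⟩

end Groth.Agent.Lib.H15.Quot
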