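import Mathlib

set_option autoImplicit false
open CategoryTheory CategoryTheory.Limits

namespace Groth.Agent.Lib.H15.AS

variable {D : Type*} [Category D] [HasPullbacks D]

/-- The base change of the relative diagonal of `a` along `g : T ⟶ F ×_G F` is the fibre product of the two sections
of `F ×_G T ⟶ T` determined by `g`. -/
theorem isPullback_diagonal_of_sections {F G T P E : D} (a : F ⟶ G) (g : T ⟶ pullback a a)
    (z : T ⟶ G) {p1 : P ⟶ F} {p2 : P ⟶ T} (sqP : IsPullback p1 p2 a z) (sx sy : T ⟶ P)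
    (hsx1 : sx ≫ p1 = g ≫ pullback.fst a a) (hsx2 : sx ≫ p2 = 𝟙 T)
    (hsy1 : sy ≫ p1 = g ≫ pullback.snd a a) (hsy2 : sy ≫ p2 = 𝟙 T) {ε1 ε2 : E ⟶ T}
    (sqE : IsPullback ε1 ε2 sx sy) :
    IsPullback (ε1 ≫ g ≫ pullback.fst a a) ε1 (pullback.diagonal a) g := by
  have hε : ε1 = ε2 := by
    have := congrArg (· ≫ p2) sqE.w
    simpa only [Category.assoc, hsx2, hsy2, Category.comp_id] using this
  have hcone : ∀ s : PullbackCone (pullback.diagonal a) g,
      s.fst = s.snd ≫ g ≫ pullback.fst a a ∧ s.fst = s.snd ≫ g ≫ pullback.snd a a := by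
    intro s
    have h1 := congrArg (· ≫ pullback.fst a a) s.condition
    have h2 := congrArg (· ≫ pullback.snd a a) s.condition
    simp only [Category.assoc, pullback.diagonal_fst, pullback.diagonal_snd, Category.comp_id] at h1 h2
    exact ⟨h1, h2⟩
  have hsec : ∀ s : PullbackCone (pullback.diagonal a) g, s.snd ≫ sx = s.snd ≫ sy := by
    intro s
    obtain ⟨h1, h2⟩ := hcone s
    apply sqP.hom_ext
    · rw [Category.assoc, Category.assoc, hsx1, hsy1, ← h1, ← h2]
    · rw [Category.assoc, Category.assoc, hsx2, hsy2]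
  refine ⟨⟨?_⟩, ⟨PullbackCone.IsLimit.mk _
    (fun s => sqE.lift s.snd s.snd (hsec s)) ?_ ?_ ?_⟩⟩
  · apply pullback.hom_ext
    · simp only [Category.assoc, pullback.diagonal_fst, Category.comp_id]
    · simp only [Category.assoc, pullback.diagonal_snd, Category.comp_id]
      rw [← hsx1, ← hsy1, ← Category.assoc, ← Category.assoc, sqE.w, hε]
  · intro s
    obtain ⟨h1, h2⟩ := hcone s
    rw [← Category.assoc, sqE.lift_fst, h1]
  · intro s
    exact sqE.lift_fst _ _ _
  · intro s m hm1 hm2
    apply sqE.hom_ext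
    · rw [sqE.lift_fst, hm2]
    · rw [sqE.lift_snd, ← hε, hm2]

/-- A morphism which is a base change of an isomorphism onto ... : if `m : P ⟶ Q` has a pullback along an isomorphism
`e : A ⟶ Q`, the projection to `P` is an isomorphism. -/
theorem isIso_fst_of_isPullback_of_isIso {P Q A B : D} {m : P ⟶ Q} {e : A ⟶ Q} [IsIso e]
    {fst : B ⟶ P} {snd : B ⟶ A} (sq : IsPullback fst snd m e) : IsIso fst :=
  sq.isIso_fst_of_isIso

end Groth.Agent.Lib.H15.AS
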