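import Mathlib
import Groth.Prelude.Def_AlgSp
import Groth.Prelude.Def_AlgSp3
import Groth.Prelude.Def_AlgSpRep
import Groth.Agent.Lib.helper15.AlgSpBasic
import Groth.Agent.Lib.helper15.AlgSpSheaf
import Groth.Agent.Lib.helper15.AlgSpFibre
import Groth.Agent.Lib.helper15.CatDiag

set_option autoImplicit false
universe u
open CategoryTheory CategoryTheory.Limits AlgebraicGeometry Opposite

namespace Groth.Agent.Lib.H15.AS

variable {S : Scheme.{u}}

/-- A representable presheaf is an algebraic space. -/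
theorem isAlgSpaceP_pyon (U : Over S) : AlgSp.IsAlgSpaceP ((AlgSp.pyon S).obj U) :=
  ⟨((AlgSp.yon S).obj U).property, AlgSp.IsAlgSpace.yon_obj U⟩

/-- `RepBySp` is stable under base change. -/
theorem repBySp_of_isPullback {P X Y Z : AlgSp.PSp S} {f' : P ⟶ X} {g' : P ⟶ Y} {g : X ⟶ Z}
    {f : Y ⟶ Z} (sq : IsPullback f' g' g f) (hg : AlgSp.RepBySp g) : AlgSp.RepBySp g' := by
  intro U ξ F'' k1 k2 sq'
  exact hg (ξ ≫ f) (k1 ≫ f') k2 (sq'.paste_horiz sq)

/-- If all base changes of `a : F ⟶ G` (a morphism of sheaves) to schemes are algebraic spaces, then the relative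
diagonal of `a` is representable. -/
theorem representable_diagonal_of_fibres {F G : AlgSp.Sp S} (a : F ⟶ G)
    (K : ∀ ⦃T : Over S⦄ (z : (AlgSp.yon S).obj T ⟶ G) ⦃Q : AlgSp.Sp S⦄ (q1 : Q ⟶ F)
      (q2 : Q ⟶ (AlgSp.yon S).obj T), IsPullback q1 q2 a z → AlgSp.IsAlgSpace Q) :
    AlgSp.Representable (pullback.diagonal a) := by
  intro T g
  obtain ⟨x, hx⟩ : ∃ x, x = g ≫ pullback.fst a a := ⟨_, rfl⟩
  obtain ⟨y, hy⟩ : ∃ y, y = g ≫ pullback.snd a a := ⟨_, rfl⟩
  obtain ⟨z, hz⟩ : ∃ z, z = x ≫ a := ⟨_, rfl⟩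
  have hzy : z = y ≫ a := by
    rw [hz, hx, hy]
    simp only [Category.assoc, pullback.condition]
  have hP : AlgSp.IsAlgSpace (pullback a z) := K z _ _ (IsPullback.of_hasPullback a z)
  let sx : (AlgSp.yon S).obj T ⟶ pullback a z := pullback.lift x (𝟙 _) (by rw [Category.id_comp, hz])
  let sy : (AlgSp.yon S).obj T ⟶ pullback a z := pullback.lift y (𝟙 _) (by rw [Category.id_comp, hzy])
  have hrep : AlgSp.Representable sx := hP.representable_from_yon sx
  have sqE := hrep.isPullback sy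
  rw [← hrep.map_fst' sy] at sqE
  have key := isPullback_diagonal_of_sections a g z (IsPullback.of_hasPullback a z) sx sy
    (by rw [← hx]; exact pullback.lift_fst _ _ _) (pullback.lift_snd _ _ _)
    (by rw [← hy]; exact pullback.lift_fst _ _ _) (pullback.lift_snd _ _ _) sqE
  exact ⟨_, _, _, key⟩

/-- If `m : P ⟶ Q` is representable and `Q` is represented by a scheme, then so is `P`. -/
theorem exists_iso_yon_of_representable {P Q : AlgSp.Sp S} (m : P ⟶ Q) (hm : AlgSp.Representable m)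
    {A : Over S} (e : (AlgSp.yon S).obj A ≅ Q) :
    ∃ (B : Over S) (i : (AlgSp.yon S).obj B ≅ P) (b : B ⟶ A), i.hom ≫ m = (AlgSp.yon S).map b ≫ e.hom := by
  have sq := hm.isPullback e.hom
  have : IsIso (hm.fst e.hom) := sq.isIso_fst_of_isIso
  exact ⟨hm.pullback e.hom, asIso (hm.fst e.hom), hm.snd e.hom, sq.w⟩

/-- A sheaf `F` mapping to an algebraic space `G` such that all base changes to schemes are algebraic spaces is an
algebraic space. -/
theorem isAlgSpace_of_fibres {F G : AlgSp.Sp S} (a : F ⟶ G) (hG : AlgSp.IsAlgSpace G)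
    (K : ∀ ⦃T : Over S⦄ (z : (AlgSp.yon S).obj T ⟶ G) ⦃Q : AlgSp.Sp S⦄ (q1 : Q ⟶ F)
      (q2 : Q ⟶ (AlgSp.yon S).obj T), IsPullback q1 q2 a z → AlgSp.IsAlgSpace Q) :
    AlgSp.IsAlgSpace F := by
  refine ⟨?_, ?_⟩
  · refine Functor.relativelyRepresentable.diag_of_map_from_obj fun T x T' y => ?_
    have hΔ := representable_diagonal_of_fibres a K
    have sqM := pullback_map_diagonal_isPullback x y a
    have hm := MorphismProperty.of_isPullback sqM hΔ
    have hxa : AlgSp.Representable (x ≫ a) := hG.representable_from_yon _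
    let e : (AlgSp.yon S).obj (hxa.pullback (y ≫ a)) ≅ pullback (x ≫ a) (y ≫ a) :=
      (hxa.isPullback (y ≫ a)).isoPullback
    obtain ⟨B, i, b, -⟩ := exists_iso_yon_of_representable _ hm e
    refine ⟨B, (AlgSp.yon S).preimage (i.hom ≫ pullback.snd x y), i.hom ≫ pullback.fst x y, ?_⟩
    rw [Functor.map_preimage]
    exact IsPullback.of_iso_pullback ⟨by rw [Category.assoc, Category.assoc, pullback.condition]⟩ i
      rfl rfl
  · obtain ⟨U, p, hpe, hps⟩ := hG.atlas
    have hQ : AlgSp.IsAlgSpace (pullback a p) := K p _ _ (IsPullback.of_hasPullback a p)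
    obtain ⟨V, r, hre, hrs⟩ := hQ.atlas
    have h1 : AlgSp.RepWith @Etale (pullback.fst a p) :=
      MorphismProperty.of_isPullback (IsPullback.of_hasPullback a p).flip hpe
    have h2 : AlgSp.RepWith @Surjective (pullback.fst a p) :=
      MorphismProperty.of_isPullback (IsPullback.of_hasPullback a p).flip hps
    exact ⟨V, r ≫ pullback.fst a p, MorphismProperty.comp_mem _ _ _ hre h1,
      MorphismProperty.comp_mem _ _ _ hrs h2⟩

/-- S10091: a presheaf mapping to an algebraic space by a morphism representable by algebraic spaces is an algebraic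
space. -/
theorem isAlgSpaceP_of_repBySp {F G : AlgSp.PSp S} (a : F ⟶ G) (ha : AlgSp.RepBySp a)
    (hG : AlgSp.IsAlgSpaceP G) : AlgSp.IsAlgSpaceP F := by
  obtain ⟨hGs, hG⟩ := hG
  have hFs : Presheaf.IsSheaf (AlgSp.J S) F := by
    refine isSheaf_of_pullbacks a hGs fun T z => ?_
    obtain ⟨hsh, -⟩ := ha z (pullback.fst a z) (pullback.snd a z) (IsPullback.of_hasPullback a z)
    exact ⟨pullback a z, pullback.fst a z, pullback.snd a z, IsPullback.of_hasPullback a z, hsh⟩
  refine ⟨hFs, ?_⟩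
  let a' : (⟨F, hFs⟩ : AlgSp.Sp S) ⟶ ⟨G, hGs⟩ := ObjectProperty.homMk a
  exact isAlgSpace_of_fibres a' hG ((AlgSp.repBySp_hom_iff a').1 ha)

end Groth.Agent.Lib.H15.AS
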