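import Mathlib
import Groth.Prelude.Def_AlgSp
import Groth.Prelude.Def_AlgSp3
import Groth.Prelude.Def_AlgSpRep
import Groth.Agent.Lib.helper15.AlgSpRepBySp

set_option autoImplicit false
universe u
open CategoryTheory CategoryTheory.Limits AlgebraicGeometry Opposite

namespace Groth.Agent.Lib.H15.AS

variable {S : Scheme.{u}}

/-- Fibre product of an algebraic space (as presheaf) with a map representable by spaces. -/
theorem isAlgSpaceP_of_isPullback_repBySp {F G X F' : AlgSp.PSp S} {a : F ⟶ G} (ha : AlgSp.RepBySp a)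
    (hX : AlgSp.IsAlgSpaceP X) {ξ : X ⟶ G} {fst : F' ⟶ X} {snd : F' ⟶ F}
    (sq : IsPullback fst snd ξ a) : AlgSp.IsAlgSpaceP F' :=
  isAlgSpaceP_of_repBySp fst (repBySp_of_isPullback sq.flip ha) hX

/-- `RepBySp` is stable under composition. -/
theorem repBySp_comp {F G H : AlgSp.PSp S} (a : F ⟶ G) (b : G ⟶ H)
    (ha : AlgSp.RepBySp a) (hb : AlgSp.RepBySp b) : AlgSp.RepBySp (a ≫ b) := by
  intro U ζ F' k1 k2 sq
  have hG' : AlgSp.IsAlgSpaceP (pullback b ζ) :=
    hb ζ (pullback.fst b ζ) (pullback.snd b ζ) (IsPullback.of_hasPullback b ζ)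
  let l : F' ⟶ pullback b ζ := pullback.lift (k1 ≫ a) k2 (by rw [Category.assoc]; exact sq.w)
  have hl2 : l ≫ pullback.snd b ζ = k2 := pullback.lift_snd _ _ _
  have hl1 : l ≫ pullback.fst b ζ = k1 ≫ a := pullback.lift_fst _ _ _
  have s : IsPullback (l ≫ pullback.snd b ζ) k1 ζ (a ≫ b) := by
    rw [hl2]; exact sq.flip
  have sqL : IsPullback l k1 (pullback.fst b ζ) a :=
    IsPullback.of_right s hl1 (IsPullback.of_hasPullback b ζ).flip
  have hl : AlgSp.RepBySp l := repBySp_of_isPullback sqL.flip ha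
  exact isAlgSpaceP_of_repBySp l hl hG'

/-- Isomorphisms are representable by spaces. -/
theorem repBySp_of_isIso {F G : AlgSp.PSp S} (a : F ⟶ G) [IsIso a] : AlgSp.RepBySp a := by
  intro U ξ F' k1 k2 sq
  have : IsIso k2 := sq.isIso_snd_of_isIso
  exact (isAlgSpaceP_pyon U).of_iso (asIso k2).symm

/-- `RepBySp` is stable under products. -/
theorem repBySp_prod_map {F₁ G₁ F₂ G₂ : AlgSp.PSp S} (a₁ : F₁ ⟶ G₁) (a₂ : F₂ ⟶ G₂)
    (h₁ : AlgSp.RepBySp a₁) (h₂ : AlgSp.RepBySp a₂) : AlgSp.RepBySp (prod.map a₁ a₂) := by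
  have e : prod.map a₁ a₂ = prod.map a₁ (𝟙 F₂) ≫ prod.map (𝟙 G₁) a₂ := by
    rw [prod.map_map, Category.comp_id, Category.id_comp]
  rw [e]
  refine repBySp_comp _ _ ?_ ?_
  · exact repBySp_of_isPullback (IsPullback.of_prod_fst_with_id a₁ F₂) h₁
  · exact repBySp_of_isPullback (isPullback_prod_snd_with_id a₂ G₁) h₂

/-- If `a ≫ b` and the diagonal of `b` are representable by spaces, so is `a`. -/
theorem repBySp_of_comp_of_diagonal {F G H : AlgSp.PSp S} (a : F ⟶ G) (b : G ⟶ H)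
    (hΔ : AlgSp.RepBySp (pullback.diagonal b)) (hab : AlgSp.RepBySp (a ≫ b)) : AlgSp.RepBySp a := by
  have hγ : AlgSp.RepBySp (pullback.lift (𝟙 F) a (by simp) : F ⟶ pullback (a ≫ b) b) :=
    repBySp_of_isPullback (pullback_lift_diagonal_isPullback a b) hΔ
  have hsnd : AlgSp.RepBySp (pullback.snd (a ≫ b) b) :=
    repBySp_of_isPullback (IsPullback.of_hasPullback (a ≫ b) b) hab
  have e : a = (pullback.lift (𝟙 F) a (by simp) : F ⟶ pullback (a ≫ b) b) ≫ pullback.snd (a ≫ b) b := by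
    rw [pullback.lift_snd]
  rw [e]
  exact repBySp_comp _ _ hγ hsnd

/-- The relative diagonal of a morphism representable by spaces is representable by spaces (in fact by schemes). -/
theorem repBySp_diagonal {F G : AlgSp.PSp S} (a : F ⟶ G) (ha : AlgSp.RepBySp a) :
    AlgSp.RepBySp (pullback.diagonal a) := by
  intro U g E' k1 k2 sq
  obtain ⟨x, hx⟩ : ∃ x, x = g ≫ pullback.fst a a := ⟨_, rfl⟩
  obtain ⟨y, hy⟩ : ∃ y, y = g ≫ pullback.snd a a := ⟨_, rfl⟩
  obtain ⟨z, hz⟩ : ∃ z, z = x ≫ a := ⟨_, rfl⟩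
  have hzy : z = y ≫ a := by
    rw [hz, hx, hy]
    simp only [Category.assoc, pullback.condition]
  obtain ⟨hPs, hP⟩ : AlgSp.IsAlgSpaceP (pullback a z) :=
    ha z (pullback.fst a z) (pullback.snd a z) (IsPullback.of_hasPullback a z)
  let sx : (AlgSp.pyon S).obj U ⟶ pullback a z := pullback.lift x (𝟙 _) (by rw [Category.id_comp, hz])
  let sy : (AlgSp.pyon S).obj U ⟶ pullback a z := pullback.lift y (𝟙 _) (by rw [Category.id_comp, hzy])
  let P' : AlgSp.Sp S := ⟨pullback a z, hPs⟩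
  let sx' : (AlgSp.yon S).obj U ⟶ P' := ObjectProperty.homMk sx
  let sy' : (AlgSp.yon S).obj U ⟶ P' := ObjectProperty.homMk sy
  have hrep : AlgSp.Representable sx' := hP.representable_from_yon sx'
  have sqE' := hrep.isPullback sy'
  rw [← hrep.map_fst' sy'] at sqE'
  have sqE : IsPullback ((AlgSp.pyon S).map (hrep.fst' sy')) ((AlgSp.pyon S).map (hrep.snd sy')) sx sy :=
    sqE'.map (sheafToPresheaf (AlgSp.J S) (Type (u + 1)))
  have key := isPullback_diagonal_of_sections a g z (IsPullback.of_hasPullback a z) sx sy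
    (by rw [← hx]; exact pullback.lift_fst _ _ _) (pullback.lift_snd _ _ _)
    (by rw [← hy]; exact pullback.lift_fst _ _ _) (pullback.lift_snd _ _ _) sqE
  exact (isAlgSpaceP_pyon _).of_iso (key.isoIsPullback _ _ sq)

end Groth.Agent.Lib.H15.AS
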