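import Mathlib
import Groth.Prelude.Def_AlgSp
import Groth.Prelude.Def_AlgSp3
import Groth.Prelude.Def_AlgSpRep
import Groth.Agent.Lib.helper15.AlgSpRepBySp2
import Groth.Agent.Lib.helper15.CatProd

set_option autoImplicit false
universe u
open CategoryTheory CategoryTheory.Limits AlgebraicGeometry Opposite

namespace Groth.Agent.Lib.H15.AS

variable {S : Scheme.{u}}

/-- `pyon` of a morphism of schemes is representable by spaces. -/
theorem repBySp_pyon_map {U V : Over S} (g : U ⟶ V) : AlgSp.RepBySp ((AlgSp.pyon S).map g) :=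
  (AlgSp.representable_yon_map g).repBySp

/-- The diagonal of a representable presheaf is representable by spaces. -/
theorem repBySp_diag_pyon (U : Over S) : AlgSp.RepBySp (Limits.diag ((AlgSp.pyon S).obj U)) := by
  have e : Limits.diag ((AlgSp.pyon S).obj U) =
      (AlgSp.pyon S).map (Limits.diag U) ≫ (PreservesLimitPair.iso (AlgSp.pyon S) U U).hom := by
    rw [PreservesLimitPair.iso_hom]
    dsimp only [Limits.diag]
    apply Limits.prod.hom_ext
    · rw [prod.lift_fst, Category.assoc, prodComparison_fst, ← CategoryTheory.Functor.map_comp,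
        prod.lift_fst, CategoryTheory.Functor.map_id]
    · rw [prod.lift_snd, Category.assoc, prodComparison_snd, ← CategoryTheory.Functor.map_comp,
        prod.lift_snd, CategoryTheory.Functor.map_id]
  rw [e]
  exact repBySp_comp _ _ (repBySp_pyon_map _) (repBySp_of_isIso _)

/-- The diagonal of `F` is representable by spaces iff every map from a scheme is. -/
theorem repBySp_diag_iff (F : AlgSp.PSp S) :
    AlgSp.RepBySp (Limits.diag F) ↔
      ∀ (T : Over S) (ξ : (AlgSp.pyon S).obj T ⟶ F), AlgSp.RepBySp ξ := by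
  constructor
  · intro hΔ T ξ U η F' k1 k2 sq
    have A := isPullback_diag_of_isPullback sq
    let e := PreservesLimitPair.iso (AlgSp.pyon S) T U
    have B : IsPullback (k1 ≫ ξ) (prod.lift k1 k2 ≫ e.inv) (Limits.diag F) (e.hom ≫ prod.map ξ η) :=
      IsPullback.of_iso A (Iso.refl _) (Iso.refl _) e.symm (Iso.refl _) (by simp) (by simp) (by simp)
        (by simp)
    exact hΔ _ _ _ B
  · intro h U w F' k1 k2 sq
    obtain ⟨j, hj⟩ := isPullback_diag_of_isPullback_diag w sq _ _ rfl rfl
    have hQ : AlgSp.IsAlgSpaceP (pullback (w ≫ prod.fst) (w ≫ prod.snd)) :=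
      h U (w ≫ prod.fst) (w ≫ prod.snd) _ _ (IsPullback.of_hasPullback _ _)
    exact isAlgSpaceP_of_isPullback_repBySp (repBySp_diag_pyon U) hQ hj

end Groth.Agent.Lib.H15.AS
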