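import Mathlib
import Groth.Prelude.Def_AlgSp
import Groth.Prelude.Def_AlgSp2
import Groth.Prelude.Def_AlgSp3
import Groth.Prelude.Def_AlgSp4
import Groth.Agent.Lib.helper15.AlgSpMono
import Groth.Agent.Lib.helper15.AlgSpSeven
import Groth.Agent.Lib.helper15.AlgSpEtale2
import Groth.Agent.Lib.helper15.AlgSpPoints
import Groth.Agent.Lib.helper15.AlgSpPoints2
import Groth.Agent.Lib.helper15.AlgSpDimStalk
import Groth.Agent.Lib.helper15.EtaleRedStalk
import Groth.Agent.Lib.helper15.AlgSpFibreChart

set_option autoImplicit false
universe u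
open CategoryTheory CategoryTheory.Limits AlgebraicGeometry Opposite Topology

namespace Groth.Agent.Lib.H15.AS

variable {S : Scheme.{u}}

/-- The local rings of a scheme etale over the spectrum of a field are fields. -/
theorem isField_stalk_of_etale_field {k : Type u} [Field k] {V : Scheme.{u}}
    (e : V ⟶ Spec (CommRingCat.of k)) [Etale e] (v : V) : IsField ↥(V.presheaf.stalk v) := by
  have hred : _root_.IsReduced ↥(V.presheaf.stalk v) :=
    (Groth.Agent.Lib.H15.isReduced_stalk_iff_of_etale e v).2 inferInstance
  have : Subsingleton ↥(Spec (CommRingCat.of k)) := by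
    change Subsingleton (PrimeSpectrum k); infer_instance
  have hc : Order.coheight v = 0 := by
    rw [coheight_eq_of_etale e v, Order.coheight_eq_zero]
    intro b _
    exact (Subsingleton.elim _ _).le
  have : Ring.KrullDimLE 0 ↥(V.presheaf.stalk v) := krullDimLE_of_coheight_le (by rw [hc]; rfl)
  exact Ring.KrullDimLE.isField_of_isReduced

/-- A local ring that injects into a field by a local homomorphism is a field. -/
theorem isField_of_injective_isLocalHom {A L : Type u} [CommRing A] [CommRing L] [IsLocalRing A]
    [IsLocalRing L] (hL : IsField L) (φ : A →+* L) [IsLocalHom φ] (hφ : Function.Injective φ) :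
    IsField A := by
  rw [IsLocalRing.isField_iff_maximalIdeal_eq] at hL ⊢
  rw [eq_bot_iff]
  intro x hx
  have h1 : φ x ∈ IsLocalRing.maximalIdeal L := by
    rw [IsLocalRing.mem_maximalIdeal, mem_nonunits_iff] at hx ⊢
    exact fun h => hx (isUnit_of_map_unit φ x h)
  rw [hL] at h1
  have h2 : φ x = 0 := h1
  have : x = 0 := hφ (by rw [h2, map_zero])
  rw [this]; exact Submodule.zero_mem _

/-- If an algebraic space admits a flat surjective morphism from the spectrum of a field, then the local
rings of every scheme etale over it are fields. -/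
theorem isField_stalk_of_flat_surjective_fieldPt {Z : AlgSp.Sp S} (hZ : AlgSp.IsAlgSpace Z)
    {k : Type u} [Field k] (str : Spec (CommRingCat.of k) ⟶ S)
    (p : (AlgSp.yon S).obj (Over.mk str) ⟶ Z) (hfl : AlgSp.LocP @Flat p)
    (hs : AlgSp.IsSurjectiveMor p) {W : Over S} (a : (AlgSp.yon S).obj W ⟶ Z)
    (ha : AlgSp.RepWith @Etale a) (w : ↥W.left) : IsField ↥(W.left.presheaf.stalk w) := by
  have hT : AlgSp.IsAlgSpace ((AlgSp.yon S).obj (Over.mk str)) := AlgSp.IsAlgSpace.yon_obj _
  have hrep : AlgSp.Representable p := hZ.representable_from_yon p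
  have h1 : AlgSp.RepWith @Flat p :=
    (locP_iff_repWith_of_representable goodP_flat hT hZ hrep).1 hfl
  have h3 : AlgSp.RepWith @Surjective p := repWith_surjective_of_isSurjectiveMor hrep hs
  have sq := hrep.isPullback' a
  have he : Etale (hrep.fst' a).left :=
    ((AlgSp.repWith_iff _ _).1 ha).2 p ((AlgSp.yon S).map (hrep.snd a)) (hrep.fst' a) sq.flip
  have hf : Flat (hrep.snd a).left := h1.property_snd a
  have hsj : Surjective (hrep.snd a).left := h3.property_snd a
  obtain ⟨v, rfl⟩ := hsj.surj w
  have hV : IsField ↥((hrep.pullback a).left.presheaf.stalk v) :=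
    isField_stalk_of_etale_field (k := k) (hrep.fst' a).left v
  have : IsLocalHom ((hrep.snd a).left.stalkMap v).hom := inferInstance
  exact isField_of_injective_isLocalHom hV ((hrep.snd a).left.stalkMap v).hom
    (Groth.Agent.Lib.H15.stalkMap_injective_of_flat (hrep.snd a).left v)

/-- Every morphism to a scheme all of whose local rings are fields is flat. -/
theorem flat_of_forall_isField_stalk {T U : Scheme.{u}} (j : T ⟶ U)
    (h : ∀ u : U, IsField ↥(U.presheaf.stalk u)) : Flat j := by
  refine Flat.of_stalkMap j fun x => ?_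
  letI := (h (j x)).toField
  algebraize [(j.stalkMap x).hom]
  show Module.Flat ↥(U.presheaf.stalk (j x)) ↥(T.presheaf.stalk x)
  infer_instance

/-- Every point of a scheme lies in an affine open whose ring has a maximal ideal giving a morphism from the
spectrum of a field that is locally of finite type (and locally of finite presentation when the scheme is
locally Noetherian). -/
theorem exists_field_lft_to_scheme (U : Scheme.{u}) (u : U) :
    ∃ (k : Type u) (_ : Field k) (j : Spec (CommRingCat.of k) ⟶ U), LocallyOfFiniteType j ∧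
      (IsLocallyNoetherian U → LocallyOfFinitePresentation j) := by
  obtain ⟨_, ⟨U₀, hU₀, rfl⟩, hu, -⟩ :=
    (U.isBasis_affineOpens).exists_subset_of_mem_open (Set.mem_univ u) isOpen_univ
  let p := hU₀.primeIdealOf ⟨u, hu⟩
  obtain ⟨m, hm, -⟩ := Ideal.exists_le_maximal p.asIdeal p.isPrime.ne_top
  letI := Ideal.Quotient.field m
  let φ : Γ(U, U₀) ⟶ CommRingCat.of (Γ(U, U₀) ⧸ m) := CommRingCat.ofHom (Ideal.Quotient.mk m)
  have hφ : Function.Surjective φ := Ideal.Quotient.mk_surjective
  have : IsClosedImmersion (Spec.map φ) := IsClosedImmersion.spec_of_surjective φ hφ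
  refine ⟨Γ(U, U₀) ⧸ m, inferInstance, Spec.map φ ≫ hU₀.fromSpec, inferInstance, fun hN => ?_⟩
  have hA : IsNoetherianRing Γ(U, U₀) := IsLocallyNoetherian.component_noetherian ⟨U₀, hU₀⟩
  have hfp : φ.hom.FinitePresentation := by
    refine RingHom.FinitePresentation.of_surjective _ hφ ?_
    have : RingHom.ker φ.hom = m := Ideal.mk_ker
    rw [this]
    exact (isNoetherianRing_iff_ideal_fg _).1 hA m
  have : LocallyOfFinitePresentation (Spec.map φ) :=
    (HasRingHomProperty.Spec_iff (P := @LocallyOfFinitePresentation)).2 hfp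
  infer_instance

end Groth.Agent.Lib.H15.AS
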