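import Mathlib
import Groth.Prelude.Def_AlgSp
import Groth.Prelude.Def_AlgSp2
import Groth.Prelude.Def_AlgSp3
import Groth.Prelude.Def_AlgSp4
import Groth.Agent.Lib.helper15.AlgSpLocPGen
import Groth.Agent.Lib.helper15.AlgSpQC3
import Groth.Agent.Lib.helper15.AlgSpPoints3

set_option autoImplicit false
universe u
open CategoryTheory CategoryTheory.Limits AlgebraicGeometry Opposite Topology

namespace Groth.Agent.Lib.H15.AS

variable {S : Scheme.{u}}

/-- If `h_φ` is surjective on points then `φ` is surjective. -/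
theorem surjective_of_isSurjectiveMor_yon_map {T T' : Over S} (φ : T ⟶ T')
    (h : AlgSp.IsSurjectiveMor ((AlgSp.yon S).map φ)) : Surjective φ.left := by
  refine ⟨fun t' => ?_⟩
  obtain ⟨y, hy⟩ := h (AlgSp.Points.schemeHomeo T' t')
  obtain ⟨t, rfl⟩ := (AlgSp.Points.schemeHomeo T).surjective y
  rw [AlgSp.Points.map_yon_map_apply] at hy
  exact ⟨t, (AlgSp.Points.schemeHomeo T').injective hy⟩

/-- A flat, quasi-compact, surjective morphism of algebraic spaces is submersive. -/
theorem isSubmersiveMor_of_flat_qc_surjective {X Y : AlgSp.Sp S} (hX : AlgSp.IsAlgSpace X)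
    (hY : AlgSp.IsAlgSpace Y) {f : X ⟶ Y} (hfl : AlgSp.LocP @Flat f)
    (hqc : AlgSp.IsQuasiCompactMor f) (hs : AlgSp.IsSurjectiveMor f) : AlgSp.IsSubmersiveMor f := by
  change IsQuotientMap (AlgSp.Points.map f)
  rw [isQuotientMap_iff]
  refine ⟨.of_isOpen_preimage_iff_isOpen fun W =>
    ⟨fun hW => ?_, fun hW => hW.preimage (AlgSp.Points.continuous_map f)⟩, hs⟩
  obtain ⟨V, c, hce, hcs⟩ := hY.atlas
  have hg : ∀ Vi : V.left.affineOpens,
      AlgSp.RepWith @Etale ((AlgSp.yon S).map (overOpenι V Vi.1) ≫ c) := fun Vi =>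
    repWith_yon_map_comp @Etale _ c (inferInstance : Etale (Vi.1 : V.left.Opens).ι) hce
  have key : ∀ Vi : V.left.affineOpens,
      IsOpen (AlgSp.Points.ofPt ((AlgSp.yon S).map (overOpenι V Vi.1) ≫ c) ⁻¹' W) := by
    intro Vi
    obtain ⟨g, hgdef⟩ : ∃ g, g = (AlgSp.yon S).map (overOpenι V Vi.1) ≫ c := ⟨_, rfl⟩
    rw [← hgdef]
    have hZaff : IsAffine (overOpen V Vi.1).left := Vi.2
    have sq : IsPullback (pullback.fst f g) (pullback.snd f g) f g := IsPullback.of_hasPullback f g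
    have hZ : AlgSp.IsAlgSpace ((AlgSp.yon S).obj (overOpen V Vi.1)) := AlgSp.IsAlgSpace.yon_obj _
    have hP : AlgSp.IsAlgSpace (pullback f g) := isAlgSpace_of_isPullback hY.diag hX hZ sq
    have hPqc : AlgSp.IsQuasiCompactSp (pullback f g) :=
      hqc hZ (isQuasiCompactSp_yon _) g _ _ sq
    obtain ⟨U, p, hUaff, hpe, hps⟩ := exists_affine_chart_of_isQuasiCompactSp hPqc
    obtain ⟨φ, hφ⟩ := (AlgSp.yon S).map_surjective (p ≫ pullback.snd f g)
    have hlocP : AlgSp.LocP @Flat (pullback.snd f g) :=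
      locP_of_isPullback_gen goodP_flat hX hY hZ sq hfl
    have hφfl : Flat φ.left :=
      hlocP p (𝟙 _) φ hpe (AlgSp.repWith_id _ _) (by rw [hφ, Category.comp_id])
    have hφs : Surjective φ.left := by
      apply surjective_of_isSurjectiveMor_yon_map
      rw [hφ]
      intro z
      obtain ⟨y, hy⟩ := isSurjectiveMor_of_isPullback sq hs z
      obtain ⟨x, hx⟩ := isSurjectiveMor_of_repWith hps y
      exact ⟨x, by rw [AlgSp.Points.map_comp, hx, hy]⟩
    have hφqc : QuasiCompact φ.left := inferInstance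
    have hq : IsQuotientMap φ.left := Flat.isQuotientMap_of_surjective φ.left
    rw [← hq.isOpen_preimage]
    have e : (fun t => φ.left t) ⁻¹' (AlgSp.Points.ofPt g ⁻¹' W) =
        AlgSp.Points.ofPt (p ≫ pullback.fst f g) ⁻¹' (AlgSp.Points.map f ⁻¹' W) := by
      ext t
      simp only [Set.mem_preimage]
      rw [← ofPt_yon_map_comp, hφ, AlgSp.Points.map_ofPt, Category.assoc, Category.assoc,
        sq.w]
    exact e ▸ hW.preimage (AlgSp.Points.continuous_ofPt _)
  have hW' : W = ⋃ Vi : V.left.affineOpens,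
      AlgSp.Points.ofPt ((AlgSp.yon S).map (overOpenι V Vi.1) ≫ c) ''
        (AlgSp.Points.ofPt ((AlgSp.yon S).map (overOpenι V Vi.1) ≫ c) ⁻¹' W) := by
    apply Set.Subset.antisymm
    · intro y hy
      obtain ⟨v, rfl⟩ := surjective_ofPt c hcs y
      obtain ⟨Vi, hVi, hv, -⟩ := exists_isAffineOpen_mem_and_subset (x := v) (U := ⊤) trivial
      refine Set.mem_iUnion.2 ⟨⟨Vi, hVi⟩, ⟨⟨v, hv⟩, ?_, ?_⟩⟩
      · simp only [Set.mem_preimage]
        rw [ofPt_yon_map_comp]
        exact hy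
      · rw [ofPt_yon_map_comp]
        rfl
    · intro y hy
      obtain ⟨Vi, z, hz, rfl⟩ := Set.mem_iUnion.1 hy
      exact hz
  rw [hW']
  exact isOpen_iUnion fun Vi =>
    isOpenMap_ofPt _ (repWith_universallyOpen_of_etale (hg Vi)) _ (key Vi)

/-- A flat, quasi-compact, surjective morphism of algebraic spaces is universally submersive. -/
theorem isUnivSubmersiveMor_of_flat_qc_surjective {X Y : AlgSp.Sp S} (hX : AlgSp.IsAlgSpace X)
    (hY : AlgSp.IsAlgSpace Y) {f : X ⟶ Y} (hfl : AlgSp.LocP @Flat f)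
    (hqc : AlgSp.IsQuasiCompactMor f) (hs : AlgSp.IsSurjectiveMor f) :
    AlgSp.IsUnivSubmersiveMor f := by
  intro Z Z' hZ g fst snd sq
  have hZ' : AlgSp.IsAlgSpace Z' := isAlgSpace_of_isPullback hY.diag hX hZ sq
  exact isSubmersiveMor_of_flat_qc_surjective hZ' hZ
    (locP_of_isPullback_gen goodP_flat hX hY hZ sq hfl)
    (isQuasiCompactMor_of_isPullback sq hqc) (isSurjectiveMor_of_isPullback sq hs)

end Groth.Agent.Lib.H15.AS
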