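import Mathlib
import Groth.Prelude.Def_AlgSp
import Groth.Prelude.Def_AlgSp2
import Groth.Prelude.Def_AlgSp3
import Groth.Prelude.Def_AlgSp4

set_option autoImplicit false
universe u
open CategoryTheory CategoryTheory.Limits AlgebraicGeometry Opposite Topology

namespace Groth.Agent.Lib.H15.AS

variable {S : Scheme.{u}}

/-- For a representable morphism of sheaves, representable universal injectivity is equivalent to
injectivity on `K`-valued points for every field `K`. -/
theorem repWith_universallyInjective_iff_of_representable {X Y : AlgSp.Sp S} (f : X ⟶ Y)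
    (hf : AlgSp.Representable f) :
    AlgSp.RepWith @UniversallyInjective f ↔
      ∀ (K : Type u) [Field K] (str : Spec (CommRingCat.of K) ⟶ S),
        Function.Injective (fun a : (AlgSp.yon S).obj (Over.mk str) ⟶ X => a ≫ f) := by
  constructor
  · intro h K _ str a₁ a₂ he
    have he' : a₁ ≫ f = a₂ ≫ f := he
    have hrep : AlgSp.Representable f := hf
    have sq := hrep.isPullback (a₂ ≫ f)
    have hui : UniversallyInjective (hrep.snd (a₂ ≫ f)).left := h.property_snd (a₂ ≫ f)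
    have w₁ : a₁ ≫ f = (AlgSp.yon S).map (𝟙 (Over.mk str)) ≫ a₂ ≫ f := by
      rw [CategoryTheory.Functor.map_id, Category.id_comp, he']
    have w₂ : a₂ ≫ f = (AlgSp.yon S).map (𝟙 (Over.mk str)) ≫ a₂ ≫ f := by
      rw [CategoryTheory.Functor.map_id, Category.id_comp]
    have h1 : (hrep.lift a₁ (𝟙 _) w₁).left ≫ (hrep.snd (a₂ ≫ f)).left =
        (hrep.lift a₂ (𝟙 _) w₂).left ≫ (hrep.snd (a₂ ≫ f)).left := by
      rw [← Over.comp_left, ← Over.comp_left, hrep.lift_snd, hrep.lift_snd]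
    have tf : UniversallyInjective (hrep.snd (a₂ ≫ f)).left ↔
        ∀ (K : Type u) [Field K], Function.Injective
          (fun g' : Spec (.of K) ⟶ (hrep.pullback (a₂ ≫ f)).left ↦ g' ≫ (hrep.snd (a₂ ≫ f)).left) :=
      (tfae_universallyInjective (hrep.snd (a₂ ≫ f)).left).out 0 1
    have h2 : (hrep.lift a₁ (𝟙 _) w₁).left = (hrep.lift a₂ (𝟙 _) w₂).left := tf.1 hui K h1
    have h3 : hrep.lift a₁ (𝟙 _) w₁ = hrep.lift a₂ (𝟙 _) w₂ := Over.OverMorphism.ext h2
    have e₁ : (AlgSp.yon S).map (hrep.lift a₁ (𝟙 _) w₁) ≫ hrep.fst _ = a₁ := hrep.lift_fst _ _ _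
    have e₂ : (AlgSp.yon S).map (hrep.lift a₂ (𝟙 _) w₂) ≫ hrep.fst _ = a₂ := hrep.lift_fst _ _ _
    calc a₁ = (AlgSp.yon S).map (hrep.lift a₁ (𝟙 _) w₁) ≫ hrep.fst _ := e₁.symm
      _ = (AlgSp.yon S).map (hrep.lift a₂ (𝟙 _) w₂) ≫ hrep.fst _ := by rw [h3]
      _ = a₂ := e₂
  · intro h
    rw [AlgSp.repWith_iff]
    refine ⟨hf, fun T W g fst snd sq => ?_⟩
    have tf : UniversallyInjective snd.left ↔
        ∀ (K : Type u) [Field K], Function.Injective
          (fun g' : Spec (.of K) ⟶ W.left ↦ g' ≫ snd.left) :=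
      (tfae_universallyInjective snd.left).out 0 1
    refine tf.2 ?_
    intro K _ g₁ g₂ hg
    have hg' : g₁ ≫ snd.left = g₂ ≫ snd.left := hg
    have hstr : g₁ ≫ W.hom = g₂ ≫ W.hom := by
      rw [← Over.w snd, ← Category.assoc, hg', Category.assoc]
    let G₁ : Over.mk (g₁ ≫ W.hom) ⟶ W := Over.homMk g₁ rfl
    let G₂ : Over.mk (g₁ ≫ W.hom) ⟶ W := Over.homMk g₂ hstr.symm
    have hG : G₁ ≫ snd = G₂ ≫ snd := Over.OverMorphism.ext hg'
    have h1 : ((AlgSp.yon S).map G₁ ≫ fst) ≫ f = ((AlgSp.yon S).map G₂ ≫ fst) ≫ f := by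
      rw [Category.assoc, Category.assoc, sq.w, ← Category.assoc, ← Category.assoc,
        ← Functor.map_comp, ← Functor.map_comp, hG]
    have h2 : (AlgSp.yon S).map G₁ ≫ fst = (AlgSp.yon S).map G₂ ≫ fst := h K (g₁ ≫ W.hom) h1
    have h3 : (AlgSp.yon S).map G₁ = (AlgSp.yon S).map G₂ := by
      apply sq.hom_ext h2
      rw [← Functor.map_comp, ← Functor.map_comp, hG]
    have h4 : G₁ = G₂ := (AlgSp.yon S).map_injective h3
    exact congrArg (fun φ => φ.left) h4

end Groth.Agent.Lib.H15.AS
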