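import Mathlib
import Groth.Prelude.Def_AlgSp
import Groth.Prelude.Def_AlgSp2
import Groth.Prelude.Def_AlgSp3
import Groth.Prelude.Def_AlgSp4
import Groth.Prelude.Def_Flat
import Groth.Agent.Lib.helper15.AlgSpUnivInj2
import Groth.Agent.Lib.helper15.AlgSpUnivInj
import Groth.Agent.Lib.helper15.AlgSpRepIff

set_option autoImplicit false
universe u
open CategoryTheory CategoryTheory.Limits AlgebraicGeometry Opposite Topology

namespace Groth.Agent.Lib.H15.AS

variable {S : Scheme.{u}}

/-- `h_φ` is a homeomorphism on points iff `φ` is a homeomorphism. -/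
theorem isHomeomorph_map_yon_map_iff {T T' : Over S} (φ : T ⟶ T') :
    IsHomeomorph (AlgSp.Points.map ((AlgSp.yon S).map φ)) ↔ IsHomeomorph (fun t => φ.left t) := by
  rw [AlgSp.Points.map_yon_map_eq]
  constructor
  · intro h
    have := ((AlgSp.Points.schemeHomeo T').symm.isHomeomorph.comp h).comp
      (AlgSp.Points.schemeHomeo T).isHomeomorph
    convert this using 1
    funext t
    simp
  · intro h
    exact (AlgSp.Points.schemeHomeo T').isHomeomorph.comp
      (h.comp (AlgSp.Points.schemeHomeo T).symm.isHomeomorph)

theorem isUnivHomeo_le_universallyOpen :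
    (FlatMor.IsUnivHomeo : MorphismProperty Scheme.{u}) ≤ @UniversallyOpen := by
  rw [UniversallyOpen.eq]
  exact MorphismProperty.universally_mono fun _ _ g (hg : IsHomeomorph _) => hg.isOpenMap

theorem isUnivHomeo_le_universallyInjective :
    (FlatMor.IsUnivHomeo : MorphismProperty Scheme.{u}) ≤ @UniversallyInjective := by
  rw [universallyInjective_eq]
  exact MorphismProperty.universally_mono fun _ _ g (hg : IsHomeomorph _) => hg.bijective.1

theorem isUnivHomeo_le_surjective :
    (FlatMor.IsUnivHomeo : MorphismProperty Scheme.{u}) ≤ @Surjective := by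
  intro A B g hg
  have : IsHomeomorph g := MorphismProperty.universally_le _ _ hg
  exact ⟨this.bijective.2⟩

/-- A morphism representable by universal homeomorphisms is a homeomorphism on points. -/
theorem isHomeomorph_points_map_of_repWith {A B : AlgSp.Sp S} {h : A ⟶ B}
    (hh : AlgSp.RepWith FlatMor.IsUnivHomeo h) : IsHomeomorph (AlgSp.Points.map h) := by
  refine ⟨AlgSp.Points.continuous_map h, ?_, ?_, ?_⟩
  · exact isOpenMap_points_map_of_repWith (repWith_mono isUnivHomeo_le_universallyOpen hh)
  · have h1 := (repWith_universallyInjective_iff_of_representable h hh.rep).1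
      (repWith_mono isUnivHomeo_le_universallyInjective hh)
    exact injective_points_map_of_surjective_diagonal h
      (surjective_diagonal_of_injective_fieldPts h h1)
  · exact isSurjectiveMor_of_repWith (repWith_mono isUnivHomeo_le_surjective hh)

/-- For representable `f`: representable universal homeomorphism iff universal homeomorphism. -/
theorem repWith_isUnivHomeo_iff {X Y : AlgSp.Sp S} {f : X ⟶ Y} (hf : AlgSp.Representable f) :
    AlgSp.RepWith FlatMor.IsUnivHomeo f ↔ AlgSp.IsUnivHomeoMor f := by
  constructor
  · intro h Z Z' _ g z1 z2 sq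
    exact isHomeomorph_points_map_of_repWith (MorphismProperty.of_isPullback sq h)
  · intro h
    rw [AlgSp.repWith_iff]
    refine ⟨hf, fun T W g fst s sq => ?_⟩
    intro W' T' i₁ i₂ s' hs'
    obtain ⟨s'', I₁, I₂, h1, -, -, sq'⟩ := isPullback_of_scheme_isPullback sq hs'
    have := (isHomeomorph_map_yon_map_iff s'').1 (h (AlgSp.IsAlgSpace.yon_obj _) _ _ _ sq')
    rw [h1] at this
    exact this

end Groth.Agent.Lib.H15.AS
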