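import Mathlib
import Groth.Prelude.Def_AlgSp
import Groth.Prelude.Def_AlgSp2
import Groth.Prelude.Def_AlgSp3
import Groth.Prelude.Def_AlgSp4
import Groth.Prelude.Def_AlgSpDec
import Groth.Agent.Lib.helper15.AlgSpFibreChart
import Groth.Agent.Lib.helper15.UnramLocus

set_option autoImplicit false
universe u
open CategoryTheory CategoryTheory.Limits AlgebraicGeometry Opposite Topology

namespace Groth.Agent.Lib.H15.AS

variable {S : Scheme.{u}}

/-- If `j ≫ f` is unramified etale locally, for `j : X' ⟶ X` representable by open immersions, then the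
points of `X'` lie in the image of the unramified locus of any chart with surjective source chart. -/
theorem range_subset_image_unramAt {X' X Y : AlgSp.Sp S} (j : X' ⟶ X) (f : X ⟶ Y)
    (hj : AlgSp.RepWith @IsOpenImmersion j)
    (hjf : AlgSp.LocP (@LocallyOfFiniteType ⊓ @FormallyUnramified) (j ≫ f))
    {U V : Over S} (a : (AlgSp.yon S).obj U ⟶ X) (b : (AlgSp.yon S).obj V ⟶ Y) (h : U ⟶ V)
    (hae : AlgSp.RepWith @Etale a) (has : AlgSp.RepWith @Surjective a) (hbe : AlgSp.RepWith @Etale b)
    (wh : a ≫ f = (AlgSp.yon S).map h ≫ b) :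
    Set.range (AlgSp.Points.map j) ⊆
      AlgSp.Points.ofPt a '' {u : ↥U.left | UL.UnramAt h.left u} := by
  rintro _ ⟨x1, rfl⟩
  have hrep : AlgSp.Representable j := hj.rep
  have sqj := hrep.isPullback a
  have hs : IsOpenImmersion (hrep.snd a).left := hj.property_snd a
  have ha1e : AlgSp.RepWith @Etale (hrep.fst a) := MorphismProperty.of_isPullback sqj.flip hae
  have ha1s : AlgSp.RepWith @Surjective (hrep.fst a) := MorphismProperty.of_isPullback sqj.flip has
  have w1 : hrep.fst a ≫ j ≫ f = (AlgSp.yon S).map (hrep.snd a ≫ h) ≫ b := by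
    rw [← Category.assoc, sqj.w, Category.assoc, wh, Functor.map_comp, Category.assoc]
  have hP := hjf (hrep.fst a) b (hrep.snd a ≫ h) ha1e hbe w1
  have hfu : FormallyUnramified ((hrep.snd a).left ≫ h.left) := hP.2
  obtain ⟨u1, rfl⟩ := surjective_ofPt _ ha1s x1
  refine ⟨(hrep.snd a).left u1, ?_, ?_⟩
  · refine ⟨(hrep.snd a).left.opensRange, ⟨u1, rfl⟩, ?_⟩
    have e : (hrep.snd a).left.isoOpensRange.hom ≫ (hrep.snd a).left.opensRange.ι =
        (hrep.snd a).left := Scheme.Hom.isoOpensRange_hom_ι _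
    rw [← e, Category.assoc] at hfu
    exact (MorphismProperty.cancel_left_of_respectsIso @FormallyUnramified _ _).1 hfu
  · rw [AlgSp.Points.map_ofPt, sqj.w, ofPt_yon_map_comp]

end Groth.Agent.Lib.H15.AS
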