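import Mathlib
import Groth.Prelude.Def_AlgSp
import Groth.Prelude.Def_AlgSp2
import Groth.Prelude.Def_AlgSp3
import Groth.Prelude.Def_AlgSp4
import Groth.Prelude.Def_AlgSpMor5

set_option autoImplicit false
universe u
open CategoryTheory CategoryTheory.Limits AlgebraicGeometry Opposite Topology

namespace Groth.Agent.Lib.H15.AS

variable {S : Scheme.{u}}

/-- Push a valuative square forward along a commutative square `fst ≫ f = f' ≫ g`. -/
noncomputable def valSqPush {X Y Z X' : AlgSp.Sp S} {f : X ⟶ Y} {g : Z ⟶ Y} {fst : X' ⟶ X}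
    {f' : X' ⟶ Z} (w : fst ≫ f = f' ≫ g) (sq : AlgSp.ValSq f') : AlgSp.ValSq f where
  A := sq.A
  K := sq.K
  str := sq.str
  top := sq.top ≫ fst
  bot := sq.bot ≫ g
  comm := by
    rw [Category.assoc, w, ← Category.assoc, sq.comm, Category.assoc]

/-- The uniqueness part of the valuative criterion is stable under base change. -/
theorem uniqVC_of_isPullback {X Y Z X' : AlgSp.Sp S} {f : X ⟶ Y} {g : Z ⟶ Y} {fst : X' ⟶ X}
    {f' : X' ⟶ Z} (sq : IsPullback fst f' f g) (hf : AlgSp.UniqVC f) : AlgSp.UniqVC f' := by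
  intro v l l' h1 h2 h1' h2'
  apply sq.hom_ext
  · apply hf (valSqPush sq.w v) (l ≫ fst) (l' ≫ fst)
    · exact (by rw [← Category.assoc, h1] : (AlgSp.yon S).map v.j ≫ l ≫ fst = v.top ≫ fst)
    · exact (by rw [Category.assoc, sq.w, ← Category.assoc, h2] : (l ≫ fst) ≫ f = v.bot ≫ g)
    · exact (by rw [← Category.assoc, h1'] : (AlgSp.yon S).map v.j ≫ l' ≫ fst = v.top ≫ fst)
    · exact (by rw [Category.assoc, sq.w, ← Category.assoc, h2'] : (l' ≫ fst) ≫ f = v.bot ≫ g)
  · rw [h2, h2']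

/-- The existence part of the valuative criterion is stable under base change. -/
theorem existVC_of_isPullback {X Y Z X' : AlgSp.Sp S} {f : X ⟶ Y} {g : Z ⟶ Y} {fst : X' ⟶ X}
    {f' : X' ⟶ Z} (sq : IsPullback fst f' f g) (hf : AlgSp.ExistVC f) : AlgSp.ExistVC f' := by
  intro v
  obtain ⟨e, l, hl1, hl2⟩ := hf (valSqPush sq.w v)
  let e' : v.DomExt :=
    { A' := e.A', K' := e.K', φ := e.φ, ψ := e.ψ, comm := e.comm, isLocalHom := e.isLocalHom }
  refine ⟨e', ?_⟩
  have hl2' : l ≫ f = ((AlgSp.yon S).map (Over.homMk (Spec.map (CommRingCat.ofHom e'.φ)) rfl :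
      e'.ptA' ⟶ v.ptA) ≫ v.bot) ≫ g := by
    rw [Category.assoc]; exact hl2
  refine ⟨sq.lift l _ hl2', ?_, sq.lift_snd _ _ _⟩
  apply sq.hom_ext
  · rw [Category.assoc, sq.lift_fst, Category.assoc]
    exact hl1
  · rw [Category.assoc, sq.lift_snd, Category.assoc, v.comm, ← Category.assoc, ← Category.assoc,
      ← Functor.map_comp, ← Functor.map_comp]
    congr 2
    ext
    change Spec.map _ ≫ Spec.map _ = Spec.map _ ≫ Spec.map _
    rw [← Spec.map_comp, ← Spec.map_comp, ← CommRingCat.ofHom_comp, ← CommRingCat.ofHom_comp,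
      e'.comm]

/-- The valuative square for `g` induced by one for `f ≫ g`. -/
noncomputable def valSqCompRight {X Y Z : AlgSp.Sp S} {f : X ⟶ Y} {g : Y ⟶ Z}
    (sq : AlgSp.ValSq (f ≫ g)) : AlgSp.ValSq g where
  A := sq.A
  K := sq.K
  str := sq.str
  top := sq.top ≫ f
  bot := sq.bot
  comm := by rw [Category.assoc]; exact sq.comm

/-- The valuative square for `f` induced by one for `f ≫ g` and a lift to `Y`. -/
noncomputable def valSqCompLeft {X Y Z : AlgSp.Sp S} {f : X ⟶ Y} {g : Y ⟶ Z}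
    (sq : AlgSp.ValSq (f ≫ g)) (m : (AlgSp.yon S).obj sq.ptA ⟶ Y)
    (hm : sq.top ≫ f = (AlgSp.yon S).map sq.j ≫ m) : AlgSp.ValSq f where
  A := sq.A
  K := sq.K
  str := sq.str
  top := sq.top
  bot := m
  comm := hm

/-- The uniqueness part of the valuative criterion is stable under composition. -/
theorem uniqVC_comp {X Y Z : AlgSp.Sp S} {f : X ⟶ Y} {g : Y ⟶ Z} (hf : AlgSp.UniqVC f)
    (hg : AlgSp.UniqVC g) : AlgSp.UniqVC (f ≫ g) := by
  intro v l l' h1 h2 h1' h2'
  have key : l ≫ f = l' ≫ f := by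
    apply hg (valSqCompRight v) (l ≫ f) (l' ≫ f)
    · exact (by rw [← Category.assoc, h1] : (AlgSp.yon S).map v.j ≫ l ≫ f = v.top ≫ f)
    · exact (by rw [Category.assoc]; exact h2 : (l ≫ f) ≫ g = v.bot)
    · exact (by rw [← Category.assoc, h1'] : (AlgSp.yon S).map v.j ≫ l' ≫ f = v.top ≫ f)
    · exact (by rw [Category.assoc]; exact h2' : (l' ≫ f) ≫ g = v.bot)
  have hm : v.top ≫ f = (AlgSp.yon S).map v.j ≫ (l ≫ f) := by rw [← Category.assoc, h1]
  exact hf (valSqCompLeft v (l ≫ f) hm) l l' h1 rfl h1' key.symm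

/-- The existence part of the valuative criterion is stable under composition. -/
theorem existVC_comp {X Y Z : AlgSp.Sp S} {f : X ⟶ Y} {g : Y ⟶ Z} (hf : AlgSp.ExistVC f)
    (hg : AlgSp.ExistVC g) : AlgSp.ExistVC (f ≫ g) := by
  intro v
  obtain ⟨e₁, l₁, hl1a, hl1b⟩ := hg (valSqCompRight v)
  let vf : AlgSp.ValSq f :=
    { A := e₁.A'
      K := e₁.K'
      str := Spec.map (CommRingCat.ofHom e₁.φ) ≫ v.str
      top := (AlgSp.yon S).map (Over.homMk (Spec.map (CommRingCat.ofHom e₁.ψ)) (by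
          change Spec.map _ ≫ Spec.map _ ≫ _ = Spec.map _ ≫ Spec.map _ ≫ _
          rw [← Spec.map_comp_assoc, ← Spec.map_comp_assoc, ← CommRingCat.ofHom_comp,
            ← CommRingCat.ofHom_comp, e₁.comm]
          rfl) : e₁.ptK' ⟶ v.ptK) ≫ v.top
      bot := l₁
      comm := by
        rw [Category.assoc]
        exact hl1a.symm }
  obtain ⟨e₂, l₂, hl2a, hl2b⟩ := hf vf
  have hloc1 := e₁.isLocalHom
  have hloc2 := e₂.isLocalHom
  let e : v.DomExt :=
    { A' := e₂.A'
      K' := e₂.K'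
      φ := e₂.φ.comp e₁.φ
      ψ := e₂.ψ.comp e₁.ψ
      comm := by
        have h2 := e₂.comm
        have h1 := e₁.comm
        rw [← RingHom.comp_assoc, h2, RingHom.comp_assoc]
        erw [h1]
        rw [RingHom.comp_assoc]
        rfl
      isLocalHom := ⟨fun a ha => hloc1.map_nonunit a (hloc2.map_nonunit (e₁.φ a) ha)⟩ }
  refine ⟨e, ?_⟩
  let i : e.ptA' ⟶ e₂.ptA' := Over.homMk (𝟙 _) (by
    change 𝟙 _ ≫ Spec.map _ ≫ Spec.map _ ≫ _ = Spec.map _ ≫ _
    rw [Category.id_comp, ← Spec.map_comp_assoc, ← CommRingCat.ofHom_comp]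
    rfl)
  let iK : e.ptK' ⟶ e₂.ptK' := Over.homMk (𝟙 _) (by
    change 𝟙 _ ≫ Spec.map _ ≫ Spec.map _ ≫ Spec.map _ ≫ _ = Spec.map _ ≫ Spec.map _ ≫ _
    rw [Category.id_comp, ← Spec.map_comp_assoc (CommRingCat.ofHom e₁.φ), ← CommRingCat.ofHom_comp]
    rfl)
  have hl2b' : l₂ ≫ f = (AlgSp.yon S).map (Over.homMk (Spec.map (CommRingCat.ofHom e₂.φ)) rfl :
      e₂.ptA' ⟶ vf.ptA) ≫ l₁ := hl2b
  have hl1b' : (l₁ : (AlgSp.yon S).obj vf.ptA ⟶ Y) ≫ g =
      (AlgSp.yon S).map (Over.homMk (Spec.map (CommRingCat.ofHom e₁.φ)) rfl : vf.ptA ⟶ v.ptA) ≫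
        v.bot := hl1b
  refine ⟨(AlgSp.yon S).map i ≫ l₂, ?_, ?_⟩
  · have hA : (Over.homMk (Spec.map (CommRingCat.ofHom (algebraMap e.A' e.K'))) rfl :
        e.ptK' ⟶ e.ptA') ≫ i = iK ≫ (Over.homMk
          (Spec.map (CommRingCat.ofHom (algebraMap e₂.A' e₂.K'))) rfl : e₂.ptK' ⟶ e₂.ptA') := by
      ext
      change Spec.map _ ≫ 𝟙 _ = 𝟙 _ ≫ Spec.map _
      rw [Category.comp_id, Category.id_comp]
    rw [← Category.assoc, ← Functor.map_comp, hA, Functor.map_comp, Category.assoc, hl2a,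
      ← Category.assoc, ← Functor.map_comp]
    change _ ≫ _ ≫ v.top = _
    rw [← Category.assoc, ← Functor.map_comp]
    congr 2
    ext
    change (𝟙 _ ≫ Spec.map _) ≫ Spec.map _ = Spec.map _
    rw [Category.id_comp, ← Spec.map_comp, ← CommRingCat.ofHom_comp]
  · rw [Category.assoc, ← Category.assoc l₂, hl2b', Category.assoc]
    erw [hl1b']
    rw [← Category.assoc, ← Category.assoc, ← Functor.map_comp, ← Functor.map_comp]
    congr 2
    ext
    change (𝟙 _ ≫ Spec.map _) ≫ Spec.map _ = Spec.map _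
    rw [Category.id_comp, ← Spec.map_comp, ← CommRingCat.ofHom_comp]

/-- A separated morphism satisfies the uniqueness part of the valuative criterion. -/
theorem uniqVC_of_isSeparatedMor {X Y : AlgSp.Sp S} {f : X ⟶ Y} (hf : AlgSp.IsSeparatedMor f) :
    AlgSp.UniqVC f := by
  intro v l l' h1 h2 h1' h2'
  have hf' : AlgSp.RepWith @IsClosedImmersion (pullback.diagonal f) := hf
  have hrep := hf'.rep
  let m : (AlgSp.yon S).obj v.ptA ⟶ pullback f f := pullback.lift l l' (by rw [h2, h2'])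
  have sqW := hrep.isPullback m
  have hci : IsClosedImmersion (hrep.snd m).left := hf'.property_snd m
  have hk : v.top ≫ pullback.diagonal f = (AlgSp.yon S).map v.j ≫ m := by
    apply pullback.hom_ext
    · rw [Category.assoc, pullback.diagonal_fst, Category.comp_id, Category.assoc,
        pullback.lift_fst, h1]
    · rw [Category.assoc, pullback.diagonal_snd, Category.comp_id, Category.assoc,
        pullback.lift_snd, h1']
  obtain ⟨k₀, hk₀⟩ := (AlgSp.yon S).map_surjective (sqW.lift v.top ((AlgSp.yon S).map v.j) hk)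
  have hk₀i : k₀ ≫ hrep.snd m = v.j := by
    apply (AlgSp.yon S).map_injective
    rw [Functor.map_comp, hk₀, sqW.lift_snd]
  have hex : ValuativeCriterion.Existence (hrep.snd m).left := by
    have : UniversallyClosed (hrep.snd m).left := inferInstance
    rw [UniversallyClosed.eq_valuativeCriterion] at this
    exact this.1
  let vs : ValuativeCommSq (hrep.snd m).left :=
    { R := v.A
      K := v.K
      i₁ := k₀.left
      i₂ := 𝟙 _
      commSq := ⟨by
        rw [Category.comp_id]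
        exact congrArg CommaMorphism.left hk₀i⟩ }
  obtain ⟨⟨s₀, hs1, hs2⟩⟩ := hex vs
  have hs2' : s₀ ≫ (hrep.snd m).left = 𝟙 _ := hs2
  let s : v.ptA ⟶ hrep.pullback m := Over.homMk s₀ (by
    have hw := Over.w (hrep.snd m)
    change s₀ ≫ (hrep.pullback m).hom = v.str
    rw [← hw, ← Category.assoc, hs2', Category.id_comp]
    rfl)
  have hsi : s ≫ hrep.snd m = 𝟙 _ := by
    ext
    exact hs2'
  have hn : ((AlgSp.yon S).map s ≫ hrep.fst m) ≫ pullback.diagonal f = m := by
    rw [Category.assoc, sqW.w, ← Category.assoc, ← Functor.map_comp, hsi,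
      CategoryTheory.Functor.map_id, Category.id_comp]
  have e1 : l = (AlgSp.yon S).map s ≫ hrep.fst m := by
    have := congrArg (· ≫ pullback.fst f f) hn
    simp only [Category.assoc, pullback.diagonal_fst, Category.comp_id] at this
    rw [this]
    exact (pullback.lift_fst _ _ _).symm
  have e2 : l' = (AlgSp.yon S).map s ≫ hrep.fst m := by
    have := congrArg (· ≫ pullback.snd f f) hn
    simp only [Category.assoc, pullback.diagonal_snd, Category.comp_id] at this
    rw [this]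
    exact (pullback.lift_snd _ _ _).symm
  rw [e1, e2]

end Groth.Agent.Lib.H15.AS
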