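import Mathlib

set_option autoImplicit false
universe u
open CategoryTheory CategoryTheory.Limits AlgebraicGeometry Topology

namespace Groth.Agent.Lib.H15

/-- For a morphism of affine schemes, the image of a closed set is closed as soon as it is stable under
specialization. -/
theorem isClosed_image_of_stableUnderSpecialization_of_isAffine {X Y : Scheme.{u}} [IsAffine X]
    [IsAffine Y] (f : X ⟶ Y) (Z : Set X) (hZ : IsClosed Z)
    (H : StableUnderSpecialization ((fun x => f x) '' Z)) : IsClosed ((fun x => f x) '' Z) := by
  have nat := Scheme.isoSpec_hom_naturality f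
  have hZ' : IsClosed ((fun x => X.isoSpec.hom x) '' Z) :=
    X.isoSpec.hom.homeomorph.isClosedMap _ hZ
  have himg : (fun y => Y.isoSpec.hom y) '' ((fun x => f x) '' Z) =
      (fun x => (Spec.map f.appTop) x) '' ((fun x => X.isoSpec.hom x) '' Z) := by
    rw [Set.image_image, Set.image_image]
    apply Set.image_congr
    intro x _
    change (f ≫ Y.isoSpec.hom) x = (X.isoSpec.hom ≫ Spec.map f.appTop) x
    rw [nat]
  have hst : StableUnderSpecialization ((fun y => Y.isoSpec.hom y) '' ((fun x => f x) '' Z)) :=
    (Y.isoSpec.hom.homeomorph.isClosedMap.specializingMap).stableUnderSpecialization_image H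
  rw [himg] at hst
  have hcl : IsClosed ((fun x => (Spec.map f.appTop) x) '' ((fun x => X.isoSpec.hom x) '' Z)) :=
    PrimeSpectrum.isClosed_image_of_stableUnderSpecialization f.appTop.hom _ hZ' hst
  rw [← himg] at hcl
  have : (fun x => f x) '' Z =
      (fun y => Y.isoSpec.hom y) ⁻¹' ((fun y => Y.isoSpec.hom y) '' ((fun x => f x) '' Z)) :=
    (Set.preimage_image_eq _ Y.isoSpec.hom.homeomorph.injective).symm
  rw [this]
  exact hcl.preimage Y.isoSpec.hom.continuous

end Groth.Agent.Lib.H15
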