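import Mathlib
import Groth.Prelude.Def_AlgSp
import Groth.Prelude.Def_AlgSp2
import Groth.Prelude.Def_AlgSp3
import Groth.Prelude.Def_AlgSp4
import Groth.Prelude.Def_AlgSpMor5
import Groth.Agent.Lib.helper15.AlgSpVal
import Groth.Agent.Lib.helper15.SpecImg
import Groth.Agent.Lib.helper15.AlgSpClosed
import Groth.Agent.Lib.helper15.AlgSpQC3
import Groth.Agent.Lib.helper15.AlgSpPoints3

set_option autoImplicit false
universe u
open CategoryTheory CategoryTheory.Limits AlgebraicGeometry Opposite Topology IsLocalRing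

namespace Groth.Agent.Lib.H15.AS

variable {S : Scheme.{u}}

set_option backward.isDefEq.respectTransparency.types false in
/-- Specializations in the base lift along a morphism satisfying the existence part of the valuative
criterion (up to replacing the source point by a specialization). -/
theorem exists_specializes_of_existVC {P : AlgSp.Sp S} {Z U : Over S}
    (snd : P ⟶ (AlgSp.yon S).obj Z) (he : AlgSp.ExistVC snd)
    (p : (AlgSp.yon S).obj U ⟶ P) (φ : U ⟶ Z) (hφ : (AlgSp.yon S).map φ = p ≫ snd) (u : ↥U.left)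
    (z' : ↥Z.left) (hspec : φ.left u ⤳ z') :
    ∃ w' : AlgSp.Points P, AlgSp.Points.ofPt p u ⤳ w' ∧
      AlgSp.Points.map snd w' = AlgSp.Points.schemeHomeo Z z' := by
  let X := U.left
  let Y := Z.left
  let f : X ⟶ Y := φ.left
  let stalk_y_to_residue_x' : Y.presheaf.stalk z' ⟶ X.residueField u :=
    Y.presheaf.stalkSpecializes hspec ≫ f.stalkMap u ≫ X.residue u
  obtain ⟨A, hA, hA_local⟩ := exists_factor_valuationRing stalk_y_to_residue_x'.hom
  let stalk_y_to_A : Y.presheaf.stalk z' ⟶ .of A :=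
    CommRingCat.ofHom (stalk_y_to_residue_x'.hom.codRestrict _ hA)
  have w : X.fromSpecResidueField u ≫ f =
      Spec.map (CommRingCat.ofHom (algebraMap A (X.residueField u))) ≫
        Spec.map stalk_y_to_A ≫ Y.fromSpecStalk z' := by
    rw [Scheme.fromSpecResidueField, Category.assoc, ← Scheme.SpecMap_stalkMap_fromSpecStalk,
      ← Scheme.SpecMap_stalkSpecializes_fromSpecStalk hspec]
    simp_rw [← Spec.map_comp_assoc]
    rfl
  -- the valuative square
  let botm : Over.mk ((Spec.map stalk_y_to_A ≫ Y.fromSpecStalk z') ≫ Z.hom) ⟶ Z :=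
    Over.homMk (Spec.map stalk_y_to_A ≫ Y.fromSpecStalk z') rfl
  let κ : Over.mk (Spec.map (CommRingCat.ofHom (algebraMap A (X.residueField u))) ≫
      (Spec.map stalk_y_to_A ≫ Y.fromSpecStalk z') ≫ Z.hom) ⟶ U :=
    Over.homMk (X.fromSpecResidueField u) (by
      have := Over.w φ
      change X.fromSpecResidueField u ≫ U.hom = _
      rw [← this, ← Category.assoc, w]
      simp only [Category.assoc]
      rfl)
  let v : AlgSp.ValSq snd :=
    { A := A
      K := X.residueField u
      str := (Spec.map stalk_y_to_A ≫ Y.fromSpecStalk z') ≫ Z.hom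
      top := (AlgSp.yon S).map κ ≫ p
      bot := (AlgSp.yon S).map botm
      comm := by
        have hκ : κ ≫ φ = (Over.homMk (Spec.map (CommRingCat.ofHom
            (algebraMap A (X.residueField u)))) rfl :
            Over.mk (Spec.map (CommRingCat.ofHom (algebraMap A (X.residueField u))) ≫
              (Spec.map stalk_y_to_A ≫ Y.fromSpecStalk z') ≫ Z.hom) ⟶
            Over.mk ((Spec.map stalk_y_to_A ≫ Y.fromSpecStalk z') ≫ Z.hom)) ≫ botm := by
          ext
          exact w
        calc ((AlgSp.yon S).map κ ≫ p) ≫ snd = (AlgSp.yon S).map κ ≫ (p ≫ snd) :=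
              Category.assoc _ _ _
          _ = (AlgSp.yon S).map κ ≫ (AlgSp.yon S).map φ := by rw [hφ]
          _ = (AlgSp.yon S).map (κ ≫ φ) := (Functor.map_comp _ _ _).symm
          _ = _ := by rw [hκ, Functor.map_comp] }
  obtain ⟨e, l, hl1, hl2⟩ := he v
  have hl1' : (AlgSp.yon S).map (Over.homMk (Spec.map (CommRingCat.ofHom (algebraMap e.A' e.K'))) rfl :
      e.ptK' ⟶ e.ptA') ≫ l = (AlgSp.yon S).map ((Over.homMk (Spec.map (CommRingCat.ofHom e.ψ)) (by
          change Spec.map _ ≫ Spec.map _ ≫ _ = Spec.map _ ≫ Spec.map _ ≫ _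
          rw [← Spec.map_comp_assoc, ← Spec.map_comp_assoc, ← CommRingCat.ofHom_comp,
            ← CommRingCat.ofHom_comp, e.comm]) : e.ptK' ⟶ v.ptK) ≫ κ) ≫ p := by
    rw [Functor.map_comp, Category.assoc]
    exact hl1
  have hl2' : l ≫ snd = (AlgSp.yon S).map ((Over.homMk (Spec.map (CommRingCat.ofHom e.φ)) rfl :
      e.ptA' ⟶ v.ptA) ≫ botm) := by
    rw [Functor.map_comp]
    exact hl2
  refine ⟨AlgSp.Points.ofPt l (closedPoint e.A'), ?_, ?_⟩
  · -- the generic point maps to `ofPt p u`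
    have hgen : AlgSp.Points.ofPt l ((Spec.map (CommRingCat.ofHom (algebraMap e.A' e.K')))
        (closedPoint e.K')) = AlgSp.Points.ofPt p u := by
      have h1 := ofPt_yon_map_comp (Over.homMk (Spec.map (CommRingCat.ofHom (algebraMap e.A' e.K')))
        rfl : e.ptK' ⟶ e.ptA') l (closedPoint e.K')
      rw [hl1', ofPt_yon_map_comp] at h1
      refine h1.symm.trans ?_
      congr 1
      change (X.fromSpecResidueField u) ((Spec.map (CommRingCat.ofHom e.ψ)) (closedPoint e.K')) = u
      exact Scheme.fromSpecResidueField_apply u _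
    rw [← hgen]
    exact (specializes_closedPoint _).map (AlgSp.Points.continuous_ofPt l)
  · rw [AlgSp.Points.map_ofPt, hl2']
    have h2 := ofPt_yon_map_comp ((Over.homMk (Spec.map (CommRingCat.ofHom e.φ)) rfl :
      e.ptA' ⟶ v.ptA) ≫ botm) (𝟙 _) (closedPoint e.A')
    rw [Category.comp_id] at h2
    rw [h2]
    change AlgSp.Points.ofPt (𝟙 _) _ = AlgSp.Points.ofPt (𝟙 _) z'
    congr 1
    change (Y.fromSpecStalk z') ((Spec.map stalk_y_to_A)
      ((Spec.map (CommRingCat.ofHom e.φ)) (closedPoint e.A'))) = z'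
    have hloc := e.isLocalHom
    have h3 : (Spec.map (CommRingCat.ofHom e.φ)) (closedPoint e.A') = closedPoint A :=
      comap_closedPoint e.φ
    have h4 : Spec.map stalk_y_to_A (closedPoint A) = closedPoint (Y.presheaf.stalk z') :=
      comap_closedPoint (S := A) (stalk_y_to_residue_x'.hom.codRestrict A.toSubring hA)
    rw [h3, h4, Y.fromSpecStalk_closedPoint]

end Groth.Agent.Lib.H15.AS

namespace Groth.Agent.Lib.H15.AS

variable {S : Scheme.{u}}

theorem ofPt_yon_map_eq_schemeHomeo {U Z : Over S} (φ : U ⟶ Z) (t : ↥U.left) :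
    AlgSp.Points.ofPt ((AlgSp.yon S).map φ) t = AlgSp.Points.schemeHomeo Z (φ.left t) := by
  have h2 := ofPt_yon_map_comp φ (𝟙 _) t
  rw [Category.comp_id] at h2
  exact h2

/-- A quasi-compact morphism of algebraic spaces satisfying the existence part of the valuative
criterion is universally closed. -/
theorem isUnivClosedMor_of_quasiCompact_existVC {X Y : AlgSp.Sp S} {f : X ⟶ Y}
    (hq : AlgSp.IsQuasiCompactMor f) (he : AlgSp.ExistVC f) : AlgSp.IsUnivClosedMor f := by
  apply isUnivClosedMor_of_affine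
  intro Z hZaff g P fst snd sq
  have hZ : AlgSp.IsAlgSpace ((AlgSp.yon S).obj Z) := AlgSp.IsAlgSpace.yon_obj Z
  have hPqc : AlgSp.IsQuasiCompactSp P := hq hZ (isQuasiCompactSp_yon Z) g fst snd sq
  obtain ⟨U, p, hUaff, hpe, hps⟩ := exists_affine_chart_of_isQuasiCompactSp hPqc
  obtain ⟨φ, hφ⟩ := (AlgSp.yon S).map_surjective (p ≫ snd)
  have he' : AlgSp.ExistVC snd := existVC_of_isPullback sq he
  intro W hW
  have hWU : IsClosed (AlgSp.Points.ofPt p ⁻¹' W) := hW.preimage (AlgSp.Points.continuous_ofPt p)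
  have hmap : ∀ t : ↥U.left, AlgSp.Points.map snd (AlgSp.Points.ofPt p t) =
      AlgSp.Points.schemeHomeo Z (φ.left t) := by
    intro t
    rw [AlgSp.Points.map_ofPt, ← hφ, ofPt_yon_map_eq_schemeHomeo]
  have himg : AlgSp.Points.map snd '' W = AlgSp.Points.schemeHomeo Z ''
      ((fun x => φ.left x) '' (AlgSp.Points.ofPt p ⁻¹' W)) := by
    ext x
    constructor
    · rintro ⟨w, hw, rfl⟩
      obtain ⟨t, rfl⟩ := surjective_ofPt p hps w
      exact ⟨φ.left t, ⟨t, hw, rfl⟩, (hmap t).symm⟩
    · rintro ⟨_, ⟨t, ht, rfl⟩, rfl⟩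
      exact ⟨AlgSp.Points.ofPt p t, ht, hmap t⟩
  rw [himg]
  apply (AlgSp.Points.schemeHomeo Z).isClosedMap
  apply Groth.Agent.Lib.H15.isClosed_image_of_stableUnderSpecialization_of_isAffine φ.left _ hWU
  rintro z z' hzz' ⟨t, ht, rfl⟩
  obtain ⟨w', hw1, hw2⟩ := exists_specializes_of_existVC snd he' p φ hφ t z' hzz'
  have hw'W : w' ∈ W := hW.stableUnderSpecialization hw1 ht
  obtain ⟨t', rfl⟩ := surjective_ofPt p hps w'
  refine ⟨t', hw'W, ?_⟩
  rw [hmap] at hw2
  exact (AlgSp.Points.schemeHomeo Z).injective hw2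

end Groth.Agent.Lib.H15.AS
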