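import Mathlib
import Groth.Prelude.Def_AlgSp
import Groth.Prelude.Def_AlgSp2
import Groth.Prelude.Def_AlgSp3
import Groth.Prelude.Def_AlgSp4
import Groth.Prelude.Def_AlgSpMor5
import Groth.Agent.Lib.helper15.AlgSpVal2
import Groth.Agent.Lib.helper15.AlgSpSep

set_option autoImplicit false
universe u
open CategoryTheory CategoryTheory.Limits AlgebraicGeometry Opposite Topology IsLocalRing

namespace Groth.Agent.Lib.H15.AS

variable {S : Scheme.{u}}

/-- The trivial dominating extension of a valuative square. -/
noncomputable def domExtId {F G : AlgSp.Sp S} {f : F ⟶ G} (v : AlgSp.ValSq f) : v.DomExt where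
  A' := v.A
  K' := v.K
  φ := RingHom.id _
  ψ := RingHom.id _
  comm := by rw [RingHom.comp_id, RingHom.id_comp]
  isLocalHom := ⟨fun _ h => h⟩

/-- A lift of a valuative square gives a lift after any dominating extension. -/
theorem domExt_hasLift_of_hasLift {F G : AlgSp.Sp S} {f : F ⟶ G} (v : AlgSp.ValSq f) (e : v.DomExt)
    (h : v.HasLift) : e.HasLift := by
  obtain ⟨l, hl1, hl2⟩ := h
  refine ⟨(AlgSp.yon S).map (Over.homMk (Spec.map (CommRingCat.ofHom e.φ)) rfl :
    e.ptA' ⟶ v.ptA) ≫ l, ?_, ?_⟩
  · rw [← hl1, ← Category.assoc, ← Category.assoc, ← Functor.map_comp, ← Functor.map_comp]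
    congr 2
    ext
    change Spec.map _ ≫ Spec.map _ = Spec.map _ ≫ Spec.map _
    rw [← Spec.map_comp, ← Spec.map_comp, ← CommRingCat.ofHom_comp, ← CommRingCat.ofHom_comp,
      e.comm]
  · rw [Category.assoc, hl2]

/-- The strict existence part of the valuative criterion implies the existence part. -/
theorem existVC_of_existVCStrict {F G : AlgSp.Sp S} {f : F ⟶ G} (h : AlgSp.ExistVCStrict f) :
    AlgSp.ExistVC f :=
  fun v => ⟨domExtId v, domExt_hasLift_of_hasLift v _ (h v)⟩

/-- If `f` satisfies the uniqueness part of the valuative criterion then its diagonal satisfies the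
(strict) existence part. -/
theorem existVCStrict_diagonal_of_uniqVC {X Y : AlgSp.Sp S} {f : X ⟶ Y} (hu : AlgSp.UniqVC f) :
    AlgSp.ExistVCStrict (pullback.diagonal f) := by
  intro v
  have ha : (AlgSp.yon S).map v.j ≫ v.bot ≫ pullback.fst f f = v.top := by
    rw [← Category.assoc, ← v.comm, Category.assoc, pullback.diagonal_fst, Category.comp_id]
  have hb : (AlgSp.yon S).map v.j ≫ v.bot ≫ pullback.snd f f = v.top := by
    rw [← Category.assoc, ← v.comm, Category.assoc, pullback.diagonal_snd, Category.comp_id]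
  let vf : AlgSp.ValSq f :=
    { A := v.A
      K := v.K
      str := v.str
      top := v.top
      bot := (v.bot ≫ pullback.fst f f) ≫ f
      comm := by rw [← Category.assoc, ← Category.assoc, Category.assoc _ v.bot, ha] }
  have hab : v.bot ≫ pullback.fst f f = v.bot ≫ pullback.snd f f :=
    hu vf (v.bot ≫ pullback.fst f f) (v.bot ≫ pullback.snd f f) ha rfl hb
      (by
        change (v.bot ≫ pullback.snd f f) ≫ f = (v.bot ≫ pullback.fst f f) ≫ f
        rw [Category.assoc, Category.assoc, pullback.condition])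
  refine ⟨v.bot ≫ pullback.fst f f, ha, ?_⟩
  apply pullback.hom_ext
  · rw [Category.assoc, pullback.diagonal_fst, Category.comp_id]
  · rw [Category.assoc, pullback.diagonal_snd, Category.comp_id, hab]

/-- A quasi-separated morphism of algebraic spaces satisfying the uniqueness part of the valuative
criterion is separated. -/
theorem isSeparatedMor_of_quasiSeparated_uniqVC {X Y : AlgSp.Sp S} (hX : AlgSp.IsAlgSpace X)
    (hY : AlgSp.IsAlgSpace Y) {f : X ⟶ Y} (hqs : AlgSp.IsQuasiSeparatedMor f)
    (hu : AlgSp.UniqVC f) : AlgSp.IsSeparatedMor f := by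
  rw [isSeparatedMor_iff_isUnivClosedMor_diagonal hX]
  exact isUnivClosedMor_of_quasiCompact_existVC
    ((isQuasiSeparatedMor_iff_isQuasiCompactMor_diagonal hX hY f).1 hqs)
    (existVC_of_existVCStrict (existVCStrict_diagonal_of_uniqVC hu))

end Groth.Agent.Lib.H15.AS
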