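import Mathlib.AlgebraicGeometry.Artinian
import Mathlib.AlgebraicGeometry.Morphisms.QuasiSeparated
import Mathlib.RingTheory.Ideal.MinimalPrime.Localization

set_option autoImplicit false
universe u
open CategoryTheory CategoryTheory.Limits AlgebraicGeometry TopologicalSpace

namespace Groth.Agent.Lib.H15

/-- In a ring all of whose primes are maximal, an element of a prime `p` is killed, up to a power,
by an element outside of `p`. -/
lemma exists_notMem_mul_pow_eq_zero_of_minimal {R : Type*} [CommRing R] (p : Ideal R) [p.IsPrime]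
    (hp : p ∈ minimalPrimes R) {x : R} (hx : x ∈ p) :
    ∃ y ∉ p, ∃ n : ℕ, y * x ^ n = 0 := by
  have h := IsLocalization.AtPrime.radical_map_of_mem_minimalPrimes
    (A := Localization.AtPrime p) p ⊥ hp
  rw [Ideal.map_bot] at h
  have hx' : algebraMap R (Localization.AtPrime p) x ∈ (⊥ : Ideal (Localization.AtPrime p)).radical := by
    rw [h]; exact Ideal.mem_map_of_mem _ hx
  obtain ⟨n, hn⟩ := hx'
  rw [Ideal.mem_bot, ← map_pow, IsLocalization.map_eq_zero_iff p.primeCompl] at hn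
  obtain ⟨t, ht⟩ := hn
  exact ⟨t.1, t.2, n, ht⟩

theorem t2Space_primeSpectrum_of_krullDimLE_zero (R : Type*) [CommRing R] [Ring.KrullDimLE 0 R] :
    T2Space (PrimeSpectrum R) := by
  refine ⟨fun p q hpq => ?_⟩
  have hpmax : p.asIdeal.IsMaximal := Ideal.isMaximal_of_isPrime _
  have hqmax : q.asIdeal.IsMaximal := Ideal.isMaximal_of_isPrime _
  have hpmin : p.asIdeal ∈ minimalPrimes R := Ideal.mem_minimalPrimes_iff_isPrime.mpr p.2
  -- an element of `p` not in `q`
  obtain ⟨x, hxp, hxq⟩ : ∃ x ∈ p.asIdeal, x ∉ q.asIdeal := by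
    by_contra! H
    exact hpq (PrimeSpectrum.ext (hpmax.eq_of_le hqmax.ne_top H))
  obtain ⟨y, hyp, n, hy⟩ := exists_notMem_mul_pow_eq_zero_of_minimal p.asIdeal hpmin hxp
  refine ⟨PrimeSpectrum.basicOpen y, PrimeSpectrum.basicOpen (x ^ n),
    (PrimeSpectrum.basicOpen y).isOpen, (PrimeSpectrum.basicOpen (x ^ n)).isOpen, hyp,
    fun h => hxq (q.2.mem_of_pow_mem n h), ?_⟩
  rw [Set.disjoint_iff_inter_eq_empty, ← TopologicalSpace.Opens.coe_inf,
    ← PrimeSpectrum.basicOpen_mul, hy]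
  simp

variable {X : Scheme.{u}}

lemma krullDimLE_zero_of_isAffineOpen (h : topologicalKrullDim X ≤ 0) (U : X.affineOpens) :
    Ring.KrullDimLE 0 Γ(X, U) := by
  rw [Ring.KrullDimLE, Order.krullDimLE_iff, ← ringKrullDim,
    Nat.cast_zero, ← PrimeSpectrum.topologicalKrullDim_eq_ringKrullDim Γ(X, U)]
  change topologicalKrullDim (Spec Γ(X, U)) ≤ 0
  rw [← IsHomeomorph.topologicalKrullDim_eq _ U.2.isoSpec.hom.homeomorph.isHomeomorph]
  exact (topologicalKrullDim_subspace_le X U).trans h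

lemma t2Space_of_isAffineOpen (h : topologicalKrullDim X ≤ 0) {U : X.Opens} (hU : IsAffineOpen U) :
    T2Space (U : Set X) := by
  have := krullDimLE_zero_of_isAffineOpen h ⟨U, hU⟩
  have : T2Space (Spec Γ(X, U)) := t2Space_primeSpectrum_of_krullDimLE_zero Γ(X, U)
  exact (hU.isoSpec.hom.homeomorph.symm.t2Space :)

/-- A quasi-separated scheme of dimension `≤ 0` is Hausdorff. -/
theorem t2Space_of_topologicalKrullDim_le_zero [QuasiSeparatedSpace X]
    (h : topologicalKrullDim X ≤ 0) : T2Space X := by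
  refine ⟨fun x y hxy => ?_⟩
  obtain ⟨_, ⟨U, hU : IsAffineOpen U, rfl⟩, hxU, -⟩ :=
    X.isBasis_affineOpens.exists_subset_of_mem_open (Set.mem_univ x) isOpen_univ
  obtain ⟨_, ⟨V, hV : IsAffineOpen V, rfl⟩, hyV, -⟩ :=
    X.isBasis_affineOpens.exists_subset_of_mem_open (Set.mem_univ y) isOpen_univ
  by_cases hyU : y ∈ U
  · have : T2Space (U : Set X) := t2Space_of_isAffineOpen h hU
    have hne : (⟨x, hxU⟩ : (U : Set X)) ≠ ⟨y, hyU⟩ := fun e => hxy (congrArg Subtype.val e)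
    obtain ⟨A, B, hA, hB, hxA, hyB, hAB⟩ := t2_separation hne
    refine ⟨Subtype.val '' A, Subtype.val '' B, U.isOpen.isOpenMap_subtype_val A hA,
      U.isOpen.isOpenMap_subtype_val B hB, ⟨_, hxA, rfl⟩, ⟨_, hyB, rfl⟩, ?_⟩
    exact (Set.disjoint_image_iff Subtype.val_injective).mpr hAB
  · have : T2Space (V : Set X) := t2Space_of_isAffineOpen h hV
    have hc : IsCompact ((U : Set X) ∩ V) :=
      QuasiSeparatedSpace.inter_isCompact _ _ U.isOpen hU.isCompact V.isOpen hV.isCompact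
    have hc' : IsCompact ((Subtype.val : ↥(V : Set X) → X) ⁻¹' ((U : Set X) ∩ V)) :=
      (Topology.IsInducing.subtypeVal.isCompact_preimage_iff
        (by simp)).mpr hc
    have hcl : IsClosed ((Subtype.val : ↥(V : Set X) → X) ⁻¹' ((U : Set X) ∩ V)) := hc'.isClosed
    have hop : IsOpen (Subtype.val '' ((Subtype.val : ↥(V : Set X) → X) ⁻¹' ((U : Set X) ∩ V))ᶜ) :=
      V.isOpen.isOpenMap_subtype_val _ hcl.isOpen_compl
    refine ⟨U, _, U.isOpen, hop, hxU, ⟨⟨y, hyV⟩, fun hh => hyU hh.1, rfl⟩, ?_⟩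
    rw [Set.disjoint_left]
    rintro z hzU ⟨⟨w, hwV⟩, hw, rfl⟩
    exact hw ⟨hzU, hwV⟩

end Groth.Agent.Lib.H15
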