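import Mathlib
import Groth.Agent.Lib.helper15.FibreDimZero
import Groth.Agent.Lib.helper15.AlgSpDimEtale

set_option autoImplicit false
universe u
open CategoryTheory CategoryTheory.Limits AlgebraicGeometry Opposite Topology

namespace Groth.Agent.Lib.H15

/-- In a locally Noetherian scheme, if all points of an open set have local rings of the same dimension as the
local ring at a point `x` of it, then `x` is an open point. -/
theorem isOpen_singleton_of_forall_ringKrullDim_eq {X : Scheme.{u}} [IsLocallyNoetherian X]
    (O : X.Opens) (x : X) (hx : x ∈ O)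
    (H : ∀ x' ∈ O, ringKrullDim ↥(X.presheaf.stalk x') = ringKrullDim ↥(X.presheaf.stalk x)) :
    IsOpen ({x} : Set X) := by
  have hfin : ∀ x' : X, Order.coheight x' < ⊤ := by
    intro x'
    have h1 : ringKrullDim ↥(X.presheaf.stalk x') < ⊤ := ringKrullDim_lt_top
    rw [ringKrullDim_stalk_eq_coheight, ← WithBot.coe_top, WithBot.coe_lt_coe] at h1
    exact h1
  have hco : ∀ x' ∈ O, Order.coheight x' = Order.coheight x := by
    intro x' hx'
    have := H x' hx'
    rw [ringKrullDim_stalk_eq_coheight, ringKrullDim_stalk_eq_coheight] at this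
    exact_mod_cast this
  have hzero : ∀ x' ∈ O, Order.coheight x' = 0 := by
    intro x' hx'
    rw [Order.coheight_eq_zero]
    intro x'' hle
    by_contra hnle
    have hlt : x' < x'' := lt_of_le_not_ge hle hnle
    have hx'' : x'' ∈ O := (Scheme.le_iff_specializes.1 hle).mem_open O.2 hx'
    have := Order.coheight_strictAnti hlt (hfin x'')
    rw [hco x' hx', hco x'' hx''] at this
    exact lt_irrefl _ this
  obtain ⟨_, ⟨A, hA, rfl⟩, hxA, hAO⟩ := X.isBasis_affineOpens.exists_subset_of_mem_open hx O.isOpen
  apply isOpen_singleton_of_localDim_eq_zero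
  refine le_antisymm ?_ (Groth.Agent.H9TopDim.localDim_nonneg x)
  refine (Groth.Agent.H9TopDim.localDim_le_dim_open A x hxA).trans ?_
  rw [AS.topologicalKrullDim_opens_eq_iSup_coheight]
  refine iSup_le fun a => ?_
  rw [hzero a.1 (hAO a.2)]
  rfl

end Groth.Agent.Lib.H15
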