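import Mathlib
import Groth.Prelude.Def_MoreMor

set_option autoImplicit false
universe u
open CategoryTheory CategoryTheory.Limits AlgebraicGeometry

namespace Groth.Agent.Lib.H15

/-- The closed immersion `Spec (A ⧸ I) ⟶ Spec A` is surjective on points when `I ^ 2 = ⊥`. -/
theorem surjective_specMap_mk_of_sq_eq_bot {A : Type u} [CommRing A] (I : Ideal A) (hI : I ^ 2 = ⊥) :
    Function.Surjective (Spec.map (CommRingCat.ofHom (Ideal.Quotient.mk I))) := by
  intro p
  have hp : (p : PrimeSpectrum A) ∈ Set.range (PrimeSpectrum.comap (Ideal.Quotient.mk I)) := by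
    rw [range_comap_of_surjective _ _ Ideal.Quotient.mk_surjective, Ideal.mk_ker]
    intro x hx
    have : x ^ 2 ∈ (⊥ : Ideal A) := by
      rw [← hI]
      exact Ideal.pow_mem_pow hx 2
    have h0 : x ^ 2 = 0 := this
    have : x ^ 2 ∈ (p : PrimeSpectrum A).asIdeal := by rw [h0]; exact Ideal.zero_mem _
    exact (p : PrimeSpectrum A).isPrime.mem_of_pow_mem 2 this
  obtain ⟨q, hq⟩ := hp
  exact ⟨q, hq⟩

/-- A morphism from `Spec A` whose restriction to `Spec (A ⧸ I)` lands in the open `U` factors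
through `U`, when `I ^ 2 = ⊥`. -/
theorem range_subset_of_sq_eq_bot {A : Type u} [CommRing A] (I : Ideal A) (hI : I ^ 2 = ⊥)
    {X : Scheme.{u}} (U : X.Opens) (l : Spec (CommRingCat.of A) ⟶ X)
    (a : Spec (CommRingCat.of (A ⧸ I)) ⟶ U.toScheme)
    (hl : Spec.map (CommRingCat.ofHom (Ideal.Quotient.mk I)) ≫ l = a ≫ U.ι) :
    Set.range l ⊆ Set.range U.ι := by
  rintro _ ⟨p, rfl⟩
  obtain ⟨q, rfl⟩ := surjective_specMap_mk_of_sq_eq_bot I hI p
  rw [← Scheme.Hom.comp_apply, hl, Scheme.Hom.comp_apply]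
  exact ⟨_, rfl⟩

end Groth.Agent.Lib.H15
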