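import Groth.Prelude.Def_W4stk3formalspacesTaut

set_option autoImplicit false
universe u v w

namespace Groth.Agent.Lib.H15.LT

section
variable {A : Type u} [CommRing A] [TopologicalSpace A] [IsTopologicalRing A]

/-- an open ideal is closed -/
lemma isClosed_of_isOpen {I : Ideal A} (hI : IsOpen (I : Set A)) : IsClosed (I : Set A) :=
  I.toAddSubgroup.isClosed_of_isOpen hI

lemma closure_eq_of_isOpen {I : Ideal A} (hI : IsOpen (I : Set A)) :
    closure (I : Set A) = (I : Set A) :=
  (isClosed_of_isOpen hI).closure_eq

/-- the closure of an ideal containing an open ideal is open -/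
lemma isOpen_closure_of_le {I J : Ideal A} (hI : IsOpen (I : Set A))
    (h : (I : Set A) ⊆ closure (J : Set A)) : IsOpen (closure (J : Set A)) := by
  rw [← Ideal.coe_closure]
  exact Ideal.isOpen_of_isOpen_subideal (U := I) (fun x hx => by
    rw [← SetLike.mem_coe, Ideal.coe_closure]; exact h hx) hI

lemma le_closure (I : Ideal A) : I ≤ I.closure := fun _ hx => subset_closure hx

lemma closure_mono {I J : Ideal A} (h : I ≤ J) : I.closure ≤ J.closure := fun x hx => by
  rw [← SetLike.mem_coe, Ideal.coe_closure] at hx ⊢
  exact _root_.closure_mono (fun y hy => h hy) hx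

lemma closure_mul_closure_le (K L : Ideal A) : K.closure * L.closure ≤ (K * L).closure := by
  rw [Ideal.mul_le]
  intro x hx y hy
  rw [← SetLike.mem_coe, Ideal.coe_closure] at hx hy ⊢
  exact map_mem_closure₂ continuous_mul hx hy (fun a ha b hb => Ideal.mul_mem_mul ha hb)

lemma closure_pow_le (K : Ideal A) (n : ℕ) : K.closure ^ n ≤ (K ^ n).closure := by
  induction n with
  | zero => simp only [pow_zero, Ideal.one_eq_top]; exact le_closure _
  | succ n ih =>
    rw [pow_succ, pow_succ]
    exact (Ideal.mul_mono_left ih).trans (closure_mul_closure_le _ _)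

end

section
variable {A : Type u} [CommRing A] [TopologicalSpace A] [IsTopologicalRing A]
variable {B : Type v} [CommRing B] [TopologicalSpace B] [IsTopologicalRing B]

/-- the preimage of an open ideal under a continuous ring hom is an open ideal -/
lemma isOpen_comap {φ : A →+* B} (hφ : Continuous φ) {J : Ideal B} (hJ : IsOpen (J : Set B)) :
    IsOpen ((J.comap φ : Ideal A) : Set A) := hJ.preimage hφ

lemma map_closure_le {φ : A →+* B} (hφ : Continuous φ) (I : Ideal A) :
    I.closure.map φ ≤ (I.map φ).closure := by
  rw [Ideal.map_le_iff_le_comap]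
  intro x hx
  rw [← SetLike.mem_coe, Ideal.coe_closure] at hx
  rw [Ideal.mem_comap, ← SetLike.mem_coe, Ideal.coe_closure]
  exact map_mem_closure hφ hx (fun a ha => Ideal.mem_map_of_mem φ ha)

lemma closure_map_closure_eq {φ : A →+* B} (hφ : Continuous φ) (I : Ideal A) :
    (I.closure.map φ).closure = (I.map φ).closure := by
  apply le_antisymm
  · have := closure_mono (map_closure_le hφ I)
    refine this.trans ?_
    intro x hx
    rw [← SetLike.mem_coe, Ideal.coe_closure, Ideal.coe_closure, closure_closure] at hx
    rwa [← SetLike.mem_coe, Ideal.coe_closure]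
  · exact closure_mono (Ideal.map_mono (le_closure I))

end

end Groth.Agent.Lib.H15.LT
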