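import Groth.Agent.Lib.helper15.LinTopBasic
import Mathlib.Topology.Algebra.UniformRing

set_option autoImplicit false
universe u v w

namespace Groth.Agent.Lib.H15.LT

open LinTop Filter Topology UniformSpace

variable {A : Type u} [CommRing A] [UniformSpace A] [IsUniformAddGroup A] [IsTopologicalRing A]

/-- the closure in the completion of the image of an ideal, as an ideal of the completion -/
def closureIdeal (I : Ideal A) : Ideal (Completion A) where
  carrier := closure ((fun a : A => (a : Completion A)) '' (I : Set A))
  add_mem' {x y} hx hy := by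
    refine map_mem_closure₂ continuous_add hx hy ?_
    rintro _ ⟨a, ha, rfl⟩ _ ⟨b, hb, rfl⟩
    exact ⟨a + b, I.add_mem ha hb, Completion.coe_add a b⟩
  zero_mem' := subset_closure ⟨0, I.zero_mem, Completion.coe_zero⟩
  smul_mem' b x hx := by
    have hb : b ∈ closure (Set.range (fun a : A => (a : Completion A))) :=
      (Completion.denseRange_coe (α := A)).closure_eq ▸ Set.mem_univ b
    refine map_mem_closure₂ continuous_mul hb hx ?_
    rintro _ ⟨a, rfl⟩ _ ⟨i, hi, rfl⟩
    exact ⟨a * i, I.mul_mem_left a hi, Completion.coe_mul a i⟩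

lemma coe_closureIdeal (I : Ideal A) :
    ((closureIdeal I : Ideal (Completion A)) : Set (Completion A)) =
      closure ((fun a : A => (a : Completion A)) '' (I : Set A)) := rfl

lemma map_le_closureIdeal (I : Ideal A) :
    I.map (Completion.coeRingHom : A →+* Completion A) ≤ closureIdeal I := by
  rw [Ideal.map_le_iff_le_comap]
  intro a ha
  exact subset_closure ⟨a, ha, rfl⟩

lemma closure_map_eq (I : Ideal A) :
    closure ((I.map (Completion.coeRingHom : A →+* Completion A) : Ideal (Completion A)) :
      Set (Completion A)) = (closureIdeal I : Set (Completion A)) := by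
  apply Set.Subset.antisymm
  · exact closure_minimal (fun x hx => map_le_closureIdeal I hx) isClosed_closure
  · apply _root_.closure_mono
    rintro _ ⟨a, ha, rfl⟩
    exact Ideal.mem_map_of_mem (Completion.coeRingHom : A →+* Completion A) ha

lemma closureIdeal_mem_nhds {I : Ideal A} (hI : (I : Set A) ∈ 𝓝 (0 : A)) :
    ((closureIdeal I : Ideal (Completion A)) : Set (Completion A)) ∈ 𝓝 (0 : Completion A) := by
  have := Completion.isDenseInducing_coe.closure_image_mem_nhds hI
  rwa [Completion.coe_zero] at this

lemma isOpen_closureIdeal {I : Ideal A} (hI : (I : Set A) ∈ 𝓝 (0 : A)) :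
    IsOpen ((closureIdeal I : Ideal (Completion A)) : Set (Completion A)) :=
  (closureIdeal I).toAddSubgroup.isOpen_of_mem_nhds (closureIdeal_mem_nhds hI)

variable [IsLinearTopology A A]

lemma exists_closureIdeal_subset {U : Set (Completion A)} (hU : U ∈ 𝓝 (0 : Completion A)) :
    ∃ I : Ideal A, IsOpen (I : Set A) ∧
      ((closureIdeal I : Ideal (Completion A)) : Set (Completion A)) ⊆ U := by
  obtain ⟨W, ⟨hW, hWcl⟩, hWU⟩ := (closed_nhds_basis (0 : Completion A)).mem_iff.mp hU
  have hpre : (fun a : A => (a : Completion A)) ⁻¹' W ∈ 𝓝 (0 : A) := by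
    have hc : Continuous (fun a : A => (a : Completion A)) := Completion.continuous_coe A
    have := hc.tendsto 0
    rw [Completion.coe_zero] at this
    exact this hW
  obtain ⟨I, hIop, hI⟩ := (IsLinearTopology.hasBasis_open_ideal (R := A)).mem_iff.mp hpre
  refine ⟨I, hIop, subset_trans ?_ hWU⟩
  refine closure_minimal ?_ hWcl
  rintro _ ⟨a, ha, rfl⟩
  exact hI ha

instance isLinearTopology_completion : IsLinearTopology (Completion A) (Completion A) := by
  have hbasis : (𝓝 (0 : Completion A)).HasBasis (fun I : Ideal A => IsOpen (I : Set A))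
      (fun I => ((closureIdeal I : Ideal (Completion A)) : Set (Completion A))) := by
    refine ⟨fun U => ⟨fun hU => ?_, ?_⟩⟩
    · exact exists_closureIdeal_subset hU
    · rintro ⟨I, hIop, hI⟩
      exact mem_of_superset (closureIdeal_mem_nhds (hIop.mem_nhds I.zero_mem)) hI
  exact IsLinearTopology.mk_of_hasBasis (Completion A) hbasis

/-- the canonical map to the completion is taut -/
lemma isTaut_coeRingHom : IsTaut (Completion.coeRingHom : A →+* Completion A) := by
  refine ⟨Completion.continuous_coeRingHom, ?_, ?_⟩
  · intro I hI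
    rw [closure_map_eq]
    exact isOpen_closureIdeal (hI.mem_nhds I.zero_mem)
  · intro U hU
    obtain ⟨I, hIop, hI⟩ := exists_closureIdeal_subset hU
    exact ⟨I, hIop, by rw [closure_map_eq]; exact hI⟩

end Groth.Agent.Lib.H15.LT
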