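import Groth.Agent.Lib.helper15.LinTopBasic

set_option autoImplicit false
universe u v w

namespace Groth.Agent.Lib.H15.LT

open LinTop

variable {A : Type u} [CommRing A] [TopologicalSpace A]
variable {B : Type v} [CommRing B] [TopologicalSpace B] [IsTopologicalRing B]

/-- In the taut faithfully flat situation, an open ideal is the preimage of the closure of the
ideal it generates. -/
lemma comap_closure_map_eq {φ : A →+* B} (hφ : IsTautFFlat φ) {I : Ideal A}
    (hI : IsOpen (I : Set A)) : (I.map φ).closure.comap φ = I := by
  apply le_antisymm
  · intro x hx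
    have hinj := (hφ.2 I hI).injective
    have h0 : descentMap φ I (Ideal.Quotient.mk I x) = 0 := by
      change Ideal.quotientMap _ φ _ (Ideal.Quotient.mk I x) = 0
      rw [Ideal.quotientMap_mk, Ideal.Quotient.eq_zero_iff_mem]
      exact hx
    have := hinj (h0.trans (map_zero _).symm)
    exact Ideal.Quotient.eq_zero_iff_mem.mp this
  · exact Ideal.le_comap_map.trans (Ideal.comap_mono (le_closure _))

end Groth.Agent.Lib.H15.LT
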