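import Groth.Agent.Lib.helper15.LinTopBasic

set_option autoImplicit false
universe u v w

namespace Groth.Agent.Lib.H15.LT

open LinTop Filter Topology

variable {A : Type u} [CommRing A] [TopologicalSpace A] [IsTopologicalRing A]

/-- a weakly pre-adic ring is pre-admissible -/
lemma isPreadmissible_of_isWeaklyPreadic (hA : IsWeaklyPreadic A) : IsPreadmissible A := by
  obtain ⟨hlin, I, hIop, hIbasis⟩ := hA
  refine ⟨hlin, I.closure, ?_, ?_⟩
  · have := hIop 1
    rwa [pow_one, ← Ideal.coe_closure] at this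
  · intro U hU
    obtain ⟨n, hn⟩ := hIbasis U hU
    refine ⟨n + 1, Nat.succ_pos n, ?_⟩
    intro x hx
    apply hn
    have h1 : I.closure ^ (n + 1) ≤ I.closure ^ n := Ideal.pow_le_pow_right (Nat.le_succ n)
    have := closure_pow_le I n (h1 hx)
    rwa [← SetLike.mem_coe, Ideal.coe_closure] at this

/-- in a weakly pre-adic ring, the closures of the powers of every ideal of definition are open -/
lemma isOpen_closure_pow_of_isWeaklyPreadic (hA : IsWeaklyPreadic A) {J : Ideal A}
    (hJ : IsIdealOfDefinition A J) (n : ℕ) : IsOpen (closure ((J ^ n : Ideal A) : Set A)) := by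
  obtain ⟨hlin, K, hKop, hKbasis⟩ := hA
  obtain ⟨m, hm⟩ := hKbasis _ (hJ.1.mem_nhds J.zero_mem)
  have hKJ : K ^ m ≤ J := fun x hx => hm (subset_closure hx)
  have hle : K ^ (m * n) ≤ J ^ n := by
    rw [pow_mul]; exact Ideal.pow_right_mono hKJ n
  have hop : IsOpen (((K ^ (m * n)).closure : Ideal A) : Set A) := by
    rw [Ideal.coe_closure]; exact hKop _
  rw [← Ideal.coe_closure]
  exact Ideal.isOpen_of_isOpen_subideal (closure_mono hle) hop

/-- a linearly topologized ring with an ideal of definition whose positive powers have open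
closures is weakly pre-adic -/
lemma isWeaklyPreadic_of_isIdealOfDefinition [IsLinearTopology A A] {I : Ideal A}
    (hI : IsIdealOfDefinition A I)
    (hop : ∀ n : ℕ, 0 < n → IsOpen (closure ((I ^ n : Ideal A) : Set A))) :
    IsWeaklyPreadic A := by
  refine ⟨inferInstance, I, ?_, ?_⟩
  · intro n
    rcases Nat.eq_zero_or_pos n with rfl | hn
    · simp
    · exact hop n hn
  · intro U hU
    obtain ⟨I', hI'op, hI'U⟩ := (IsLinearTopology.hasBasis_open_ideal (R := A)).mem_iff.mp hU
    obtain ⟨n, -, hn⟩ := hI.2 _ (hI'op.mem_nhds I'.zero_mem)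
    refine ⟨n, subset_trans ?_ hI'U⟩
    exact closure_minimal hn (isClosed_of_isOpen hI'op)

end Groth.Agent.Lib.H15.LT
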