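import Groth.Agent.Lib.helper15.LinTopSeries
import Groth.Agent.Lib.helper15.LinTopWP

set_option autoImplicit false
universe u v w

namespace Groth.Agent.Lib.H15.LT

open LinTop Filter Topology

section
variable {A : Type u} [CommRing A] [TopologicalSpace A] [IsTopologicalRing A]

/-- the closure of an ideal is contained in its sum with any open ideal -/
lemma closure_le_sup_of_isOpen (N : Ideal A) {V : Ideal A} (hV : IsOpen (V : Set A)) :
    N.closure ≤ N ⊔ V := by
  intro x hx
  rw [← SetLike.mem_coe, Ideal.coe_closure] at hx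
  have hnhd : {z | z - x ∈ V} ∈ 𝓝 x := by
    have hc : Continuous fun z : A => z - x := by fun_prop
    have : Tendsto (fun z : A => z - x) (𝓝 x) (𝓝 0) := by
      have := hc.tendsto x
      simpa using this
    exact this (hV.mem_nhds V.zero_mem)
  obtain ⟨y, hy1, hy2⟩ := mem_closure_iff_nhds.mp hx _ hnhd
  have : x = y + (-(y - x)) := by ring
  rw [this]
  exact Submodule.add_mem_sup hy2 (V.neg_mem hy1)

/-- if `I ≤ J ⊔ closure (I²)` with `J ≤ I`, then `I^n ≤ J^n ⊔ closure (I^(n+1))`. -/
lemma pow_le_pow_sup_closure {I J : Ideal A} (hJI : J ≤ I) (h : I ≤ J ⊔ (I ^ 2).closure) (n : ℕ) :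
    I ^ n ≤ J ^ n ⊔ (I ^ (n + 1)).closure := by
  have hc : ∀ a b : ℕ, (I ^ a).closure * (I ^ b).closure ≤ (I ^ (a + b)).closure := by
    intro a b
    rw [pow_add]; exact closure_mul_closure_le _ _
  have hJc : ∀ a : ℕ, J ^ a ≤ (I ^ a).closure :=
    fun a => (Ideal.pow_right_mono hJI a).trans (le_closure _)
  have hmono : ∀ {a b : ℕ}, a ≤ b → (I ^ b).closure ≤ (I ^ a).closure :=
    fun hab => closure_mono (Ideal.pow_le_pow_right hab)
  induction n with
  | zero => simp
  | succ n ih =>
    calc I ^ (n + 1) = I ^ n * I := pow_succ _ _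
      _ ≤ (J ^ n ⊔ (I ^ (n + 1)).closure) * (J ⊔ (I ^ 2).closure) := Ideal.mul_mono ih h
      _ = J ^ n * J ⊔ J ^ n * (I ^ 2).closure ⊔
            ((I ^ (n + 1)).closure * J ⊔ (I ^ (n + 1)).closure * (I ^ 2).closure) := by
          rw [Ideal.sup_mul, Ideal.mul_sup, Ideal.mul_sup]
      _ ≤ J ^ (n + 1) ⊔ (I ^ (n + 1 + 1)).closure := by
          refine sup_le (sup_le ?_ ?_) (sup_le ?_ ?_)
          · rw [← pow_succ]; exact le_sup_left
          · refine le_trans ?_ le_sup_right
            exact (Ideal.mul_mono (hJc n) le_rfl).trans ((hc n 2).trans (hmono (by omega)))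
          · refine le_trans ?_ le_sup_right
            have : J ≤ (I ^ 1).closure := by simpa using hJc 1
            exact (Ideal.mul_mono le_rfl this).trans ((hc (n + 1) 1).trans (hmono (by omega)))
          · refine le_trans ?_ le_sup_right
            exact (hc (n + 1) 2).trans (hmono (by omega))

/-- if moreover the closures of the powers of `I` are open, then `I^n ≤ J^n ⊔ closure (I^(n+m))`. -/
lemma pow_le_pow_sup_closure' {I J : Ideal A} (hJI : J ≤ I) (h : I ≤ J ⊔ (I ^ 2).closure)
    (hop : ∀ n : ℕ, IsOpen (closure ((I ^ n : Ideal A) : Set A))) (n m : ℕ) :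
    I ^ n ≤ J ^ n ⊔ (I ^ (n + m)).closure := by
  induction m with
  | zero => exact (le_closure _).trans le_sup_right
  | succ m ih =>
    refine ih.trans (sup_le le_sup_left ?_)
    have hopen : IsOpen (((I ^ (n + m + 1)).closure : Ideal A) : Set A) := by
      rw [Ideal.coe_closure]; exact hop _
    have h1 : (I ^ (n + m)).closure ≤ I ^ (n + m) ⊔ (I ^ (n + m + 1)).closure :=
      closure_le_sup_of_isOpen _ hopen
    have h2 : I ^ (n + m) ≤ J ^ (n + m) ⊔ (I ^ (n + m + 1)).closure :=
      pow_le_pow_sup_closure hJI h (n + m)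
    have h3 : J ^ (n + m) ≤ J ^ n := Ideal.pow_le_pow_right (Nat.le_add_right n m)
    refine h1.trans (sup_le (h2.trans (sup_le (h3.trans le_sup_left) le_sup_right)) le_sup_right)

/-- under the same hypotheses, when the closures of powers of `I` form a basis,
`closure (J^n) = closure (I^n)`. -/
lemma closure_pow_eq_of_le_sup {I J : Ideal A} (hJI : J ≤ I) (h : I ≤ J ⊔ (I ^ 2).closure)
    (hop : ∀ n : ℕ, IsOpen (closure ((I ^ n : Ideal A) : Set A)))
    (hbasis : ∀ U ∈ 𝓝 (0 : A), ∃ n : ℕ, closure ((I ^ n : Ideal A) : Set A) ⊆ U) (n : ℕ) :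
    closure ((J ^ n : Ideal A) : Set A) = closure ((I ^ n : Ideal A) : Set A) := by
  apply Set.Subset.antisymm
  · exact _root_.closure_mono (fun x hx => Ideal.pow_right_mono hJI n hx)
  · apply closure_minimal _ isClosed_closure
    intro x hx
    rw [mem_closure_iff_nhds]
    intro W hW
    have hW0 : {y | x + y ∈ W} ∈ 𝓝 (0 : A) := by
      have hc : Continuous fun y : A => x + y := by fun_prop
      have : Tendsto (fun y : A => x + y) (𝓝 0) (𝓝 x) := by
        have := hc.tendsto 0
        simpa using this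
      exact this hW
    obtain ⟨m, hm⟩ := hbasis _ hW0
    have hm' : closure ((I ^ (n + m) : Ideal A) : Set A) ⊆ {y | x + y ∈ W} :=
      (_root_.closure_mono (fun z hz => Ideal.pow_le_pow_right (Nat.le_add_left m n) hz)).trans hm
    have hx' := pow_le_pow_sup_closure' hJI h hop n m hx
    obtain ⟨a, ha, b, hb, hab⟩ := Submodule.mem_sup.mp hx'
    refine ⟨a, ?_, ha⟩
    have hb' : -b ∈ closure ((I ^ (n + m) : Ideal A) : Set A) := by
      rw [← Ideal.coe_closure]; exact (Submodule.neg_mem_iff _).mpr hb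
    have := hm' hb'
    have e : a = x + -b := by rw [← hab]; ring
    rw [e]; exact this

end

end Groth.Agent.Lib.H15.LT
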