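import Groth.Agent.Lib.helper15.LinTopBasic
import Mathlib.RingTheory.Finiteness.Ideal

set_option autoImplicit false
universe u v w

namespace Groth.Agent.Lib.H15.LT

open LinTop Filter Topology

section alg
variable {A : Type u} [CommRing A] {B : Type v} [CommRing B]

lemma exists_fg_le_of_mem_map (φ : A →+* B) (I : Ideal A) {p : B} (hp : p ∈ I.map φ) :
    ∃ I' : Ideal A, I' ≤ I ∧ I'.FG ∧ p ∈ I'.map φ := by
  classical
  change p ∈ Ideal.span (φ '' (I : Set A)) at hp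
  obtain ⟨T, hT, hpT⟩ := Submodule.mem_span_finite_of_mem_span hp
  obtain ⟨T', hT', rfl⟩ := Finset.subset_set_image_iff.mp hT
  refine ⟨Ideal.span (T' : Set A), Ideal.span_le.mpr hT', ⟨T', rfl⟩, ?_⟩
  rw [Ideal.map_span]
  simpa using hpT

lemma le_sup_pow_of_le_sup_sq {P Q : Ideal B} (h : P ≤ Q ⊔ P ^ 2) (k : ℕ) (hk : 1 ≤ k) :
    P ≤ Q ⊔ P ^ k := by
  induction k, hk using Nat.le_induction with
  | base => simp
  | succ k hk ih =>
    refine ih.trans (sup_le le_sup_left ?_)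
    obtain ⟨j, rfl⟩ : ∃ j, k = j + 1 := ⟨k - 1, by omega⟩
    calc P ^ (j + 1) = P ^ j * P := pow_succ _ _
      _ ≤ P ^ j * (Q ⊔ P ^ 2) := Ideal.mul_mono le_rfl h
      _ = P ^ j * Q ⊔ P ^ j * P ^ 2 := Ideal.mul_sup _ _ _
      _ ≤ Q ⊔ P ^ (j + 1 + 1) := by
          refine sup_le_sup Ideal.mul_le_right ?_
          rw [← pow_add]

end alg

section top
variable {B : Type v} [CommRing B] [TopologicalSpace B] [IsTopologicalRing B]

lemma le_closure_of_forall_le_sup {P Q : Ideal B} (V : ℕ → Ideal B)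
    (hV : ∀ U ∈ 𝓝 (0 : B), ∃ k, ((V k : Ideal B) : Set B) ⊆ U) (h : ∀ k, P ≤ Q ⊔ V k) :
    P ≤ Q.closure := by
  intro x hx
  rw [← SetLike.mem_coe, Ideal.coe_closure, mem_closure_iff_nhds]
  intro W hW
  have hW0 : {y | x + y ∈ W} ∈ 𝓝 (0 : B) := by
    have hc : Continuous fun y : B => x + y := by fun_prop
    have : Tendsto (fun y : B => x + y) (𝓝 0) (𝓝 x) := by
      have := hc.tendsto 0
      simpa using this
    exact this hW
  obtain ⟨k, hk⟩ := hV _ hW0
  obtain ⟨a, ha, b, hb, hab⟩ := Submodule.mem_sup.mp (h k hx)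
  refine ⟨a, ?_, ha⟩
  have hb' : -b ∈ V k := (Submodule.neg_mem_iff _).mpr hb
  have e : a = x + -b := by rw [← hab]; ring
  rw [e]; exact hk hb'

end top

end Groth.Agent.Lib.H15.LT
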