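import Groth.Agent.Lib.helper15.LinTopBasic

set_option autoImplicit false
universe u v w

namespace Groth.Agent.Lib.H15.LT

open Filter Topology

section
variable {R : Type u} [CommRing R] [TopologicalSpace R] [IsLinearTopology R R]

lemma isTopologicallyNilpotent_iff {a : R} :
    IsTopologicallyNilpotent a ↔ ∀ I : Ideal R, (I : Set R) ∈ 𝓝 (0 : R) → ∃ n : ℕ, a ^ n ∈ I := by
  constructor
  · intro ha I hI
    exact ha.exists_pow_mem_of_mem_nhds hI
  · intro h
    simp only [IsTopologicallyNilpotent, atTop_basis.tendsto_iff IsLinearTopology.hasBasis_ideal,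
      true_and]
    intro I hI
    obtain ⟨n, hn⟩ := h I hI
    refine ⟨n, fun m hm => ?_⟩
    obtain ⟨k, rfl⟩ := Nat.exists_eq_add_of_le hm
    change a ^ (n + k) ∈ I
    rw [pow_add]
    exact I.mul_mem_right _ hn

variable [IsTopologicalRing R]

lemma isClosed_topologicalNilradical :
    IsClosed ((topologicalNilradical R : Ideal R) : Set R) := by
  rw [← closure_subset_iff_isClosed]
  intro g hg
  change g ∈ topologicalNilradical R
  rw [IsTopologicallyNilpotent.mem_topologicalNilradical_iff, isTopologicallyNilpotent_iff]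
  intro I hI
  -- `g + I` is a neighbourhood of `g`
  have hnhd : {y | y - g ∈ I} ∈ 𝓝 g := by
    have hc : Continuous fun y : R => y - g := by fun_prop
    have : Tendsto (fun y : R => y - g) (𝓝 g) (𝓝 0) := by
      have := hc.tendsto g
      simpa using this
    exact this hI
  obtain ⟨f, hfI, hfN⟩ := mem_closure_iff_nhds.mp hg _ hnhd
  have hfN' : IsTopologicallyNilpotent f :=
    IsTopologicallyNilpotent.mem_topologicalNilradical_iff.mp hfN
  obtain ⟨n, hn⟩ := hfN'.exists_pow_mem_of_mem_nhds hI
  refine ⟨n, ?_⟩
  have hdvd : f - g ∣ f ^ n - g ^ n := sub_dvd_pow_sub_pow f g n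
  have h1 : f ^ n - g ^ n ∈ I := I.mem_of_dvd hdvd hfI
  have : g ^ n = f ^ n - (f ^ n - g ^ n) := by ring
  rw [this]
  exact I.sub_mem hn h1

end

section
variable {A : Type u} [CommRing A] [TopologicalSpace A]
variable {B : Type v} [CommRing B] [TopologicalSpace B] [IsTopologicalRing B] [IsLinearTopology B B]

lemma closure_map_le_topologicalNilradical {φ : A →+* B} (hφ : Continuous φ) (I : Ideal A)
    (hI : ∀ f ∈ I, IsTopologicallyNilpotent f) :
    (I.map φ).closure ≤ topologicalNilradical B := by
  have h1 : I.map φ ≤ topologicalNilradical B := by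
    rw [Ideal.map_le_iff_le_comap]
    intro f hf
    rw [Ideal.mem_comap, IsTopologicallyNilpotent.mem_topologicalNilradical_iff]
    exact (hI f hf).map hφ
  intro x hx
  rw [← SetLike.mem_coe, Ideal.coe_closure] at hx
  have := closure_minimal (fun y hy => h1 hy) isClosed_topologicalNilradical hx
  exact this

end

end Groth.Agent.Lib.H15.LT
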