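import Groth.Agent.Lib.helper15.LinTopBasic
import Mathlib.Topology.Algebra.InfiniteSum.Nonarchimedean
import Mathlib.Topology.Algebra.InfiniteSum.Ring
import Mathlib.RingTheory.Finiteness.Ideal

set_option autoImplicit false
universe u v w

namespace Groth.Agent.Lib.H15.LT

open LinTop Filter Topology

/-- a linearly topologized ring is a nonarchimedean additive group -/
lemma nonarchimedeanAddGroup_of_isLinearTopology (A : Type u) [CommRing A] [TopologicalSpace A]
    [IsTopologicalRing A] [IsLinearTopology A A] : NonarchimedeanAddGroup A where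
  is_nonarchimedean U hU := by
    obtain ⟨I, hIop, hIU⟩ := (IsLinearTopology.hasBasis_open_ideal (R := A)).mem_iff.mp hU
    exact ⟨⟨I.toAddSubgroup, hIop⟩, hIU⟩

section
variable {A : Type u} [CommRing A] [UniformSpace A] [IsUniformAddGroup A] [IsTopologicalRing A]
  [IsLinearTopology A A] [T2Space A] [CompleteSpace A]

/-- Key approximation statement: in a complete Hausdorff linearly topologized ring, if `I` is
finitely generated and the closures of the powers of `I` are open and form a basis of
neighbourhoods of `0`, then the powers of `I` are closed. -/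
theorem closure_pow_subset (I : Ideal A) (hfg : I.FG)
    (hopen : ∀ n : ℕ, IsOpen (closure ((I ^ n : Ideal A) : Set A)))
    (hbasis : ∀ U ∈ 𝓝 (0 : A), ∃ n : ℕ, closure ((I ^ n : Ideal A) : Set A) ⊆ U) (n : ℕ) :
    closure ((I ^ n : Ideal A) : Set A) ⊆ ((I ^ n : Ideal A) : Set A) := by
  classical
  have : NonarchimedeanAddGroup A := nonarchimedeanAddGroup_of_isLinearTopology A
  intro x₀ hx₀
  -- finite generating set of `I ^ n`
  obtain ⟨s, hs⟩ := (Ideal.FG.pow (n := n) hfg)
  -- Step 1: successive approximation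
  have step : ∀ (k : ℕ) (y : A), y ∈ closure ((I ^ (n + k) : Ideal A) : Set A) →
      ∃ x ∈ I ^ (n + k), y - x ∈ closure ((I ^ (n + k + 1) : Ideal A) : Set A) := by
    intro k y hy
    have hV : {z | y - z ∈ closure ((I ^ (n + k + 1) : Ideal A) : Set A)} ∈ 𝓝 y := by
      have hc : Continuous fun z : A => y - z := by fun_prop
      have : Tendsto (fun z : A => y - z) (𝓝 y) (𝓝 0) := by
        have := hc.tendsto y
        simpa using this
      exact this ((hopen _).mem_nhds (subset_closure (Ideal.zero_mem _)))
    obtain ⟨x, hx1, hx2⟩ := mem_closure_iff_nhds.mp hy _ hV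
    exact ⟨x, hx2, hx1⟩
  -- Step 2: the sequences
  let Y : ∀ k : ℕ, {y : A // y ∈ closure ((I ^ (n + k) : Ideal A) : Set A)} := fun k =>
    Nat.rec (motive := fun k => {y : A // y ∈ closure ((I ^ (n + k) : Ideal A) : Set A)})
      ⟨x₀, hx₀⟩
      (fun k Yk => ⟨Yk.1 - (step k Yk.1 Yk.2).choose, (step k Yk.1 Yk.2).choose_spec.2⟩) k
  let X : ℕ → A := fun k => (step k (Y k).1 (Y k).2).choose
  have hX : ∀ k, X k ∈ I ^ (n + k) := fun k => (step k (Y k).1 (Y k).2).choose_spec.1
  have hY0 : (Y 0).1 = x₀ := rfl
  have hYsucc : ∀ k, (Y (k + 1)).1 = (Y k).1 - X k := fun k => rfl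
  have hsum : ∀ N : ℕ, ∑ k ∈ Finset.range N, X k = x₀ - (Y N).1 := by
    intro N
    induction N with
    | zero => simp [hY0]
    | succ N ih => rw [Finset.sum_range_succ, ih, hYsucc]; ring
  -- tending to zero
  have htend : ∀ (f : ℕ → A), (∀ k, f k ∈ closure ((I ^ k : Ideal A) : Set A)) →
      Tendsto f atTop (𝓝 0) := by
    intro f hf
    intro U hU
    obtain ⟨m, hm⟩ := hbasis U hU
    rw [mem_map, mem_atTop_sets]
    refine ⟨m, fun k hk => hm ?_⟩
    exact closure_mono (fun z hz => Ideal.pow_le_pow_right hk hz) (hf k)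
  have hYtend : Tendsto (fun N => (Y N).1) atTop (𝓝 0) := by
    refine htend _ fun k => ?_
    exact closure_mono (fun z hz => Ideal.pow_le_pow_right (Nat.le_add_left k n) hz) (Y k).2
  -- Step 3: expand `X k` in terms of the generators
  have hexp : ∀ k, ∃ a : ↥(s : Set A) → A, (∀ i, a i ∈ I ^ k) ∧ X k = ∑ i, a i * (i : A) := by
    intro k
    have hmem : X k ∈ (I ^ k) • Submodule.span A ((fun x : A => x) '' (s : Set A)) := by
      have : X k ∈ I ^ k * I ^ n := by
        rw [← pow_add, add_comm]; exact hX k
      rw [Set.image_id']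
      rw [← hs] at this
      exact this
    rw [Submodule.mem_ideal_smul_span_iff_exists_sum'] at hmem
    obtain ⟨a, ha, hax⟩ := hmem
    refine ⟨fun i => a i, ha, ?_⟩
    rw [← hax, Finsupp.sum_fintype _ _ (fun i => by simp)]
    rfl
  choose a ha haX using hexp
  -- Step 4: summability
  have hsummable : ∀ i, Summable fun k => a k i := by
    intro i
    apply NonarchimedeanAddGroup.summable_of_tendsto_cofinite_zero
    rw [Nat.cofinite_eq_atTop]
    exact htend _ fun k => subset_closure (ha k i)
  have hXsummable : Summable X := by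
    apply NonarchimedeanAddGroup.summable_of_tendsto_cofinite_zero
    rw [Nat.cofinite_eq_atTop]
    refine htend _ fun k => subset_closure ?_
    exact Ideal.pow_le_pow_right (Nat.le_add_left k n) (hX k)
  -- Step 5: the sum of `X` is `x₀`
  have hXsum : ∑' k, X k = x₀ := by
    have h1 : Tendsto (fun N => ∑ k ∈ Finset.range N, X k) atTop (𝓝 (∑' k, X k)) :=
      hXsummable.hasSum.tendsto_sum_nat
    have h2 : Tendsto (fun N => ∑ k ∈ Finset.range N, X k) atTop (𝓝 x₀) := by
      have : (fun N => ∑ k ∈ Finset.range N, X k) = fun N => x₀ - (Y N).1 := funext hsum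
      rw [this]
      have := (tendsto_const_nhds (x := x₀)).sub hYtend
      simpa using this
    exact tendsto_nhds_unique h1 h2
  have hfinal : x₀ = ∑ i, (∑' k, a k i) * (i : A) := by
    rw [← hXsum]
    have : (fun k => X k) = fun k => ∑ i, a k i * (i : A) := funext haX
    rw [this]
    rw [Summable.tsum_finsetSum (fun i _ => (hsummable i).mul_right _)]
    refine Finset.sum_congr rfl fun i _ => ?_
    exact (hsummable i).tsum_mul_right _
  rw [hfinal]
  refine Submodule.sum_mem _ fun i _ => Ideal.mul_mem_left _ _ ?_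
  rw [← hs]
  exact Ideal.subset_span i.2

end

end Groth.Agent.Lib.H15.LT
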