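import Groth.Agent.Lib.helper15.LinTopBasic
import Groth.Agent.Lib.helper15.LinTopFFlat
import Groth.Agent.Lib.helper15.LinTopWP

set_option autoImplicit false
universe u v w

namespace Groth.Agent.Lib.H15.LT

open LinTop Filter Topology

variable {A : Type u} [CommRing A] [TopologicalSpace A] [IsTopologicalRing A]
variable {B : Type v} [CommRing B] [TopologicalSpace B] [IsTopologicalRing B]

/-- the closure of the extension of an ideal of definition along a taut map is an ideal of
definition -/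
lemma isIdealOfDefinition_closure_map {φ : A →+* B} (hφ : IsTaut φ) {I : Ideal A}
    (hI : IsIdealOfDefinition A I) : IsIdealOfDefinition B (I.map φ).closure := by
  obtain ⟨-, h2, h3⟩ := hφ
  obtain ⟨hIop, hIpow⟩ := hI
  refine ⟨?_, ?_⟩
  · rw [Ideal.coe_closure]; exact h2 I hIop
  · intro U hU
    obtain ⟨I', hI'op, hI'U⟩ := h3 U hU
    obtain ⟨n, hn0, hn⟩ := hIpow _ (hI'op.mem_nhds I'.zero_mem)
    refine ⟨n, hn0, subset_trans ?_ hI'U⟩
    have h1 : (I.map φ).closure ^ n ≤ ((I.map φ) ^ n).closure := closure_pow_le _ n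
    have h2' : ((I.map φ) ^ n).closure ≤ (I'.map φ).closure := by
      rw [← Ideal.map_pow]
      exact closure_mono (Ideal.map_mono (show I ^ n ≤ I' from hn))
    intro x hx
    have := h2' (h1 hx)
    rwa [← SetLike.mem_coe, Ideal.coe_closure] at this

/-- descent of ideals of definition in the taut faithfully flat situation -/
lemma isIdealOfDefinition_of_tautFFlat [IsLinearTopology A A] {φ : A →+* B} (hφ : IsTautFFlat φ)
    {I : Ideal A} (hIop : IsOpen (I : Set A)) {J : Ideal B} (hJ : IsIdealOfDefinition B J)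
    (hIJ : closure ((I.map φ : Ideal B) : Set B) ⊆ (J : Set B)) : IsIdealOfDefinition A I := by
  have hφ' := hφ
  obtain ⟨⟨hcont, h2, h3⟩, -⟩ := hφ
  obtain ⟨hJop, hJpow⟩ := hJ
  refine ⟨hIop, ?_⟩
  intro U hU
  obtain ⟨I', hI'op, hI'U⟩ := (IsLinearTopology.hasBasis_open_ideal (R := A)).mem_iff.mp hU
  have hJ'op : IsOpen (closure ((I'.map φ : Ideal B) : Set B)) := h2 I' hI'op
  obtain ⟨n, hn0, hn⟩ := hJpow _ (hJ'op.mem_nhds (subset_closure (Ideal.zero_mem _)))
  refine ⟨n, hn0, subset_trans ?_ hI'U⟩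
  intro x hx
  rw [SetLike.mem_coe, ← comap_closure_map_eq hφ' hI'op, Ideal.mem_comap,
    ← SetLike.mem_coe, Ideal.coe_closure]
  apply hn
  have h1 : I.map φ ≤ J := fun y hy => hIJ (subset_closure hy)
  have h2' : (I ^ n).map φ ≤ J ^ n := by
    rw [Ideal.map_pow]; exact Ideal.pow_right_mono h1 n
  exact h2' (Ideal.mem_map_of_mem φ hx)

/-- In the taut faithfully flat situation, if `closure (φ(I')B) ⊆ closure (φ(K)B)` with `I'` open,
then `I' ⊆ closure K`. -/
lemma le_closure_of_tautFFlat [IsLinearTopology A A] {φ : A →+* B} (hφ : IsTautFFlat φ)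
    {I' K : Ideal A}
    (h : closure ((I'.map φ : Ideal B) : Set B) ⊆ closure ((K.map φ : Ideal B) : Set B)) :
    (I' : Set A) ⊆ closure (K : Set A) := by
  intro x hx
  rw [mem_closure_iff_nhds]
  intro W hW
  -- `W` contains `x + I''` for an open ideal `I''`
  have hW0 : {y | x + y ∈ W} ∈ 𝓝 (0 : A) := by
    have hc : Continuous fun y : A => x + y := by fun_prop
    have : Tendsto (fun y : A => x + y) (𝓝 0) (𝓝 x) := by
      have := hc.tendsto 0
      simpa using this
    exact this hW
  obtain ⟨I'', hI''op, hI''W⟩ := (IsLinearTopology.hasBasis_open_ideal (R := A)).mem_iff.mp hW0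
  have hsupop : IsOpen ((K ⊔ I'' : Ideal A) : Set A) :=
    Ideal.isOpen_of_isOpen_subideal le_sup_right hI''op
  have hxsup : x ∈ K ⊔ I'' := by
    rw [← comap_closure_map_eq hφ hsupop, Ideal.mem_comap, ← SetLike.mem_coe, Ideal.coe_closure]
    have h1 : φ x ∈ closure ((K.map φ : Ideal B) : Set B) :=
      h (subset_closure (Ideal.mem_map_of_mem φ hx))
    exact _root_.closure_mono (fun y hy => Ideal.map_mono (le_sup_left : K ≤ K ⊔ I'') hy) h1
  obtain ⟨a, ha, b, hb, hab⟩ := Submodule.mem_sup.mp hxsup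
  refine ⟨a, ?_, ha⟩
  have : a = x + (-b) := by rw [← hab]; ring
  rw [this]
  exact hI''W (I''.neg_mem hb)

/-- weak pre-adicness is transported along taut maps -/
lemma isWeaklyPreadic_of_isTaut [IsLinearTopology B B] {φ : A →+* B} (hφ : IsTaut φ)
    (hA : IsWeaklyPreadic A) : IsWeaklyPreadic B := by
  obtain ⟨hcont, h2, h3⟩ := hφ
  obtain ⟨-, I, hIop, hIbasis⟩ := hA
  refine ⟨inferInstance, I.map φ, ?_, ?_⟩
  · intro n
    have hop : IsOpen (((I ^ n).closure : Ideal A) : Set A) := by
      rw [Ideal.coe_closure]; exact hIop n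
    have := h2 _ hop
    rw [← Ideal.coe_closure, closure_map_closure_eq hcont, Ideal.map_pow,
      Ideal.coe_closure] at this
    exact this
  · intro U hU
    obtain ⟨I', hI'op, hI'U⟩ := h3 U hU
    obtain ⟨n, hn⟩ := hIbasis _ (hI'op.mem_nhds I'.zero_mem)
    refine ⟨n, subset_trans ?_ hI'U⟩
    rw [← Ideal.map_pow]
    refine _root_.closure_mono (fun x hx => Ideal.map_mono (show I ^ n ≤ I' from ?_) hx)
    exact fun y hy => hn (subset_closure hy)

/-- a pre-adic ring is weakly pre-adic -/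
lemma isWeaklyPreadic_of_isPreadic (hA : IsPreadic A) : IsWeaklyPreadic A := by
  obtain ⟨I, hI⟩ := hA
  have hlin : IsLinearTopology A A := by
    have := hI
    change _ = _ at this
    rw [this]
    exact Ideal.isLinearTopology I
  rw [isAdic_iff] at hI
  refine ⟨hlin, I, fun n => ?_, fun U hU => ?_⟩
  · rw [closure_eq_of_isOpen (hI.1 n)]; exact hI.1 n
  · obtain ⟨n, hn⟩ := hI.2 U hU
    exact ⟨n, by rw [closure_eq_of_isOpen (hI.1 n)]; exact hn⟩

end Groth.Agent.Lib.H15.LT
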