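import Mathlib

/-!
# Locally constructible sets: preimages under morphisms of schemes, descent along surjective etale morphisms
-/

set_option autoImplicit false
universe u
open CategoryTheory CategoryTheory.Limits AlgebraicGeometry Opposite Topology
open scoped Set.Notation

namespace Groth.Agent.Lib.H15

/-- The preimage of a locally constructible set under a morphism of schemes is locally constructible. -/
theorem isLocallyConstructible_preimage {X Y : Scheme.{u}} (f : X ⟶ Y) {s : Set ↥Y}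
    (hs : IsLocallyConstructible s) : IsLocallyConstructible (f ⁻¹' s) := by
  intro x
  obtain ⟨U, hxU, hU, H⟩ := hs (f x)
  let Uo : Y.Opens := ⟨U, hU⟩
  refine ⟨f ⁻¹' U, f.continuous.continuousAt.preimage_mem_nhds hxU, hU.preimage f.continuous, ?_⟩
  have h1 : IsConstructible ((f ∣_ Uo) ⁻¹' (U ↓∩ s)) := (f ∣_ Uo).isConstructible_preimage H
  have h2 : ((f ⁻¹' U) ↓∩ (f ⁻¹' s)) = (f ∣_ Uo) ⁻¹' (U ↓∩ s) := by
    ext y
    change f y.1 ∈ s ↔ ((f ∣_ Uo) y).1 ∈ s
    rw [morphismRestrict_base_coe]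
  rw [h2]
  exact h1

/-- Descent of local constructibility along a surjective etale morphism to an affine scheme. -/
theorem isLocallyConstructible_of_preimage_of_isAffine {T U : Scheme.{u}} (π : T ⟶ U) [Etale π]
    [Surjective π] [IsAffine U] {A : Set ↥U} (hA : IsLocallyConstructible (π ⁻¹' A)) :
    IsLocallyConstructible A := by
  intro u
  obtain ⟨t, rfl⟩ := π.surjective u
  obtain ⟨T1, hT1, htT1⟩ : ∃ T1 : T.Opens, IsAffineOpen T1 ∧ t ∈ T1 := by
    obtain ⟨_, ⟨T1, hT1, rfl⟩, htT1, -⟩ :=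
      T.isBasis_affineOpens.exists_subset_of_mem_open (Set.mem_univ t) isOpen_univ
    exact ⟨T1, hT1, htT1⟩
  haveI : IsAffine (T1 : Scheme.{u}) := hT1
  let π1 : (T1 : Scheme.{u}) ⟶ U := T1.ι ≫ π
  haveI : QuasiCompact π1 := HasAffineProperty.iff_of_isAffine.mpr
    (inferInstanceAs (CompactSpace ↥(T1 : Scheme.{u})))
  have hs1 : IsLocallyConstructible (π1 ⁻¹' A) := by
    have : π1 ⁻¹' A = T1.ι ⁻¹' (π ⁻¹' A) := rfl
    rw [this]
    exact hA.preimage_of_isOpenEmbedding T1.ι.isOpenEmbedding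
  have him : IsLocallyConstructible (π1 '' (π1 ⁻¹' A)) := π1.isLocallyConstructible_image hs1
  have hW : IsOpen (Set.range π1) := π1.isOpenMap.isOpen_range
  have huW : π t ∈ Set.range π1 := ⟨⟨t, htT1⟩, rfl⟩
  have hcon : IsConstructible (π1 '' (π1 ⁻¹' A)) := him.isConstructible
  refine ⟨Set.range π1, hW.mem_nhds huW, hW, ?_⟩
  have h2 : (Set.range π1) ↓∩ A = (Set.range π1) ↓∩ (π1 '' (π1 ⁻¹' A)) := by
    ext ⟨y, hy⟩
    simp only [Set.mem_preimage]
    rw [Set.image_preimage_eq_inter_range]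
    exact ⟨fun h => ⟨h, hy⟩, fun h => h.1⟩
  rw [h2]
  exact hcon.preimage_of_isOpenEmbedding hW.isOpenEmbedding_subtypeVal

/-- Descent of local constructibility along a surjective etale morphism of schemes. -/
theorem isLocallyConstructible_of_preimage {T U : Scheme.{u}} (π : T ⟶ U) [Etale π]
    [Surjective π] {A : Set ↥U} (hA : IsLocallyConstructible (π ⁻¹' A)) :
    IsLocallyConstructible A := by
  refine IsLocallyConstructible.of_isOpenCover (U := fun i : U.affineOpens => i.1)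
    (iSup_affineOpens_eq_top U) fun i => ?_
  haveI : IsAffine (i.1 : Scheme.{u}) := i.2
  haveI : Etale (π ∣_ i.1) := IsZariskiLocalAtTarget.restrict (P := @Etale) inferInstance i.1
  haveI : Surjective (π ∣_ i.1) :=
    IsZariskiLocalAtTarget.restrict (P := @Surjective) inferInstance i.1
  refine isLocallyConstructible_of_preimage_of_isAffine (π ∣_ i.1) ?_
  have h2 : (π ∣_ i.1) ⁻¹' ((i.1 : Set ↥U) ↓∩ A) = ((π ⁻¹ᵁ i.1 : Set ↥T) ↓∩ (π ⁻¹' A)) := by
    ext y
    change ((π ∣_ i.1) y).1 ∈ A ↔ π y.1 ∈ A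
    rw [morphismRestrict_base_coe]
  rw [h2]
  exact hA.preimage_of_isOpenEmbedding (π ⁻¹ᵁ i.1).2.isOpenEmbedding_subtypeVal

end Groth.Agent.Lib.H15
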