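import Mathlib

set_option autoImplicit false
universe w w' v v' u u'
open CategoryTheory CategoryTheory.Limits Opposite

namespace Groth.Agent.Lib.H15.PointLocal

open GrothendieckTopology

variable {C : Type u} [Category.{v} C] {J : GrothendieckTopology C} (Φ : Point.{w} J)
  {A : Type u'} [Category.{v'} A] [HasColimitsOfSize.{w, w} A]
  {FC : A → A → Type*} {CC : A → Type w'}
  [∀ (X Y : A), FunLike (FC X Y) (CC X) (CC Y)]
  [ConcreteCategory.{w'} A FC]
  [PreservesFilteredColimitsOfSize.{w, w} (forget A)] [LocallySmall.{w} C]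

/-- If the map on fibres at a point is injective, two sections with the same image agree on a neighbourhood of any
element of the fibre functor. -/
theorem exists_equalizer_of_injective {P Q : Cᵒᵖ ⥤ A} (f : P ⟶ Q)
    (hf : Function.Injective (Φ.presheafFiber.map f)) {X : C} (s t : ToType (P.obj (op X)))
    (h : f.app _ s = f.app _ t) (x : Φ.fiber.obj X) :
    ∃ (Y : C) (g : Y ⟶ X) (y : Φ.fiber.obj Y), Φ.fiber.map g y = x ∧ P.map g.op s = P.map g.op t := by
  have h1 : Φ.presheafFiber.map f (Φ.toPresheafFiber X x P s) =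
      Φ.presheafFiber.map f (Φ.toPresheafFiber X x P t) := by
    rw [Point.toPresheafFiber_naturality_apply, Point.toPresheafFiber_naturality_apply, h]
  exact (Φ.toPresheafFiber_eq_iff' X x s t).1 (hf h1)

/-- If the map on fibres at a point is surjective, every section of the target lifts on a neighbourhood of any
element of the fibre functor. -/
theorem exists_image_of_surjective {P Q : Cᵒᵖ ⥤ A} (f : P ⟶ Q)
    (hf : Function.Surjective (Φ.presheafFiber.map f)) {X : C} (s : ToType (Q.obj (op X)))
    (x : Φ.fiber.obj X) :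
    ∃ (Y : C) (g : Y ⟶ X) (y : Φ.fiber.obj Y), Φ.fiber.map g y = x ∧
      ∃ t : ToType (P.obj (op Y)), f.app _ t = Q.map g.op s := by
  obtain ⟨τ, hτ⟩ := hf (Φ.toPresheafFiber X x Q s)
  obtain ⟨Y', y', z, rfl⟩ := Φ.toPresheafFiber_jointly_surjective τ
  rw [Point.toPresheafFiber_naturality_apply] at hτ
  -- a common refinement
  let a : Φ.fiber.Elements := ⟨Y', y'⟩
  let b : Φ.fiber.Elements := ⟨X, x⟩
  let m1 := IsCofiltered.minToLeft a b
  let m2 := IsCofiltered.minToRight a b
  have hm1 : Φ.fiber.map m1.1 (IsCofiltered.min a b).2 = y' := m1.2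
  have hm2 : Φ.fiber.map m2.1 (IsCofiltered.min a b).2 = x := m2.2
  have e : Φ.toPresheafFiber _ (IsCofiltered.min a b).2 Q (Q.map m1.1.op (f.app _ z)) =
      Φ.toPresheafFiber _ (IsCofiltered.min a b).2 Q (Q.map m2.1.op s) := by
    rw [Point.toPresheafFiber_w_apply, Point.toPresheafFiber_w_apply, hm1, hm2, hτ]
  obtain ⟨W', k, w', hw', hk⟩ := (Φ.toPresheafFiber_eq_iff' _ _ _ _).1 e
  refine ⟨W', k ≫ m2.1, w', ?_, P.map (k ≫ m1.1).op z, ?_⟩
  · rw [Functor.map_comp]
    change Φ.fiber.map m2.1 (Φ.fiber.map k w') = x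
    rw [hw', hm2]
  · rw [NatTrans.naturality_apply, op_comp, Functor.map_comp, ConcreteCategory.comp_apply, hk,
      ← ConcreteCategory.comp_apply, ← Functor.map_comp, ← op_comp]

end Groth.Agent.Lib.H15.PointLocal
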