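import Mathlib
import Groth.Agent.Lib.helper15.FibreDimZero

set_option autoImplicit false
universe u
open CategoryTheory CategoryTheory.Limits AlgebraicGeometry Opposite Topology

namespace Groth.Agent.Lib.H15

/-- In a Noetherian space, the set of open points is finite. -/
theorem finite_setOf_isOpen_singleton (X : Type*) [TopologicalSpace X]
    [TopologicalSpace.NoetherianSpace X] : {z : X | IsOpen ({z} : Set X)}.Finite := by
  refine (TopologicalSpace.NoetherianSpace.isCompact _).finite ?_
  rw [isDiscrete_iff_discreteTopology, discreteTopology_iff_isOpen_singleton]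
  rintro ⟨z, hz⟩
  have : ({⟨z, hz⟩} : Set ↥{z : X | IsOpen ({z} : Set X)}) = Subtype.val ⁻¹' {z} := by
    ext ⟨w, hw⟩
    simp
  rw [this]
  exact hz.preimage continuous_subtype_val

/-- For a morphism of finite type, the points of a fibre at which the morphism is quasi-finite form a finite
set. -/
theorem finite_setOf_quasiFiniteAt_fibre {U V : Scheme.{u}} (h : U ⟶ V) [LocallyOfFiniteType h]
    [QuasiCompact h] (v : V) : {u : U | h u = v ∧ h.QuasiFiniteAt u}.Finite := by
  haveI : LocallyOfFiniteType (h.fiberToSpecResidueField v) :=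
    MorphismProperty.pullback_snd (P := @LocallyOfFiniteType) _ _ inferInstance
  haveI : IsLocallyNoetherian (h.fiber v) :=
    isLocallyNoetherian_of_lft_field (R := V.residueField v) (h.fiberToSpecResidueField v)
  haveI : IsNoetherian (h.fiber v) := {}
  have hE := finite_setOf_isOpen_singleton ↥(h.fiber v)
  refine (hE.image (h.fiberι v)).subset ?_
  rintro u ⟨rfl, hq⟩
  exact ⟨h.asFiber u, Scheme.Hom.quasiFiniteAt_iff_isOpen_singleton_asFiber.1 hq, h.fiberι_asFiber u⟩

end Groth.Agent.Lib.H15
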