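import Mathlib
import Groth.Agent.Lib.helper26.CartCompl

set_option autoImplicit false
universe u
open AlgebraicGeometry CategoryTheory CategoryTheory.Limits

namespace Groth.Agent.H15.SchDomExt

set_option backward.isDefEq.respectTransparency false in
/-- Two morphisms `f g : X ⟶ Y` agreeing over a separated `s : Y ⟶ Z` and agreeing after
precomposition with a scheme-theoretically dominant `ι` are equal (no reducedness needed). -/
theorem ext_of_schemeDominant_of_isSeparated {W X Y Z : Scheme.{u}} {f g : X ⟶ Y}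
    (s : Y ⟶ Z) [IsSeparated s] (h : f ≫ s = g ≫ s)
    (ι : W ⟶ X) [IsSchemeTheoreticallyDominant ι] (hU : ι ≫ f = ι ≫ g) : f = g := by
  let X' : Over Z := Over.mk (f ≫ s)
  let Y' : Over Z := Over.mk s
  let U' : Over Z := Over.mk (ι ≫ f ≫ s)
  let f' : X' ⟶ Y' := Over.homMk f
  let g' : X' ⟶ Y' := Over.homMk g
  let ι' : U' ⟶ X' := Over.homMk ι
  have : IsSeparated Y'.hom := ‹_›
  have hlift : ι' ≫ f' = ι' ≫ g' := by ext1; exact hU
  have hfac : (equalizer.lift ι' hlift).left ≫ (equalizer.ι f' g').left = ι := by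
    rw [← Over.comp_left, equalizer.lift_ι]; rfl
  have hker : (equalizer.ι f' g').left.ker = ⊥ := by
    have h1 : (equalizer.ι f' g').left.ker ≤
        ((equalizer.lift ι' hlift).left ≫ (equalizer.ι f' g').left).ker :=
      Scheme.Hom.le_ker_comp _ _
    rw [hfac] at h1
    have h2 : ι.ker = ⊥ := (isSchemeTheoreticallyDominant_iff ι).mp ‹_›
    rw [h2] at h1
    exact le_bot_iff.mp h1
  have : IsIso (equalizer.ι f' g').left := IsClosedImmersion.isIso_iff_ker_eq_bot.mpr hker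
  rw [← cancel_epi (equalizer.ι f' g').left]
  exact congr($(equalizer.condition f' g').left)

/-- If `s` is an isomorphism over the open `O` and `ι ≫ f`, `ι ≫ g` land in `s⁻¹ O`, then
`f ≫ s = g ≫ s` implies `ι ≫ f = ι ≫ g`. -/
theorem comp_eq_of_isIso_restrict {W X Y Z : Scheme.{u}} (f g : X ⟶ Y) (s : Y ⟶ Z) (O : Z.Opens)
    [IsIso (s ∣_ O)] (h : f ≫ s = g ≫ s) (ι : W ⟶ X)
    (hf : ∀ w : W, (ι ≫ f) w ∈ s ⁻¹ᵁ O) (hg : ∀ w : W, (ι ≫ g) w ∈ s ⁻¹ᵁ O) :
    ι ≫ f = ι ≫ g := by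
  have hrf : Set.range (ι ≫ f) ⊆ Set.range (s ⁻¹ᵁ O).ι := by
    rintro _ ⟨w, rfl⟩; rw [Scheme.Opens.range_ι]; exact hf w
  have hrg : Set.range (ι ≫ g) ⊆ Set.range (s ⁻¹ᵁ O).ι := by
    rintro _ ⟨w, rfl⟩; rw [Scheme.Opens.range_ι]; exact hg w
  have ha := IsOpenImmersion.lift_fac (s ⁻¹ᵁ O).ι (ι ≫ f) hrf
  have hb := IsOpenImmersion.lift_fac (s ⁻¹ᵁ O).ι (ι ≫ g) hrg
  have hab : IsOpenImmersion.lift (s ⁻¹ᵁ O).ι (ι ≫ f) hrf =
      IsOpenImmersion.lift (s ⁻¹ᵁ O).ι (ι ≫ g) hrg := by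
    rw [← cancel_mono (s ∣_ O), ← cancel_mono O.ι]
    simp only [Category.assoc, morphismRestrict_ι]
    rw [reassoc_of% ha, reassoc_of% hb]
    simp only [Category.assoc, h]
  rw [← ha, ← hb, hab]

/-- Combination: ambient-type uniqueness.  `IX` effective Cartier on `X`; `f g : X ⟶ Y` agree over the
separated `s`, which is an isomorphism over `O`; `f`, `g` map the complement of `V(IX)` into `s⁻¹ O`.
Then `f = g`. -/
theorem ext_of_effCartier_of_isIso_restrict {X Y Z : Scheme.{u}} (IX : X.IdealSheafData)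
    (hX : BlowUp.IsEffCartierIdeal IX) (f g : X ⟶ Y) (s : Y ⟶ Z) [IsSeparated s] (O : Z.Opens)
    [IsIso (s ∣_ O)] (h : f ≫ s = g ≫ s)
    (hf : ∀ x : X, x ∉ IX.support → f x ∈ s ⁻¹ᵁ O) (hg : ∀ x : X, x ∉ IX.support → g x ∈ s ⁻¹ᵁ O) :
    f = g := by
  haveI := Groth.Agent.Lib.helper26.CartCompl.dominant_compl_of_effCartier IX hX
  refine ext_of_schemeDominant_of_isSeparated s h (Scheme.Opens.ι IX.support.compl) ?_
  exact comp_eq_of_isIso_restrict f g s O h _ (fun w => hf w.1 w.2) (fun w => hg w.1 w.2)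

end Groth.Agent.H15.SchDomExt
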