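import Mathlib.AlgebraicGeometry.Morphisms.Separated
import Mathlib.AlgebraicGeometry.Morphisms.Immersion

set_option autoImplicit false
universe u
open CategoryTheory CategoryTheory.Limits AlgebraicGeometry TopologicalSpace

namespace Groth.Agent.Lib.H15

open Scheme Pullback

variable {X Y : Scheme.{u}} (f : X ⟶ Y)
variable (𝒰 : Y.OpenCover) (𝒱 : ∀ i, (pullback f (𝒰.f i)).OpenCover)

set_option backward.defeqAttrib.useBackward true in
set_option backward.isDefEq.respectTransparency false in
lemma mem_diagonalCoverDiagonalRange_of_eq (x : ↥(pullback.diagonalObj f))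
    (H : pullback.fst f f x = pullback.snd f f x) :
    x ∈ diagonalCoverDiagonalRange f 𝒰 𝒱 := by
  simp only [diagonalCoverDiagonalRange, openCoverOfBase_I₀, openCoverOfBase_X,
    openCoverOfLeftRight_I₀, Opens.iSup_mk, Opens.carrier_eq_coe, Hom.coe_opensRange, Opens.mem_mk,
    Set.mem_iUnion, Set.mem_range, Sigma.exists]
  let i := 𝒰.idx (f (pullback.fst f f x))
  obtain ⟨y : 𝒰.X i, hy : 𝒰.f i y = f _⟩ :=
    𝒰.covers (f (pullback.fst f f x))
  obtain ⟨z, hz₁, hz₂⟩ := exists_preimage_pullback _ _ hy.symm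
  let j := (𝒱 i).idx z
  obtain ⟨w : (𝒱 i).X j, hy : (𝒱 i).f j w = z⟩ := (𝒱 i).covers z
  refine ⟨i, j, ?_⟩
  simp_rw [diagonalCover_map]
  change x ∈ Set.range _
  simp only [diagonalCover, openCoverOfBase_I₀,
    Precoverage.ZeroHypercover.pullback₁_toPreZeroHypercover, PreZeroHypercover.pullback₁_X,
    Precoverage.ZeroHypercover.bind_toPreZeroHypercover, openCoverOfBase_X,
    PreZeroHypercover.bind_X, openCoverOfLeftRight_I₀, openCoverOfLeftRight_X]
  rw [range_map]
  simp [← H, ← hz₁, ← hy]

/-- A morphism is separated as soon as the locus in `X ×[Y] X` where the two projections agree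
(on points) is closed. -/
lemma isSeparated_of_isClosed_eqLocus
    (h : IsClosed {x : ↥(pullback f f) | pullback.fst f f x = pullback.snd f f x}) :
    IsSeparated f := by
  constructor
  let 𝒰 := Y.affineCover
  let 𝒱 (i) := (pullback f (𝒰.f i)).affineCover
  let W := diagonalCoverDiagonalRange f 𝒰 𝒱
  have hcl : IsClosedImmersion (pullback.diagonal f ∣_ W) :=
    isClosedImmersion_diagonal_restrict_diagonalCoverDiagonalRange f 𝒰 𝒱
  have hCW : {x : ↥(pullback f f) | pullback.fst f f x = pullback.snd f f x} ⊆ (W : Set _) :=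
    fun x hx => mem_diagonalCoverDiagonalRange_of_eq f 𝒰 𝒱 x hx
  have hrC : Set.range (pullback.diagonal f) ⊆
      {x : ↥(pullback f f) | pullback.fst f f x = pullback.snd f f x} := by
    rintro _ ⟨x, rfl⟩
    change pullback.fst f f (pullback.diagonal f x) = pullback.snd f f (pullback.diagonal f x)
    rw [← Scheme.Hom.comp_apply, ← Scheme.Hom.comp_apply]
    simp
  have h1 : IsClosed (Set.range (pullback.diagonal f ∣_ W)) :=
    (pullback.diagonal f ∣_ W).isClosedEmbedding.isClosed_range
  have h2 : Set.range (pullback.diagonal f ∣_ W) =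
      (Subtype.val : W → ↥(pullback f f)) ⁻¹' Set.range (pullback.diagonal f) := by
    ext y
    constructor
    · rintro ⟨x, rfl⟩
      exact ⟨x.1, (morphismRestrict_base_coe (pullback.diagonal f) W x).symm⟩
    · rintro ⟨x, hx⟩
      have hxW : x ∈ (pullback.diagonal f) ⁻¹ᵁ W := by
        change pullback.diagonal f x ∈ W
        rw [hx]; exact y.2
      refine ⟨⟨x, hxW⟩, Subtype.ext ?_⟩
      rw [morphismRestrict_base_coe]
      exact hx
  rw [h2] at h1
  obtain ⟨Z, hZ, hZe⟩ := isClosed_induced_iff.mp h1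
  have key : ∀ (x : ↥(pullback f f)) (hx : x ∈ W),
      x ∈ Z ↔ x ∈ Set.range (pullback.diagonal f) :=
    fun x hx => Set.ext_iff.mp hZe ⟨x, hx⟩
  have hrange : Set.range (pullback.diagonal f) =
      Z ∩ {x : ↥(pullback f f) | pullback.fst f f x = pullback.snd f f x} := by
    ext x
    constructor
    · intro hx
      exact ⟨(key x (hCW (hrC hx))).mpr hx, hrC hx⟩
    · rintro ⟨hxZ, hxC⟩
      exact (key x (hCW hxC)).mp hxZ
  exact IsClosedImmersion.of_isPreimmersion _ (hrange ▸ hZ.inter h)

/-- A scheme whose underlying space is Hausdorff is separated over any base. -/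
lemma isSeparated_of_t2Space [T2Space X] : IsSeparated f :=
  isSeparated_of_isClosed_eqLocus f
    (isClosed_eq (pullback.fst f f).continuous (pullback.snd f f).continuous)

end Groth.Agent.Lib.H15
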