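import Mathlib.Topology.Algebra.InfiniteSum.Nonarchimedean
import Mathlib.Topology.Algebra.InfiniteSum.Group

set_option autoImplicit false
universe u v w

namespace Groth.Agent.Lib.H15

open Filter Topology

/-- Successive approximation: a continuous homomorphism from a complete nonarchimedean group
which maps a basis of closed subgroups "approximately onto" a basis of subgroups maps it onto. -/
theorem succApprox {G : Type u} {H : Type v} [AddCommGroup G] [UniformSpace G] [IsUniformAddGroup G]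
    [CompleteSpace G] [NonarchimedeanAddGroup G]
    [AddCommGroup H] [TopologicalSpace H] [IsTopologicalAddGroup H] [T2Space H]
    (f : G →+ H) (hf : Continuous f) (Gk : ℕ → AddSubgroup G) (Hk : ℕ → AddSubgroup H)
    (hGcl : ∀ k, IsClosed (Gk k : Set G)) (hGanti : Antitone Gk)
    (hGbasis : ∀ U ∈ 𝓝 (0 : G), ∃ k, (Gk k : Set G) ⊆ U)
    (hHanti : Antitone Hk)
    (hHbasis : ∀ U ∈ 𝓝 (0 : H), ∃ k, (Hk k : Set H) ⊆ U)
    (happrox : ∀ k, ∀ y ∈ Hk k, ∃ g ∈ Gk k, y - f g ∈ Hk (k + 1))
    (k : ℕ) (y : H) (hy : y ∈ Hk k) : ∃ x ∈ Gk k, f x = y := by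
  classical
  -- the sequences
  let Y : ∀ j : ℕ, {z : H // z ∈ Hk (k + j)} := fun j =>
    Nat.rec (motive := fun j => {z : H // z ∈ Hk (k + j)})
      ⟨y, hy⟩
      (fun j Yj => ⟨Yj.1 - f (happrox (k + j) Yj.1 Yj.2).choose,
        (happrox (k + j) Yj.1 Yj.2).choose_spec.2⟩) j
  let g : ℕ → G := fun j => (happrox (k + j) (Y j).1 (Y j).2).choose
  have hg : ∀ j, g j ∈ Gk (k + j) := fun j => (happrox (k + j) (Y j).1 (Y j).2).choose_spec.1
  have hY0 : (Y 0).1 = y := rfl
  have hYsucc : ∀ j, (Y (j + 1)).1 = (Y j).1 - f (g j) := fun j => rfl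
  have hsum : ∀ n : ℕ, ∑ j ∈ Finset.range n, f (g j) = y - (Y n).1 := by
    intro n
    induction n with
    | zero => simp [hY0]
    | succ n ih => rw [Finset.sum_range_succ, ih, hYsucc]; abel
  have hgtend : Tendsto g atTop (𝓝 0) := by
    intro U hU
    obtain ⟨m, hm⟩ := hGbasis U hU
    rw [mem_map, mem_atTop_sets]
    refine ⟨m, fun j hj => hm ?_⟩
    exact hGanti (show m ≤ k + j by omega) (hg j)
  have hYtend : Tendsto (fun n => (Y n).1) atTop (𝓝 0) := by
    intro U hU
    obtain ⟨m, hm⟩ := hHbasis U hU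
    rw [mem_map, mem_atTop_sets]
    refine ⟨m, fun j hj => hm ?_⟩
    exact hHanti (show m ≤ k + j by omega) (Y j).2
  have hsummable : Summable g := by
    apply NonarchimedeanAddGroup.summable_of_tendsto_cofinite_zero
    rw [Nat.cofinite_eq_atTop]
    exact hgtend
  have hpartial : Tendsto (fun n => ∑ j ∈ Finset.range n, g j) atTop (𝓝 (∑' j, g j)) :=
    hsummable.hasSum.tendsto_sum_nat
  refine ⟨∑' j, g j, ?_, ?_⟩
  · refine (hGcl k).mem_of_tendsto hpartial (Eventually.of_forall fun n => ?_)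
    exact (Gk k).sum_mem fun j _ => hGanti (Nat.le_add_right k j) (hg j)
  · have h1 : Tendsto (fun n => f (∑ j ∈ Finset.range n, g j)) atTop (𝓝 (f (∑' j, g j))) :=
      (hf.tendsto _).comp hpartial
    have h2 : Tendsto (fun n => f (∑ j ∈ Finset.range n, g j)) atTop (𝓝 y) := by
      have : (fun n => f (∑ j ∈ Finset.range n, g j)) = fun n => y - (Y n).1 := by
        funext n; rw [map_sum, hsum]
      rw [this]
      have := (tendsto_const_nhds (x := y)).sub hYtend
      simpa using this
    exact tendsto_nhds_unique h1 h2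

end Groth.Agent.Lib.H15
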