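import Mathlib

set_option autoImplicit false
open Topology TopologicalSpace

namespace Groth.Agent.Lib.H15.Top

/-- Only finitely many irreducible components of a space meet a given Noetherian open subset. -/
theorem finite_irreducibleComponents_inter_open {T : Type*} [TopologicalSpace T] (W : Set T)
    (hW : IsOpen W) [NoetherianSpace ↥W] :
    {Z : Set T | Z ∈ irreducibleComponents T ∧ (Z ∩ W).Nonempty}.Finite := by
  have hemb : IsOpenEmbedding ((↑) : ↥W → T) := hW.isOpenEmbedding_subtypeVal
  have hfin : (irreducibleComponents ↥W).Finite := NoetherianSpace.finite_irreducibleComponents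
  -- choose for each such Z a component of W containing its preimage
  have key : ∀ Z : Set T, Z ∈ irreducibleComponents T ∧ (Z ∩ W).Nonempty →
      ∃ C ∈ irreducibleComponents ↥W, ((↑) : ↥W → T) ⁻¹' Z ⊆ C := by
    rintro Z ⟨hZ, hne⟩
    have hirr : IsIrreducible (((↑) : ↥W → T) ⁻¹' Z) := by
      refine IsIrreducible.preimage hZ.1 hemb ?_
      rw [Subtype.range_coe]
      exact hne
    exact exists_mem_irreducibleComponents_subset_of_isIrreducible _ hirr
  choose! C hC hCsub using key
  refine Set.Finite.of_finite_image (f := C) (hfin.subset ?_) ?_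
  · rintro _ ⟨Z, hZ, rfl⟩
    exact hC Z hZ
  · rintro Z ⟨hZ, hne⟩ Z' ⟨hZ', hne'⟩ hCC
    -- both equal the closure of the image of the common component
    have hcl : ∀ Z : Set T, Z ∈ irreducibleComponents T → (Z ∩ W).Nonempty →
        Z = closure (((↑) : ↥W → T) '' C Z) := by
      intro Z hZ hne
      have hZcl : IsClosed Z := isClosed_of_mem_irreducibleComponents Z hZ
      have hCirr : IsIrreducible (C Z) := (hC Z ⟨hZ, hne⟩).1
      have h1 : IsIrreducible (closure (((↑) : ↥W → T) '' C Z)) :=
        (hCirr.image _ continuous_subtype_val.continuousOn).closure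
      have h2 : Z ⊆ closure (((↑) : ↥W → T) '' C Z) := by
        refine (subset_closure_inter_of_isPreirreducible_of_isOpen hZ.1.2 hW hne).trans ?_
        refine closure_mono ?_
        rintro z ⟨hzZ, hzW⟩
        exact ⟨⟨z, hzW⟩, hCsub Z ⟨hZ, hne⟩ hzZ, rfl⟩
      exact le_antisymm h2 (hZ.2 h1 h2)
    rw [hcl Z hZ hne, hcl Z' hZ' hne', hCC]

/-- In a space in which every point has a Noetherian open neighbourhood, the irreducible components
of a closed (indeed any) subset form a locally finite family. -/
theorem locallyFinite_irreducibleComponents_subtype {X : Type*} [TopologicalSpace X]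
    (hX : ∀ x : X, ∃ W : Set X, IsOpen W ∧ x ∈ W ∧ NoetherianSpace ↥W) (T : Set X) :
    LocallyFinite (fun Z : ↥(irreducibleComponents ↥T) =>
      ((↑) : ↥T → X) '' (Z : Set ↥T)) := by
  intro x
  obtain ⟨W₀, hW₀, hxW₀, hN⟩ := hX x
  refine ⟨W₀, hW₀.mem_nhds hxW₀, ?_⟩
  let W : Set ↥T := ((↑) : ↥T → X) ⁻¹' W₀
  have hWo : IsOpen W := hW₀.preimage continuous_subtype_val
  have : NoetherianSpace ↥W := by
    let i : ↥W → ↥W₀ := fun w => ⟨w.1.1, w.2⟩
    have hi : IsInducing i := by
      have h1 : IsInducing (fun w : ↥W => (w.1.1 : X)) :=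
        IsInducing.subtypeVal.comp IsInducing.subtypeVal
      have h2 : (fun w : ↥W => (w.1.1 : X)) = ((↑) : ↥W₀ → X) ∘ i := rfl
      rw [h2] at h1
      exact IsInducing.of_comp (Continuous.subtype_mk
        (continuous_subtype_val.comp continuous_subtype_val) _) continuous_subtype_val h1
    exact hi.noetherianSpace
  have hfin := finite_irreducibleComponents_inter_open W hWo
  refine Set.Finite.of_finite_image (f := fun Z : ↥(irreducibleComponents ↥T) => (Z : Set ↥T))
    (hfin.subset ?_) (Subtype.val_injective.injOn)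
  rintro _ ⟨Z, hZ, rfl⟩
  refine ⟨Z.2, ?_⟩
  obtain ⟨y, ⟨t, htZ, rfl⟩, hyW⟩ := hZ
  exact ⟨t, htZ, hyW⟩

end Groth.Agent.Lib.H15.Top
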